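import Mathlib
import Groth.Prelude.Def_CAlg
import Groth.Agent.H15.Depth

set_option autoImplicit false
universe u

open RingTheory.Sequence Groth.Agent.H15 Pointwise

namespace Groth.Agent.H72.DepthFinite

variable {A B : Type u} [CommRing A] [CommRing B] [Algebra A B]

section basic

variable (M : Type u) [AddCommGroup M] [Module B M] [Module A M] [IsScalarTower A B M]

theorem isSMulRegular_algebraMap_iff (x : A) :
    IsSMulRegular M (algebraMap A B x) ↔ IsSMulRegular M x := by
  unfold IsSMulRegular
  have : (fun m : M => algebraMap A B x • m) = fun m : M => x • m :=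
    funext fun m => algebraMap_smul B x m
  rw [this]

theorem smul_top_map_eq_top_iff (a : Ideal A) :
    (a.map (algebraMap A B)) • (⊤ : Submodule B M) = ⊤ ↔ a • (⊤ : Submodule A M) = ⊤ := by
  have h := Ideal.smul_restrictScalars a (⊤ : Submodule B M)
  rw [Submodule.restrictScalars_top] at h
  rw [← h]
  constructor
  · intro h1
    rw [h1, Submodule.restrictScalars_top]
  · intro h1
    rw [eq_top_iff]
    intro m _
    have : m ∈ ((a.map (algebraMap A B)) • (⊤ : Submodule B M)).restrictScalars A := by
      rw [h1]; trivial
    exact this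

/-- The quotient by `x` over `A` agrees with the quotient by its image over `B`. -/
noncomputable def quotEquiv (x : A) :
    QuotSMulTop x M ≃ₗ[A] QuotSMulTop (algebraMap A B x) M :=
  (Submodule.quotEquivOfEq _ _ (by
    rw [element_smul_restrictScalars, Submodule.restrictScalars_top])).trans
    (Submodule.Quotient.restrictScalarsEquiv A (algebraMap A B x • (⊤ : Submodule B M)))

end basic

section cons

variable {R : Type u} [CommRing R]

/-- Depth goes up by one when a regular element of the ideal is peeled off. -/
theorem succ_le_idealDepth_of_quotSMulTop (I : Ideal R) (M : Type u) [AddCommGroup M] [Module R M]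
    (y : R) (hyI : y ∈ I) (hy : IsSMulRegular M y) (n : ℕ)
    (h : (n : ℕ∞) ≤ LocCoh.idealDepth I (QuotSMulTop y M)) :
    ((n + 1 : ℕ) : ℕ∞) ≤ LocCoh.idealDepth I M := by
  by_cases hI : I • (⊤ : Submodule R M) = ⊤
  · rw [idealDepth_eq_top_of_smul_top_eq I M hI]
    exact le_top
  · obtain ⟨rs, hlen, hmem, hreg⟩ := exists_isRegular_of_le_idealDepth I (QuotSMulTop y M)
      (smul_top_quotSMulTop_ne_top hyI hI) n h
    have h1 : IsWeaklyRegular M (y :: rs) :=
      (isWeaklyRegular_cons_iff M y rs).mpr ⟨hy, hreg.toIsWeaklyRegular⟩
    have h2 := le_idealDepth I M h1 (by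
      intro r hr
      rcases List.mem_cons.mp hr with rfl | hr
      · exact hyI
      · exact hmem r hr)
    rw [List.length_cons, hlen] at h2
    exact h2

/-- If the depth is positive then the first element of a regular sequence is available. -/
theorem exists_isSMulRegular_of_one_le_idealDepth (I : Ideal R) (M : Type u) [AddCommGroup M]
    [Module R M] (hI : I • (⊤ : Submodule R M) ≠ ⊤) (n : ℕ)
    (h : ((n + 1 : ℕ) : ℕ∞) ≤ LocCoh.idealDepth I M) :
    ∃ y ∈ I, IsSMulRegular M y := by
  obtain ⟨rs, hlen, hmem, hreg⟩ := exists_isRegular_of_le_idealDepth I M hI (n + 1) h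
  match rs, hlen, hmem, hreg with
  | y :: rs', _, hmem, hreg =>
    exact ⟨y, hmem y (by simp), ((isWeaklyRegular_cons_iff M y rs').mp hreg.toIsWeaklyRegular).1⟩

end cons

section main

variable [IsNoetherianRing A] [Module.Finite A B]

omit [Module.Finite A B] in
theorem exists_isSMulRegular_of_map (a : Ideal A) (M : Type u) [AddCommGroup M] [Module B M]
    [Module A M] [IsScalarTower A B M] [Module.Finite A M]
    (hA : a • (⊤ : Submodule A M) ≠ ⊤)
    (h : ∃ z ∈ a.map (algebraMap A B), IsSMulRegular M z) :
    ∃ x ∈ a, IsSMulRegular M x := by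
  by_contra hcon
  push Not at hcon
  have hM : Nontrivial M := by
    by_contra hM
    rw [not_nontrivial_iff_subsingleton] at hM
    exact hA (Subsingleton.elim _ _)
  have hexist : ∃ p ∈ associatedPrimes A M, a ≤ p := by
    rcases associatedPrimes.nonempty A M with ⟨Ia, hIa⟩
    apply (Ideal.subset_union_prime_finite (associatedPrimes.finite A M) Ia Ia _).mp
    · rw [biUnion_associatedPrimes_eq_compl_regular A M]
      exact fun r hr ↦ hcon r hr
    · exact fun I hin _ _ ↦ IsAssociatedPrime.isPrime hin
  obtain ⟨p, hpass, hap⟩ := hexist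
  obtain ⟨hprime, m₀, hm₀⟩ := isAssociatedPrime_iff.mp (AssociatedPrimes.mem_iff.mp hpass)
  have hkill : ∀ y ∈ a, y • m₀ = 0 := by
    intro y hy
    have := hap hy
    rw [hm₀] at this
    simpa [Submodule.mem_colon_singleton] using this
  have hm₀0 : m₀ ≠ 0 := by
    rintro rfl
    apply hprime.ne_top
    rw [hm₀, eq_top_iff]
    intro r _
    simp [Submodule.mem_colon_singleton]
  obtain ⟨z, hz, hzreg⟩ := h
  have hle : a.map (algebraMap A B) ≤ LinearMap.ker (LinearMap.toSpanSingleton B M m₀) := by
    rw [Ideal.map_le_iff_le_comap]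
    intro y hy
    simp only [Ideal.mem_comap, LinearMap.mem_ker, LinearMap.toSpanSingleton_apply]
    rw [algebraMap_smul]
    exact hkill y hy
  have hz0 : z • m₀ = 0 := by
    have := hle hz
    simpa [LinearMap.mem_ker, LinearMap.toSpanSingleton_apply] using this
  exact hm₀0 (hzreg (by simp only [hz0, smul_zero]))

theorem le_idealDepth_iff (a : Ideal A) (n : ℕ) :
    ∀ (M : Type u) [AddCommGroup M] [Module B M] [Module A M] [IsScalarTower A B M]
      [Module.Finite B M],
      (n : ℕ∞) ≤ LocCoh.idealDepth a M ↔
        (n : ℕ∞) ≤ LocCoh.idealDepth (a.map (algebraMap A B)) M := by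
  have noeB : IsNoetherianRing B := IsNoetherianRing.of_finite A B
  induction n with
  | zero => intro M _ _ _ _ _; simp
  | succ n ih =>
    intro M _ _ _ _ _
    have finA : Module.Finite A M := Module.Finite.trans B M
    by_cases htop : a • (⊤ : Submodule A M) = ⊤
    · rw [idealDepth_eq_top_of_smul_top_eq a M htop, idealDepth_eq_top_of_smul_top_eq _ M
        ((smul_top_map_eq_top_iff M a).mpr htop)]
    · have hB : (a.map (algebraMap A B)) • (⊤ : Submodule B M) ≠ ⊤ :=
        fun h' => htop ((smul_top_map_eq_top_iff M a).mp h')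
      constructor
      · intro h
        obtain ⟨rs, hlen, hmem, hreg⟩ := exists_isRegular_of_le_idealDepth a M htop (n + 1) h
        match rs, hlen, hmem, hreg with
        | x :: rs', hlen, hmem, hreg =>
          have hx := (isWeaklyRegular_cons_iff M x rs').mp hreg.toIsWeaklyRegular
          have h1 := le_idealDepth a (QuotSMulTop x M) hx.2
            (fun r hr => hmem r (List.mem_cons_of_mem _ hr))
          have hlen' : rs'.length = n := by simpa using hlen
          rw [hlen', idealDepth_congr (quotEquiv (B := B) M x) a] at h1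
          have h2 := (ih (QuotSMulTop (algebraMap A B x) M)).mp h1
          exact succ_le_idealDepth_of_quotSMulTop _ M (algebraMap A B x)
            (Ideal.mem_map_of_mem _ (hmem x (by simp)))
            ((isSMulRegular_algebraMap_iff (B := B) M x).mpr hx.1) n h2
      · intro h
        obtain ⟨x, hxa, hx⟩ := exists_isSMulRegular_of_map a M htop
          (exists_isSMulRegular_of_one_le_idealDepth _ M hB n h)
        have h1 := le_idealDepth_quotSMulTop (a.map (algebraMap A B)) M (algebraMap A B x)
          (Ideal.mem_map_of_mem _ hxa) ((isSMulRegular_algebraMap_iff (B := B) M x).mpr hx) n h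
        have h2 := (ih (QuotSMulTop (algebraMap A B x) M)).mpr h1
        rw [← idealDepth_congr (quotEquiv (B := B) M x) a] at h2
        exact succ_le_idealDepth_of_quotSMulTop a M x hxa hx n h2

theorem idealDepth_eq_idealDepth_map (a : Ideal A) (M : Type u) [AddCommGroup M] [Module B M]
    [Module A M] [IsScalarTower A B M] [Module.Finite B M] :
    LocCoh.idealDepth a M = LocCoh.idealDepth (a.map (algebraMap A B)) M := by
  apply le_antisymm
  · rw [← ENat.forall_natCast_le_iff_le]
    intro n hn
    exact (le_idealDepth_iff a n M).mp hn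
  · rw [← ENat.forall_natCast_le_iff_le]
    intro n hn
    exact (le_idealDepth_iff a n M).mpr hn

end main

end Groth.Agent.H72.DepthFinite
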