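import Mathlib
import Groth.Prelude.Def_CAlg
import Groth.Agent.H15.Depth
import Groth.Agent.H72.HalfExact
import Groth.Agent.H72.DepthFinite

set_option autoImplicit false
universe u

open RingTheory.Sequence Groth.Agent.H15 CategoryTheory Abelian Pointwise

namespace Groth.Agent.H72.DepthExt

variable {A : Type u} [CommRing A]

/-- The test object `A/I` in the category of modules. -/
noncomputable abbrev testObj (I : Ideal A) : ModuleCat.{u} A :=
  ModuleCat.of A (Shrink.{u} (A ⧸ I))

/-- Rees: depth via vanishing of `Ext` out of `A/I`. -/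
theorem le_idealDepth_iff_ext [IsNoetherianRing A] (I : Ideal A) (M : Type u) [AddCommGroup M]
    [Module A M] [Module.Finite A M] (hne : I • (⊤ : Submodule A M) ≠ ⊤) (n : ℕ) :
    (n : ℕ∞) ≤ LocCoh.idealDepth I M ↔
      ∀ i < n, Subsingleton (Ext (testObj I) (ModuleCat.of A M) i) := by
  have tfae := ModuleCat.exists_isRegular_tfae I n (ModuleCat.of A M) (lt_top_iff_ne_top.mpr hne)
  constructor
  · intro h
    exact (tfae.out 3 1).mp (exists_isRegular_of_le_idealDepth I M hne n h)
  · intro h
    obtain ⟨rs, hlen, hmem, hreg⟩ := (tfae.out 1 3).mp h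
    rw [← hlen]
    exact le_idealDepth I M hreg.toIsWeaklyRegular hmem

/-- Positive depth: no nonzero element is killed by the ideal. -/
theorem eq_zero_of_forall_smul_eq_zero (I : Ideal A) (M : Type u) [AddCommGroup M] [Module A M]
    [Module.Finite A M] (h : 1 ≤ LocCoh.idealDepth I M) (m : M) (hm : ∀ a ∈ I, a • m = 0) :
    m = 0 := by
  by_cases htop : I • (⊤ : Submodule A M) = ⊤
  · obtain ⟨r, hr, hr0⟩ := Submodule.exists_sub_one_mem_and_smul_eq_zero_of_fg_of_le_smul I
      (⊤ : Submodule A M) (Module.finite_def.mp inferInstance) htop.ge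
    have h1 : r • m = 0 := hr0 m Submodule.mem_top
    have h2 : (r - 1) • m = 0 := hm _ hr
    rw [sub_smul, h1, one_smul, zero_sub, neg_eq_zero] at h2
    exact h2
  · obtain ⟨y, hyI, hy⟩ := Groth.Agent.H72.DepthFinite.exists_isSMulRegular_of_one_le_idealDepth
      I M htop 0 (by simpa using h)
    exact hy (by simp only [hm y hyI, smul_zero])

theorem smul_top_ne_top_of_submodule (I : Ideal A) (E : Type u) [AddCommGroup E] [Module A E]
    [Module.Finite A E] (G : Submodule A E) (h : I • (⊤ : Submodule A G) ≠ ⊤) :
    I • (⊤ : Submodule A E) ≠ ⊤ := by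
  intro htop
  apply h
  obtain ⟨r, hr, hr0⟩ := Submodule.exists_sub_one_mem_and_smul_eq_zero_of_fg_of_le_smul I
    (⊤ : Submodule A E) (Module.finite_def.mp inferInstance) htop.ge
  rw [eq_top_iff]
  intro g _
  have h1 : r • g = 0 := Subtype.ext (hr0 g.1 Submodule.mem_top)
  have h2 : g = -((r - 1) • g) := by
    rw [sub_smul, h1, one_smul, zero_sub, neg_neg]
  rw [h2]
  exact neg_mem (Submodule.smul_mem_smul hr Submodule.mem_top)

/-- `Hom(A/I, Q) = 0` when no nonzero element of `Q` is killed by `I`. -/
theorem subsingleton_ext_zero (I : Ideal A) (Q : Type u) [AddCommGroup Q] [Module A Q]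
    (h : ∀ q : Q, (∀ a ∈ I, a • q = 0) → q = 0) :
    Subsingleton (Ext (testObj I) (ModuleCat.of A Q) 0) := by
  have h0 : ∀ f : testObj I ⟶ ModuleCat.of A Q, f = 0 := by
    intro f
    ext n
    apply h
    intro a ha
    have h1 : a • n = 0 := by
      apply (Shrink.linearEquiv A (A ⧸ I)).injective
      rw [map_smul, map_zero]
      obtain ⟨b, hb⟩ := Ideal.Quotient.mk_surjective (Shrink.linearEquiv A (A ⧸ I) n)
      rw [← hb, ← Ideal.Quotient.mk_eq_mk, ← Submodule.Quotient.mk_smul,
        Submodule.Quotient.mk_eq_zero]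
      exact I.mul_mem_right b ha
    change a • f.hom n = 0
    rw [← map_smul, h1, map_zero]
  refine ⟨fun e₁ e₂ => ?_⟩
  apply Ext.addEquiv₀.injective
  rw [h0 (Ext.addEquiv₀ e₁), h0 (Ext.addEquiv₀ e₂)]

section kernel

variable [IsNoetherianRing A] (I : Ideal A) {E0 E1 : Type u} [AddCommGroup E0] [Module A E0]
  [Module.Finite A E0] [AddCommGroup E1] [Module A E1] [Module.Finite A E1] (u : E0 →ₗ[A] E1)

omit [Module.Finite A E1] in
theorem one_le_idealDepth_ker (h0 : 1 ≤ LocCoh.idealDepth I E0) :
    1 ≤ LocCoh.idealDepth I (LinearMap.ker u) := by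
  by_cases htop : I • (⊤ : Submodule A (LinearMap.ker u)) = ⊤
  · rw [idealDepth_eq_top_of_smul_top_eq I _ htop]
    exact le_top
  · have := (le_idealDepth_iff_ext I (LinearMap.ker u) htop 1).mpr (by
      intro i hi
      obtain rfl : i = 0 := by omega
      apply subsingleton_ext_zero
      intro q hq
      apply Subtype.ext
      apply eq_zero_of_forall_smul_eq_zero I E0 h0
      intro a ha
      have := congrArg Subtype.val (hq a ha)
      simpa using this)
    simpa using this

theorem two_le_idealDepth_ker (h0 : 2 ≤ LocCoh.idealDepth I E0) (h1 : 1 ≤ LocCoh.idealDepth I E1) :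
    2 ≤ LocCoh.idealDepth I (LinearMap.ker u) := by
  by_cases htop : I • (⊤ : Submodule A (LinearMap.ker u)) = ⊤
  · rw [idealDepth_eq_top_of_smul_top_eq I _ htop]
    exact le_top
  · have hE0 : I • (⊤ : Submodule A E0) ≠ ⊤ := smul_top_ne_top_of_submodule I E0 _ htop
    have hext0 := (le_idealDepth_iff_ext I E0 hE0 2).mp (by simpa using h0)
    have hS := Groth.Agent.H72.HalfExact.shortExact_of_exact (LinearMap.ker u).subtype
      u.rangeRestrict (Submodule.injective_subtype _) u.surjective_rangeRestrict (by
        intro x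
        constructor
        · intro h
          have h' : u x = 0 := by
            have := congrArg Subtype.val h
            simpa using this
          exact ⟨⟨x, LinearMap.mem_ker.mpr h'⟩, rfl⟩
        · rintro ⟨y, rfl⟩
          exact Subtype.ext (by simp))
    have hQ : Subsingleton (Ext (testObj I) (ModuleCat.of A (LinearMap.range u)) 0) := by
      apply subsingleton_ext_zero
      intro q hq
      apply Subtype.ext
      apply eq_zero_of_forall_smul_eq_zero I E1 h1
      intro a ha
      have := congrArg Subtype.val (hq a ha)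
      simpa using this
    have := (le_idealDepth_iff_ext I (LinearMap.ker u) htop 2).mpr (by
      intro i hi
      have hi' : i = 0 ∨ i = 1 := by omega
      rcases hi' with rfl | rfl
      · apply subsingleton_ext_zero
        intro q hq
        apply Subtype.ext
        apply eq_zero_of_forall_smul_eq_zero I E0 (le_trans (by norm_num) h0)
        intro a ha
        have := congrArg Subtype.val (hq a ha)
        simpa using this
      · refine ⟨fun e₁ e₂ => ?_⟩
        have hz : ∀ e : Ext (testObj I) (ModuleCat.of A (LinearMap.ker u)) 1, e = 0 := by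
          intro e
          obtain ⟨x₃, hx₃⟩ := Ext.covariant_sequence_exact₁ (testObj I) hS e
            (@Subsingleton.elim _ (hext0 1 (by norm_num)) _ _) (zero_add 1)
          rw [← hx₃, @Subsingleton.elim _ hQ x₃ 0, Ext.zero_comp]
        rw [hz e₁, hz e₂])
    simpa using this

end kernel

end Groth.Agent.H72.DepthExt
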