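import Mathlib
import Groth.Prelude.Def_CAlg
import Groth.Agent.H2.HartshorneConn
import Groth.Agent.H72.DepthCM
import Groth.Agent.H70.FC.FromSk
import Groth.Agent.S2085

set_option autoImplicit false
set_option linter.unusedSectionVars false
universe u

open IsLocalRing

namespace Groth.Agent.H72.HartshorneAlg

/-- Algebraic core of Hartshorne's connectedness theorem: in a Noetherian local ring of depth at
least two, two ideals with zero product whose sum is primary to the maximal ideal cannot both be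
nonzero. -/
theorem eq_bot_or_eq_bot {R : Type u} [CommRing R] [IsNoetherianRing R] [IsLocalRing R]
    (h : 2 ≤ LocCoh.depth R R) (I J : Ideal R) (hIJ : I * J = ⊥) (hK : I ⊔ J ≠ ⊤) (n : ℕ)
    (hn : maximalIdeal R ^ n ≤ I ⊔ J) : I = ⊥ ∨ J = ⊥ := by
  have hdepth := Groth.Agent.H2.HartshorneConn.two_le_idealDepth_of_pow_le h (I ⊔ J) hK n hn
  obtain ⟨x, hx, y, hy, hxr, hyr⟩ := Groth.Agent.H34.exists_regular_of_two_le_idealDepth
    (I ⊔ J) R (Groth.Agent.H2.HartshorneConn.smul_top_ne_top_self _ hK) hdepth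
  exact Groth.Agent.H2.HartshorneConn.eq_bot_or_eq_bot_of_regular I J hIJ x y hx hy hxr hyr

section loc

variable {R : Type u} [CommRing R] [IsNoetherianRing R]

/-- Localized form: if `P` is minimal over `a ⊔ b`, `a * b = ⊥` and `R_P` has depth at least two,
then `a` or `b` vanishes in `R_P`. -/
theorem exists_forall_mul_eq_zero (a b : Ideal R) (hab : a * b = ⊥) (P : Ideal R) [P.IsPrime]
    (hP : P ∈ (a ⊔ b).minimalPrimes)
    (h : 2 ≤ LocCoh.depth (Localization.AtPrime P) (Localization.AtPrime P)) :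
    (∀ r ∈ a, ∃ s, s ∉ P ∧ s * r = 0) ∨ (∀ r ∈ b, ∃ s, s ∉ P ∧ s * r = 0) := by
  set A := Localization.AtPrime P
  set I := a.map (algebraMap R A) with hI
  set J := b.map (algebraMap R A) with hJ
  have hIJ : I * J = ⊥ := by
    rw [hI, hJ, ← Ideal.map_mul, hab, Ideal.map_bot]
  have hsup : I ⊔ J = (a ⊔ b).map (algebraMap R A) := by
    rw [hI, hJ, Ideal.map_sup]
  have hrad : (I ⊔ J).radical = maximalIdeal A := by
    rw [hsup, IsLocalization.AtPrime.radical_map_of_mem_minimalPrimes (A := A) P (a ⊔ b) hP,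
      IsLocalization.AtPrime.map_eq_maximalIdeal P A]
  have hK : I ⊔ J ≠ ⊤ := by
    intro htop
    rw [htop, Ideal.radical_top] at hrad
    exact (Ideal.IsMaximal.ne_top inferInstance) hrad.symm
  obtain ⟨n, hn⟩ := Ideal.exists_pow_le_of_le_radical_of_fg (le_of_eq hrad.symm)
    (IsNoetherian.noetherian (maximalIdeal A))
  have key : ∀ c : Ideal R, c.map (algebraMap R A) = ⊥ → ∀ r ∈ c, ∃ s, s ∉ P ∧ s * r = 0 := by
    intro c hc r hr
    have h0 : algebraMap R A r = 0 := by
      have : algebraMap R A r ∈ c.map (algebraMap R A) := Ideal.mem_map_of_mem _ hr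
      rw [hc] at this
      exact this
    rw [IsLocalization.map_eq_zero_iff P.primeCompl] at h0
    obtain ⟨s, hs⟩ := h0
    exact ⟨s.1, s.2, hs⟩
  rcases eq_bot_or_eq_bot h I J hIJ hK n hn with h0 | h0
  · left; exact key a h0
  · right; exact key b h0

/-- Elements of a minimal prime are nilpotent up to an element outside the prime. -/
theorem exists_mul_pow_eq_zero_of_mem_minimalPrimes {p : Ideal R} (hp : p ∈ minimalPrimes R)
    {x : R} (hx : x ∈ p) : ∃ k : ℕ, ∃ s, s ∉ p ∧ s * x ^ k = 0 := by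
  have hprime : p.IsPrime := hp.1.1
  set A := Localization.AtPrime p
  have hrad := IsLocalization.AtPrime.radical_map_of_mem_minimalPrimes (A := A) p ⊥ hp
  have hmem : algebraMap R A x ∈ ((⊥ : Ideal R).map (algebraMap R A)).radical := by
    rw [hrad]
    exact Ideal.mem_map_of_mem _ hx
  obtain ⟨k, hk⟩ := hmem
  rw [Ideal.map_bot, Ideal.mem_bot, ← map_pow, IsLocalization.map_eq_zero_iff p.primeCompl] at hk
  obtain ⟨s, hs⟩ := hk
  exact ⟨k, s.1, s.2, hs⟩

/-- A prime containing the intersection of the primary components at a set of minimal primes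
contains one of these minimal primes. -/
theorem exists_le_of_components_le (Pset : Set (Ideal R)) (hPset : Pset ⊆ minimalPrimes R)
    (c : Ideal R) (hc : ∀ r : R, r ∈ c ↔ ∀ p ∈ Pset, ∃ s : R, s ∉ p ∧ s * r = 0)
    (Q : Ideal R) [Q.IsPrime] (hcQ : c ≤ Q) : ∃ p ∈ Pset, p ≤ Q := by
  classical
  by_contra hcon
  push Not at hcon
  have hfin : Pset.Finite := (minimalPrimes.finite_of_isNoetherianRing R).subset hPset
  have hex : ∀ p : Ideal R, ∃ x : R, ∃ k : ℕ, p ∈ Pset → (x ∉ Q ∧ ∃ s, s ∉ p ∧ s * x ^ k = 0) := by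
    intro p
    by_cases hp : p ∈ Pset
    · obtain ⟨x, hxp, hxQ⟩ := Set.not_subset.mp (hcon p hp)
      obtain ⟨k, s, hs, hsx⟩ := exists_mul_pow_eq_zero_of_mem_minimalPrimes (hPset hp) hxp
      exact ⟨x, k, fun _ => ⟨hxQ, s, hs, hsx⟩⟩
    · exact ⟨0, 0, fun h => absurd h hp⟩
  choose x k hxk using hex
  set z := ∏ p ∈ hfin.toFinset, x p ^ k p with hz
  have hzc : z ∈ c := by
    rw [hc]
    intro p hp
    obtain ⟨-, s, hs, hsx⟩ := hxk p hp
    refine ⟨s, hs, ?_⟩
    rw [hz, ← Finset.mul_prod_erase hfin.toFinset (fun p => x p ^ k p)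
      (hfin.mem_toFinset.mpr hp), ← mul_assoc, hsx, zero_mul]
  have hzQ : z ∈ Q := hcQ hzc
  rw [hz, Ideal.IsPrime.prod_mem_iff] at hzQ
  obtain ⟨p, hp, hpQ⟩ := hzQ
  have hp' := hfin.mem_toFinset.mp hp
  exact (hxk p hp').1 (Ideal.IsPrime.mem_of_pow_mem inferInstance _ hpQ)

/-- Under `(S_1)`, an element killed, at every minimal prime, by something outside is zero. -/
theorem eq_zero_of_forall_minimalPrimes (hS : LocCoh.HasSk 1 R R) (r : R)
    (hr : ∀ p ∈ minimalPrimes R, ∃ s : R, s ∉ p ∧ s * r = 0) : r = 0 := by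
  by_contra hne
  obtain ⟨P, hP, hle⟩ := exists_le_isAssociatedPrime_of_isNoetherianRing R r hne
  have hmin := (Groth.Agent.S2085.result (R := R) (M := R)).mpr hS P
    ((AssociatedPrimes.mem_iff).mpr hP)
  rw [Module.annihilator_eq_bot.mpr inferInstance] at hmin
  obtain ⟨s, hs, hsr⟩ := hr P hmin
  apply hs
  apply hle
  rw [Submodule.mem_colon_singleton, Submodule.mem_bot, smul_eq_mul]
  exact hsr

theorem hasSk_of_le {k k' : ℕ} (hk : k' ≤ k) (M : Type u) [AddCommGroup M] [Module R M]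
    (h : LocCoh.HasSk k R M) : LocCoh.HasSk k' R M := by
  intro p _
  refine le_trans ?_ (h p)
  exact min_le_min_right _ (by exact_mod_cast hk)

/-- **Height one for the minimal primes of the sum of two groups of components** (under `(S_2)`).-/
theorem height_eq_one_of_components [IsLocalRing R] (hS : LocCoh.HasSk 2 R R)
    (P1 P2 : Set (Ideal R)) (hP : P1 ∪ P2 = minimalPrimes R) (hdisj : Disjoint P1 P2)
    (a b : Ideal R) (ha : ∀ r : R, r ∈ a ↔ ∀ p ∈ P1, ∃ s : R, s ∉ p ∧ s * r = 0)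
    (hb : ∀ r : R, r ∈ b ↔ ∀ p ∈ P2, ∃ s : R, s ∉ p ∧ s * r = 0) (P : Ideal R)
    (hPmin : P ∈ (a ⊔ b).minimalPrimes) : P.height = 1 := by
  have hPprime : P.IsPrime := hPmin.1.1
  have hP1 : P1 ⊆ minimalPrimes R := hP ▸ Set.subset_union_left
  have hP2 : P2 ⊆ minimalPrimes R := hP ▸ Set.subset_union_right
  have haP : a ≤ P := le_sup_left.trans hPmin.1.2
  have hbP : b ≤ P := le_sup_right.trans hPmin.1.2
  obtain ⟨p1, hp1, hp1P⟩ := exists_le_of_components_le P1 hP1 a ha P haP
  obtain ⟨p2, hp2, hp2P⟩ := exists_le_of_components_le P2 hP2 b hb P hbP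
  have hne12 : p1 ≠ p2 := by
    rintro rfl
    exact Set.disjoint_left.mp hdisj hp1 hp2
  -- `a * b = ⊥`
  have hab : a * b = ⊥ := by
    rw [eq_bot_iff]
    refine Ideal.mul_le_inf.trans ?_
    intro r hr
    rw [Ideal.mem_bot]
    apply eq_zero_of_forall_minimalPrimes (hasSk_of_le (by norm_num) R hS) r
    intro p hp
    rw [← hP] at hp
    rcases hp with hp | hp
    · exact (ha r).mp hr.1 p hp
    · exact (hb r).mp hr.2 p hp
  apply le_antisymm
  · by_contra hcon
    push Not at hcon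
    have h2 : (2 : ℕ∞) ≤ P.height := Order.add_one_le_of_lt hcon
    have hd := Groth.Agent.H70.FC.depth_ge_of_hasSk 2 hS P (by exact_mod_cast h2)
    rw [DepthCM.depth_localizedModule_self] at hd
    rcases exists_forall_mul_eq_zero a b hab P hPmin (by exact_mod_cast hd) with h0 | h0
    · -- `a` dies in `R_P`, so `a ≤ p2`
      have hap2 : a ≤ p2 := by
        intro r hr
        obtain ⟨s, hs, hsr⟩ := h0 r hr
        have hp2prime : p2.IsPrime := (hP2 hp2).1.1
        have : s * r ∈ p2 := by rw [hsr]; exact p2.zero_mem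
        exact (hp2prime.mem_or_mem this).resolve_left (fun h => hs (hp2P h))
      have hp2prime : p2.IsPrime := (hP2 hp2).1.1
      obtain ⟨p, hp, hpp2⟩ := exists_le_of_components_le P1 hP1 a ha p2 hap2
      have : p2 ≤ p := (hP2 hp2).2 ⟨(hP1 hp).1.1, bot_le⟩ hpp2
      have heq : p = p2 := le_antisymm hpp2 this
      exact Set.disjoint_left.mp hdisj (heq ▸ hp) hp2
    · have hbp1 : b ≤ p1 := by
        intro r hr
        obtain ⟨s, hs, hsr⟩ := h0 r hr
        have hp1prime : p1.IsPrime := (hP1 hp1).1.1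
        have : s * r ∈ p1 := by rw [hsr]; exact p1.zero_mem
        exact (hp1prime.mem_or_mem this).resolve_left (fun h => hs (hp1P h))
      have hp1prime : p1.IsPrime := (hP1 hp1).1.1
      obtain ⟨p, hp, hpp1⟩ := exists_le_of_components_le P2 hP2 b hb p1 hbp1
      have : p1 ≤ p := (hP1 hp1).2 ⟨(hP2 hp).1.1, bot_le⟩ hpp1
      have heq : p = p1 := le_antisymm hpp1 this
      exact Set.disjoint_left.mp hdisj hp1 (heq ▸ hp)
  · rw [Order.one_le_iff_pos, pos_iff_ne_zero, Ne, Ideal.height_eq_zero_iff]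
    intro hPm
    have e1 : P ≤ p1 := hPm.2 ⟨(hP1 hp1).1.1, bot_le⟩ hp1P
    have e2 : P ≤ p2 := hPm.2 ⟨(hP2 hp2).1.1, bot_le⟩ hp2P
    exact hne12 ((le_antisymm hp1P e1).trans (le_antisymm hp2P e2).symm)

end loc

end Groth.Agent.H72.HartshorneAlg
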