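import Mathlib
import Groth.Prelude.Def_CAlg
import Groth.Prelude.Def_Found
import Groth.Agent.H24.Catenary
import Groth.Agent.H72.HartshorneAlg

set_option autoImplicit false
set_option linter.unusedSectionVars false
universe u

open IsLocalRing Groth.Agent.H24

namespace Groth.Agent.H72.EquidimS2

section Poset

variable {α : Type*} [PartialOrder α] [WellFoundedLT α] [WellFoundedGT α]

/-- In a catenary order with a greatest element, the coheight of the head of a saturated chain
ending at the top is the length of the chain. -/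
theorem coheight_head_eq_length (hc : CatenaryCond α) (m : α) (hm : ∀ a, a ≤ m)
    (t : SatSeries α) (ht : t.last = m) : Order.coheight t.head = t.length := by
  apply le_antisymm (coheight_head_le_length_of_catenaryCond hc m hm t ht)
  have := Order.length_le_coheight_head (p := t.toLT)
  simpa using this

/-- In a catenary order with a greatest element, coheight drops by one along a covering. -/
theorem coheight_eq_of_covBy (hc : CatenaryCond α) (m : α) (hm : ∀ a, a ≤ m) {x y : α}
    (hxy : x ⋖ y) : Order.coheight x = Order.coheight y + 1 := by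
  obtain ⟨t, hh, hl⟩ := exists_satSeries_of_le (hm y)
  have h1 := coheight_head_eq_length hc m hm t hl
  let t' : SatSeries α := t.cons x (by rw [hh]; exact hxy)
  have h2 := coheight_head_eq_length hc m hm t' (by simp [t', hl])
  have h3 : t'.head = x := by simp [t']
  have h4 : t'.length = t.length + 1 := by simp [t']
  rw [h3, h4] at h2
  rw [hh] at h1
  rw [h2, h1]
  push_cast
  rfl

end Poset

section Ring

variable {A : Type u} [CommRing A] [IsNoetherianRing A]

/-- A prime strictly below a prime of height at most one is covered by it. -/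
theorem covBy_of_lt_of_height_le_one {p q : PrimeSpectrum A} (hpq : p < q)
    (hq : q.asIdeal.height ≤ 1) : p ⋖ q := by
  refine ⟨hpq, fun c hpc hcq => ?_⟩
  have hfin : ∀ x : PrimeSpectrum A, Order.height x < ⊤ := by
    intro x
    rw [← PrimeSpectrum.height_eq_orderHeight]
    exact Ideal.height_lt_top_of_isPrime
  have h1 := Order.add_one_le_of_lt (Order.height_strictMono hpc (hfin p))
  have h2 := Order.add_one_le_of_lt (Order.height_strictMono hcq (hfin c))
  have h3 : (1 : ℕ∞) ≤ Order.height c := le_trans (by simp) h1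
  have h4 : (1 : ℕ∞) + 1 ≤ Order.height q := le_trans (add_le_add_left h3 1) h2
  rw [← PrimeSpectrum.height_eq_orderHeight] at h4
  have : (1 : ℕ∞) + 1 ≤ 1 := h4.trans hq
  norm_num at this

/-- A prime containing the intersection of a finite set of ideals contains one of them. -/
theorem exists_le_of_sInf_le (Y : Set (Ideal A)) (hY : Y.Finite) (Q : Ideal A) [Q.IsPrime]
    (h : sInf Y ≤ Q) : ∃ p ∈ Y, p ≤ Q := by
  classical
  have h1 : ∏ p ∈ hY.toFinset, p ≤ sInf Y := by
    apply le_sInf
    intro p hp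
    exact (Ideal.prod_le_inf).trans (Finset.inf_le (f := id) (hY.mem_toFinset.mpr hp))
  have h2 := h1.trans h
  rw [Ideal.IsPrime.prod_le inferInstance] at h2
  obtain ⟨p, hp, hpQ⟩ := h2
  exact ⟨p, hY.mem_toFinset.mp hp, hpQ⟩

/-- Hartshorne-type statement: if the minimal primes are split into two disjoint sets `Y`, `Z`, a
minimal prime of `⋂ Y + ⋂ Z` cannot have a localization of depth at least two. -/
theorem not_two_le_depth_of_mem_minimalPrimes_sup (Y Z : Set (Ideal A))
    (hYZ : Y ∪ Z = minimalPrimes A) (hdisj : Disjoint Y Z) (P : Ideal A) [P.IsPrime]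
    (hP : P ∈ (sInf Y ⊔ sInf Z).minimalPrimes) :
    ¬ (2 ≤ LocCoh.depth (Localization.AtPrime P) (Localization.AtPrime P)) := by
  intro hdepth
  have hYm : Y ⊆ minimalPrimes A := hYZ ▸ Set.subset_union_left
  have hZm : Z ⊆ minimalPrimes A := hYZ ▸ Set.subset_union_right
  have hYfin : Y.Finite := (minimalPrimes.finite_of_isNoetherianRing A).subset hYm
  have hZfin : Z.Finite := (minimalPrimes.finite_of_isNoetherianRing A).subset hZm
  obtain ⟨N, hN⟩ := IsNoetherianRing.isNilpotent_nilradical A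
  have hN' : nilradical A ^ (N + 1) = ⊥ := by
    rw [pow_succ, hN, Ideal.zero_eq_bot, Ideal.bot_mul]
  have hle : sInf Y * sInf Z ≤ nilradical A := by
    refine Ideal.mul_le_inf.trans ?_
    rw [nilradical, ← Ideal.sInf_minimalPrimes]
    change sInf Y ⊓ sInf Z ≤ sInf (minimalPrimes A)
    rw [← hYZ, sInf_union]
  set a := sInf Y ^ (N + 1) with ha
  set b := sInf Z ^ (N + 1) with hb
  have hab : a * b = ⊥ := by
    rw [ha, hb, ← mul_pow, eq_bot_iff, ← hN']
    exact Ideal.pow_right_mono hle (N + 1)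
  have hrad : (a ⊔ b).radical = (sInf Y ⊔ sInf Z).radical := by
    rw [Ideal.radical_sup, ha, hb, Ideal.radical_pow _ (Nat.succ_ne_zero N),
      Ideal.radical_pow _ (Nat.succ_ne_zero N), ← Ideal.radical_sup]
  have hP' : P ∈ (a ⊔ b).minimalPrimes := by
    rw [← Ideal.radical_minimalPrimes, hrad, Ideal.radical_minimalPrimes]
    exact hP
  have hYP : sInf Y ≤ P := le_sup_left.trans hP.1.2
  have hZP : sInf Z ≤ P := le_sup_right.trans hP.1.2
  obtain ⟨p1, hp1, hp1P⟩ := exists_le_of_sInf_le Y hYfin P hYP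
  obtain ⟨p2, hp2, hp2P⟩ := exists_le_of_sInf_le Z hZfin P hZP
  rcases HartshorneAlg.exists_forall_mul_eq_zero a b hab P hP' hdepth with h0 | h0
  · have hp2prime : p2.IsPrime := (hZm hp2).1.1
    have hap2 : a ≤ p2 := by
      intro r hr
      obtain ⟨s, hs, hsr⟩ := h0 r hr
      have : s * r ∈ p2 := by rw [hsr]; exact p2.zero_mem
      exact (hp2prime.mem_or_mem this).resolve_left (fun h => hs (hp2P h))
    have hY2 : sInf Y ≤ p2 := Ideal.IsPrime.le_of_pow_le hap2
    obtain ⟨p, hp, hpp2⟩ := exists_le_of_sInf_le Y hYfin p2 hY2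
    have : p2 ≤ p := (hZm hp2).2 ⟨(hYm hp).1.1, bot_le⟩ hpp2
    have heq : p = p2 := le_antisymm hpp2 this
    exact Set.disjoint_left.mp hdisj (heq ▸ hp) hp2
  · have hp1prime : p1.IsPrime := (hYm hp1).1.1
    have hbp1 : b ≤ p1 := by
      intro r hr
      obtain ⟨s, hs, hsr⟩ := h0 r hr
      have : s * r ∈ p1 := by rw [hsr]; exact p1.zero_mem
      exact (hp1prime.mem_or_mem this).resolve_left (fun h => hs (hp1P h))
    have hZ1 : sInf Z ≤ p1 := Ideal.IsPrime.le_of_pow_le hbp1
    obtain ⟨p, hp, hpp1⟩ := exists_le_of_sInf_le Z hZfin p1 hZ1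
    have : p1 ≤ p := (hYm hp1).2 ⟨(hZm hp).1.1, bot_le⟩ hpp1
    have heq : p = p1 := le_antisymm hpp1 this
    exact Set.disjoint_left.mp hdisj hp1 (heq ▸ hp)

/-- Some minimal prime realizes the dimension of a Noetherian local ring. -/
theorem exists_minimalPrimes_ringKrullDim_quotient_eq [IsLocalRing A] :
    ∃ p ∈ minimalPrimes A, ringKrullDim (A ⧸ p) = ringKrullDim A := by
  obtain ⟨l, hlast, hlen⟩ := (maximalIdeal A).exists_ltSeries_length_eq_height
  obtain ⟨P0, hP0, hle⟩ := Ideal.exists_minimalPrimes_le (bot_le : (⊥ : Ideal A) ≤ l.head.asIdeal)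
  refine ⟨P0, hP0, le_antisymm (ringKrullDim_quotient_le P0) ?_⟩
  have hP0prime : P0.IsPrime := hP0.1.1
  let P0' : PrimeSpectrum A := ⟨P0, hP0prime⟩
  have h1 : Order.coheight l.head ≤ Order.coheight P0' := Order.coheight_anti (show P0' ≤ l.head from hle)
  have h2 : (l.length : ℕ∞) ≤ Order.coheight l.head := Order.length_le_coheight_head
  rw [← coheight_eq_ringKrullDim_quotient P0', ← IsLocalRing.maximalIdeal_height_eq_ringKrullDim,
    ← hlen]
  exact WithBot.coe_le_coe.mpr (h2.trans h1)

/-- A catenary Noetherian local ring whose localizations at primes of height at least two have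
depth at least two is equidimensional. -/
theorem ringKrullDim_quotient_minimalPrime [IsLocalRing A] (hc : CAlg.IsCatenary A)
    (h : ∀ p : PrimeSpectrum A, (2 : ℕ∞) ≤ p.asIdeal.height →
      (2 : ℕ∞) ≤ LocCoh.depth (Localization.AtPrime p.asIdeal) (Localization.AtPrime p.asIdeal))
    (p : Ideal A) (hp : p ∈ minimalPrimes A) : ringKrullDim (A ⧸ p) = ringKrullDim A := by
  by_contra hne
  have := wellFoundedGT_primeSpectrum (A := A)
  have := wellFoundedLT_primeSpectrum (A := A)
  set Y : Set (Ideal A) := {q | q ∈ minimalPrimes A ∧ ringKrullDim (A ⧸ q) = ringKrullDim A}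
    with hY
  set Z : Set (Ideal A) := {q | q ∈ minimalPrimes A ∧ ringKrullDim (A ⧸ q) ≠ ringKrullDim A}
    with hZ
  have hYZ : Y ∪ Z = minimalPrimes A := by
    ext q
    simp only [hY, hZ, Set.mem_union, Set.mem_ofPred_eq]
    constructor
    · rintro (⟨hq, -⟩ | ⟨hq, -⟩) <;> exact hq
    · intro hq
      by_cases hd : ringKrullDim (A ⧸ q) = ringKrullDim A
      · exact Or.inl ⟨hq, hd⟩
      · exact Or.inr ⟨hq, hd⟩
  have hdisj : Disjoint Y Z := by
    rw [Set.disjoint_left]
    rintro q ⟨-, h1⟩ ⟨-, h2⟩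
    exact h2 h1
  have hYm : Y ⊆ minimalPrimes A := hYZ ▸ Set.subset_union_left
  have hZm : Z ⊆ minimalPrimes A := hYZ ▸ Set.subset_union_right
  have hYfin : Y.Finite := (minimalPrimes.finite_of_isNoetherianRing A).subset hYm
  have hZfin : Z.Finite := (minimalPrimes.finite_of_isNoetherianRing A).subset hZm
  obtain ⟨y0, hy0m, hy0⟩ := exists_minimalPrimes_ringKrullDim_quotient_eq (A := A)
  have hy0Y : y0 ∈ Y := ⟨hy0m, hy0⟩
  have hpZ : p ∈ Z := ⟨hp, hne⟩
  -- the sum is a proper ideal
  have hsup : sInf Y ⊔ sInf Z ≤ maximalIdeal A := by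
    refine sup_le ((sInf_le hy0Y).trans ?_) ((sInf_le hpZ).trans ?_)
    · exact IsLocalRing.le_maximalIdeal hy0m.1.1.ne_top
    · exact IsLocalRing.le_maximalIdeal hp.1.1.ne_top
  obtain ⟨P, hPmin, -⟩ := Ideal.exists_minimalPrimes_le hsup
  have hPprime : P.IsPrime := hPmin.1.1
  have hnd := not_two_le_depth_of_mem_minimalPrimes_sup Y Z hYZ hdisj P hPmin
  have hht : P.height ≤ 1 := by
    by_contra hcon
    push Not at hcon
    exact hnd (h ⟨P, hPprime⟩ (Order.add_one_le_of_lt hcon))
  have hYP : sInf Y ≤ P := le_sup_left.trans hPmin.1.2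
  have hZP : sInf Z ≤ P := le_sup_right.trans hPmin.1.2
  obtain ⟨p1, hp1, hp1P⟩ := exists_le_of_sInf_le Y hYfin P hYP
  obtain ⟨p2, hp2, hp2P⟩ := exists_le_of_sInf_le Z hZfin P hZP
  have hp1prime : p1.IsPrime := hp1.1.1.1
  have hp2prime : p2.IsPrime := hp2.1.1.1
  have hne12 : p1 ≠ p2 := by
    rintro rfl
    exact hp2.2 hp1.2
  let P' : PrimeSpectrum A := ⟨P, hPprime⟩
  let p1' : PrimeSpectrum A := ⟨p1, hp1prime⟩
  let p2' : PrimeSpectrum A := ⟨p2, hp2prime⟩
  have hlt1 : p1' < P' := by
    refine lt_of_le_of_ne hp1P (fun heq => ?_)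
    have e : p1 = P := congrArg PrimeSpectrum.asIdeal heq
    have : p2 ≤ p1 := e ▸ hp2P
    exact hne12 (le_antisymm (hp1.1.2 ⟨hp2prime, bot_le⟩ this) this)
  have hlt2 : p2' < P' := by
    refine lt_of_le_of_ne hp2P (fun heq => ?_)
    have e : p2 = P := congrArg PrimeSpectrum.asIdeal heq
    have : p1 ≤ p2 := e ▸ hp1P
    exact hne12 (le_antisymm this (hp2.1.2 ⟨hp1prime, bot_le⟩ this))
  have hcov1 := covBy_of_lt_of_height_le_one hlt1 hht
  have hcov2 := covBy_of_lt_of_height_le_one hlt2 hht
  have htop : ∀ a : PrimeSpectrum A, a ≤ IsLocalRing.closedPoint A :=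
    fun a => IsLocalRing.le_maximalIdeal a.2.ne_top
  have e1 := coheight_eq_of_covBy (α := PrimeSpectrum A) hc.2 _ htop hcov1
  have e2 := coheight_eq_of_covBy (α := PrimeSpectrum A) hc.2 _ htop hcov2
  have e3 : Order.coheight p1' = Order.coheight p2' := e1.trans e2.symm
  have e4 : ringKrullDim (A ⧸ p1) = ringKrullDim (A ⧸ p2) := by
    rw [← coheight_eq_ringKrullDim_quotient p1', ← coheight_eq_ringKrullDim_quotient p2', e3]
  exact hp2.2 (e4 ▸ hp1.2)

end Ring

end Groth.Agent.H72.EquidimS2
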