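import Mathlib
import Groth.Prelude.Def_Found
import Groth.Prelude.Def_EGA4b
import Groth.Agent.H24.Catenary
import Groth.Agent.H72.EquidimS2

set_option autoImplicit false
set_option linter.unusedSectionVars false
universe u

open Groth.Agent.H24

namespace Groth.Agent.H72.EquidimFlat

section Poset

variable {α : Type*} [PartialOrder α] [WellFoundedLT α] [WellFoundedGT α]

/-- In a catenary order with a greatest element, `coheight + height` is monotone. -/
theorem coheight_add_height_mono (hc : CatenaryCond α) (m : α) (hm : ∀ a, a ≤ m) (y : α) :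
    ∀ x : α, x ≤ y → Order.coheight x + Order.height x ≤ Order.coheight y + Order.height y := by
  intro x
  induction x using WellFoundedGT.induction with
  | ind x ih =>
    intro hxy
    rcases eq_or_lt_of_le hxy with rfl | hlt
    · exact le_rfl
    · obtain ⟨c, hxc, hcy⟩ := exists_covBy_le_of_lt hlt
      have h1 := Groth.Agent.H72.EquidimS2.coheight_eq_of_covBy hc m hm hxc
      have h2 : Order.height x + 1 ≤ Order.height c := Order.height_add_one_le hxc.lt
      calc Order.coheight x + Order.height x = Order.coheight c + (Order.height x + 1) := by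
            rw [h1]; ring
        _ ≤ Order.coheight c + Order.height c := by gcongr
        _ ≤ _ := ih c hxc.lt hcy

end Poset

section Ring

variable {B : Type u} [CommRing B] [IsNoetherianRing B] [IsLocalRing B]

/-- In a catenary equidimensional Noetherian local ring, `dim B/Q + ht Q = dim B`. -/
theorem ringKrullDim_quotient_add_height (hcat : CAlg.IsCatenary B) (heq : EGA4.IsEquidim B)
    (Q : Ideal B) [Q.IsPrime] :
    ringKrullDim (B ⧸ Q) + ((Q.height : ℕ∞) : WithBot ℕ∞) = ringKrullDim B := by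
  have := wellFoundedGT_primeSpectrum (A := B)
  have := wellFoundedLT_primeSpectrum (A := B)
  let Q' : PrimeSpectrum B := ⟨Q, inferInstance⟩
  let m : PrimeSpectrum B := IsLocalRing.closedPoint B
  have hm : ∀ a : PrimeSpectrum B, a ≤ m := fun a => IsLocalRing.le_maximalIdeal a.2.ne_top
  obtain ⟨P0, hP0, hle⟩ := Ideal.exists_minimalPrimes_le (bot_le : (⊥ : Ideal B) ≤ Q)
  have hP0prime : P0.IsPrime := hP0.1.1
  let P0' : PrimeSpectrum B := ⟨P0, hP0prime⟩
  have h1 := coheight_add_height_mono hcat.2 m hm Q' P0' hle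
  have h2 : ringKrullDim (B ⧸ P0) = ringKrullDim B := heq P0 hP0
  have h3 := coheight_eq_ringKrullDim_quotient P0'
  have h4 := coheight_eq_ringKrullDim_quotient Q'
  have h5 : Order.height Q' = Q.height := (PrimeSpectrum.height_eq_orderHeight Q').symm
  apply le_antisymm
  · rw [← h4, ← h5]
    have : Order.height Q' + Order.coheight Q' ≤ ⨆ a : PrimeSpectrum B, Order.height a + Order.coheight a :=
      le_iSup (fun a : PrimeSpectrum B => Order.height a + Order.coheight a) Q'
    rw [ringKrullDim, Order.krullDim_eq_iSup_height_add_coheight_of_nonempty]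
    rw [add_comm] at this
    exact_mod_cast this
  · rw [← h2, ← h3, ← h4, ← h5]
    have : Order.coheight P0' ≤ Order.coheight P0' + Order.height P0' := le_self_add
    exact_mod_cast this.trans h1

end Ring

section Arith

theorem withBot_add_cancel {a b : WithBot ℕ∞} {h : ℕ∞} (hh : h ≠ ⊤)
    (e : a + (h : WithBot ℕ∞) = b + (h : WithBot ℕ∞)) : a = b := by
  induction a using WithBot.recBotCoe with
  | bot =>
    rw [WithBot.bot_add] at e
    have := (WithBot.add_eq_bot.mp e.symm)
    rcases this with h1 | h1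
    · exact h1.symm
    · exact absurd h1 (WithBot.coe_ne_bot)
  | coe a =>
    induction b using WithBot.recBotCoe with
    | bot =>
      rw [WithBot.bot_add] at e
      rcases WithBot.add_eq_bot.mp e with h1 | h1
      · exact absurd h1 (WithBot.coe_ne_bot)
      · exact absurd h1 (WithBot.coe_ne_bot)
    | coe b =>
      have e' : a + h = b + h := by exact_mod_cast e
      have h1 : a ≤ b := (ENat.add_le_add_iff_right hh).mp e'.le
      have h2 : b ≤ a := (ENat.add_le_add_iff_right hh).mp e'.ge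
      rw [le_antisymm h1 h2]

end Arith

section Flat

variable {A B : Type u} [CommRing A] [CommRing B] [IsNoetherianRing B] [Algebra A B]
  [Module.Flat A B]

theorem comap_eq_of_mem_minimalPrimes_map (p : Ideal A) [p.IsPrime] (Q : Ideal B)
    (hQ : Q ∈ (p.map (algebraMap A B)).minimalPrimes) : Q.comap (algebraMap A B) = p := by
  have : Q.IsPrime := hQ.1.1
  have hle : p ≤ Q.comap (algebraMap A B) := Ideal.map_le_iff_le_comap.mp hQ.1.2
  have : Q.LiesOver (Q.comap (algebraMap A B)) := ⟨rfl⟩
  obtain ⟨P, hPQ, hP, hPp⟩ := Ideal.exists_ideal_le_liesOver_of_le (p := p)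
    (q := Q.comap (algebraMap A B)) Q hle
  have h1 : p.map (algebraMap A B) ≤ P := by
    rw [Ideal.map_le_iff_le_comap]
    exact (Ideal.LiesOver.over (p := p) (P := P)).le
  have h2 : Q ≤ P := hQ.2 ⟨hP, h1⟩ hPQ
  have h3 : P = Q := le_antisymm hPQ h2
  subst h3
  exact (Ideal.LiesOver.over (p := p) (P := P)).symm

theorem map_mk_mem_minimalPrimes (I : Ideal B) (Q : Ideal B) (hQ : Q ∈ I.minimalPrimes) :
    Q.map (Ideal.Quotient.mk I) ∈ minimalPrimes (B ⧸ I) := by
  have h := Ideal.comap_minimalPrimes_eq_of_surjective (f := Ideal.Quotient.mk I)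
    Ideal.Quotient.mk_surjective ⊥
  have h0 : (⊥ : Ideal (B ⧸ I)).comap (Ideal.Quotient.mk I) = I := by
    rw [← RingHom.ker_eq_comap_bot, Ideal.mk_ker]
  rw [h0] at h
  rw [h] at hQ
  obtain ⟨P', hP', rfl⟩ := hQ
  rw [Ideal.map_comap_of_surjective _ Ideal.Quotient.mk_surjective]
  exact hP'

theorem exists_eq_map_mk_of_mem_minimalPrimes (I : Ideal B) (P' : Ideal (B ⧸ I))
    (hP' : P' ∈ minimalPrimes (B ⧸ I)) :
    ∃ Q ∈ I.minimalPrimes, P' = Q.map (Ideal.Quotient.mk I) := by
  have h := Ideal.comap_minimalPrimes_eq_of_surjective (f := Ideal.Quotient.mk I)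
    Ideal.Quotient.mk_surjective ⊥
  have h0 : (⊥ : Ideal (B ⧸ I)).comap (Ideal.Quotient.mk I) = I := by
    rw [← RingHom.ker_eq_comap_bot, Ideal.mk_ker]
  rw [h0] at h
  refine ⟨P'.comap (Ideal.Quotient.mk I), ?_, ?_⟩
  · rw [h]; exact ⟨P', hP', rfl⟩
  · rw [Ideal.map_comap_of_surjective _ Ideal.Quotient.mk_surjective]

theorem height_eq_of_mem_minimalPrimes_map [IsNoetherianRing A] (p : Ideal A) [p.IsPrime] (Q : Ideal B)
    (hQ : Q ∈ (p.map (algebraMap A B)).minimalPrimes) : Q.height = p.height := by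
  have : Q.IsPrime := hQ.1.1
  have : Q.LiesOver p := ⟨(comap_eq_of_mem_minimalPrimes_map p Q hQ).symm⟩
  rw [Ideal.height_eq_height_add_of_liesOver_of_hasGoingDown p Q]
  have h1 := map_mk_mem_minimalPrimes _ Q hQ
  have : (Q.map (Ideal.Quotient.mk (p.map (algebraMap A B)))).IsPrime := h1.1.1
  rw [Ideal.height_eq_zero_iff.mpr h1, add_zero]

end Flat

section Main

variable {A B : Type u} [CommRing A] [CommRing B] [IsNoetherianRing A] [IsNoetherianRing B]
  [IsLocalRing A] [IsLocalRing B] [Algebra A B] [IsLocalHom (algebraMap A B)] [Module.Flat A B]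

theorem map_ne_top (p : Ideal A) [p.IsPrime] : p.map (algebraMap A B) ≠ ⊤ := by
  intro h
  have h1 : p.map (algebraMap A B) ≤ IsLocalRing.maximalIdeal B :=
    (Ideal.map_mono (IsLocalRing.le_maximalIdeal (Ideal.IsPrime.ne_top ‹_›))).trans
      (IsLocalRing.map_maximalIdeal_le (algebraMap A B))
  rw [h] at h1
  exact (IsLocalRing.maximalIdeal.isMaximal B).ne_top (top_le_iff.mp h1)

/-- `dim B/Q + ht p = dim B` for `Q` minimal over `pB`. -/
theorem ringKrullDim_quotient_minimal_add_height (hcat : CAlg.IsCatenary B)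
    (heq : EGA4.IsEquidim B) (p : Ideal A) [p.IsPrime] (Q : Ideal B)
    (hQ : Q ∈ (p.map (algebraMap A B)).minimalPrimes) :
    ringKrullDim (B ⧸ Q) + ((p.height : ℕ∞) : WithBot ℕ∞) = ringKrullDim B := by
  have : Q.IsPrime := hQ.1.1
  rw [← height_eq_of_mem_minimalPrimes_map p Q hQ]
  exact ringKrullDim_quotient_add_height hcat heq Q

theorem ringKrullDim_quotQuot (I : Ideal B) (Q : Ideal B) (hQ : I ≤ Q) :
    ringKrullDim ((B ⧸ I) ⧸ Q.map (Ideal.Quotient.mk I)) = ringKrullDim (B ⧸ Q) :=
  ringKrullDim_eq_of_ringEquiv (DoubleQuot.quotQuotEquivQuotOfLE hQ)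

/-- `dim B/pB + ht p = dim B`. -/
theorem ringKrullDim_quotient_map_add_height (hcat : CAlg.IsCatenary B)
    (heq : EGA4.IsEquidim B) (p : Ideal A) [p.IsPrime] :
    ringKrullDim (B ⧸ p.map (algebraMap A B)) + ((p.height : ℕ∞) : WithBot ℕ∞) =
      ringKrullDim B := by
  have hne := map_ne_top (B := B) p
  have : Nontrivial (B ⧸ p.map (algebraMap A B)) := Ideal.Quotient.nontrivial_iff.mpr hne
  have : IsLocalRing (B ⧸ p.map (algebraMap A B)) :=
    IsLocalRing.of_surjective' (Ideal.Quotient.mk _) Ideal.Quotient.mk_surjective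
  obtain ⟨P', hP', hdim⟩ :=
    Groth.Agent.H72.EquidimS2.exists_minimalPrimes_ringKrullDim_quotient_eq
      (A := B ⧸ p.map (algebraMap A B))
  obtain ⟨Q, hQ, rfl⟩ := exists_eq_map_mk_of_mem_minimalPrimes _ P' hP'
  rw [← hdim, ringKrullDim_quotQuot _ Q hQ.1.2]
  exact ringKrullDim_quotient_minimal_add_height hcat heq p Q hQ

/-- S9297. -/
theorem isEquidim_quotient_map (hcat : CAlg.IsCatenary B) (heq : EGA4.IsEquidim B)
    (p : Ideal A) [p.IsPrime] : EGA4.IsEquidim (B ⧸ p.map (algebraMap A B)) := by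
  intro P' hP'
  obtain ⟨Q, hQ, rfl⟩ := exists_eq_map_mk_of_mem_minimalPrimes _ P' hP'
  rw [ringKrullDim_quotQuot _ Q hQ.1.2]
  have h1 := ringKrullDim_quotient_minimal_add_height hcat heq p Q hQ
  have h2 := ringKrullDim_quotient_map_add_height hcat heq p
  exact withBot_add_cancel (Ideal.height_ne_top (Ideal.IsPrime.ne_top ‹_›)) (h1.trans h2.symm)

end Main

end Groth.Agent.H72.EquidimFlat
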