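import Mathlib
import Groth.Prelude.Def_CAlg
import Groth.Agent.H15.Depth
import Groth.Agent.H15.DepthFlat
import Groth.Agent.H26.MaxRegular
import Groth.Agent.H72.DepthFinite

set_option autoImplicit false
set_option linter.unusedSectionVars false
universe u

open TensorProduct Pointwise

namespace Groth.Agent.H72.DepthFlat

section EndoFlat

variable {R : Type u} [CommRing R] (N : Type u) [AddCommGroup N] [Module R N]

/-- For a flat module `N` and an endomorphism `f` of `N`, injectivity of `f ⊗ M` is closed under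
extensions in `M`. -/
theorem rTensor_injective_of_exact [Module.Flat R N] (f : N →ₗ[R] N)
    {A B C : Type u} [AddCommGroup A] [AddCommGroup B] [AddCommGroup C]
    [Module R A] [Module R B] [Module R C]
    (ι : A →ₗ[R] B) (π : B →ₗ[R] C) (hι : Function.Injective ι) (hex : Function.Exact ι π)
    (hA : Function.Injective (f.rTensor A)) (hC : Function.Injective (f.rTensor C)) :
    Function.Injective (f.rTensor B) := by
  rw [injective_iff_map_eq_zero]
  intro z hz
  have h1 : (f.rTensor C) ((π.lTensor N) z) = 0 := by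
    rw [← LinearMap.comp_apply, LinearMap.rTensor_comp_lTensor, ← LinearMap.lTensor_comp_rTensor,
      LinearMap.comp_apply, hz, map_zero]
  have h2 : (π.lTensor N) z = 0 := (injective_iff_map_eq_zero _).mp hC _ h1
  have hex' : Function.Exact (ι.lTensor N) (π.lTensor N) := Module.Flat.lTensor_exact N hex
  obtain ⟨w, rfl⟩ := (hex' z).mp h2
  have h3 : (ι.lTensor N) ((f.rTensor A) w) = 0 := by
    rw [← LinearMap.comp_apply, LinearMap.lTensor_comp_rTensor, ← LinearMap.rTensor_comp_lTensor,
      LinearMap.comp_apply, hz]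
  have hinj : Function.Injective (ι.lTensor N) :=
    Module.Flat.lTensor_preserves_injective_linearMap ι hι
  have h4 : (f.rTensor A) w = 0 := (injective_iff_map_eq_zero _).mp hinj _ h3
  have h5 : w = 0 := (injective_iff_map_eq_zero _).mp hA _ h4
  rw [h5, map_zero]

/-- Transport of injectivity of `f ⊗ M` along an isomorphism in `M`. -/
theorem rTensor_injective_congr (f : N →ₗ[R] N)
    {A B : Type u} [AddCommGroup A] [AddCommGroup B] [Module R A] [Module R B] (e : A ≃ₗ[R] B)
    (hA : Function.Injective (f.rTensor A)) : Function.Injective (f.rTensor B) := by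
  have h : (f.rTensor B) ∘ₗ (e.toLinearMap.lTensor N) = (e.toLinearMap.lTensor N) ∘ₗ (f.rTensor A) := by
    rw [LinearMap.rTensor_comp_lTensor, LinearMap.lTensor_comp_rTensor]
  have hbij : Function.Bijective (e.toLinearMap.lTensor N) := (e.lTensor N).bijective
  intro z w hzw
  obtain ⟨z', rfl⟩ := hbij.2 z
  obtain ⟨w', rfl⟩ := hbij.2 w
  have h1 : (e.toLinearMap.lTensor N) ((f.rTensor A) z') =
      (e.toLinearMap.lTensor N) ((f.rTensor A) w') := by
    rw [← LinearMap.comp_apply, ← h, LinearMap.comp_apply, hzw, ← LinearMap.comp_apply (f.rTensor B),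
      h, LinearMap.comp_apply]
  rw [hA (hbij.1 h1)]

/-- Over a local ring, injectivity of `f ⊗ k` for the residue field gives injectivity of `f ⊗ M` for
every module `M` of finite length. -/
theorem rTensor_injective_of_isFiniteLength [IsLocalRing R] [Module.Flat R N] (f : N →ₗ[R] N)
    (hk : Function.Injective (f.rTensor (R ⧸ IsLocalRing.maximalIdeal R)))
    (M : Type u) [AddCommGroup M] [Module R M] (hM : IsFiniteLength R M) :
    Function.Injective (f.rTensor M) := by
  induction hM with
  | of_subsingleton =>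
    intro z w _
    exact Subsingleton.elim _ _
  | @of_simple_quotient M _ _ M' _ _ ih =>
    obtain ⟨I, hI, ⟨e⟩⟩ := isSimpleModule_iff_quot_maximal.mp ‹IsSimpleModule R (M ⧸ M')›
    rw [IsLocalRing.eq_maximalIdeal hI] at e
    have hC : Function.Injective (f.rTensor (M ⧸ M')) := rTensor_injective_congr N f e.symm hk
    exact rTensor_injective_of_exact N f M'.subtype M'.mkQ M'.subtype_injective
      (LinearMap.exact_subtype_mkQ M') ih hC

/-- A finite module over a Noetherian local ring modulo a power of the maximal ideal has finite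
length. -/
theorem isFiniteLength_quotient_pow_smul_top [IsNoetherianRing R] [IsLocalRing R]
    (M : Type u) [AddCommGroup M] [Module R M] [Module.Finite R M] (i : ℕ) :
    IsFiniteLength R (M ⧸ (IsLocalRing.maximalIdeal R ^ i) • (⊤ : Submodule R M)) := by
  rcases Nat.eq_zero_or_pos i with rfl | hi
  · have : Subsingleton (M ⧸ (IsLocalRing.maximalIdeal R ^ 0) • (⊤ : Submodule R M)) := by
      rw [Submodule.Quotient.subsingleton_iff, pow_zero, Ideal.one_eq_top, Submodule.top_smul]
    exact IsFiniteLength.of_subsingleton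
  · set I := IsLocalRing.maximalIdeal R ^ i with hI
    have hmin : IsLocalRing.maximalIdeal R ∈ I.minimalPrimes := by
      refine ⟨⟨inferInstance, Ideal.pow_le_self hi.ne'⟩, ?_⟩
      rintro q ⟨hq, hIq⟩ _
      exact hq.le_of_pow_le hIq
    have hart : IsArtinianRing (R ⧸ I) :=
      IsLocalRing.quotient_artinian_of_mem_minimalPrimes_of_isLocalRing I hmin
    have hfin : Module.Finite (R ⧸ I) (M ⧸ I • (⊤ : Submodule R M)) :=
      Module.Finite.of_restrictScalars_finite R (R ⧸ I) _
    have hart' : IsArtinian (R ⧸ I) (M ⧸ I • (⊤ : Submodule R M)) := isArtinian_of_fg_of_artinian'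
    have hart'' : IsArtinian R (M ⧸ I • (⊤ : Submodule R M)) :=
      isArtinian_of_surjective_algebraMap (R := R ⧸ I) (S := R) Ideal.Quotient.mk_surjective
    rw [isFiniteLength_iff_isNoetherian_isArtinian]
    exact ⟨inferInstance, hart''⟩

/-- Over a Noetherian local ring, injectivity of `f ⊗ k` gives injectivity of `f ⊗ M` for every
finite module `M` for which `N ⊗ M` is separated for the topology of the maximal ideal. -/
theorem rTensor_injective_of_finite [IsNoetherianRing R] [IsLocalRing R] [Module.Flat R N]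
    (f : N →ₗ[R] N) (hk : Function.Injective (f.rTensor (R ⧸ IsLocalRing.maximalIdeal R)))
    (M : Type u) [AddCommGroup M] [Module R M] [Module.Finite R M]
    (hsep : ⨅ i : ℕ, (IsLocalRing.maximalIdeal R ^ i) • (⊤ : Submodule R (N ⊗[R] M)) = ⊥) :
    Function.Injective (f.rTensor M) := by
  rw [injective_iff_map_eq_zero]
  intro z hz
  have hmem : z ∈ ⨅ i : ℕ, (IsLocalRing.maximalIdeal R ^ i) • (⊤ : Submodule R (N ⊗[R] M)) := by
    rw [Submodule.mem_iInf]
    intro i
    set P := (IsLocalRing.maximalIdeal R ^ i) • (⊤ : Submodule R M) with hP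
    have hfl : IsFiniteLength R (M ⧸ P) := isFiniteLength_quotient_pow_smul_top M i
    have hinj := rTensor_injective_of_isFiniteLength N f hk (M ⧸ P) hfl
    have h1 : (f.rTensor (M ⧸ P)) ((P.mkQ.lTensor N) z) = 0 := by
      rw [← LinearMap.comp_apply, LinearMap.rTensor_comp_lTensor, ← LinearMap.lTensor_comp_rTensor,
        LinearMap.comp_apply, hz, map_zero]
    have h2 : (P.mkQ.lTensor N) z = 0 := (injective_iff_map_eq_zero _).mp hinj _ h1
    have hex : Function.Exact (P.subtype.lTensor N) (P.mkQ.lTensor N) :=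
      lTensor_exact N (LinearMap.exact_subtype_mkQ P) P.mkQ_surjective
    obtain ⟨w, rfl⟩ := (hex z).mp h2
    clear hz h1 h2
    induction w using TensorProduct.induction_on with
    | zero => rw [map_zero]; exact Submodule.zero_mem _
    | add a b ha hb => rw [map_add]; exact Submodule.add_mem _ ha hb
    | tmul n p =>
      obtain ⟨p, hp⟩ := p
      rw [LinearMap.lTensor_tmul]
      change n ⊗ₜ[R] p ∈ _
      rw [hP] at hp
      induction hp using Submodule.smul_induction_on' with
      | smul a ha m _ =>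
        rw [TensorProduct.tmul_smul]
        exact Submodule.smul_mem_smul ha Submodule.mem_top
      | add x _ y _ hx hy =>
        rw [TensorProduct.tmul_add]
        exact Submodule.add_mem _ hx hy
  rw [hsep] at hmem
  exact (Submodule.mem_bot R).mp hmem

/-- The cokernel of an endomorphism `f` of a flat module, with `f ⊗ (R/I)` injective for all
ideals `I`, is flat. -/
theorem flat_of_rTensor_injective [Module.Flat R N] (f : N →ₗ[R] N)
    (C : Type u) [AddCommGroup C] [Module R C] (π : N →ₗ[R] C) (hπ : Function.Surjective π)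
    (hex : Function.Exact f π)
    (hinj : ∀ I : Ideal R, Function.Injective (f.rTensor (R ⧸ I))) : Module.Flat R C := by
  rw [Module.Flat.iff_lTensor_injective']
  intro I
  rw [injective_iff_map_eq_zero]
  intro c hc
  obtain ⟨n, rfl⟩ := LinearMap.rTensor_surjective I hπ c
  set n' := (I.subtype.lTensor N) n with hn'
  have h1 : (π.rTensor R) n' = 0 := by
    rw [hn', ← LinearMap.comp_apply, LinearMap.rTensor_comp_lTensor,
      ← LinearMap.lTensor_comp_rTensor, LinearMap.comp_apply, hc]
  have hex1 : Function.Exact (f.rTensor R) (π.rTensor R) := rTensor_exact R hex hπ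
  obtain ⟨u, hu⟩ := (hex1 n').mp h1
  have h2 : (f.rTensor (R ⧸ I)) ((I.mkQ.lTensor N) u) = 0 := by
    rw [← LinearMap.comp_apply, LinearMap.rTensor_comp_lTensor, ← LinearMap.lTensor_comp_rTensor,
      LinearMap.comp_apply, hu, hn', ← LinearMap.comp_apply, ← LinearMap.lTensor_comp]
    have : I.mkQ ∘ₗ I.subtype = 0 := by
      ext x
      simpa using Ideal.Quotient.eq_zero_iff_mem.mpr x.2
    rw [this, LinearMap.lTensor_zero, LinearMap.zero_apply]
  have h3 : (I.mkQ.lTensor N) u = 0 := (injective_iff_map_eq_zero _).mp (hinj I) _ h2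
  have hex2 : Function.Exact (I.subtype.lTensor N) (I.mkQ.lTensor N) :=
    lTensor_exact N (LinearMap.exact_subtype_mkQ I) I.mkQ_surjective
  obtain ⟨u', hu'⟩ := (hex2 u).mp h3
  have hinjN : Function.Injective (I.subtype.lTensor N) :=
    Module.Flat.lTensor_preserves_injective_linearMap I.subtype I.subtype_injective
  have h4 : (f.rTensor I) u' = n := by
    apply hinjN
    rw [← LinearMap.comp_apply, LinearMap.lTensor_comp_rTensor, ← LinearMap.rTensor_comp_lTensor,
      LinearMap.comp_apply, hu', hu]
  rw [← h4, ← LinearMap.comp_apply, ← LinearMap.rTensor_comp]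
  have : π ∘ₗ f = 0 := by
    ext x
    exact hex.apply_apply_eq_zero x
  rw [this, LinearMap.rTensor_zero, LinearMap.zero_apply]

end EndoFlat

section LocalHom

variable {R S : Type u} [CommRing R] [CommRing S] [Algebra R S]
  (N : Type u) [AddCommGroup N] [Module S N] [Module R N] [IsScalarTower R S N]

/-- `N ⊗_R M` is a finite `S`-module if `N` is finite over `S` and `M` is finite over `R`. -/
theorem finite_tensorProduct (M : Type u) [AddCommGroup M] [Module R M]
    [Module.Finite S N] [Module.Finite R M] : Module.Finite S (N ⊗[R] M) := by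
  classical
  obtain ⟨k, π, hπ⟩ := Module.Finite.exists_fin' R M
  let e := TensorProduct.piScalarRight R S N (Fin k)
  let φ : (Fin k → N) →ₗ[S] N ⊗[R] M :=
    (TensorProduct.AlgebraTensorModule.lTensor S N π) ∘ₗ e.symm.toLinearMap
  refine Module.Finite.of_surjective φ ?_
  intro x
  obtain ⟨y, rfl⟩ := LinearMap.lTensor_surjective N hπ x
  exact ⟨e y, by simp [φ]⟩

/-- Multiplication by `y : S` as an `R`-linear endomorphism. -/
def mulEnd (y : S) : N →ₗ[R] N where
  toFun n := y • n
  map_add' := smul_add y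
  map_smul' a n := smul_comm y a n

@[simp] theorem mulEnd_apply (y : S) (n : N) : mulEnd (R := R) N y n = y • n := rfl

theorem smul_eq_rTensor (y : S) (M : Type u) [AddCommGroup M] [Module R M] (z : N ⊗[R] M) :
    y • z = ((mulEnd (R := R) N y).rTensor M) z := by
  induction z using TensorProduct.induction_on with
  | zero => rw [smul_zero, map_zero]
  | add a b ha hb => rw [smul_add, map_add, ha, hb]
  | tmul n m => rw [LinearMap.rTensor_tmul, mulEnd_apply, TensorProduct.smul_tmul']

theorem isSMulRegular_iff_rTensor_injective (y : S) (M : Type u) [AddCommGroup M] [Module R M] :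
    IsSMulRegular (N ⊗[R] M) y ↔ Function.Injective ((mulEnd (R := R) N y).rTensor M) := by
  unfold IsSMulRegular
  have : (fun z : N ⊗[R] M => y • z) = ⇑((mulEnd (R := R) N y).rTensor M) :=
    funext fun z => smul_eq_rTensor N y M z
  rw [this]

variable [IsNoetherianRing R] [IsLocalRing R] [IsNoetherianRing S] [IsLocalRing S]
  [IsLocalHom (algebraMap R S)] [Module.Finite S N]

include S in
/-- Separatedness of `N ⊗ M` for the topology defined by the maximal ideal of `R`. -/
theorem iInf_pow_smul_top_eq_bot (M : Type u) [AddCommGroup M] [Module R M] [Module.Finite R M] :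
    ⨅ i : ℕ, (IsLocalRing.maximalIdeal R ^ i) • (⊤ : Submodule R (N ⊗[R] M)) = ⊥ := by
  have hfin : Module.Finite S (N ⊗[R] M) := finite_tensorProduct N M
  have hle : (IsLocalRing.maximalIdeal R).map (algebraMap R S) ≤ IsLocalRing.maximalIdeal S :=
    ((IsLocalRing.local_hom_TFAE (algebraMap R S)).out 0 2).mp ‹IsLocalHom (algebraMap R S)›
  have key : ∀ (i : ℕ) (t : N ⊗[R] M),
      t ∈ (IsLocalRing.maximalIdeal R ^ i) • (⊤ : Submodule R (N ⊗[R] M)) →
      t ∈ (IsLocalRing.maximalIdeal S ^ i) • (⊤ : Submodule S (N ⊗[R] M)) := by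
    intro i t hi
    induction hi using Submodule.smul_induction_on' with
    | smul a ha t _ =>
      rw [← algebraMap_smul S a t]
      refine Submodule.smul_mem_smul ?_ Submodule.mem_top
      have h1 : algebraMap R S a ∈ (IsLocalRing.maximalIdeal R ^ i).map (algebraMap R S) :=
        Ideal.mem_map_of_mem _ ha
      rw [Ideal.map_pow] at h1
      exact Ideal.pow_right_mono hle i h1
    | add x _ y _ hx hy => exact Submodule.add_mem _ hx hy
  rw [eq_bot_iff]
  intro z hz
  rw [Submodule.mem_iInf] at hz
  have hz' : z ∈ ⨅ i : ℕ, (IsLocalRing.maximalIdeal S ^ i) • (⊤ : Submodule S (N ⊗[R] M)) := by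
    rw [Submodule.mem_iInf]
    intro i
    exact key i z (hz i)
  rw [Ideal.iInf_pow_smul_eq_bot_of_isLocalRing (IsLocalRing.maximalIdeal S)
    (Ideal.IsPrime.ne_top inferInstance)] at hz'
  exact hz'

variable [Module.Flat R N]

/-- An element of `S` regular on the closed fibre `N ⊗ k` is regular on `N ⊗ M` for every finite
`R`-module `M`. -/
theorem isSMulRegular_tensor_of_fibre (y : S)
    (hy : IsSMulRegular (N ⊗[R] (R ⧸ IsLocalRing.maximalIdeal R)) y)
    (M : Type u) [AddCommGroup M] [Module R M] [Module.Finite R M] :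
    IsSMulRegular (N ⊗[R] M) y := by
  rw [isSMulRegular_iff_rTensor_injective] at hy ⊢
  exact rTensor_injective_of_finite N _ hy M (iInf_pow_smul_top_eq_bot (S := S) N M)

/-- If `y` is regular on the closed fibre, then `N/yN` is again flat over `R`. -/
theorem flat_quotSMulTop_of_fibre (y : S)
    (hy : IsSMulRegular (N ⊗[R] (R ⧸ IsLocalRing.maximalIdeal R)) y) :
    Module.Flat R (QuotSMulTop y N) := by
  let π : N →ₗ[R] QuotSMulTop y N := (Submodule.mkQ (y • (⊤ : Submodule S N))).restrictScalars R
  have hπ : Function.Surjective π := by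
    intro q
    obtain ⟨n, rfl⟩ := Submodule.mkQ_surjective (y • (⊤ : Submodule S N)) q
    exact ⟨n, rfl⟩
  refine flat_of_rTensor_injective N (mulEnd (R := R) N y) (QuotSMulTop y N) π hπ ?_ ?_
  · intro n
    change (Submodule.mkQ (y • (⊤ : Submodule S N))) n = 0 ↔ _
    rw [Submodule.mkQ_apply, Submodule.Quotient.mk_eq_zero,
      Submodule.mem_smul_pointwise_iff_exists]
    constructor
    · rintro ⟨n', -, rfl⟩
      exact ⟨n', rfl⟩
    · rintro ⟨n', rfl⟩
      exact ⟨n', Submodule.mem_top, rfl⟩
  · intro I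
    rw [← isSMulRegular_iff_rTensor_injective]
    exact isSMulRegular_tensor_of_fibre N y hy (R ⧸ I)

end LocalHom

section Isos

/-- A surjective linear map with kernel `a • ⊤` identifies the target with `QuotSMulTop a`. -/
noncomputable def quotSMulTopEquivOfSurjective {A : Type u} [CommRing A] {T T' : Type u}
    [AddCommGroup T] [Module A T] [AddCommGroup T'] [Module A T'] (a : A) (g : T →ₗ[A] T')
    (hg : Function.Surjective g) (hker : LinearMap.ker g = a • (⊤ : Submodule A T)) :
    QuotSMulTop a T ≃ₗ[A] T' :=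
  (Submodule.quotEquivOfEq _ _ hker.symm).trans (g.quotKerEquivOfSurjective hg)

variable {R S : Type u} [CommRing R] [CommRing S] [Algebra R S]
  (N : Type u) [AddCommGroup N] [Module S N] [Module R N] [IsScalarTower R S N]
  (M : Type u) [AddCommGroup M] [Module R M]

theorem exact_mulEnd_mkQ (y : S) :
    Function.Exact (mulEnd (R := R) N y)
      ((Submodule.mkQ (y • (⊤ : Submodule S N))).restrictScalars R) := by
  intro n
  change (Submodule.mkQ (y • (⊤ : Submodule S N))) n = 0 ↔ _
  rw [Submodule.mkQ_apply, Submodule.Quotient.mk_eq_zero,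
    Submodule.mem_smul_pointwise_iff_exists]
  constructor
  · rintro ⟨n', -, rfl⟩
    exact ⟨n', rfl⟩
  · rintro ⟨n', rfl⟩
    exact ⟨n', Submodule.mem_top, rfl⟩

/-- `(N ⊗ M)/x(N ⊗ M) ≃ N ⊗ (M/xM)` as `S`-modules, for `x : R`. -/
noncomputable def quotSMulTopTensorEquivRight (x : R) :
    QuotSMulTop (algebraMap R S x) (N ⊗[R] M) ≃ₗ[S] N ⊗[R] QuotSMulTop x M := by
  refine quotSMulTopEquivOfSurjective (algebraMap R S x)
    (AlgebraTensorModule.lTensor S N (Submodule.mkQ (x • (⊤ : Submodule R M)))) ?_ ?_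
  · rw [AlgebraTensorModule.coe_lTensor]
    exact LinearMap.lTensor_surjective N (Submodule.mkQ_surjective _)
  · have hex : Function.Exact (x • (LinearMap.id : M →ₗ[R] M))
        (Submodule.mkQ (x • (⊤ : Submodule R M))) := by
      intro m
      rw [Submodule.mkQ_apply, Submodule.Quotient.mk_eq_zero,
        Submodule.mem_smul_pointwise_iff_exists]
      constructor
      · rintro ⟨m', -, rfl⟩
        exact ⟨m', rfl⟩
      · rintro ⟨m', rfl⟩
        exact ⟨m', Submodule.mem_top, rfl⟩
    have hex' := lTensor_exact N hex (Submodule.mkQ_surjective _)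
    ext z
    rw [LinearMap.mem_ker, Submodule.mem_smul_pointwise_iff_exists]
    change ((Submodule.mkQ (x • (⊤ : Submodule R M))).lTensor N) z = 0 ↔ _
    rw [hex' z]
    constructor
    · rintro ⟨w, rfl⟩
      refine ⟨w, Submodule.mem_top, ?_⟩
      rw [algebraMap_smul, LinearMap.lTensor_smul, LinearMap.lTensor_id]
      rfl
    · rintro ⟨w, -, rfl⟩
      refine ⟨w, ?_⟩
      rw [algebraMap_smul, LinearMap.lTensor_smul, LinearMap.lTensor_id]
      rfl

/-- `(N ⊗ M)/y(N ⊗ M) ≃ (N/yN) ⊗ M` as `S`-modules, for `y : S`. -/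
noncomputable def quotSMulTopTensorEquivLeft (y : S) :
    QuotSMulTop y (N ⊗[R] M) ≃ₗ[S] (QuotSMulTop y N) ⊗[R] M := by
  have hπ : Function.Surjective ((Submodule.mkQ (y • (⊤ : Submodule S N))).restrictScalars R) := by
    intro q
    obtain ⟨n, rfl⟩ := Submodule.mkQ_surjective (y • (⊤ : Submodule S N)) q
    exact ⟨n, rfl⟩
  have hsurj : Function.Surjective
      (((Submodule.mkQ (y • (⊤ : Submodule S N))).restrictScalars R).rTensor M) :=
    LinearMap.rTensor_surjective M hπ
  refine quotSMulTopEquivOfSurjective y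
    (AlgebraTensorModule.rTensor R M (Submodule.mkQ (y • (⊤ : Submodule S N)))) hsurj ?_
  · have hex' := rTensor_exact M (exact_mulEnd_mkQ (R := R) N y) hπ
    ext z
    rw [LinearMap.mem_ker, Submodule.mem_smul_pointwise_iff_exists]
    change (((Submodule.mkQ (y • (⊤ : Submodule S N))).restrictScalars R).rTensor M) z = 0 ↔ _
    rw [hex' z]
    constructor
    · rintro ⟨w, rfl⟩
      exact ⟨w, Submodule.mem_top, smul_eq_rTensor N y M w⟩
    · rintro ⟨w, -, rfl⟩
      exact ⟨w, (smul_eq_rTensor N y M w).symm⟩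

/-- The closed fibre: `N/(IS)N ≃ N ⊗ (R/I)` as `S`-modules. -/
noncomputable def quotEquivTensorQuot (I : Ideal R) :
    (N ⧸ (I.map (algebraMap R S) • (⊤ : Submodule S N))) ≃ₗ[S] N ⊗[R] (R ⧸ I) := by
  let π : N →ₗ[S] N ⊗[R] (R ⧸ I) :=
    { toFun := fun n => n ⊗ₜ[R] (1 : R ⧸ I)
      map_add' := fun x y => TensorProduct.add_tmul x y 1
      map_smul' := fun b n => rfl }
  have hπ : Function.Surjective π := by
    intro z
    induction z using TensorProduct.induction_on with
    | zero => exact ⟨0, map_zero π⟩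
    | add x y hx hy =>
      obtain ⟨a, rfl⟩ := hx
      obtain ⟨b, rfl⟩ := hy
      exact ⟨a + b, map_add π a b⟩
    | tmul n r =>
      obtain ⟨a, rfl⟩ := Ideal.Quotient.mk_surjective r
      refine ⟨a • n, ?_⟩
      change (a • n) ⊗ₜ[R] (1 : R ⧸ I) = n ⊗ₜ[R] (Ideal.Quotient.mk I a)
      rw [TensorProduct.smul_tmul]
      congr 1
      rw [Algebra.smul_def, mul_one]
      rfl
  have hker : LinearMap.ker π = I.map (algebraMap R S) • (⊤ : Submodule S N) := by
    apply Submodule.restrictScalars_injective R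
    rw [Ideal.smul_restrictScalars, Submodule.restrictScalars_top]
    ext n
    simp only [Submodule.restrictScalars_mem, LinearMap.mem_ker]
    change n ⊗ₜ[R] (1 : R ⧸ I) = 0 ↔ _
    rw [← (tensorQuotEquivQuotSMul N I).map_eq_zero_iff]
    have : (1 : R ⧸ I) = Ideal.Quotient.mk I 1 := rfl
    rw [this, tensorQuotEquivQuotSMul_tmul_mk, one_smul, Submodule.Quotient.mk_eq_zero]
  exact (Submodule.quotEquivOfEq _ _ hker.symm).trans (π.quotKerEquivOfSurjective hπ)

end Isos

section DepthLemmas

open RingTheory.Sequence Groth.Agent.H15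

variable {A : Type u} [CommRing A] [IsNoetherianRing A]

/-- Depth drops by exactly one modulo a regular element of the ideal. -/
theorem idealDepth_quotSMulTop_add_one (I : Ideal A) (T : Type u) [AddCommGroup T] [Module A T]
    [Module.Finite A T] (a : A) (ha : a ∈ I) (hreg : IsSMulRegular T a) :
    LocCoh.idealDepth I (QuotSMulTop a T) + 1 = LocCoh.idealDepth I T := by
  have key : ∀ n : ℕ, (n : ℕ∞) ≤ LocCoh.idealDepth I (QuotSMulTop a T) →
      ((n + 1 : ℕ) : ℕ∞) ≤ LocCoh.idealDepth I T :=
    fun n hn => DepthFinite.succ_le_idealDepth_of_quotSMulTop I T a ha hreg n hn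
  apply le_antisymm
  · rcases eq_or_ne (LocCoh.idealDepth I (QuotSMulTop a T)) ⊤ with htop | hne
    · rw [htop, top_add, top_le_iff, eq_top_iff, ← ENat.forall_natCast_le_iff_le]
      intro n _
      refine le_trans ?_ (key n (by rw [htop]; exact le_top))
      exact_mod_cast Nat.le_succ n
    · obtain ⟨k, hk⟩ := ENat.ne_top_iff_exists.mp hne
      rw [← hk]
      have := key k (by rw [hk])
      exact_mod_cast this
  · rw [← ENat.forall_natCast_le_iff_le]
    intro n hn
    cases n with
    | zero => simp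
    | succ k =>
      have h1 := le_idealDepth_quotSMulTop I T a ha hreg k hn
      have : ((k + 1 : ℕ) : ℕ∞) = (k : ℕ∞) + 1 := by push_cast; rfl
      rw [this]
      exact add_le_add_left h1 1

omit [IsNoetherianRing A] in
/-- A nonzero element killed by the ideal forces depth zero. -/
theorem idealDepth_eq_zero_of_killed (I : Ideal A) (T : Type u) [AddCommGroup T] [Module A T]
    (hne : I • (⊤ : Submodule A T) ≠ ⊤) (t : T) (ht : t ≠ 0) (hkill : ∀ a ∈ I, a • t = 0) :
    LocCoh.idealDepth I T = 0 := by
  rw [← nonpos_iff_eq_zero]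
  apply idealDepth_le_of_forall I T hne
  intro rs hreg hmem
  match rs, hreg, hmem with
  | [], _, _ => simp
  | r :: rs', hreg, hmem =>
    exfalso
    have hr : IsSMulRegular T r := ((isWeaklyRegular_cons_iff T r rs').mp hreg).1
    apply ht
    apply hr
    simp only [smul_zero]
    exact hkill r (hmem r List.mem_cons_self)

/-- Depth zero gives a nonzero element killed by the ideal. -/
theorem exists_killed_of_idealDepth_eq_zero (I : Ideal A) (T : Type u) [AddCommGroup T]
    [Module A T] [Module.Finite A T] (h : LocCoh.idealDepth I T = 0) :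
    ∃ t : T, t ≠ 0 ∧ ∀ a ∈ I, a • t = 0 := by
  apply exists_ne_zero_smul_eq_zero_of_forall_not_isSMulRegular I T
  intro x hx hreg
  have h1 : IsWeaklyRegular T [x] := by
    rw [isWeaklyRegular_cons_iff]
    exact ⟨hreg, IsWeaklyRegular.nil A _⟩
  have h2 := le_idealDepth I T h1 (by simpa using hx)
  rw [h] at h2
  simp at h2

omit [IsNoetherianRing A] in
theorem smul_top_ne_top_of_idealDepth_ne_top (I : Ideal A) (T : Type u) [AddCommGroup T]
    [Module A T] (h : LocCoh.idealDepth I T ≠ ⊤) : I • (⊤ : Submodule A T) ≠ ⊤ :=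
  fun h' => h (idealDepth_eq_top_of_smul_top_eq I T h')

omit [IsNoetherianRing A] in
theorem smul_top_ne_top_of_nontrivial [IsLocalRing A] (T : Type u) [AddCommGroup T]
    [Module A T] [Module.Finite A T] [Nontrivial T] :
    IsLocalRing.maximalIdeal A • (⊤ : Submodule A T) ≠ ⊤ := by
  intro h
  apply Submodule.top_ne_ideal_smul_of_le_jacobson_annihilator (R := A) (M := T)
    (I := IsLocalRing.maximalIdeal A) _ h.symm
  exact IsLocalRing.maximalIdeal_le_jacobson _

omit [IsNoetherianRing A] in
theorem depth_eq_top_of_subsingleton [IsLocalRing A] (T : Type u) [AddCommGroup T]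
    [Module A T] [Subsingleton T] : LocCoh.depth A T = ⊤ :=
  idealDepth_eq_top_of_smul_top_eq _ T (Subsingleton.elim _ _)

omit [IsNoetherianRing A] in
theorem nontrivial_of_depth_ne_top [IsLocalRing A] (T : Type u) [AddCommGroup T]
    [Module A T] (h : LocCoh.depth A T ≠ ⊤) : Nontrivial T := by
  by_contra hT
  rw [not_nontrivial_iff_subsingleton] at hT
  exact h (depth_eq_top_of_subsingleton T)

end DepthLemmas

section Main

open RingTheory.Sequence Groth.Agent.H15

variable {R S : Type u} [CommRing R] [CommRing S] [Algebra R S]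
  [IsNoetherianRing R] [IsLocalRing R] [IsNoetherianRing S] [IsLocalRing S]
  [IsLocalHom (algebraMap R S)]

local notation "𝔪" => IsLocalRing.maximalIdeal R
local notation "𝔫" => IsLocalRing.maximalIdeal S

/-- Base case of the depth formula: both depths zero. -/
theorem depth_tensor_eq_zero (N : Type u) [AddCommGroup N] [Module S N] [Module R N]
    [IsScalarTower R S N] [Module.Finite S N] [Module.Flat R N]
    (M : Type u) [AddCommGroup M] [Module R M] [Module.Finite R M]
    (hM : LocCoh.depth R M = 0) (hN : LocCoh.depth S (N ⊗[R] (R ⧸ 𝔪)) = 0) :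
    LocCoh.depth S (N ⊗[R] M) = 0 := by
  have hfinF : Module.Finite S (N ⊗[R] (R ⧸ 𝔪)) := finite_tensorProduct N _
  have hfinT : Module.Finite S (N ⊗[R] M) := finite_tensorProduct N M
  obtain ⟨m₀, hm₀, hkill⟩ := exists_killed_of_idealDepth_eq_zero 𝔪 M hM
  obtain ⟨w, hw, hwkill⟩ := exists_killed_of_idealDepth_eq_zero 𝔫 (N ⊗[R] (R ⧸ 𝔪)) hN
  -- the embedding of the residue field into `M`
  have hle : 𝔪 ≤ LinearMap.ker (LinearMap.toSpanSingleton R M m₀) := by
    intro a ha
    rw [LinearMap.mem_ker, LinearMap.toSpanSingleton_apply]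
    exact hkill a ha
  have hker : LinearMap.ker (LinearMap.toSpanSingleton R M m₀) = 𝔪 := by
    refine ((IsLocalRing.maximalIdeal.isMaximal R).eq_of_le ?_ hle).symm
    intro htop
    apply hm₀
    have : (1 : R) ∈ LinearMap.ker (LinearMap.toSpanSingleton R M m₀) := by
      rw [htop]; exact Submodule.mem_top
    rw [LinearMap.mem_ker, LinearMap.toSpanSingleton_apply, one_smul] at this
    exact this
  let j : (R ⧸ 𝔪) →ₗ[R] M := Submodule.liftQ 𝔪 (LinearMap.toSpanSingleton R M m₀) hle
  have hj : Function.Injective j := by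
    rw [← LinearMap.ker_eq_bot]
    apply Submodule.ker_liftQ_eq_bot
    rw [hker]
  let J : N ⊗[R] (R ⧸ 𝔪) →ₗ[S] N ⊗[R] M := AlgebraTensorModule.lTensor S N j
  have hJ : Function.Injective J := by
    change Function.Injective (j.lTensor N)
    exact Module.Flat.lTensor_preserves_injective_linearMap j hj
  have ht : J w ≠ 0 := fun h => hw (hJ (by rw [h, map_zero]))
  have hnt : Nontrivial (N ⊗[R] M) := ⟨⟨J w, 0, ht⟩⟩
  apply idealDepth_eq_zero_of_killed 𝔫 (N ⊗[R] M) (smul_top_ne_top_of_nontrivial _) (J w) ht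
  intro y hy
  rw [← map_smul, hwkill y hy, map_zero]

/-- The depth formula when `M` has depth zero, by induction on the depth of the closed fibre. -/
theorem depth_tensor_of_depth_eq_zero (M : Type u) [AddCommGroup M] [Module R M]
    [Module.Finite R M] (hM : LocCoh.depth R M = 0) :
    ∀ (s : ℕ) (N : Type u) [AddCommGroup N] [Module S N] [Module R N] [IsScalarTower R S N]
      [Module.Finite S N] [Module.Flat R N],
      LocCoh.depth S (N ⊗[R] (R ⧸ 𝔪)) = s → LocCoh.depth S (N ⊗[R] M) = s := by
  intro s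
  induction s with
  | zero =>
    intro N _ _ _ _ _ _ hN
    rw [Nat.cast_zero] at hN ⊢
    exact depth_tensor_eq_zero N M hM hN
  | succ s ih =>
    intro N _ _ _ _ _ _ hN
    have hfinF : Module.Finite S (N ⊗[R] (R ⧸ 𝔪)) := finite_tensorProduct N _
    have hfinT : Module.Finite S (N ⊗[R] M) := finite_tensorProduct N M
    have hneF : 𝔫 • (⊤ : Submodule S (N ⊗[R] (R ⧸ 𝔪))) ≠ ⊤ := by
      apply smul_top_ne_top_of_idealDepth_ne_top
      change LocCoh.depth S (N ⊗[R] (R ⧸ 𝔪)) ≠ ⊤
      rw [hN]
      exact ENat.natCast_ne_top _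
    obtain ⟨y, hy𝔫, hyreg⟩ := DepthFinite.exists_isSMulRegular_of_one_le_idealDepth 𝔫
      (N ⊗[R] (R ⧸ 𝔪)) hneF s (le_of_eq hN.symm)
    have hyT : IsSMulRegular (N ⊗[R] M) y := isSMulRegular_tensor_of_fibre N y hyreg M
    have hflat : Module.Flat R (QuotSMulTop y N) := flat_quotSMulTop_of_fibre N y hyreg
    -- the closed fibre of the quotient
    have h1 : LocCoh.depth S (QuotSMulTop y (N ⊗[R] (R ⧸ 𝔪))) + 1 = ((s + 1 : ℕ) : ℕ∞) := by
      rw [← hN]
      exact idealDepth_quotSMulTop_add_one 𝔫 _ y hy𝔫 hyreg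
    have h2 : LocCoh.depth S (QuotSMulTop y (N ⊗[R] (R ⧸ 𝔪))) = s := by
      have : ((s + 1 : ℕ) : ℕ∞) = (s : ℕ∞) + 1 := by push_cast; rfl
      rw [this] at h1
      exact ENat.add_left_injective_of_ne_top (by simp) h1
    have h3 : LocCoh.depth S ((QuotSMulTop y N) ⊗[R] (R ⧸ 𝔪)) = s := by
      rw [← h2]
      exact (idealDepth_congr (quotSMulTopTensorEquivLeft N (R ⧸ 𝔪) y) 𝔫).symm
    have h4 : LocCoh.depth S ((QuotSMulTop y N) ⊗[R] M) = s := ih (QuotSMulTop y N) h3
    have h5 : LocCoh.depth S (QuotSMulTop y (N ⊗[R] M)) = s := by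
      rw [← h4]
      exact idealDepth_congr (quotSMulTopTensorEquivLeft N M y) 𝔫
    have h6 := idealDepth_quotSMulTop_add_one 𝔫 (N ⊗[R] M) y hy𝔫 hyT
    change LocCoh.depth S (QuotSMulTop y (N ⊗[R] M)) + 1 = LocCoh.depth S (N ⊗[R] M) at h6
    rw [← h6, h5]
    push_cast
    rfl

/-- The depth formula, by induction on the depth of `M`, when both depths are finite. -/
theorem depth_tensor_of_depth_eq (N : Type u) [AddCommGroup N] [Module S N] [Module R N]
    [IsScalarTower R S N] [Module.Finite S N] [Module.Flat R N] (s : ℕ)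
    (hN : LocCoh.depth S (N ⊗[R] (R ⧸ 𝔪)) = s) :
    ∀ (r : ℕ) (M : Type u) [AddCommGroup M] [Module R M] [Module.Finite R M],
      LocCoh.depth R M = r → LocCoh.depth S (N ⊗[R] M) = ((r + s : ℕ) : ℕ∞) := by
  intro r
  induction r with
  | zero =>
    intro M _ _ _ hM
    rw [Nat.cast_zero] at hM
    rw [Nat.zero_add]
    exact depth_tensor_of_depth_eq_zero M hM s N hN
  | succ r ih =>
    intro M _ _ _ hM
    have hfinT : Module.Finite S (N ⊗[R] M) := finite_tensorProduct N M
    have hneM : 𝔪 • (⊤ : Submodule R M) ≠ ⊤ := by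
      apply smul_top_ne_top_of_idealDepth_ne_top
      change LocCoh.depth R M ≠ ⊤
      rw [hM]
      exact ENat.natCast_ne_top _
    obtain ⟨x, hx𝔪, hxreg⟩ := DepthFinite.exists_isSMulRegular_of_one_le_idealDepth 𝔪 M hneM r
      (le_of_eq hM.symm)
    have h1 : LocCoh.depth R (QuotSMulTop x M) + 1 = ((r + 1 : ℕ) : ℕ∞) := by
      rw [← hM]
      exact idealDepth_quotSMulTop_add_one 𝔪 _ x hx𝔪 hxreg
    have h2 : LocCoh.depth R (QuotSMulTop x M) = r := by
      have : ((r + 1 : ℕ) : ℕ∞) = (r : ℕ∞) + 1 := by push_cast; rfl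
      rw [this] at h1
      exact ENat.add_left_injective_of_ne_top (by simp) h1
    have h3 : LocCoh.depth S (N ⊗[R] QuotSMulTop x M) = ((r + s : ℕ) : ℕ∞) :=
      ih (QuotSMulTop x M) h2
    have h4 : LocCoh.depth S (QuotSMulTop (algebraMap R S x) (N ⊗[R] M)) = ((r + s : ℕ) : ℕ∞) := by
      rw [← h3]
      exact idealDepth_congr (quotSMulTopTensorEquivRight N M x) 𝔫
    have hx𝔫 : algebraMap R S x ∈ 𝔫 := by
      have hle : (Ideal.map (algebraMap R S) 𝔪) ≤ 𝔫 :=
        ((IsLocalRing.local_hom_TFAE (algebraMap R S)).out 0 2).mp ‹IsLocalHom (algebraMap R S)›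
      exact hle (Ideal.mem_map_of_mem _ hx𝔪)
    have hxT : IsSMulRegular (N ⊗[R] M) (algebraMap R S x) := by
      have hinj : Function.Injective ((x • (LinearMap.id : M →ₗ[R] M)).lTensor N) := by
        apply Module.Flat.lTensor_preserves_injective_linearMap
        intro a b hab
        exact hxreg hab
      intro a b hab
      apply hinj
      simp only [LinearMap.lTensor_smul, LinearMap.lTensor_id, LinearMap.smul_apply,
        LinearMap.id_coe, id_eq]
      rw [← algebraMap_smul S x a, ← algebraMap_smul S x b]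
      exact hab
    have h6 := idealDepth_quotSMulTop_add_one 𝔫 (N ⊗[R] M) (algebraMap R S x) hx𝔫 hxT
    change LocCoh.depth S (QuotSMulTop (algebraMap R S x) (N ⊗[R] M)) + 1 =
      LocCoh.depth S (N ⊗[R] M) at h6
    rw [← h6, h4]
    push_cast
    ring

/-- **Depth formula for flat local homomorphisms** (EGA IV 6.3.1): for a local homomorphism
`R → S` of Noetherian local rings, a finite `R`-module `M` and a finite `S`-module `N` flat over
`R`, `depth_S (N ⊗_R M) = depth_R M + depth_S (N ⊗_R k)`. -/
theorem depth_tensor_eq_add (N : Type u) [AddCommGroup N] [Module S N] [Module R N]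
    [IsScalarTower R S N] [Module.Finite S N] [Module.Flat R N]
    (M : Type u) [AddCommGroup M] [Module R M] [Module.Finite R M] :
    LocCoh.depth S (N ⊗[R] M) = LocCoh.depth R M + LocCoh.depth S (N ⊗[R] (R ⧸ 𝔪)) := by
  have hfinF : Module.Finite S (N ⊗[R] (R ⧸ 𝔪)) := finite_tensorProduct N _
  rcases eq_or_ne (LocCoh.depth R M) ⊤ with hM | hM
  · -- `M = 0`
    rw [hM, top_add]
    have hsub : Subsingleton M := by
      by_contra hcon
      rw [not_subsingleton_iff_nontrivial] at hcon
      have hne := smul_top_ne_top_of_nontrivial (A := R) M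
      unfold LocCoh.depth LocCoh.idealDepth at hM
      rw [if_neg hne] at hM
      obtain ⟨rs, -, hreg, hmem, hmax⟩ := Groth.Agent.H26.exists_maximal_extension 𝔪 M hne []
        (IsWeaklyRegular.nil R M) (by simp)
      have hd := Groth.Agent.H26.length_eq_idealDepth_of_maximal 𝔪 M hne rs hreg hmem hmax
      unfold LocCoh.idealDepth at hd
      rw [if_neg hne, hM] at hd
      exact ENat.natCast_ne_top _ hd
    have : Subsingleton (N ⊗[R] M) := inferInstance
    exact depth_eq_top_of_subsingleton _
  rcases eq_or_ne (LocCoh.depth S (N ⊗[R] (R ⧸ 𝔪))) ⊤ with hN | hN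
  · -- `N = 0`
    rw [hN, add_top]
    have hsubF : Subsingleton (N ⊗[R] (R ⧸ 𝔪)) := by
      by_contra hcon
      rw [not_subsingleton_iff_nontrivial] at hcon
      have hne := smul_top_ne_top_of_nontrivial (A := S) (N ⊗[R] (R ⧸ 𝔪))
      obtain ⟨rs, -, hreg, hmem, hmax⟩ := Groth.Agent.H26.exists_maximal_extension 𝔫
        (N ⊗[R] (R ⧸ 𝔪)) hne [] (IsWeaklyRegular.nil S _) (by simp)
      have hd := Groth.Agent.H26.length_eq_idealDepth_of_maximal 𝔫 _ hne rs hreg hmem hmax
      change _ = LocCoh.depth S (N ⊗[R] (R ⧸ 𝔪)) at hd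
      rw [hN] at hd
      exact ENat.natCast_ne_top _ hd
    have hsubN : Subsingleton N := by
      have e := quotEquivTensorQuot (S := S) N 𝔪
      have h1 : Subsingleton (N ⧸ ((Ideal.map (algebraMap R S) 𝔪) • (⊤ : Submodule S N))) :=
        e.toEquiv.subsingleton
      rw [Submodule.Quotient.subsingleton_iff] at h1
      by_contra hcon
      rw [not_subsingleton_iff_nontrivial] at hcon
      have hle : (Ideal.map (algebraMap R S) 𝔪) ≤ 𝔫 :=
        ((IsLocalRing.local_hom_TFAE (algebraMap R S)).out 0 2).mp ‹IsLocalHom (algebraMap R S)›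
      apply Submodule.top_ne_ideal_smul_of_le_jacobson_annihilator (R := S) (M := N)
        (I := (Ideal.map (algebraMap R S) 𝔪)) _ h1.symm
      exact hle.trans (IsLocalRing.maximalIdeal_le_jacobson _)
    have : Subsingleton (N ⊗[R] M) := inferInstance
    exact depth_eq_top_of_subsingleton _
  obtain ⟨r, hr⟩ := ENat.ne_top_iff_exists.mp hM
  obtain ⟨s, hs⟩ := ENat.ne_top_iff_exists.mp hN
  rw [depth_tensor_of_depth_eq N s hs.symm r M hr.symm, ← hr, ← hs]
  push_cast
  rfl

/-- The same formula with the closed fibre written as `N/𝔪N`. -/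
theorem depth_tensor_eq_add_quotient (N : Type u) [AddCommGroup N] [Module S N] [Module R N]
    [IsScalarTower R S N] [Module.Finite S N] [Module.Flat R N]
    (M : Type u) [AddCommGroup M] [Module R M] [Module.Finite R M] :
    LocCoh.depth S (N ⊗[R] M) = LocCoh.depth R M +
      LocCoh.depth S (N ⧸ (Ideal.map (algebraMap R S) 𝔪) • (⊤ : Submodule S N)) := by
  rw [depth_tensor_eq_add N M]
  congr 1
  exact (idealDepth_congr (quotEquivTensorQuot (S := S) N 𝔪) 𝔫).symm

end Main

end Groth.Agent.H72.DepthFlat
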