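import Mathlib
import Groth.Prelude.Def_CAlg
import Groth.Agent.H72.DepthFlat
import Groth.Agent.H72.DepthCM

set_option autoImplicit false
set_option linter.unusedSectionVars false
universe u

open TensorProduct Pointwise

namespace Groth.Agent.H72.FlatCM

open Groth.Agent.H72.DepthFlat Groth.Agent.H15

section quot

variable {B : Type u} [CommRing B] [IsLocalRing B]

/-- The maximal ideal of a nontrivial quotient of a local ring. -/
theorem map_mk_maximalIdeal (I : Ideal B) (hI : I ≠ ⊤)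
    [IsLocalRing (B ⧸ I)] :
    (IsLocalRing.maximalIdeal B).map (Ideal.Quotient.mk I) = IsLocalRing.maximalIdeal (B ⧸ I) := by
  have := IsLocalHom.of_surjective (Ideal.Quotient.mk I) Ideal.Quotient.mk_surjective
  ext x
  obtain ⟨x, rfl⟩ := Ideal.Quotient.mk_surjective x
  simp [sup_eq_left.mpr (IsLocalRing.le_maximalIdeal hI)]

/-- The depth of `B/I` as a `B`-module is its depth as a ring. -/
theorem depth_quotient_eq [IsNoetherianRing B] (I : Ideal B) (hI : I ≠ ⊤) [IsLocalRing (B ⧸ I)] :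
    LocCoh.depth B (B ⧸ I) = LocCoh.depth (B ⧸ I) (B ⧸ I) := by
  unfold LocCoh.depth
  rw [DepthFinite.idealDepth_eq_idealDepth_map (A := B) (B := B ⧸ I) (IsLocalRing.maximalIdeal B)
    (B ⧸ I)]
  congr 1
  exact map_mk_maximalIdeal I hI

end quot

variable {A B : Type u} [CommRing A] [CommRing B] [Algebra A B]
  [IsNoetherianRing A] [IsLocalRing A] [IsNoetherianRing B] [IsLocalRing B]
  [IsLocalHom (algebraMap A B)]

local notation "𝔪B" => Ideal.map (algebraMap A B) (IsLocalRing.maximalIdeal A)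

theorem mB_le : 𝔪B ≤ IsLocalRing.maximalIdeal B :=
  ((IsLocalRing.local_hom_TFAE (algebraMap A B)).out 0 2).mp ‹IsLocalHom (algebraMap A B)›

theorem mB_ne_top : 𝔪B ≠ ⊤ := fun h =>
  (IsLocalRing.maximalIdeal.isMaximal B).ne_top (top_le_iff.mp (h ▸ mB_le (A := A) (B := B)))

instance : Nontrivial (B ⧸ 𝔪B) := Ideal.Quotient.nontrivial_iff.mpr (mB_ne_top (A := A) (B := B))

instance : IsLocalRing (B ⧸ 𝔪B) :=
  IsLocalRing.of_surjective' (Ideal.Quotient.mk _) Ideal.Quotient.mk_surjective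

/-- Depth formula for a flat local homomorphism of Noetherian local rings. -/
theorem depth_eq_add_of_flat [Module.Flat A B] :
    LocCoh.depth B B = LocCoh.depth A A + LocCoh.depth (B ⧸ 𝔪B) (B ⧸ 𝔪B) := by
  have key := depth_tensor_eq_add_quotient (R := A) (S := B) B A
  have e1 : B ⊗[A] A ≃ₗ[B] B := TensorProduct.AlgebraTensorModule.rid A B B
  have h1 : LocCoh.depth B (B ⊗[A] A) = LocCoh.depth B B := idealDepth_congr e1 _
  have h2 : (𝔪B • (⊤ : Submodule B B)) = 𝔪B := by
    rw [smul_eq_mul, Ideal.mul_top]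
  have e2 : (B ⧸ (𝔪B • (⊤ : Submodule B B))) ≃ₗ[B] (B ⧸ 𝔪B) := Submodule.quotEquivOfEq _ _ h2
  have h3 : LocCoh.depth B (B ⧸ (𝔪B • (⊤ : Submodule B B))) = LocCoh.depth B (B ⧸ 𝔪B) :=
    idealDepth_congr e2 _
  rw [h1, h3, depth_quotient_eq _ (mB_ne_top (A := A) (B := B))] at key
  exact key

/-- Dimension formula for a flat local homomorphism of Noetherian local rings. -/
theorem ringKrullDim_eq_add_of_flat [Module.Flat A B] :
    ringKrullDim B = ringKrullDim A + ringKrullDim (B ⧸ 𝔪B) := by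
  have hlies : (IsLocalRing.maximalIdeal B).LiesOver (IsLocalRing.maximalIdeal A) := by
    constructor
    have h4 : (IsLocalRing.maximalIdeal B).comap (algebraMap A B) = IsLocalRing.maximalIdeal A :=
      ((IsLocalRing.local_hom_TFAE (algebraMap A B)).out 0 4).mp ‹IsLocalHom (algebraMap A B)›
    exact h4.symm
  have h := Ideal.height_eq_height_add_of_liesOver_of_hasGoingDown (R := A) (S := B)
    (IsLocalRing.maximalIdeal A) (IsLocalRing.maximalIdeal B)
  rw [map_mk_maximalIdeal _ (mB_ne_top (A := A) (B := B))] at h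
  rw [← IsLocalRing.maximalIdeal_height_eq_ringKrullDim,
    ← IsLocalRing.maximalIdeal_height_eq_ringKrullDim,
    ← IsLocalRing.maximalIdeal_height_eq_ringKrullDim, h]
  push_cast
  rfl

/-- The Krull dimension of a Noetherian local ring is a natural number. -/
theorem exists_ringKrullDim_eq_natCast (X : Type u) [CommRing X] [IsNoetherianRing X]
    [IsLocalRing X] : ∃ d : ℕ, ringKrullDim X = (d : WithBot ℕ∞) := by
  obtain ⟨d, hd⟩ := ENat.ne_top_iff_exists.mp
    (Ideal.height_ne_top_of_isPrime (I := IsLocalRing.maximalIdeal X))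
  refine ⟨d, ?_⟩
  rw [← IsLocalRing.maximalIdeal_height_eq_ringKrullDim, ← hd]
  rfl

/-- Depth is at most dimension for a Noetherian local ring. -/
theorem depth_le_ringKrullDim (X : Type u) [CommRing X] [IsNoetherianRing X] [IsLocalRing X] :
    ((LocCoh.depth X X : ℕ∞) : WithBot ℕ∞) ≤ ringKrullDim X := by
  rw [← Module.supportDim_self_eq_ringKrullDim]
  exact DepthCM.depth_le_supportDim X

theorem isCohenMacaulayLocalRing_iff (X : Type u) [CommRing X] [IsNoetherianRing X]
    [IsLocalRing X] :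
    LocCoh.IsCohenMacaulayLocalRing X ↔
      ringKrullDim X = ((LocCoh.depth X X : ℕ∞) : WithBot ℕ∞) := by
  rw [← Module.supportDim_self_eq_ringKrullDim]
  constructor
  · intro h
    exact h.supportDim_eq_depth
  · intro h
    exact { supportDim_eq_depth := h }

/-- A zero-dimensional Noetherian local ring is Cohen–Macaulay. -/
theorem isCohenMacaulayLocalRing_of_ringKrullDim_eq_zero (X : Type u) [CommRing X]
    [IsNoetherianRing X] [IsLocalRing X] (h0 : ringKrullDim X = 0) :
    LocCoh.IsCohenMacaulayLocalRing X := by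
  rw [isCohenMacaulayLocalRing_iff, h0]
  have h2 := depth_le_ringKrullDim X
  rw [h0] at h2
  have h3 : LocCoh.depth X X ≤ 0 := by exact_mod_cast h2
  rw [nonpos_iff_eq_zero.mp h3]
  rfl

/-- Cohen–Macaulayness along a flat local homomorphism. -/
theorem isCohenMacaulayLocalRing_iff_of_flat [Module.Flat A B] :
    LocCoh.IsCohenMacaulayLocalRing B ↔
      (LocCoh.IsCohenMacaulayLocalRing A ∧ LocCoh.IsCohenMacaulayLocalRing (B ⧸ 𝔪B)) := by
  rw [isCohenMacaulayLocalRing_iff, isCohenMacaulayLocalRing_iff, isCohenMacaulayLocalRing_iff,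
    ringKrullDim_eq_add_of_flat (A := A) (B := B), depth_eq_add_of_flat (A := A) (B := B)]
  obtain ⟨a, ha⟩ := exists_ringKrullDim_eq_natCast A
  obtain ⟨f, hf⟩ := exists_ringKrullDim_eq_natCast (B ⧸ 𝔪B)
  have h1 := depth_le_ringKrullDim A
  have h2 := depth_le_ringKrullDim (B ⧸ 𝔪B)
  rw [ha] at h1 ⊢
  rw [hf] at h2 ⊢
  have h1' : LocCoh.depth A A ≤ (a : ℕ∞) := by exact_mod_cast h1
  have h2' : LocCoh.depth (B ⧸ 𝔪B) (B ⧸ 𝔪B) ≤ (f : ℕ∞) := by exact_mod_cast h2
  obtain ⟨ea, hea⟩ := ENat.ne_top_iff_exists.mp (ne_top_of_le_ne_top (ENat.natCast_ne_top a) h1')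
  obtain ⟨ef, hef⟩ := ENat.ne_top_iff_exists.mp (ne_top_of_le_ne_top (ENat.natCast_ne_top f) h2')
  rw [← hea] at h1'
  rw [← hef] at h2'
  rw [← hea, ← hef]
  have h1'' : ea ≤ a := by exact_mod_cast h1'
  have h2'' : ef ≤ f := by exact_mod_cast h2'
  constructor
  · intro h
    have h' : a + f = ea + ef := by exact_mod_cast h
    have e1 : a = ea := by omega
    have e2 : f = ef := by omega
    rw [e1, e2]
    exact ⟨rfl, rfl⟩
  · rintro ⟨h3, h4⟩
    have e1 : a = ea := by exact_mod_cast h3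
    have e2 : f = ef := by exact_mod_cast h4
    rw [e1, e2]
    rfl

end Groth.Agent.H72.FlatCM
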