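import Mathlib
import Groth.Prelude.Def_CAlg
import Groth.Agent.H72.FlatCM
import Groth.Agent.H70.FC.FromSk
import Groth.Agent.S5761
import Groth.Agent.S5762
import Groth.Agent.S14424

set_option autoImplicit false
set_option linter.unusedSectionVars false
universe u

open IsLocalRing

namespace Groth.Agent.H72.CMLocal

variable (F : Type u) [CommRing F] [IsNoetherianRing F] [IsLocalRing F]

theorem support_self_eq_univ : Module.support F F = Set.univ := by
  rw [Module.support_eq_zeroLocus, Module.annihilator_eq_bot.mpr inferInstance]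
  simp

/-- A Cohen–Macaulay local ring is a Cohen–Macaulay ring (all localizations are CM). -/
theorem isCohenMacaulayRing_of_local (hF : LocCoh.IsCohenMacaulayLocalRing F) :
    LocCoh.IsCohenMacaulayRing F := by
  refine { isCohenMacaulayLocalRing_localization := ?_ }
  intro p hp
  have hM : LocCoh.IsCohenMacaulayModule F F := hF.supportDim_eq_depth
  have h1 := Groth.Agent.S5761.result F F hM ⟨p, hp⟩ (by rw [support_self_eq_univ]; trivial)
  unfold LocCoh.IsCohenMacaulayModule at h1
  rw [Groth.Agent.H70.FC.supportDim_localization p, DepthCM.depth_localizedModule_self] at h1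
  rw [FlatCM.isCohenMacaulayLocalRing_iff, IsLocalization.AtPrime.ringKrullDim_eq_height p]
  exact h1

/-- In a Cohen–Macaulay local ring, depth with respect to a proper ideal is its height. -/
theorem idealDepth_eq_height (hF : LocCoh.IsCohenMacaulayLocalRing F) (J : Ideal F) (hJ : J ≠ ⊤) :
    LocCoh.idealDepth J F = J.height :=
  (Groth.Agent.S14424.result F).mp (isCohenMacaulayRing_of_local F hF) J hJ

/-- In a Cohen–Macaulay local ring, `dim F = dim F/p + ht p` for every prime `p`. -/
theorem ringKrullDim_eq_quotient_add_height (hF : LocCoh.IsCohenMacaulayLocalRing F)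
    (p : Ideal F) [hp : p.IsPrime] :
    ringKrullDim F = ringKrullDim (F ⧸ p) + ((p.height : ℕ∞) : WithBot ℕ∞) := by
  have hM : LocCoh.IsCohenMacaulayModule F F := hF.supportDim_eq_depth
  have h1 := Groth.Agent.S5762.result F F hM ⟨p, hp⟩ (by rw [support_self_eq_univ]; trivial)
  have h2 : ((⟨p, hp⟩ : PrimeSpectrum F).asIdeal • (⊤ : Submodule F F)) = p := by
    rw [smul_eq_mul, Ideal.mul_top]
  rw [h2, Groth.Agent.H70.FC.supportDim_localization p, Module.supportDim_self_eq_ringKrullDim,
    Module.supportDim_quotient_eq_ringKrullDim] at h1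
  exact h1

/-- In a Cohen–Macaulay local ring, `dim F ≤ dim F/J + ht J` for every proper ideal `J`. -/
theorem ringKrullDim_le_quotient_add_height (hF : LocCoh.IsCohenMacaulayLocalRing F)
    (J : Ideal F) (hJ : J ≠ ⊤) :
    ringKrullDim F ≤ ringKrullDim (F ⧸ J) + ((J.height : ℕ∞) : WithBot ℕ∞) := by
  have hne : Nonempty J.minimalPrimes := Ideal.nonempty_minimalPrimes hJ
  obtain ⟨⟨p, hp⟩, hpeq⟩ := ENat.exists_eq_iInf (fun q : J.minimalPrimes => q.1.height)
  have hheight : J.height = p.height := by
    rw [Ideal.height_eq_inf_minimalPrimes, iInf_subtype']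
    exact hpeq.symm
  have hprime : p.IsPrime := hp.1.1
  rw [ringKrullDim_eq_quotient_add_height F hF p, hheight]
  gcongr
  exact ringKrullDim_le_of_surjective (Ideal.Quotient.factor hp.1.2)
    (Ideal.Quotient.factor_surjective hp.1.2)

end Groth.Agent.H72.CMLocal
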