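import Mathlib
import Groth.Prelude.Def_CAlg
import Groth.Prelude.Def_Found
import Groth.Agent.H72.CMLocal
import Groth.Agent.H24.Catenary
import Groth.Agent.H24.SupportLoc
import Groth.Agent.S2092
import Groth.Agent.S9125

set_option autoImplicit false
set_option linter.unusedSectionVars false
universe u

open IsLocalRing

namespace Groth.Agent.H72.CMCatenary

section Order

variable {α : Type*} [PartialOrder α]

theorem fun_last_eq (h : α → ℕ∞) (hcov : ∀ x y : α, x ⋖ y → h y = h x + 1) (s : LTSeries α)
    (hs : ∀ i : Fin s.length, s (Fin.castSucc i) ⋖ s (Fin.succ i)) :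
    h s.last = h s.head + s.length := by
  have key : ∀ i : Fin (s.length + 1), h (s i) = h (s 0) + (i : ℕ) := by
    intro i
    induction i using Fin.induction with
    | zero => simp
    | succ i ih =>
      rw [hcov _ _ (hs i), ih]
      simp only [Fin.val_castSucc, Fin.val_succ, Nat.cast_add, Nat.cast_one]
      rw [add_assoc]
  have := key (Fin.last _)
  simpa [RelSeries.last, RelSeries.head] using this

end Order

/-- The dimension formula `dim T = dim T/p + ht p` for all primes. -/
def DimFormula (T : Type u) [CommRing T] : Prop :=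
  ∀ (p : Ideal T) [p.IsPrime],
    ringKrullDim T = ringKrullDim (T ⧸ p) + ((p.height : ℕ∞) : WithBot ℕ∞)

section Ring

variable {R : Type u} [CommRing R] [IsNoetherianRing R]

theorem height_eq_of_covBy (x y : PrimeSpectrum R) (hxy : x ⋖ y)
    (hD : DimFormula (Localization.AtPrime y.asIdeal)) :
    y.asIdeal.height = x.asIdeal.height + 1 := by
  set T := Localization.AtPrime y.asIdeal with hT
  have hdisj : Disjoint (y.asIdeal.primeCompl : Set R) (x.asIdeal : Set R) := by
    rw [Set.disjoint_left]
    intro a ha hax
    exact ha (hxy.lt.le hax)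
  have hx'prime : (x.asIdeal.map (algebraMap R T)).IsPrime :=
    IsLocalization.isPrime_of_isPrime_disjoint y.asIdeal.primeCompl T x.asIdeal x.2 hdisj
  have hunder : (x.asIdeal.map (algebraMap R T)).under R = x.asIdeal :=
    IsLocalization.under_map_of_isPrime_disjoint y.asIdeal.primeCompl T x.2 hdisj
  have hht : (x.asIdeal.map (algebraMap R T)).height = x.asIdeal.height := by
    rw [← IsLocalization.height_under y.asIdeal.primeCompl (x.asIdeal.map (algebraMap R T)), hunder]
  have hdimT : ringKrullDim T = ((y.asIdeal.height : ℕ∞) : WithBot ℕ∞) :=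
    IsLocalization.AtPrime.ringKrullDim_eq_height y.asIdeal T
  let x' : PrimeSpectrum T := ⟨x.asIdeal.map (algebraMap R T), hx'prime⟩
  have hcomap_x' : PrimeSpectrum.comap (algebraMap R T) x' = x := by
    ext1
    exact hunder
  have hinj := PrimeSpectrum.localization_comap_injective T y.asIdeal.primeCompl
  have hmono : StrictMono (PrimeSpectrum.comap (algebraMap R T)) := by
    intro a b hab
    refine lt_of_le_of_ne (Ideal.comap_mono hab.le) ?_
    intro h
    exact hab.ne (hinj h)
  have hle_y : ∀ q : PrimeSpectrum T, PrimeSpectrum.comap (algebraMap R T) q ≤ y := by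
    intro q
    have h1 : q.asIdeal ≤ maximalIdeal T := le_maximalIdeal q.2.ne_top
    have h2 := Ideal.comap_mono (f := algebraMap R T) h1
    have h3 : (maximalIdeal T).comap (algebraMap R T) = y.asIdeal :=
      IsLocalization.AtPrime.under_maximalIdeal T y.asIdeal
    rw [h3] at h2
    exact h2
  -- coheight of x' is one
  have hco : Order.coheight x' = 1 := by
    apply le_antisymm
    · rw [Order.coheight_le_iff']
      intro p hp
      by_contra hlen
      push Not at hlen
      have hlen' : 2 ≤ p.length := by
        have : (1 : ℕ∞) < (p.length : ℕ∞) := hlen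
        have : 1 < p.length := by exact_mod_cast this
        omega
      have h01 : p ⟨0, by omega⟩ < p ⟨1, by omega⟩ := p.strictMono (by simp [Fin.lt_def])
      have h12 : p ⟨1, by omega⟩ < p ⟨2, by omega⟩ := p.strictMono (by simp [Fin.lt_def])
      have h0 : p ⟨0, by omega⟩ = x' := hp
      have c01 := hmono h01
      have c12 := hmono h12
      rw [h0, hcomap_x'] at c01
      have c2 := hle_y (p ⟨2, by omega⟩)
      exact hxy.2 c01 (lt_of_lt_of_le c12 c2)
    · have hlt : x' < IsLocalRing.closedPoint T := by
        refine lt_of_le_of_ne (le_maximalIdeal x'.2.ne_top) ?_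
        intro h
        have h1 := congrArg (PrimeSpectrum.comap (algebraMap R T)) h
        rw [hcomap_x'] at h1
        have h2 : PrimeSpectrum.comap (algebraMap R T) (IsLocalRing.closedPoint T) = y := by
          ext1
          exact IsLocalization.AtPrime.under_maximalIdeal T y.asIdeal
        rw [h2] at h1
        exact hxy.lt.ne h1
      have := Order.coheight_add_one_le hlt
      exact le_trans (by simp) this
  have hq := Groth.Agent.H24.coheight_eq_ringKrullDim_quotient x'
  have hD' := hD (x.asIdeal.map (algebraMap R T))
  rw [hdimT, ← hq, hco, hht] at hD'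
  have : y.asIdeal.height = 1 + x.asIdeal.height := by exact_mod_cast hD'
  rw [this, add_comm]

theorem height_last_eq_of_saturated
    (hcov : ∀ x y : PrimeSpectrum R, x ⋖ y → y.asIdeal.height = x.asIdeal.height + 1)
    (s : LTSeries (PrimeSpectrum R))
    (hs : ∀ i : Fin s.length, s (Fin.castSucc i) ⋖ s (Fin.succ i)) :
    s.last.asIdeal.height = s.head.asIdeal.height + s.length :=
  fun_last_eq (fun x : PrimeSpectrum R => x.asIdeal.height) hcov s hs

theorem isCatenary_of_forall_covBy
    (hcov : ∀ x y : PrimeSpectrum R, x ⋖ y → y.asIdeal.height = x.asIdeal.height + 1) :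
    CAlg.IsCatenary R := by
  constructor
  · intro p q _
    refine ⟨q.asIdeal.height.toNat, ?_⟩
    intro s _ hl
    have h1 : (s.length : ℕ∞) ≤ Order.height s.last := Order.length_le_height_last
    rw [hl, ← PrimeSpectrum.height_eq_orderHeight] at h1
    have hfin : q.asIdeal.height ≠ ⊤ := Ideal.height_ne_top q.2.ne_top
    rw [← ENat.natCast_toNat hfin] at h1
    exact_mod_cast h1
  · intro s t hh hl hs ht
    have h1 := height_last_eq_of_saturated hcov s hs
    have h2 := height_last_eq_of_saturated hcov t ht
    rw [hl, hh, h2] at h1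
    have hfin : t.head.asIdeal.height ≠ ⊤ := Ideal.height_ne_top t.head.2.ne_top
    have h3 := ENat.add_right_injective_of_ne_top hfin h1
    exact_mod_cast h3.symm

end Ring

section CM

variable (T : Type u) [CommRing T] [IsNoetherianRing T] [IsLocalRing T]

theorem dimFormula_of_isCohenMacaulayLocalRing (hT : LocCoh.IsCohenMacaulayLocalRing T) :
    DimFormula T := by
  intro p hp
  exact Groth.Agent.H72.CMLocal.ringKrullDim_eq_quotient_add_height T hT p

theorem supportDim_eq_ringKrullDim_of_support_eq_univ (N : Type u) [AddCommGroup N] [Module T N]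
    (hsupp : Module.support T N = Set.univ) : Module.supportDim T N = ringKrullDim T := by
  unfold Module.supportDim
  rw [hsupp]
  exact Order.krullDim_eq_of_orderIso OrderIso.Set.univ

theorem dimFormula_of_isCohenMacaulayModule (N : Type u) [AddCommGroup N] [Module T N]
    [Module.Finite T N] (hN : LocCoh.IsCohenMacaulayModule T N)
    (hsupp : Module.support T N = Set.univ) : DimFormula T := by
  intro p hp
  have h := Groth.Agent.S5762.result T N hN ⟨p, hp⟩ (by rw [hsupp]; trivial)
  rw [supportDim_eq_ringKrullDim_of_support_eq_univ T N hsupp] at h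
  have h1 : Module.supportDim T (N ⧸ (p • (⊤ : Submodule T N))) = ringKrullDim (T ⧸ p) := by
    unfold Module.supportDim
    rw [Module.support_quotient, hsupp, Set.univ_inter, ringKrullDim_quotient]
  have h2 : Module.supportDim (Localization.AtPrime p) (LocalizedModule p.primeCompl N) =
      ((p.height : ℕ∞) : WithBot ℕ∞) := by
    have hs : Module.support (Localization.AtPrime p) (LocalizedModule p.primeCompl N) =
        Set.univ := by
      rw [Set.eq_univ_iff_forall]
      intro P
      rw [Groth.Agent.H24.mem_support_localizedModule_iff, hsupp]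
      trivial
    rw [supportDim_eq_ringKrullDim_of_support_eq_univ _ _ hs]
    exact IsLocalization.AtPrime.ringKrullDim_eq_height p (Localization.AtPrime p)
  rw [h1, h2] at h
  exact h

end CM

section Assembly

variable {R : Type u} [CommRing R] [IsNoetherianRing R]

theorem forall_covBy_of_dimFormula
    (hD : ∀ y : PrimeSpectrum R, DimFormula (Localization.AtPrime y.asIdeal)) :
    ∀ x y : PrimeSpectrum R, x ⋖ y → y.asIdeal.height = x.asIdeal.height + 1 :=
  fun x y hxy => height_eq_of_covBy x y hxy (hD y)

theorem isCatenary_of_isCohenMacaulayRing (hR : LocCoh.IsCohenMacaulayRing R) :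
    CAlg.IsCatenary R := by
  apply isCatenary_of_forall_covBy
  apply forall_covBy_of_dimFormula
  intro y
  exact dimFormula_of_isCohenMacaulayLocalRing _
    (hR.isCohenMacaulayLocalRing_localization y.asIdeal)

theorem isCatenary_of_ringEquiv {A B : Type u} [CommRing A] [CommRing B] (e : B ≃+* A)
    (hA : CAlg.IsCatenary A) : CAlg.IsCatenary B := by
  refine Groth.Agent.H46.isCatenary_of_convex_embedding
    (PrimeSpectrum.comap (e.symm : A →+* B)) ?_ ?_ hA
  · intro p q
    constructor
    · intro h
      have h' := Ideal.comap_mono (f := (e : B →+* A)) h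
      simp only [PrimeSpectrum.comap_asIdeal, Ideal.comap_comap] at h'
      have he : ((e.symm : A →+* B).comp (e : B →+* A)) = RingHom.id B := by
        ext b; simp
      rw [he, Ideal.comap_id, Ideal.comap_id] at h'
      exact h'
    · intro h
      exact Ideal.comap_mono h
  · intro p q y _ _
    refine ⟨PrimeSpectrum.comap (e : B →+* A) y, ?_⟩
    ext1
    simp only [PrimeSpectrum.comap_asIdeal, Ideal.comap_comap]
    have he : ((e : B →+* A).comp (e.symm : A →+* B)) = RingHom.id A := by
      ext a; simp
    rw [he, Ideal.comap_id]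

theorem isUniversallyCatenary_of_isCohenMacaulayRing (R : Type u) [CommRing R]
    [hR : LocCoh.IsCohenMacaulayRing R] : CAlg.IsUniversallyCatenary R := by
  refine ⟨inferInstance, ?_⟩
  intro S _ _ hft
  obtain ⟨n, f, hf⟩ := Algebra.FiniteType.iff_quotient_mvPolynomial''.mp hft
  have hP : LocCoh.IsCohenMacaulayRing (MvPolynomial (Fin n) R) := Groth.Agent.S2092.result n
  have hcat := isCatenary_of_isCohenMacaulayRing hP
  have hq := Groth.Agent.S9125.result _ (RingHom.ker (f : MvPolynomial (Fin n) R →+* S)) hcat
  exact isCatenary_of_ringEquiv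
    (RingHom.quotientKerEquivOfSurjective (f := (f : MvPolynomial (Fin n) R →+* S)) hf).symm hq

theorem length_eq_ringKrullDim_of_isCohenMacaulayModule [IsLocalRing R]
    (M : Type u) [AddCommGroup M] [Module R M] [Module.Finite R M]
    (hM : LocCoh.IsCohenMacaulayModule R M) (hsupp : Module.support R M = Set.univ)
    (s : LTSeries (PrimeSpectrum R))
    (hhead : s.head.asIdeal ∈ minimalPrimes R) (hlast : s.last.asIdeal = maximalIdeal R)
    (hsat : ∀ i : Fin s.length, s (Fin.castSucc i) ⋖ s (Fin.succ i)) :
    (s.length : WithBot ℕ∞) = ringKrullDim R := by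
  have hD : ∀ y : PrimeSpectrum R, DimFormula (Localization.AtPrime y.asIdeal) := by
    intro y
    have hy : y ∈ Module.support R M := by rw [hsupp]; trivial
    have hCM := Groth.Agent.S5761.result R M hM y hy
    apply dimFormula_of_isCohenMacaulayModule _ (LocalizedModule y.asIdeal.primeCompl M) hCM
    rw [Set.eq_univ_iff_forall]
    intro P
    rw [Groth.Agent.H24.mem_support_localizedModule_iff, hsupp]
    trivial
  have h1 := height_last_eq_of_saturated (forall_covBy_of_dimFormula hD) s hsat
  have h2 : s.head.asIdeal.height = 0 := Ideal.height_eq_zero_iff.mpr hhead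
  rw [h2, zero_add, hlast] at h1
  rw [← IsLocalRing.maximalIdeal_height_eq_ringKrullDim, h1]
  rfl

end Assembly

end Groth.Agent.H72.CMCatenary
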