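import Mathlib

/-!
Helper lemmas: etale-ness of `A[X]/(f)` in terms of the derivative of `f`.
-/

namespace Groth.Agent.H72

open Polynomial

universe u

/-- In a formally unramified `A[X]/(f)`, the derivative of `f` at the root is a unit. -/
theorem isUnit_aeval_root_derivative_of_formallyUnramified {A : Type u} [CommRing A] (f : A[X])
    [Algebra.FormallyUnramified A (AdjoinRoot f)] :
    IsUnit (aeval (AdjoinRoot.root f) (derivative f)) := by
  set B := AdjoinRoot f with hB
  set r : B := AdjoinRoot.root f with hr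
  set δ : B := aeval r (derivative f) with hδ
  let M := B ⧸ Ideal.span {δ}
  let E := TrivSqZeroExt B M
  let one' : M := Ideal.Quotient.mk _ 1
  let x₀ : E := TrivSqZeroExt.inl r + TrivSqZeroExt.inr one'
  have hsq : (TrivSqZeroExt.inr one' : E) ^ 2 = 0 := by
    rw [pow_two, TrivSqZeroExt.inr_mul_inr]
  have hx₀ : aeval x₀ f = 0 := by
    have h1 := Polynomial.aeval_add_of_sq_eq_zero f (TrivSqZeroExt.inl r : E)
      (TrivSqZeroExt.inr one') hsq
    have h2 : ∀ p : A[X], aeval (TrivSqZeroExt.inl r : E) p = TrivSqZeroExt.inl (aeval r p) := by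
      intro p
      exact Polynomial.aeval_algHom_apply (TrivSqZeroExt.inlAlgHom A B M) r p
    rw [h1, h2, h2, ← hδ]
    have h3 : aeval r f = 0 := by
      rw [hr, AdjoinRoot.aeval_eq, AdjoinRoot.mk_self]
    rw [h3, TrivSqZeroExt.inl_zero, zero_add, TrivSqZeroExt.inl_mul_inr]
    have : δ • one' = 0 := by
      change Ideal.Quotient.mk (Ideal.span {δ}) (δ * 1) = 0
      rw [Ideal.Quotient.eq_zero_iff_mem, mul_one]
      exact Ideal.mem_span_singleton_self δ
    rw [this, TrivSqZeroExt.inr_zero]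
  -- the two algebra maps
  let φ₁ : B →ₐ[A] E := TrivSqZeroExt.inlAlgHom A B M
  let φ₂ : B →ₐ[A] E := AdjoinRoot.liftAlgHom f (Algebra.ofId A E) x₀ (by
    rw [← hx₀]; rfl)
  have hφ₂ : φ₂ r = x₀ := AdjoinRoot.liftAlgHom_root _ _ _ _
  have key : φ₁ = φ₂ := by
    refine Algebra.FormallyUnramified.ext' (TrivSqZeroExt.fstHom A B M).toRingHom ?_ φ₁ φ₂ ?_
    · refine ⟨2, ?_⟩
      rw [Ideal.zero_eq_bot, eq_bot_iff, pow_two, Ideal.mul_le]
      intro x hx y hy
      rw [RingHom.mem_ker] at hx hy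
      have hx' : x.fst = 0 := hx
      have hy' : y.fst = 0 := hy
      rw [Ideal.mem_bot]
      ext
      · simp [hx', hy']
      · simp [hx', hy']
    · have : ((TrivSqZeroExt.fstHom A B M).comp φ₁) = ((TrivSqZeroExt.fstHom A B M).comp φ₂) := by
        apply AdjoinRoot.algHom_ext
        change (TrivSqZeroExt.fstHom A B M) (φ₁ r) = (TrivSqZeroExt.fstHom A B M) (φ₂ r)
        rw [hφ₂]
        change TrivSqZeroExt.fst (TrivSqZeroExt.inl r : E) =
          TrivSqZeroExt.fst (TrivSqZeroExt.inl r + TrivSqZeroExt.inr one' : E)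
        rw [TrivSqZeroExt.fst_add, TrivSqZeroExt.fst_inl, TrivSqZeroExt.fst_inr, add_zero]
      intro x
      exact AlgHom.congr_fun this x
  have h5 : φ₁ r = φ₂ r := by rw [key]
  rw [hφ₂] at h5
  have h6 : (TrivSqZeroExt.inr one' : E) = 0 := by
    have : (TrivSqZeroExt.inl r : E) = TrivSqZeroExt.inl r + TrivSqZeroExt.inr one' := h5
    exact (left_eq_add.mp this)
  have h7 : one' = 0 := by
    have := congrArg TrivSqZeroExt.snd h6
    simpa using this
  have h8 : (1 : B) ∈ Ideal.span {δ} := Ideal.Quotient.eq_zero_iff_mem.mp h7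
  rw [Ideal.mem_span_singleton] at h8
  exact isUnit_of_dvd_one h8

/-- Units are reflected along `A → A[X]/(f)` for `f` monic of positive degree. -/
theorem isUnit_of_isUnit_algebraMap_adjoinRoot {A : Type u} [CommRing A] (f : A[X])
    (hf : f.Monic) (hdeg : f.natDegree ≠ 0) (x : A)
    (hx : IsUnit (algebraMap A (AdjoinRoot f) x)) : IsUnit x := by
  have h1 : IsUnit (Algebra.norm A (algebraMap A (AdjoinRoot f) x)) := hx.map (Algebra.norm A)
  rw [Algebra.norm_algebraMap_of_basis (AdjoinRoot.powerBasis' hf).basis, Fintype.card_fin,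
    AdjoinRoot.powerBasis'_dim] at h1
  exact (isUnit_pow_iff hdeg).mp h1

/-- `A[X]/(f)` is etale when `f` is monic and generates the unit ideal together with `f'`. -/
theorem etale_adjoinRoot_of_derivative {A : Type u} [CommRing A] (f : A[X]) (hf : f.Monic)
    (p₁ p₂ : A[X]) (h : derivative f * p₁ + f * p₂ = 1) :
    Algebra.Etale A (AdjoinRoot f) := by
  let P : StandardEtalePair A :=
    { f := f, monic_f := hf, g := 1, cond := ⟨p₁, p₂, 0, by rw [pow_zero]; exact h⟩ }
  have H : Submonoid.powers (AdjoinRoot.mk P.f P.g) ≤ IsUnit.submonoid (AdjoinRoot P.f) := by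
    rintro _ ⟨k, rfl⟩
    change IsUnit ((AdjoinRoot.mk f 1) ^ k)
    rw [map_one, one_pow]
    exact isUnit_one
  let e₂ : AdjoinRoot f ≃ₐ[AdjoinRoot f] Localization.Away (AdjoinRoot.mk P.f P.g) :=
    IsLocalization.atUnits (AdjoinRoot f) (Submonoid.powers (AdjoinRoot.mk P.f P.g)) H
  exact Algebra.Etale.of_equiv (P.equivAwayAdjoinRoot.trans (e₂.symm.restrictScalars A))

end Groth.Agent.H72
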