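import Mathlib
import Groth.Prelude.Def_ega3

set_option autoImplicit false
universe u

open CategoryTheory CochainComplex HomComplex

namespace Groth.Agent.H72.KoszulHomotopy

variable {R : Type u} [CommRing R]

section cone

variable (K : CochainComplex (ModuleCat.{u} R) ℤ) (f : R)

theorem ofHom_smul_id {F G : CochainComplex (ModuleCat.{u} R) ℤ} (a : R) (g : F ⟶ G) :
    Cochain.ofHom (a • g) = a • Cochain.ofHom g := by
  ext p
  simp

/-- Multiplication by `f` on the cone of multiplication by `f` is null-homotopic. -/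
noncomputable def homotopySelf :
    Homotopy (f • 𝟙 (mappingCone (f • 𝟙 K))) 0 :=
  mappingCone.descHomotopy (f • 𝟙 K) _ _ 0 (mappingCone.inl (f • 𝟙 K)) (by
    rw [ofHom_smul_id, ofHom_smul_id]
    simp) (by
    rw [mappingCone.δ_inl]
    simp)

/-- A null-homotopy of multiplication by `a` on `K` lifts to the cone of multiplication by `f`. -/
noncomputable def homotopyLift (a : R) (H : Homotopy (a • 𝟙 K) 0) :
    Homotopy (a • 𝟙 (mappingCone (f • 𝟙 K))) 0 :=
  mappingCone.descHomotopy (f • 𝟙 K) _ _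
    (-((Cochain.ofHomotopy H).comp (mappingCone.inl (f • 𝟙 K)) (by norm_num : (-1 : ℤ) + (-1) = -2)))
    ((Cochain.ofHomotopy H).comp (Cochain.ofHom (mappingCone.inr (f • 𝟙 K))) (add_zero _)) (by
    rw [δ_neg, δ_comp (Cochain.ofHomotopy H) (mappingCone.inl (f • 𝟙 K))
      (by norm_num : (-1 : ℤ) + (-1) = -2) 0 0 (-1) (by norm_num) (by norm_num) (by norm_num),
      δ_ofHomotopy, mappingCone.δ_inl, ofHom_smul_id, ofHom_smul_id, ofHom_smul_id]
    simp
    rw [ofHom_smul_id, Cochain.comp_smul]
    abel) (by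
    rw [δ_comp_ofHom, δ_ofHomotopy, ofHom_smul_id]
    simp
    exact ofHom_smul_id _ _)

end cone

/-- Elements of the ideal generated by the sequence act null-homotopically on the Koszul complex. -/
theorem nonempty_homotopy (M : ModuleCat.{u} R) : ∀ (xs : List R) (a : R),
    a ∈ Ideal.span {x | x ∈ xs} → Nonempty (Homotopy (a • 𝟙 (CohIII.koszulCx M xs)) 0) := by
  intro xs
  induction xs with
  | nil =>
    intro a ha
    have h0 : a = 0 := by simpa using ha
    exact ⟨Homotopy.ofEq (by rw [h0, zero_smul])⟩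
  | cons f fs ih =>
    intro a ha
    have hset : {x | x ∈ f :: fs} = insert f {x | x ∈ fs} := by
      ext x; simp
    rw [hset, Ideal.mem_span_insert] at ha
    obtain ⟨r, b, hb, rfl⟩ := ha
    obtain ⟨Hb⟩ := ih b hb
    change Nonempty (Homotopy ((r * f + b) • 𝟙 (mappingCone (f • 𝟙 (CohIII.koszulCx M fs)))) 0)
    have H1 := (homotopySelf (CohIII.koszulCx M fs) f).smul r
    have H2 := homotopyLift (CohIII.koszulCx M fs) f b Hb
    refine ⟨(Homotopy.ofEq ?_).trans ((H1.add H2).trans (Homotopy.ofEq ?_))⟩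
    · rw [add_smul, mul_smul]
    · rw [smul_zero, add_zero]

end Groth.Agent.H72.KoszulHomotopy
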