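import Mathlib
import Groth.Prelude.Def_CAlg
import Groth.Prelude.Def_EGA4b
import Groth.Agent.S5777
import Groth.Agent.H29.CM
import Groth.Agent.Lead.RegularGlDim
import Groth.Agent.Lead.RegularLocal2
import Groth.Agent.H72.FlatCM

set_option autoImplicit false
universe u

open IsLocalRing RingTheory.Sequence

namespace Groth.Agent.H72.Miracle

variable (A B : Type u) [CommRing A] [CommRing B] [IsRegularLocalRing A] [IsNoetherianRing B]
  [IsLocalRing B] [Algebra A B] [IsLocalHom (algebraMap A B)]

/-- Miracle flatness, module form. -/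
theorem flat_of_isCohenMacaulay (M : Type u) [AddCommGroup M] [Module B M] [Module A M]
    [IsScalarTower A B M] [Module.Finite B M]
    (hCM : LocCoh.IsCohenMacaulayModule B M)
    (hdim : Module.supportDim B M = ringKrullDim A +
      Module.supportDim B (M ⧸ ((maximalIdeal A).map (algebraMap A B) • (⊤ : Submodule B M)))) :
    Module.Flat A M := by
  obtain ⟨d, hd⟩ := Groth.Agent.H72.FlatCM.exists_ringKrullDim_eq_natCast A
  obtain ⟨x, hx⟩ := Groth.Agent.Lead.RLR.exists_fin_span_eq A d hd
  have hreg := Groth.Agent.Lead.RLR.isRegular_ofFn A d hd x hx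
  set fs : List A := List.ofFn x with hfs
  have hof : Ideal.ofList fs = maximalIdeal A := by
    rw [← hx]
    unfold Ideal.ofList
    congr 1
    ext r
    simp only [Set.mem_ofPred_eq, hfs, List.mem_ofFn', Set.mem_range]
  have hmem : ∀ f ∈ fs, f ∈ maximalIdeal A := by
    intro f hf
    rw [← hof]
    exact Ideal.subset_span hf
  rw [Groth.Agent.S5777.result A B M fs hmem hreg.toIsWeaklyRegular]
  constructor
  · -- flat over the residue field
    have hmax : (Ideal.ofList fs).IsMaximal := hof ▸ inferInstance
    let _ := Ideal.Quotient.field (Ideal.ofList fs)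
    infer_instance
  · rw [← isWeaklyRegular_map_algebraMap_iff B M fs]
    apply Groth.Agent.H29.CML.isWeaklyRegular_of_supportDim_eq (fs.map (algebraMap A B)) M hCM
    · intro y hy
      obtain ⟨f, hf, rfl⟩ := List.mem_map.mp hy
      exact IsLocalRing.map_maximalIdeal_le (algebraMap A B) (Ideal.mem_map_of_mem _ (hmem f hf))
    · rw [← Ideal.map_ofList, hof, List.length_map, hfs, List.length_ofFn, hdim, hd, add_comm]

end Groth.Agent.H72.Miracle
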