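import Mathlib
import Groth.Prelude.Def_CAlg
import Groth.Agent.H72.DepthFlat

set_option autoImplicit false
set_option linter.unusedSectionVars false
universe u

open TensorProduct Pointwise

namespace Groth.Agent.H72.DepthFlat

/-- A nonzero module of finite length over a local ring has depth zero. -/
theorem depth_eq_zero_of_isFiniteLength {B : Type u} [CommRing B] [IsLocalRing B]
    (T : Type u) [AddCommGroup T] [Module B T] [Nontrivial T] (hT : IsFiniteLength B T) :
    LocCoh.depth B T = 0 := by
  rw [isFiniteLength_iff_isNoetherian_isArtinian] at hT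
  obtain ⟨hnoe, hart⟩ := hT
  have hfin : Module.Finite B T := inferInstance
  have hatomic : IsAtomic (Submodule B T) :=
    isAtomic_of_orderBot_wellFounded_lt (IsWellFounded.wf)
  obtain ⟨P, hP⟩ := IsAtomic.exists_atom (Submodule B T)
  rw [← isSimpleModule_iff_isAtom] at hP
  have hnt : Nontrivial P := IsSimpleModule.nontrivial B P
  obtain ⟨t, ht⟩ := exists_ne (0 : P)
  have hmax := IsSimpleModule.ker_toSpanSingleton_isMaximal B ht
  have hker := IsLocalRing.eq_maximalIdeal hmax
  apply idealDepth_eq_zero_of_killed (IsLocalRing.maximalIdeal B) T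
    (smul_top_ne_top_of_nontrivial T) (t : T) (fun h => ht (Subtype.ext h))
  intro a ha
  rw [← hker, LinearMap.mem_ker, LinearMap.toSpanSingleton_apply] at ha
  have := congrArg Subtype.val ha
  simpa using this

end Groth.Agent.H72.DepthFlat
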