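import Mathlib
import Groth.Prelude.Def_EGA4b
import Groth.Agent.H29.ComplDim2
import Groth.Agent.H26.ComplQuot
import Groth.Agent.Lead.CompletionIAdic
import Groth.Agent.H29.CM2
import Groth.Agent.H72.DepthFlatCor

set_option autoImplicit false
set_option linter.unusedSectionVars false
universe u
open IsLocalRing TensorProduct

namespace Groth.Agent.H72.FormalEquidim

section Completion

variable (A : Type u) [CommRing A] [IsNoetherianRing A] [IsLocalRing A]

theorem maximalIdeal_ne_top : maximalIdeal A ≠ ⊤ := Ideal.IsPrime.ne_top inferInstance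

theorem isLocalRing_compl : IsLocalRing (AdicCompletion (maximalIdeal A) A) :=
  Groth.Agent.Lead.RLR.isLocalRing_adicCompletion A _ (maximalIdeal_ne_top A)

theorem isNoetherianRing_compl : IsNoetherianRing (AdicCompletion (maximalIdeal A) A) :=
  Groth.Agent.Lead.RLR.isNoetherianRing_adicCompletion' A _

theorem isLocalHom_compl :
    have := isLocalRing_compl A
    IsLocalHom (algebraMap A (AdicCompletion (maximalIdeal A) A)) :=
  Groth.Agent.Lead.RLR.isLocalHom_algebraMap_adicCompletion A _ (maximalIdeal_ne_top A)

theorem supportDim_completion_tensor (M : Type u) [AddCommGroup M] [Module A M]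
    [Module.Finite A M] :
    Module.supportDim (AdicCompletion (maximalIdeal A) A)
      (AdicCompletion (maximalIdeal A) A ⊗[A] M) = Module.supportDim A M := by
  have h := IsLocalRing.ringJacobson_eq_maximalIdeal (R := A)
  have hfin : Finite (MaximalSpectrum A) := inferInstance
  have key : Module.supportDim (AdicCompletion (Ring.jacobson A) A)
      (AdicCompletion (Ring.jacobson A) A ⊗[A] M) = Module.supportDim A M :=
    le_antisymm (Groth.Agent.H29.ComplDim.supportDim_tensor_le A M)
      (Groth.Agent.H29.ComplDim.supportDim_le_of_flat M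
        (Groth.Agent.H29.ComplDim.exists_liesOver_of_isMaximal A))
  rw [h] at key
  exact key

theorem depth_completion_tensor (M : Type u) [AddCommGroup M] [Module A M]
    [Module.Finite A M] :
    have := isLocalRing_compl A
    LocCoh.depth (AdicCompletion (maximalIdeal A) A)
      (AdicCompletion (maximalIdeal A) A ⊗[A] M) = LocCoh.depth A M := by
  have hloc := isLocalRing_compl A
  have hnoe := isNoetherianRing_compl A
  have hlh := isLocalHom_compl A
  intro _
  rw [Groth.Agent.H72.DepthFlat.depth_tensor_eq_add (R := A)
    (S := AdicCompletion (maximalIdeal A) A) (AdicCompletion (maximalIdeal A) A) M]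
  have e := Groth.Agent.Lead.RLR.adicCompletionTensorResidueEquiv A (maximalIdeal A)
    (maximalIdeal_ne_top A)
  have hnt : Nontrivial (AdicCompletion (maximalIdeal A) A ⊗[A] (A ⧸ maximalIdeal A)) :=
    e.toEquiv.nontrivial
  obtain ⟨t, ht⟩ := exists_ne (0 : AdicCompletion (maximalIdeal A) A ⊗[A] (A ⧸ maximalIdeal A))
  have hle : maximalIdeal (AdicCompletion (maximalIdeal A) A) ≤
      Module.annihilator (AdicCompletion (maximalIdeal A) A)
        (AdicCompletion (maximalIdeal A) A ⊗[A] (A ⧸ maximalIdeal A)) := by
    rw [Groth.Agent.Lead.RLR.maximalIdeal_adicCompletion_eq_map A _ (maximalIdeal_ne_top A),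
      Ideal.map_le_iff_le_comap]
    intro x hx
    rw [Ideal.mem_comap, Module.mem_annihilator]
    intro z
    rw [algebraMap_smul]
    induction z using TensorProduct.induction_on with
    | zero => rw [smul_zero]
    | tmul b c =>
      rw [TensorProduct.smul_tmul']
      rw [TensorProduct.smul_tmul]
      obtain ⟨c, rfl⟩ := Ideal.Quotient.mk_surjective c
      have : x • (Ideal.Quotient.mk (maximalIdeal A) c) = 0 := by
        rw [Algebra.smul_def, Ideal.Quotient.algebraMap_eq, ← map_mul,
          Ideal.Quotient.eq_zero_iff_mem]
        exact Ideal.mul_mem_right _ _ hx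
      rw [this, TensorProduct.tmul_zero]
    | add a b ha hb => rw [smul_add, ha, hb, add_zero]
  have h0 : LocCoh.depth (AdicCompletion (maximalIdeal A) A)
      (AdicCompletion (maximalIdeal A) A ⊗[A] (A ⧸ maximalIdeal A)) = 0 := by
    apply Groth.Agent.H72.DepthFlat.idealDepth_eq_zero_of_killed
      (maximalIdeal (AdicCompletion (maximalIdeal A) A)) _
      (Groth.Agent.H72.DepthFlat.smul_top_ne_top_of_nontrivial _) t ht
    intro a ha
    exact Module.mem_annihilator.1 (hle ha) t
  rw [h0, add_zero]

theorem isCM_completion_tensor (M : Type u) [AddCommGroup M] [Module A M]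
    [Module.Finite A M] (hM : LocCoh.IsCohenMacaulayModule A M) :
    have := isLocalRing_compl A
    LocCoh.IsCohenMacaulayModule (AdicCompletion (maximalIdeal A) A)
      (AdicCompletion (maximalIdeal A) A ⊗[A] M) := by
  intro _
  unfold LocCoh.IsCohenMacaulayModule at hM ⊢
  rw [supportDim_completion_tensor, hM, depth_completion_tensor]

end Completion

section Equidim

variable {R : Type u} [CommRing R] [IsNoetherianRing R] [IsLocalRing R]

theorem supportDim_eq_ringKrullDim_of_support_eq_univ (N : Type u) [AddCommGroup N] [Module R N]
    (hsupp : Module.support R N = Set.univ) : Module.supportDim R N = ringKrullDim R := by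
  unfold Module.supportDim
  rw [hsupp]
  exact Order.krullDim_eq_of_orderIso (OrderIso.Set.univ)

theorem mem_associatedPrimes_of_mem_minimalPrimes (N : Type u) [AddCommGroup N] [Module R N]
    [Module.Finite R N] (hsupp : Module.support R N = Set.univ) (p : Ideal R)
    (hp : p ∈ minimalPrimes R) : p ∈ associatedPrimes R N := by
  apply Module.associatedPrimes.minimalPrimes_annihilator_subset_associatedPrimes R N
  have hpp : p.IsPrime := hp.1.1
  refine ⟨⟨hpp, ?_⟩, ?_⟩
  · have : (⟨p, hpp⟩ : PrimeSpectrum R) ∈ Module.support R N := by rw [hsupp]; trivial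
    rw [Module.support_eq_zeroLocus] at this
    exact this
  · intro q hq hqp
    exact hp.2 ⟨hq.1, bot_le⟩ hqp

/-- A Noetherian local ring with a finite Cohen–Macaulay module of full support is strictly
equidimensional. -/
theorem isStrictlyEquidim_of_isCM (N : Type u) [AddCommGroup N] [Module R N]
    [Module.Finite R N] (hN : LocCoh.IsCohenMacaulayModule R N)
    (hsupp : Module.support R N = Set.univ) (p : Ideal R) (hp : p ∈ associatedPrimes R N) :
    ringKrullDim (R ⧸ p) = ringKrullDim R := by
  rw [Groth.Agent.H29.CML.ringKrullDim_quotient_eq_supportDim_of_isCM N hN p hp,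
    supportDim_eq_ringKrullDim_of_support_eq_univ N hsupp]

theorem isEquidim_of_isCM (N : Type u) [AddCommGroup N] [Module R N]
    [Module.Finite R N] (hN : LocCoh.IsCohenMacaulayModule R N)
    (hsupp : Module.support R N = Set.univ) : EGA4.IsEquidim R := by
  intro p hp
  exact isStrictlyEquidim_of_isCM N hN hsupp p
    (mem_associatedPrimes_of_mem_minimalPrimes N hsupp p hp)

end Equidim

section S2633

variable (A : Type u) [CommRing A] [IsNoetherianRing A] [IsLocalRing A]

theorem support_completion_tensor (M : Type u) [AddCommGroup M] [Module A M]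
    [Module.Finite A M] (hsupp : Module.support A M = Set.univ) :
    Module.support (AdicCompletion (maximalIdeal A) A)
      (AdicCompletion (maximalIdeal A) A ⊗[A] M) = Set.univ := by
  rw [Groth.Agent.H31.support_baseChange_eq_preimage, hsupp, Set.preimage_univ]

theorem isFormallyEquidim_of_isCM (M : Type u) [AddCommGroup M] [Module A M]
    [Module.Finite A M] (hCM : LocCoh.IsCohenMacaulayModule A M)
    (hsupp : Module.support A M = Set.univ) : EGA4.IsFormallyEquidim A := by
  have hloc := isLocalRing_compl A
  have hnoe := isNoetherianRing_compl A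
  unfold EGA4.IsFormallyEquidim
  exact isEquidim_of_isCM (AdicCompletion (maximalIdeal A) A ⊗[A] M)
    (isCM_completion_tensor A M hCM) (support_completion_tensor A M hsupp)

end S2633

end Groth.Agent.H72.FormalEquidim
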