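import Mathlib
import Groth.Prelude.Def_ega3
import Groth.Prelude.Def_CAlg
import Groth.Agent.H12.KoszulReg
import Groth.Agent.H15.Depth
import Groth.Agent.H72.KoszulHomotopy
import Groth.Agent.H72.DepthFinite
import Groth.Agent.H26.MaxRegular

set_option autoImplicit false
universe u

open CategoryTheory CochainComplex HomComplex Limits Groth.Agent.H12.KoszulReg

namespace Groth.Agent.H72.KoszulDepth

variable {R : Type u} [CommRing R]

/-- The Koszul complex vanishes in positive degrees. -/
theorem isZero_X_of_pos (M : ModuleCat.{u} R) : ∀ (xs : List R) (i : ℤ), 0 < i →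
    IsZero ((CohIII.koszulCx M xs).X i) := by
  intro xs
  induction xs with
  | nil =>
    intro i hi
    exact HomologicalComplex.isZero_single_obj_X (ComplexShape.up ℤ) 0 M i (by omega)
  | cons f fs ih =>
    intro i hi
    change IsZero ((mappingCone (f • 𝟙 (CohIII.koszulCx M fs))).X i)
    rw [mappingCone.isZero_X_iff]
    exact ⟨ih (i + 1) (by omega), ih i hi⟩

/-- The Koszul complex vanishes below degree `-length`. -/
theorem isZero_X_of_lt (M : ModuleCat.{u} R) : ∀ (xs : List R) (i : ℤ), i + xs.length < 0 →
    IsZero ((CohIII.koszulCx M xs).X i) := by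
  intro xs
  induction xs with
  | nil =>
    intro i hi
    exact HomologicalComplex.isZero_single_obj_X (ComplexShape.up ℤ) 0 M i (by simp at hi; omega)
  | cons f fs ih =>
    intro i hi
    change IsZero ((mappingCone (f • 𝟙 (CohIII.koszulCx M fs))).X i)
    rw [mappingCone.isZero_X_iff]
    simp only [List.length_cons, Nat.cast_add, Nat.cast_one] at hi
    exact ⟨ih (i + 1) (by omega), ih i (by omega)⟩

/-- The bottom term of the Koszul complex is `M`, and the bottom cocycles are the elements killed
by the sequence. -/
theorem exists_bottom_equiv (M : ModuleCat.{u} R) : ∀ (xs : List R) (b : ℤ), b + xs.length = 0 →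
    ∃ ε : (CohIII.koszulCx M xs).X b ≃ₗ[R] M, ∀ (k : (CohIII.koszulCx M xs).X b),
      ((CohIII.koszulCx M xs).d b (b + 1)).hom k = 0 ↔ ∀ x ∈ xs, x • ε k = 0 := by
  intro xs
  induction xs with
  | nil =>
    intro b hb
    have hb0 : b = 0 := by simpa using hb
    subst hb0
    have e : (CohIII.koszulCx M []).X 0 ≅ M :=
      HomologicalComplex.singleObjXSelf (ComplexShape.up ℤ) 0 M
    refine ⟨e.toLinearEquiv, ?_⟩
    intro k
    have hd : (CohIII.koszulCx M []).d 0 (0 + 1) = 0 := by
      apply (HomologicalComplex.isZero_single_obj_X (ComplexShape.up ℤ) 0 M (0 + 1)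
        (by norm_num)).eq_of_tgt
    rw [hd]
    constructor
    · intro _ x hx
      cases hx
    · intro _
      rfl
  | cons f fs ih =>
    intro b hb
    simp only [List.length_cons, Nat.cast_add, Nat.cast_one] at hb
    set K := CohIII.koszulCx M fs with hK
    set φ : K ⟶ K := f • 𝟙 K with hφ
    obtain ⟨ε, hε⟩ := ih (b + 1) (by omega)
    have hzero : IsZero (K.X b) := isZero_X_of_lt M fs b (by omega)
    have hsub : Subsingleton (K.X b) := ModuleCat.subsingleton_of_isZero hzero
    have hinj : Function.Injective (cfst φ b) := by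
      intro x y hxy
      exact cext φ b x y hxy (Subsingleton.elim _ _)
    have hsurj : Function.Surjective (cfst φ b) := by
      intro p
      obtain ⟨x, hx, -⟩ := cexists φ b p 0
      exact ⟨x, hx⟩
    refine ⟨(LinearEquiv.ofBijective (cfst φ b) ⟨hinj, hsurj⟩).trans ε, ?_⟩
    intro k
    change ((mappingCone φ).d b (b + 1)).hom k = 0 ↔ _
    have h1 : cfst φ (b + 1) (((mappingCone φ).d b (b + 1)).hom k) =
        -(K.d (b + 1) (b + 1 + 1)).hom (cfst φ b k) := by
      have h := mappingCone.d_fst_v φ b (b + 1) (b + 1 + 1) rfl rfl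
      have := congr($(h).hom k)
      rw [ModuleCat.hom_comp, ModuleCat.hom_neg, ModuleCat.hom_comp] at this
      exact this
    have h2 : csnd φ (b + 1) (((mappingCone φ).d b (b + 1)).hom k) = f • cfst φ b k := by
      have h := mappingCone.d_snd_v φ b (b + 1) rfl
      have := congr($(h).hom k)
      have h0 : ((mappingCone.snd φ).v b b (add_zero b)).hom k = 0 := Subsingleton.elim _ _
      rw [ModuleCat.hom_comp, ModuleCat.hom_add, ModuleCat.hom_comp, ModuleCat.hom_comp] at this
      have this' : ((mappingCone.snd φ).v (b + 1) (b + 1) (add_zero _)).hom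
          (((mappingCone φ).d b (b + 1)).hom k) =
          (φ.f (b + 1)).hom (((mappingCone.fst φ).1.v b (b + 1) rfl).hom k) +
            (K.d b (b + 1)).hom (((mappingCone.snd φ).v b b (add_zero b)).hom k) := this
      rw [h0, map_zero, add_zero] at this'
      rw [hφ] at this'
      simpa [csnd, cfst] using this'
    constructor
    · intro hk
      rw [hk, map_zero] at h1 h2
      have h1' : (K.d (b + 1) (b + 1 + 1)).hom (cfst φ b k) = 0 := by
        rw [eq_comm, neg_eq_zero] at h1
        exact h1
      have h3 := (hε (cfst φ b k)).mp h1'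
      intro x hx
      rcases List.mem_cons.mp hx with rfl | hx
      · change x • ε (cfst φ b k) = 0
        rw [← map_smul, ← h2, map_zero]
      · exact h3 x hx
    · intro hk
      apply cext φ (b + 1) _ 0
      · rw [h1, map_zero, neg_eq_zero]
        apply (hε (cfst φ b k)).mpr
        intro x hx
        exact hk x (List.mem_cons_of_mem _ hx)
      · rw [h2, map_zero]
        have := hk f List.mem_cons_self
        change f • ε (cfst φ b k) = 0 at this
        rw [← map_smul] at this
        exact ε.injective (by rw [this, map_zero])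

/-- Homology at a degree whose predecessor term vanishes is nonzero iff there is a nonzero cocycle. -/
theorem not_isZero_homology_iff_of_isZero_prev (K : CochainComplex (ModuleCat.{u} R) ℤ) (b : ℤ)
    (hz : IsZero (K.X (b - 1))) :
    ¬ IsZero (K.homology b) ↔ ∃ k : K.X b, k ≠ 0 ∧ (K.d b (b + 1)).hom k = 0 := by
  rw [← K.exactAt_iff_isZero_homology,
    K.exactAt_iff' (b - 1) b (b + 1) (by simp) (by simp), ShortComplex.moduleCat_exact_iff]
  have hsub : Subsingleton (K.X (b - 1)) := ModuleCat.subsingleton_of_isZero hz
  constructor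
  · intro h
    push Not at h
    obtain ⟨x, hx, hne⟩ := h
    refine ⟨x, ?_, hx⟩
    intro hx0
    apply hne 0
    rw [hx0]
    exact map_zero _
  · rintro ⟨k, hk, hdk⟩ h
    obtain ⟨y, hy⟩ := h k hdk
    apply hk
    have hy0 : y = 0 := @Subsingleton.elim _ hsub y 0
    rw [← hy, hy0]
    exact map_zero _

/-- Long exact sequence consequences when the first map is zero on homology. -/
theorem les_of_homologyMap_f_zero (T : ShortComplex (CochainComplex (ModuleCat.{u} R) ℤ))
    (hT : T.ShortExact) (hf : ∀ n, HomologicalComplex.homologyMap T.f n = 0) (i j : ℤ)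
    (hij : i + 1 = j) :
    (IsZero (T.X₃.homology i) → IsZero (T.X₁.homology j)) ∧
      (IsZero (T.X₂.homology i) → IsZero (T.X₁.homology j) → IsZero (T.X₃.homology i)) := by
  have hrel : (ComplexShape.up ℤ).Rel i j := hij
  constructor
  · intro h3
    have hex := hT.homology_exact₁ i j hrel
    have : Epi (hT.δ i j hrel) := hex.epi_f (hf j)
    exact IsZero.of_epi (hT.δ i j hrel) h3
  · intro h2 h1
    have hex := hT.homology_exact₃ i j hrel
    have : Mono (hT.δ i j hrel) := hex.mono_g (h2.eq_of_src _ _)
    exact IsZero.of_mono (hT.δ i j hrel) h1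

/-- The connecting step for Koszul cohomology along a regular element of the ideal generated by
the sequence. -/
theorem koszul_step (xs : List R) (M : Type u) [AddCommGroup M] [Module R M] (y : R)
    (hy : y ∈ Ideal.span {x | x ∈ xs}) (hreg : IsSMulRegular M y) (i j : ℤ) (hij : i + 1 = j) :
    (IsZero ((CohIII.koszulCx (ModuleCat.of R (QuotSMulTop y M)) xs).homology i) →
        IsZero ((CohIII.koszulCx (ModuleCat.of R M) xs).homology j)) ∧
      (IsZero ((CohIII.koszulCx (ModuleCat.of R M) xs).homology i) →
        IsZero ((CohIII.koszulCx (ModuleCat.of R M) xs).homology j) →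
        IsZero ((CohIII.koszulCx (ModuleCat.of R (QuotSMulTop y M)) xs).homology i)) := by
  have hS := regSC_shortExact M y hreg
  have hT := koszulFunctor_shortExact xs _ hS
  have hf : ∀ n, HomologicalComplex.homologyMap ((regSC M y).map (koszulFunctor xs)).f n = 0 := by
    intro n
    have hH : Nonempty (Homotopy (y • 𝟙 ((koszulFunctor xs).obj (ModuleCat.of R M))) 0) := by
      rw [koszulFunctor_obj]
      exact KoszulHomotopy.nonempty_homotopy _ xs y hy
    obtain ⟨H⟩ := hH
    have h2 : HomologicalComplex.homologyMap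
        (y • 𝟙 ((koszulFunctor xs).obj (ModuleCat.of R M))) n = 0 := by
      rw [H.homologyMap_eq n, HomologicalComplex.homologyMap_zero]
    change HomologicalComplex.homologyMap ((koszulFunctor xs).map (y • 𝟙 (ModuleCat.of R M))) n = 0
    rw [koszulFunctor_map_smul xs y _]
    exact h2
  have key := les_of_homologyMap_f_zero _ hT hf i j hij
  have e1 : ((regSC M y).map (koszulFunctor xs)).X₁ = CohIII.koszulCx (ModuleCat.of R M) xs :=
    koszulFunctor_obj xs _
  have e2 : ((regSC M y).map (koszulFunctor xs)).X₂ = CohIII.koszulCx (ModuleCat.of R M) xs :=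
    koszulFunctor_obj xs _
  have e3 : ((regSC M y).map (koszulFunctor xs)).X₃ =
      CohIII.koszulCx (ModuleCat.of R (QuotSMulTop y M)) xs := koszulFunctor_obj xs _
  rw [e1, e2, e3] at key
  exact key

open RingTheory.Sequence Groth.Agent.H15 in
/-- If no element of `a` is regular on a nonzero finite module over a Noetherian ring, some nonzero
element is killed by `a`. -/
theorem exists_ne_zero_forall_smul_eq_zero [IsNoetherianRing R] (a : Ideal R) (M : Type u)
    [AddCommGroup M] [Module R M] [Module.Finite R M] [Nontrivial M]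
    (hcon : ∀ x ∈ a, ¬ IsSMulRegular M x) : ∃ m : M, m ≠ 0 ∧ ∀ y ∈ a, y • m = 0 := by
  have hexist : ∃ p ∈ associatedPrimes R M, a ≤ p := by
    rcases associatedPrimes.nonempty R M with ⟨Ia, hIa⟩
    apply (Ideal.subset_union_prime_finite (associatedPrimes.finite R M) Ia Ia _).mp
    · rw [biUnion_associatedPrimes_eq_compl_regular R M]
      exact fun r hr ↦ hcon r hr
    · exact fun I hin _ _ ↦ IsAssociatedPrime.isPrime hin
  obtain ⟨p, hpass, hap⟩ := hexist
  obtain ⟨hprime, m₀, hm₀⟩ := isAssociatedPrime_iff.mp (AssociatedPrimes.mem_iff.mp hpass)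
  have hkill : ∀ y ∈ a, y • m₀ = 0 := by
    intro y hy
    have := hap hy
    rw [hm₀] at this
    simpa [Submodule.mem_colon_singleton] using this
  have hm₀0 : m₀ ≠ 0 := by
    rintro rfl
    apply hprime.ne_top
    rw [hm₀, eq_top_iff]
    intro r _
    simp [Submodule.mem_colon_singleton]
  exact ⟨m₀, hm₀0, hkill⟩

open RingTheory.Sequence Groth.Agent.H15 in
/-- Depth sensitivity of the Koszul complex, inductive form. -/
theorem koszul_depth_aux [IsNoetherianRing R] (xs : List R) (b : ℤ) (hb : b + xs.length = 0) :
    ∀ (g : ℕ) (M : Type u) [AddCommGroup M] [Module R M] [Module.Finite R M],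
      Ideal.span {x | x ∈ xs} • (⊤ : Submodule R M) ≠ ⊤ →
      LocCoh.idealDepth (Ideal.span {x | x ∈ xs}) M = g →
      (∀ i : ℤ, i < b + g → IsZero ((CohIII.koszulCx (ModuleCat.of R M) xs).homology i)) ∧
        ¬ IsZero ((CohIII.koszulCx (ModuleCat.of R M) xs).homology (b + g)) := by
  intro g
  induction g with
  | zero =>
    intro M _ _ _ hne hdepth
    have hM : Nontrivial M := by
      by_contra hM
      rw [not_nontrivial_iff_subsingleton] at hM
      exact hne (Subsingleton.elim _ _)
    constructor
    · intro i hi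
      rw [← HomologicalComplex.exactAt_iff_isZero_homology]
      apply HomologicalComplex.ExactAt.of_isZero
      apply isZero_X_of_lt
      simp only [Nat.cast_zero, add_zero] at hi
      omega
    · simp only [Nat.cast_zero, add_zero]
      rw [not_isZero_homology_iff_of_isZero_prev _ _ (isZero_X_of_lt _ xs (b - 1) (by omega))]
      have hcon : ∀ x ∈ Ideal.span {x | x ∈ xs}, ¬ IsSMulRegular M x := by
        intro x hx hreg
        have h1 : IsWeaklyRegular M [x] := by
          rw [isWeaklyRegular_cons_iff]
          exact ⟨hreg, IsWeaklyRegular.nil R _⟩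
        have h2 := le_idealDepth (Ideal.span {x | x ∈ xs}) M h1 (by simpa using hx)
        rw [hdepth] at h2
        simp at h2
      obtain ⟨m, hm0, hkill⟩ := exists_ne_zero_forall_smul_eq_zero _ M hcon
      obtain ⟨ε, hε⟩ := exists_bottom_equiv (ModuleCat.of R M) xs b hb
      refine ⟨ε.symm m, ?_, ?_⟩
      · intro h
        apply hm0
        have := congrArg ε h
        rwa [LinearEquiv.apply_symm_apply, map_zero] at this
      · rw [hε]
        intro x hx
        rw [LinearEquiv.apply_symm_apply]
        exact hkill x (Ideal.subset_span hx)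
  | succ g ih =>
    intro M _ _ _ hne hdepth
    obtain ⟨y, hya, hyreg⟩ := DepthFinite.exists_isSMulRegular_of_one_le_idealDepth
      (Ideal.span {x | x ∈ xs}) M hne g (by rw [hdepth])
    have hne' := smul_top_quotSMulTop_ne_top hya hne
    have h1 : (g : ℕ∞) ≤ LocCoh.idealDepth (Ideal.span {x | x ∈ xs}) (QuotSMulTop y M) :=
      le_idealDepth_quotSMulTop _ M y hya hyreg g (by rw [hdepth])
    have h2 : LocCoh.idealDepth (Ideal.span {x | x ∈ xs}) (QuotSMulTop y M) ≤ g := by
      by_contra hcon
      push Not at hcon
      have h3 : ((g + 1 : ℕ) : ℕ∞) ≤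
          LocCoh.idealDepth (Ideal.span {x | x ∈ xs}) (QuotSMulTop y M) := by
        rw [Nat.cast_add, Nat.cast_one]
        exact Order.add_one_le_of_lt hcon
      have h4 := DepthFinite.succ_le_idealDepth_of_quotSMulTop _ M y hya hyreg (g + 1) h3
      rw [hdepth] at h4
      have := (Nat.cast_le (α := ℕ∞)).mp h4
      omega
    obtain ⟨ih1, ih2⟩ := ih (QuotSMulTop y M) hne' (le_antisymm h2 h1)
    have hlow : ∀ i : ℤ, i < b + (g + 1 : ℕ) →
        IsZero ((CohIII.koszulCx (ModuleCat.of R M) xs).homology i) := by
      intro i hi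
      have hi' : i - 1 < b + g := by push_cast at hi; omega
      exact (koszul_step xs M y hya hyreg (i - 1) i (by omega)).1 (ih1 (i - 1) hi')
    refine ⟨hlow, ?_⟩
    intro hz
    apply ih2
    exact (koszul_step xs M y hya hyreg (b + g) (b + (g + 1 : ℕ)) (by push_cast; omega)).2
      (hlow (b + g) (by push_cast; omega)) hz

end Groth.Agent.H72.KoszulDepth
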