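import Mathlib
import Groth.Prelude.Def_CAlg
import Groth.Agent.H15.Depth
import Groth.Agent.H26.MaxRegular
import Groth.Agent.H72.KoszulDepth

set_option autoImplicit false
set_option linter.unusedSectionVars false
universe u

open IsLocalRing RingTheory.Sequence Groth.Agent.H15 Pointwise

namespace Groth.Agent.H72.DepthGen

variable {R : Type u} [CommRing R] [IsNoetherianRing R] [IsLocalRing R]

/-- Key lemma: if a nonzero element of `N` is killed by `c`, there is no `N`-regular sequence of
length two inside `c + (x)` for `x` in the maximal ideal. -/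
theorem no_regular_pair (N : Type u) [AddCommGroup N] [Module R N] [Module.Finite R N]
    (c : Ideal R) (x : R) (hx : x ∈ maximalIdeal R) (u0 : N) (hu0 : u0 ≠ 0)
    (hc : ∀ y ∈ c, y • u0 = 0) (z z' : R) (hz : z ∈ c ⊔ Ideal.span {x})
    (hz' : z' ∈ c ⊔ Ideal.span {x}) (hreg : IsSMulRegular N z)
    (hreg' : IsSMulRegular (QuotSMulTop z N) z') : False := by
  -- the submodule killed by `c`
  let U : Submodule R N :=
    { carrier := {u | ∀ y ∈ c, y • u = 0}
      add_mem' := by
        intro a b ha hb y hy
        rw [smul_add, ha y hy, hb y hy, add_zero]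
      zero_mem' := by intro y _; simp
      smul_mem' := by
        intro r a ha y hy
        rw [smul_comm, ha y hy, smul_zero] }
  obtain ⟨γ, hγ, w, hw, hzeq⟩ := Submodule.mem_sup.mp hz
  obtain ⟨t, rfl⟩ := Ideal.mem_span_singleton'.mp hw
  obtain ⟨γ', hγ', w', hw', hz'eq⟩ := Submodule.mem_sup.mp hz'
  obtain ⟨t', rfl⟩ := Ideal.mem_span_singleton'.mp hw'
  have key : ∀ u ∈ U, ∃ v ∈ U, x • v = u := by
    intro u hu
    have hγu : γ • u = 0 := hu γ hγ
    have hγ'u : γ' • u = 0 := hu γ' hγ'
    have h1 : (t * x) • u = z • u := by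
      rw [← hzeq, add_smul, hγu, zero_add]
    -- `z' • (t • u) ∈ z N`
    have h2 : z' • (t • u) = z • (t' • u) := by
      rw [← hz'eq, add_smul, smul_comm γ' t u, hγ'u, smul_zero, zero_add]
      rw [show (t' * x) • t • u = t' • ((t * x) • u) by
        rw [smul_smul, smul_smul]; congr 1; ring]
      rw [h1, smul_comm]
    have h3 : (Submodule.Quotient.mk (t • u) : QuotSMulTop z N) = 0 := by
      apply hreg'
      show z' • (Submodule.Quotient.mk (t • u) : QuotSMulTop z N) = z' • 0
      rw [smul_zero, ← Submodule.Quotient.mk_smul, h2]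
      rw [Submodule.Quotient.mk_eq_zero]
      exact Submodule.smul_mem_pointwise_smul _ _ _ Submodule.mem_top
    rw [Submodule.Quotient.mk_eq_zero] at h3
    obtain ⟨v, -, hv⟩ := (Submodule.mem_smul_pointwise_iff_exists _ _ _).mp h3
    have hv' : z • v = t • u := hv
    refine ⟨v, ?_, ?_⟩
    · intro y hy
      apply hreg
      show z • y • v = z • 0
      rw [smul_zero, smul_comm, hv', smul_comm, hu y hy, smul_zero]
    · apply hreg
      show z • x • v = z • u
      rw [smul_comm, hv', smul_smul, mul_comm, h1]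
  have hle : U ≤ (Ideal.span {x}) • U := by
    intro u hu
    obtain ⟨v, hv, rfl⟩ := key u hu
    exact Submodule.smul_mem_smul (Ideal.mem_span_singleton_self x) hv
  have hUfg : U.FG := IsNoetherian.noetherian U
  have hjac : Ideal.span {x} ≤ (⊥ : Ideal R).jacobson := by
    rw [Ideal.span_le, Set.singleton_subset_iff]
    exact IsLocalRing.maximalIdeal_le_jacobson _ hx
  have hbot : U = ⊥ := Submodule.eq_bot_of_le_smul_of_le_jacobson_bot _ _ hUfg hle hjac
  have : u0 ∈ U := hc
  rw [hbot, Submodule.mem_bot] at this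
  exact hu0 this

theorem length_le_one (N : Type u) [AddCommGroup N] [Module R N] [Module.Finite R N]
    [Nontrivial N] (c : Ideal R) (x : R) (hx : x ∈ maximalIdeal R)
    (hcon : ∀ y ∈ c, ¬ IsSMulRegular N y) (ws : List R) (hws : IsWeaklyRegular N ws)
    (hmem : ∀ w ∈ ws, w ∈ c ⊔ Ideal.span {x}) : ws.length ≤ 1 := by
  match ws, hws, hmem with
  | [], _, _ => simp
  | [_], _, _ => simp
  | z :: z' :: rest, hws, hmem =>
    exfalso
    rw [isWeaklyRegular_cons_iff] at hws
    obtain ⟨hreg, hws'⟩ := hws
    rw [isWeaklyRegular_cons_iff] at hws'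
    obtain ⟨u0, hu0, hc⟩ := Groth.Agent.H72.KoszulDepth.exists_ne_zero_forall_smul_eq_zero c N hcon
    exact no_regular_pair N c x hx u0 hu0 hc z z' (hmem z (by simp)) (hmem z' (by simp)) hreg hws'.1

theorem smul_top_ne_top_of_le (M : Type u) [AddCommGroup M] [Module R M] [Module.Finite R M]
    [Nontrivial M] (I : Ideal R) (hI : I ≤ maximalIdeal R) : I • (⊤ : Submodule R M) ≠ ⊤ :=
  (Submodule.top_ne_ideal_smul_of_le_jacobson_annihilator
    (le_trans hI (IsLocalRing.maximalIdeal_le_jacobson _))).symm

theorem ofList_le_maximalIdeal (xs : List R) (hxs : ∀ x ∈ xs, x ∈ maximalIdeal R) :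
    Ideal.ofList xs ≤ maximalIdeal R := by
  rw [Ideal.ofList, Ideal.span_le]
  exact fun r hr => hxs r hr

theorem nontrivial_quotient (M : Type u) [AddCommGroup M] [Module R M] [Module.Finite R M]
    [Nontrivial M] (I : Ideal R) (hI : I ≤ maximalIdeal R) :
    Nontrivial (M ⧸ (I • (⊤ : Submodule R M))) :=
  Submodule.Quotient.nontrivial_iff.mpr (smul_top_ne_top_of_le M I hI)

theorem isWeaklyRegular_of_idealDepth_eq (M : Type u) [AddCommGroup M] [Module R M]
    [Module.Finite R M] [Nontrivial M]
    (hle : ∀ ys : List R, (∀ y ∈ ys, y ∈ maximalIdeal R) →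
      LocCoh.idealDepth (Ideal.ofList ys) M ≤ ys.length) :
    ∀ xs : List R, (∀ x ∈ xs, x ∈ maximalIdeal R) →
      LocCoh.idealDepth (Ideal.ofList xs) M = xs.length → IsWeaklyRegular M xs := by
  intro xs
  induction xs using List.reverseRecOn with
  | nil => intro _ _; exact IsWeaklyRegular.nil R M
  | append_singleton ys x ih =>
    intro hmem hdepth
    have hys : ∀ y ∈ ys, y ∈ maximalIdeal R := fun y hy => hmem y (by simp [hy])
    have hx : x ∈ maximalIdeal R := hmem x (by simp)
    have ha : Ideal.ofList (ys ++ [x]) = Ideal.ofList ys ⊔ Ideal.span {x} := by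
      rw [Ideal.ofList_append, Ideal.ofList_singleton]
    have hale : Ideal.ofList (ys ++ [x]) ≤ maximalIdeal R := ofList_le_maximalIdeal _ hmem
    have ha'le : Ideal.ofList ys ≤ maximalIdeal R := ofList_le_maximalIdeal _ hys
    have hIM := smul_top_ne_top_of_le M _ hale
    have hI'M := smul_top_ne_top_of_le M _ ha'le
    have ha'a : Ideal.ofList ys ≤ Ideal.ofList (ys ++ [x]) := by rw [ha]; exact le_sup_left
    -- Step A
    have hA : (ys.length : ℕ∞) ≤ LocCoh.idealDepth (Ideal.ofList ys) M := by
      obtain ⟨zs, -, hzreg, hzmem, hzmax⟩ :=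
        Groth.Agent.H26.exists_maximal_extension (Ideal.ofList ys) M hI'M []
          (IsWeaklyRegular.nil R M) (by simp)
      have hzlen := Groth.Agent.H26.length_eq_idealDepth_of_maximal (Ideal.ofList ys) M hI'M zs
        hzreg hzmem hzmax
      obtain ⟨rs', hpre, hreg', hmem', hmax'⟩ :=
        Groth.Agent.H26.exists_maximal_extension (Ideal.ofList (ys ++ [x])) M hIM zs hzreg
          (fun r hr => ha'a (hzmem r hr))
      have hlen' := Groth.Agent.H26.length_eq_idealDepth_of_maximal (Ideal.ofList (ys ++ [x])) M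
        hIM rs' hreg' hmem' hmax'
      obtain ⟨ws, rfl⟩ := hpre
      rw [isWeaklyRegular_append_iff] at hreg'
      have hzsle : Ideal.ofList zs ≤ maximalIdeal R :=
        ofList_le_maximalIdeal _ (fun r hr => ha'le (hzmem r hr))
      have := nontrivial_quotient M _ hzsle
      have hcon : ∀ y ∈ Ideal.ofList ys,
          ¬ IsSMulRegular (M ⧸ (Ideal.ofList zs • (⊤ : Submodule R M))) y := by
        intro y hy hreg
        apply hzmax y hy
        rw [isWeaklyRegular_append_iff]
        exact ⟨hzreg, (isWeaklyRegular_singleton_iff _ y).mpr hreg⟩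
      have hws := length_le_one (M ⧸ (Ideal.ofList zs • (⊤ : Submodule R M))) (Ideal.ofList ys) x hx
        hcon ws hreg'.2 (fun w hw => by rw [← ha]; exact hmem' w (by simp [hw]))
      rw [hdepth, List.length_append, List.length_append, List.length_singleton] at hlen'
      have h1 : zs.length + ws.length = ys.length + 1 := by exact_mod_cast hlen'
      rw [← hzlen]
      have : ys.length ≤ zs.length := by omega
      exact_mod_cast this
    have hys_depth : LocCoh.idealDepth (Ideal.ofList ys) M = ys.length :=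
      le_antisymm (hle ys hys) hA
    have hysreg := ih hys hys_depth
    -- Step B
    obtain ⟨rs'', hpre, hreg'', hmem'', hmax''⟩ :=
      Groth.Agent.H26.exists_maximal_extension (Ideal.ofList (ys ++ [x])) M hIM ys hysreg
        (fun r hr => ha'a (Ideal.subset_span hr))
    have hlen'' := Groth.Agent.H26.length_eq_idealDepth_of_maximal (Ideal.ofList (ys ++ [x])) M
      hIM rs'' hreg'' hmem'' hmax''
    obtain ⟨ws, rfl⟩ := hpre
    rw [hdepth, List.length_append, List.length_append, List.length_singleton] at hlen''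
    have h1 : ys.length + ws.length = ys.length + 1 := by exact_mod_cast hlen''
    have hws1 : ws.length = 1 := by omega
    obtain ⟨y, rfl⟩ := List.length_eq_one_iff.mp hws1
    rw [isWeaklyRegular_append_iff] at hreg'' ⊢
    refine ⟨hysreg, ?_⟩
    rw [isWeaklyRegular_singleton_iff] at hreg'' ⊢
    have hy : y ∈ Ideal.ofList ys ⊔ Ideal.span {x} := by
      rw [← ha]; exact hmem'' y (by simp)
    obtain ⟨α, hα, w, hw, hyeq⟩ := Submodule.mem_sup.mp hy
    obtain ⟨r, rfl⟩ := Ideal.mem_span_singleton'.mp hw
    have hαkill : ∀ u : M ⧸ (Ideal.ofList ys • (⊤ : Submodule R M)), α • u = 0 := by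
      intro u
      obtain ⟨m, rfl⟩ := Submodule.Quotient.mk_surjective _ u
      rw [← Submodule.Quotient.mk_smul, Submodule.Quotient.mk_eq_zero]
      exact Submodule.smul_mem_smul hα Submodule.mem_top
    intro u u' huu'
    apply hreg''.2
    show y • u = y • u'
    have huu'' : x • u = x • u' := huu'
    rw [← hyeq, add_smul, add_smul, hαkill, hαkill, mul_smul, mul_smul, huu'']

end Groth.Agent.H72.DepthGen
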