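import Mathlib
import Groth.Agent.H72.FormalEquidim
import Groth.Agent.H72.DepthGen
import Groth.Agent.H26.MaxRegular
import Groth.Agent.H72.EquidimFlat
import Groth.Agent.H26.ComplQuot
import Groth.Agent.Lead.CompletionIAdic

set_option autoImplicit false
set_option linter.unusedSectionVars false
universe u
open IsLocalRing TensorProduct RingTheory.Sequence Pointwise

namespace Groth.Agent.H72.FormalEquidim

section CMQuot

variable {A : Type u} [CommRing A] [IsNoetherianRing A] [IsLocalRing A]

/-- If every element of the prime `p` is a zero-divisor on the finite module `N`, then `p` is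
contained in an associated prime of `N`. -/
theorem exists_le_mem_associatedPrimes (N : Type u) [AddCommGroup N] [Module A N]
    [Module.Finite A N] [Nontrivial N] (p : Ideal A) (h : ∀ r ∈ p, ¬ IsSMulRegular N r) :
    ∃ q ∈ associatedPrimes A N, p ≤ q := by
  rcases associatedPrimes.nonempty A N with ⟨Ia, hIa⟩
  apply (Ideal.subset_union_prime_finite (associatedPrimes.finite A N) Ia Ia _).mp
  · rw [biUnion_associatedPrimes_eq_compl_regular A N]
    intro r hr
    exact h r hr
  · intro I hI _ _
    exact hI.isPrime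

/-- Given a Cohen–Macaulay module `M` with full support and a prime `p`, there is a
Cohen–Macaulay quotient `N` of `M` having `p` as an associated prime, of dimension `dim A/p`. -/
theorem exists_isCM_quotient (M : Type u) [AddCommGroup M] [Module A M] [Module.Finite A M]
    (hCM : LocCoh.IsCohenMacaulayModule A M) (hsupp : Module.support A M = Set.univ)
    (p : Ideal A) [hp : p.IsPrime] :
    ∃ (N : Type u) (_ : AddCommGroup N) (_ : Module A N) (_ : Module.Finite A N),
      LocCoh.IsCohenMacaulayModule A N ∧ p ∈ associatedPrimes A N ∧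
        Module.supportDim A N = ringKrullDim (A ⧸ p) := by
  have hMnt : Nontrivial M := Groth.Agent.H29.CML.nontrivial_of_isCM M hCM
  have hple : p ≤ maximalIdeal A := IsLocalRing.le_maximalIdeal hp.ne_top
  have hne : p • (⊤ : Submodule A M) ≠ ⊤ :=
    Groth.Agent.H72.DepthGen.smul_top_ne_top_of_le M p hple
  obtain ⟨rs, -, hreg, hmem, hmax⟩ := Groth.Agent.H26.exists_maximal_extension p M hne []
    (IsWeaklyRegular.nil A M) (by simp)
  have hrsm : ∀ r ∈ rs, r ∈ maximalIdeal A := fun r hr => hple (hmem r hr)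
  have hNCM : LocCoh.IsCohenMacaulayModule A (M ⧸ (Ideal.ofList rs • ⊤ : Submodule A M)) :=
    Groth.Agent.H29.CML.isCM_quotient_of_isWeaklyRegular rs M hCM hrsm hreg
  have hNnt : Nontrivial (M ⧸ (Ideal.ofList rs • ⊤ : Submodule A M)) :=
    Groth.Agent.H29.CML.nontrivial_of_isCM _ hNCM
  have hzd : ∀ r ∈ p, ¬ IsSMulRegular (M ⧸ (Ideal.ofList rs • ⊤ : Submodule A M)) r := by
    intro r hr hreg'
    apply hmax r hr
    rw [isWeaklyRegular_append_iff]
    refine ⟨hreg, ?_⟩
    rw [isWeaklyRegular_cons_iff]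
    exact ⟨hreg', IsWeaklyRegular.nil _ _⟩
  obtain ⟨q, hq, hpq⟩ := exists_le_mem_associatedPrimes _ p hzd
  have hqprime : q.IsPrime := hq.isPrime
  -- `p ∈ Supp N`
  have hpsupp : (⟨p, hp⟩ : PrimeSpectrum A) ∈
      Module.support A (M ⧸ (Ideal.ofList rs • ⊤ : Submodule A M)) := by
    rw [Module.support_quotient, hsupp]
    refine ⟨trivial, ?_⟩
    rw [PrimeSpectrum.mem_zeroLocus]
    change (Ideal.span {r | r ∈ rs} : Set A) ⊆ p
    rw [SetLike.coe_subset_coe, Ideal.span_le]
    intro r hr
    exact hmem r hr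
  obtain ⟨d, hd⟩ := Groth.Agent.H29.CML.exists_nat_supportDim_eq (A := A)
    (M ⧸ (Ideal.ofList rs • ⊤ : Submodule A M))
  have hdq := Groth.Agent.H29.CML.ringKrullDim_quotient_eq_supportDim_of_isCM _ hNCM q hq
  have heq : (⟨p, hp⟩ : PrimeSpectrum A) = ⟨q, hqprime⟩ :=
    Groth.Agent.H29.CML.eq_of_le_of_ringKrullDim_eq _ ⟨q, hqprime⟩ d hd (by rw [hdq, hd])
      ⟨p, hp⟩ hpsupp hpq
  have hpq' : p = q := congrArg PrimeSpectrum.asIdeal heq
  refine ⟨_, inferInstance, inferInstance, inferInstance, hNCM, ?_, ?_⟩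
  · rw [hpq']; exact hq
  · rw [hpq']; exact hdq.symm

end CMQuot

section Core

variable (A : Type u) [CommRing A] [IsNoetherianRing A] [IsLocalRing A]

theorem ringKrullDim_quotient_of_mem_associatedPrimes_tensor (N : Type u) [AddCommGroup N]
    [Module A N] [Module.Finite A N] (hN : LocCoh.IsCohenMacaulayModule A N)
    (p : Ideal A) [p.IsPrime] (hp : p ∈ associatedPrimes A N)
    (hdim : Module.supportDim A N = ringKrullDim (A ⧸ p))
    (Q : Ideal (AdicCompletion (maximalIdeal A) A))
    (hQ : Q ∈ associatedPrimes (AdicCompletion (maximalIdeal A) A)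
      (AdicCompletion (maximalIdeal A) A ⊗[A] (A ⧸ p))) :
    ringKrullDim (AdicCompletion (maximalIdeal A) A ⧸ Q) = ringKrullDim (A ⧸ p) := by
  have hloc := isLocalRing_compl A
  have hnoe := isNoetherianRing_compl A
  obtain ⟨-, n, hn⟩ := (isAssociatedPrime_iff).1 hp
  have hker : LinearMap.ker (LinearMap.toSpanSingleton A N n) = p := by
    rw [hn]
    ext a
    rw [LinearMap.mem_ker, LinearMap.toSpanSingleton_apply, Submodule.mem_colon_singleton,
      Submodule.mem_bot]
  let f : (A ⧸ p) →ₗ[A] N := Submodule.liftQ p (LinearMap.toSpanSingleton A N n) (le_of_eq hker.symm)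
  have hf : Function.Injective f := by
    rw [← LinearMap.ker_eq_bot]
    exact Submodule.ker_liftQ_eq_bot _ _ _ (le_of_eq hker)
  have hg : Function.Injective (f.baseChange (AdicCompletion (maximalIdeal A) A)) := by
    have := Module.Flat.lTensor_preserves_injective_linearMap
      (M := AdicCompletion (maximalIdeal A) A) f hf
    intro x y hxy
    apply this
    rw [← LinearMap.baseChange_eq_ltensor]
    exact hxy
  have hQ' := associatedPrimes.subset_of_injective hg hQ
  rw [Groth.Agent.H29.CML.ringKrullDim_quotient_eq_supportDim_of_isCM _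
    (isCM_completion_tensor A N hN) Q hQ', supportDim_completion_tensor, hdim]

end Core

section Transport

theorem isStrictlyEquidim_of_ringEquiv {R S : Type u} [CommRing R] [CommRing S] (e : R ≃+* S)
    (h : EGA4.IsStrictlyEquidim S) : EGA4.IsStrictlyEquidim R := by
  intro p hp
  obtain ⟨hpp, x, hx⟩ := hp
  have hp'prime : (p.comap (e.symm : S →+* R)).IsPrime := Ideal.comap_isPrime _ _
  have hp' : p.comap (e.symm : S →+* R) ∈ associatedPrimes S S := by
    refine ⟨hp'prime, e x, ?_⟩
    ext s
    rw [Ideal.mem_comap, hx, Ideal.mem_radical_iff, Ideal.mem_radical_iff]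
    constructor
    · rintro ⟨n, hn⟩
      refine ⟨n, ?_⟩
      rw [Submodule.mem_colon_singleton, Submodule.mem_bot] at hn ⊢
      have := congrArg e hn
      rw [smul_eq_mul, map_mul, map_pow, map_zero] at this
      simpa using this
    · rintro ⟨n, hn⟩
      refine ⟨n, ?_⟩
      rw [Submodule.mem_colon_singleton, Submodule.mem_bot] at hn ⊢
      have := congrArg e.symm hn
      rw [smul_eq_mul, map_mul, map_pow, map_zero] at this
      simpa using this
  have h1 := h _ hp'
  have e1 : (R ⧸ p) ≃+* (S ⧸ p.comap (e.symm : S →+* R)) :=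
    Ideal.quotientEquiv p (p.comap (e.symm : S →+* R)) e (Ideal.comap_symm e)
  rw [ringKrullDim_eq_of_ringEquiv e1, h1, ringKrullDim_eq_of_ringEquiv e]

end Transport

section Gen

theorem comap_mem_associatedPrimes_quotient {B : Type u} [CommRing B] [IsNoetherianRing B]
    (I : Ideal B) (Q' : Ideal (B ⧸ I)) (hQ' : Q' ∈ associatedPrimes (B ⧸ I) (B ⧸ I)) :
    Q'.comap (Ideal.Quotient.mk I) ∈ associatedPrimes B (B ⧸ I) := by
  obtain ⟨hQ'prime, x, hx⟩ := (isAssociatedPrime_iff).1 hQ'
  have hQprime : (Q'.comap (Ideal.Quotient.mk I)).IsPrime := Ideal.comap_isPrime _ _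
  refine (isAssociatedPrime_iff).2 ⟨hQprime, x, ?_⟩
  ext a
  rw [Ideal.mem_comap, hx, Submodule.mem_colon_singleton, Submodule.mem_colon_singleton,
    Submodule.mem_bot, Submodule.mem_bot]
  rfl

theorem ringKrullDim_quotient_comap_mk {B : Type u} [CommRing B]
    (I : Ideal B) (Q' : Ideal (B ⧸ I)) :
    ringKrullDim ((B ⧸ I) ⧸ Q') = ringKrullDim (B ⧸ Q'.comap (Ideal.Quotient.mk I)) := by
  have hle : I ≤ Q'.comap (Ideal.Quotient.mk I) := by
    intro a ha
    rw [Ideal.mem_comap, Ideal.Quotient.eq_zero_iff_mem.2 ha]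
    exact Q'.zero_mem
  have h2 : ringKrullDim ((B ⧸ I) ⧸ (Q'.comap (Ideal.Quotient.mk I)).map (Ideal.Quotient.mk I)) =
      ringKrullDim (B ⧸ Q'.comap (Ideal.Quotient.mk I)) :=
    ringKrullDim_eq_of_ringEquiv (DoubleQuot.quotQuotEquivQuotOfLE hle)
  rw [Ideal.map_comap_of_surjective _ Ideal.Quotient.mk_surjective] at h2
  exact h2

end Gen

section PartC

variable (A : Type u) [CommRing A] [IsNoetherianRing A] [IsLocalRing A]

theorem ringKrullDim_quotient_map_compl (p : Ideal A) [p.IsPrime] :
    ringKrullDim (AdicCompletion (maximalIdeal A) A ⧸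
      p.map (algebraMap A (AdicCompletion (maximalIdeal A) A))) = ringKrullDim (A ⧸ p) := by
  obtain ⟨e, -⟩ := Groth.Agent.H26.ComplQuot.exists_adicCompletion_quotient_equiv A p
  rw [← ringKrullDim_eq_of_ringEquiv e]
  exact Groth.Agent.Lead.RLR.ringKrullDim_adicCompletion_eq (A ⧸ p) (maximalIdeal (A ⧸ p))
    (maximalIdeal_ne_top _)

theorem isStrictlyEquidim_quotient_map (M : Type u) [AddCommGroup M] [Module A M]
    [Module.Finite A M] (hCM : LocCoh.IsCohenMacaulayModule A M)
    (hsupp : Module.support A M = Set.univ) (p : Ideal A) [p.IsPrime] :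
    EGA4.IsStrictlyEquidim (AdicCompletion (maximalIdeal A) A ⧸
      p.map (algebraMap A (AdicCompletion (maximalIdeal A) A))) := by
  have hnoe := isNoetherianRing_compl A
  obtain ⟨N, _, _, _, hNCM, hpAss, hdim⟩ := exists_isCM_quotient M hCM hsupp p
  intro Q' hQ'
  have hQass := comap_mem_associatedPrimes_quotient _ Q' hQ'
  have hQass' : Q'.comap (Ideal.Quotient.mk _) ∈
      associatedPrimes (AdicCompletion (maximalIdeal A) A)
        (AdicCompletion (maximalIdeal A) A ⊗[A] (A ⧸ p)) := by
    rw [← LinearEquiv.AssociatedPrimes.eq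
      (Algebra.TensorProduct.quotIdealMapEquivTensorQuot (AdicCompletion (maximalIdeal A) A)
        p).toLinearEquiv]
    exact hQass
  have h1 := ringKrullDim_quotient_of_mem_associatedPrimes_tensor A N hNCM p hpAss hdim _ hQass'
  rw [ringKrullDim_quotient_comap_mk, h1, ringKrullDim_quotient_map_compl]

end PartC

end Groth.Agent.H72.FormalEquidim
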