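import Mathlib
import Groth.Agent.H72.FormalEquidim2
import Groth.Agent.H20.ComplBij

set_option autoImplicit false
set_option linter.unusedSectionVars false
universe u
open IsLocalRing TensorProduct RingTheory.Sequence Pointwise

namespace Groth.Agent.H72.FormalEquidim

section Congr

/-- A ring isomorphism of local rings induces an isomorphism of completions. -/
theorem nonempty_ringEquiv_compl {R S : Type u} [CommRing R] [CommRing S] [IsLocalRing R]
    [IsLocalRing S] (e : R ≃+* S) :
    Nonempty (AdicCompletion (maximalIdeal R) R ≃+* AdicCompletion (maximalIdeal S) S) := by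
  have hl1 : IsLocalHom (e : R →+* S) :=
    ⟨fun a ha => (isLocalHom_equiv e).map_nonunit a ha⟩
  have hl2 : IsLocalHom (e.symm : S →+* R) :=
    ⟨fun a ha => (isLocalHom_equiv e.symm).map_nonunit a ha⟩
  have h1 : (maximalIdeal R).map (e : R →+* S) ≤ maximalIdeal S :=
    ((IsLocalRing.local_hom_TFAE (e : R →+* S)).out 0 2).mp hl1
  have h2 : (maximalIdeal S).map (e.symm : S →+* R) ≤ maximalIdeal R :=
    ((IsLocalRing.local_hom_TFAE (e.symm : S →+* R)).out 0 2).mp hl2
  have hb := Groth.Agent.H20.complMap_bijective (maximalIdeal R) (maximalIdeal S) (e : R →+* S) h1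
    (fun n => by
      constructor
      · apply Ideal.quotientMap_injective'
        intro x hx
        rw [Ideal.mem_comap] at hx
        have h3 : (e.symm : S →+* R) (e x) ∈ ((maximalIdeal S) ^ n).map (e.symm : S →+* R) :=
          Ideal.mem_map_of_mem _ hx
        rw [Ideal.map_pow] at h3
        have h4 := Ideal.pow_right_mono h2 n h3
        simpa using h4
      · exact Ideal.quotientMap_surjective e.surjective)
  exact ⟨RingEquiv.ofBijective _ hb⟩

end Congr

section Equi

theorem isEquidim_of_isStrictlyEquidim {R : Type u} [CommRing R] [IsNoetherianRing R]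
    (h : EGA4.IsStrictlyEquidim R) : EGA4.IsEquidim R := by
  intro p hp
  apply h
  apply Module.associatedPrimes.minimalPrimes_annihilator_subset_associatedPrimes R R
  rw [Module.annihilator_eq_bot.mpr inferInstance]
  exact hp

end Equi

end Groth.Agent.H72.FormalEquidim
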