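import Mathlib
import Groth.Agent.H72.FormalEquidim3

set_option autoImplicit false
set_option linter.unusedSectionVars false
universe u
open IsLocalRing TensorProduct RingTheory.Sequence Pointwise

namespace Groth.Agent.H72.FormalEquidim

section EquiTransport

theorem isEquidim_of_ringEquiv {R S : Type u} [CommRing R] [CommRing S] (e : R ≃+* S)
    (h : EGA4.IsEquidim S) : EGA4.IsEquidim R := by
  intro p hp
  have hp' : p.comap (e.symm : S →+* R) ∈ minimalPrimes S := by
    have h1 := Ideal.comap_minimalPrimes_eq_of_surjective (f := (e.symm : S →+* R))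
      e.symm.surjective ⊥
    have h0 : (⊥ : Ideal R).comap (e.symm : S →+* R) = ⊥ := by
      rw [← RingHom.ker_eq_comap_bot]
      exact (RingHom.injective_iff_ker_eq_bot _).1 e.symm.injective
    rw [h0] at h1
    change p.comap (e.symm : S →+* R) ∈ (⊥ : Ideal S).minimalPrimes
    rw [h1]
    exact ⟨p, hp, rfl⟩
  have h1 := h _ hp'
  have e1 : (R ⧸ p) ≃+* (S ⧸ p.comap (e.symm : S →+* R)) :=
    Ideal.quotientEquiv p (p.comap (e.symm : S →+* R)) e (Ideal.comap_symm e)
  rw [ringKrullDim_eq_of_ringEquiv e1, h1, ringKrullDim_eq_of_ringEquiv e]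

end EquiTransport

section FlatMin

variable {A B : Type u} [CommRing A] [CommRing B] [IsNoetherianRing B] [Algebra A B]
  [Module.Flat A B]

theorem comap_mem_minimalPrimes (Q : Ideal B) (hQ : Q ∈ minimalPrimes B) :
    Q.comap (algebraMap A B) ∈ minimalPrimes A ∧
      Q ∈ ((Q.comap (algebraMap A B)).map (algebraMap A B)).minimalPrimes := by
  have hQp : Q.IsPrime := hQ.1.1
  have hpp : (Q.comap (algebraMap A B)).IsPrime := Ideal.comap_isPrime _ _
  constructor
  · refine ⟨⟨hpp, bot_le⟩, ?_⟩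
    rintro p' ⟨hp'p, -⟩ hle
    have : Q.LiesOver (Q.comap (algebraMap A B)) := ⟨rfl⟩
    obtain ⟨P, hPQ, hP, hPp⟩ := Ideal.exists_ideal_le_liesOver_of_le (p := p')
      (q := Q.comap (algebraMap A B)) Q hle
    have h2 : Q ≤ P := hQ.2 ⟨hP, bot_le⟩ hPQ
    have h3 : P = Q := le_antisymm hPQ h2
    subst h3
    exact (Ideal.LiesOver.over (p := p') (P := P)).ge
  · refine ⟨⟨hQp, Ideal.map_comap_le⟩, ?_⟩
    rintro Q' ⟨hQ'p, -⟩ hle
    exact hQ.2 ⟨hQ'p, bot_le⟩ hle

theorem mem_minimalPrimes_of_mem_minimalPrimes_map (p : Ideal A) (hp : p ∈ minimalPrimes A)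
    (Q : Ideal B) (hQ : Q ∈ (p.map (algebraMap A B)).minimalPrimes) : Q ∈ minimalPrimes B := by
  have hpp : p.IsPrime := hp.1.1
  have hQp : Q.IsPrime := hQ.1.1
  refine ⟨⟨hQp, bot_le⟩, ?_⟩
  rintro Q' ⟨hQ'p, -⟩ hle
  have h1 : Q'.comap (algebraMap A B) ≤ p := by
    rw [← Groth.Agent.H72.EquidimFlat.comap_eq_of_mem_minimalPrimes_map p Q hQ]
    exact Ideal.comap_mono hle
  have h2 : p ≤ Q'.comap (algebraMap A B) := hp.2 ⟨Ideal.comap_isPrime _ _, bot_le⟩ h1
  exact hQ.2 ⟨hQ'p, Ideal.map_le_iff_le_comap.mpr h2⟩ hle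

end FlatMin

section MainIff

variable {A B : Type u} [CommRing A] [CommRing B] [IsNoetherianRing A] [IsNoetherianRing B]
  [IsLocalRing A] [IsLocalRing B] [Algebra A B] [IsLocalHom (algebraMap A B)] [Module.Flat A B]

theorem isEquidim_iff_of_flat (hdimB : ringKrullDim B = ringKrullDim A)
    (hdimq : ∀ (p : Ideal A) [p.IsPrime],
      ringKrullDim (B ⧸ p.map (algebraMap A B)) = ringKrullDim (A ⧸ p)) :
    EGA4.IsEquidim B ↔ (EGA4.IsEquidim A ∧ ∀ p ∈ minimalPrimes A,
      EGA4.IsEquidim (B ⧸ p.map (algebraMap A B))) := by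
  constructor
  · intro heq
    have hA : EGA4.IsEquidim A := by
      intro p hp
      have hpp : p.IsPrime := hp.1.1
      have hle : p.map (algebraMap A B) ≤ maximalIdeal B :=
        IsLocalRing.le_maximalIdeal (Groth.Agent.H72.EquidimFlat.map_ne_top p)
      obtain ⟨Q, hQ, -⟩ := Ideal.exists_minimalPrimes_le hle
      have hQmin := mem_minimalPrimes_of_mem_minimalPrimes_map p hp Q hQ
      have h1 := heq Q hQmin
      have h2 : ringKrullDim (B ⧸ Q) ≤ ringKrullDim (B ⧸ p.map (algebraMap A B)) :=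
        ringKrullDim_le_of_surjective (Ideal.Quotient.factor hQ.1.2)
          (Ideal.Quotient.factor_surjective hQ.1.2)
      rw [h1, hdimB, hdimq p] at h2
      exact le_antisymm (ringKrullDim_quotient_le p) h2
    refine ⟨hA, ?_⟩
    intro p hp P' hP'
    have hpp : p.IsPrime := hp.1.1
    obtain ⟨Q, hQ, rfl⟩ :=
      Groth.Agent.H72.EquidimFlat.exists_eq_map_mk_of_mem_minimalPrimes _ P' hP'
    have hQmin := mem_minimalPrimes_of_mem_minimalPrimes_map p hp Q hQ
    rw [Groth.Agent.H72.EquidimFlat.ringKrullDim_quotQuot _ Q hQ.1.2, heq Q hQmin, hdimB,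
      hdimq p, hA p hp]
  · rintro ⟨hA, hq⟩ Q hQ
    obtain ⟨hpmin, hQmin⟩ := comap_mem_minimalPrimes (A := A) Q hQ
    have hpp : (Q.comap (algebraMap A B)).IsPrime := hpmin.1.1
    have h1 := hq _ hpmin _ (Groth.Agent.H72.EquidimFlat.map_mk_mem_minimalPrimes _ Q hQmin)
    rw [Groth.Agent.H72.EquidimFlat.ringKrullDim_quotQuot _ Q hQmin.1.2,
      hdimq (Q.comap (algebraMap A B)), hA _ hpmin] at h1
    rw [h1, hdimB]

end MainIff

end Groth.Agent.H72.FormalEquidim
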