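import Mathlib
import Groth.Agent.H72.FormalEquidim4
import Groth.Agent.H72.FormalEquidim3
import Groth.Agent.H20.LocalHomLevels
import Groth.Agent.H26.ComplQuot
import Groth.Agent.S2629

set_option autoImplicit false
set_option linter.unusedSectionVars false
universe u
open IsLocalRing

namespace Groth.Agent.H72.HensFormal

section Compl

variable {R S : Type u} [CommRing R] [CommRing S] [IsLocalRing R] [IsLocalRing S] [Algebra R S]
  [IsLocalHom (algebraMap R S)]

/-- A flat local homomorphism with `𝔪_R S = 𝔪_S` and trivial residue field extension induces an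
isomorphism of completions. -/
theorem exists_complEquiv [Module.Flat R S]
    (hmax : (maximalIdeal R).map (algebraMap R S) = maximalIdeal S)
    (hres : ∀ b : S, ∃ a : R, b - algebraMap R S a ∈ maximalIdeal S) :
    ∃ φ : AdicCompletion (maximalIdeal R) R ≃+* AdicCompletion (maximalIdeal S) S,
      ∀ r : R, φ (algebraMap R (AdicCompletion (maximalIdeal R) R) r) =
        algebraMap S (AdicCompletion (maximalIdeal S) S) (algebraMap R S r) := by
  have hle : (maximalIdeal R).map (algebraMap R S) ≤ maximalIdeal S := hmax.le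
  have hsurj := fun k => Groth.Agent.H20.exists_sub_mem_pow_of_map_maximalIdeal
    (A := R) (B := S) hmax hres k
  have hker := fun k => Groth.Agent.H20.ker_mk_comp_eq_pow_of_flat (A := R) (B := S) hmax k
  have hb : ∀ n, Function.Bijective (Ideal.quotientMap (maximalIdeal S ^ n) (algebraMap R S)
      (FSch.pow_le_comap_pow_of_map_le (maximalIdeal R) (maximalIdeal S) (algebraMap R S) hle n)) := by
    intro n
    constructor
    · rw [injective_iff_map_eq_zero]
      intro y hy
      obtain ⟨a, rfl⟩ := Ideal.Quotient.mk_surjective y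
      rw [Ideal.quotientMap_mk, Ideal.Quotient.eq_zero_iff_mem] at hy
      rw [Ideal.Quotient.eq_zero_iff_mem, ← hker n, RingHom.mem_ker, RingHom.comp_apply,
        Ideal.Quotient.eq_zero_iff_mem]
      exact hy
    · intro y
      obtain ⟨b, rfl⟩ := Ideal.Quotient.mk_surjective y
      obtain ⟨a, ha⟩ := hsurj n b
      refine ⟨Ideal.Quotient.mk _ a, ?_⟩
      rw [Ideal.quotientMap_mk, Ideal.Quotient.eq]
      have := (maximalIdeal S ^ n).neg_mem ha
      rwa [neg_sub] at this
  have hψ := Groth.Agent.H20.complMap_bijective (maximalIdeal R) (maximalIdeal S)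
    (algebraMap R S) hle hb
  refine ⟨RingEquiv.ofBijective _ hψ, fun r => ?_⟩
  rw [RingEquiv.ofBijective_apply, AdicCompletion.algebraMap_apply, Algebra.algebraMap_self,
    RingHom.id_apply, Groth.Agent.H20.complMap_of, AdicCompletion.algebraMap_apply,
    Algebra.algebraMap_self, RingHom.id_apply]

end Compl

section Main

open TensorProduct

variable {R S : Type u} [CommRing R] [CommRing S] [IsLocalRing R] [IsLocalRing S] [Algebra R S]
  [IsLocalHom (algebraMap R S)] [IsNoetherianRing R] [IsNoetherianRing S]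

/-- Under the hypotheses of `exists_complEquiv`, the completions of `R ⧸ p` and `S ⧸ pS` are
isomorphic. -/
theorem nonempty_compl_quotient_equiv [Module.Flat R S]
    (hmax : (maximalIdeal R).map (algebraMap R S) = maximalIdeal S)
    (hres : ∀ b : S, ∃ a : R, b - algebraMap R S a ∈ maximalIdeal S)
    (p : Ideal R) [IsLocalRing (R ⧸ p)] [IsLocalRing (S ⧸ p.map (algebraMap R S))] :
    Nonempty (AdicCompletion (maximalIdeal (R ⧸ p)) (R ⧸ p) ≃+*
      AdicCompletion (maximalIdeal (S ⧸ p.map (algebraMap R S)))
        (S ⧸ p.map (algebraMap R S))) := by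
  obtain ⟨φ, hφ⟩ := exists_complEquiv (R := R) (S := S) hmax hres
  obtain ⟨e1, -⟩ := Groth.Agent.H26.ComplQuot.exists_adicCompletion_quotient_equiv R p
  obtain ⟨e2, -⟩ := Groth.Agent.H26.ComplQuot.exists_adicCompletion_quotient_equiv S
    (p.map (algebraMap R S))
  have hmap : (p.map (algebraMap R (AdicCompletion (maximalIdeal R) R))).map
      (φ : AdicCompletion (maximalIdeal R) R →+* AdicCompletion (maximalIdeal S) S) =
      (p.map (algebraMap R S)).map (algebraMap S (AdicCompletion (maximalIdeal S) S)) := by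
    rw [Ideal.map_map, Ideal.map_map]
    congr 1
    apply RingHom.ext
    intro r
    exact hφ r
  exact ⟨e1.trans ((Ideal.quotientEquiv _ _ φ hmap.symm).trans e2.symm)⟩

/-- If contraction is strictly monotone on primes of `S`, then `P` becomes a minimal prime of
`S ⧸ 𝔭` for any ideal `(P ∩ R) S ≤ 𝔭 ≤ P`. -/
theorem map_mk_mem_minimalPrimes
    (hlt : ∀ (q q' : Ideal S), q.IsPrime → q'.IsPrime → q < q' →
      q.comap (algebraMap R S) < q'.comap (algebraMap R S))
    (P : Ideal S) [P.IsPrime] (𝔭 : Ideal S) (hle : 𝔭 ≤ P)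
    (h𝔭 : (P.comap (algebraMap R S)).map (algebraMap R S) ≤ 𝔭) :
    P.map (Ideal.Quotient.mk 𝔭) ∈ minimalPrimes (S ⧸ 𝔭) := by
  have hsurj : Function.Surjective (Ideal.Quotient.mk 𝔭) := Ideal.Quotient.mk_surjective
  have hcm : (P.map (Ideal.Quotient.mk 𝔭)).comap (Ideal.Quotient.mk 𝔭) = P := by
    rw [Ideal.comap_map_of_surjective _ hsurj, ← RingHom.ker_eq_comap_bot, Ideal.mk_ker,
      sup_eq_left.mpr hle]
  have hprime : (P.map (Ideal.Quotient.mk 𝔭)).IsPrime := by
    apply Ideal.map_isPrime_of_surjective hsurj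
    rw [Ideal.mk_ker]
    exact hle
  refine ⟨⟨hprime, bot_le⟩, ?_⟩
  rintro Q' ⟨hQ'prime, -⟩ hQ'le
  have hQprime : (Q'.comap (Ideal.Quotient.mk 𝔭)).IsPrime := Ideal.comap_isPrime _ _
  have hQle : Q'.comap (Ideal.Quotient.mk 𝔭) ≤ P := (Ideal.comap_mono hQ'le).trans hcm.le
  have hker : 𝔭 ≤ Q'.comap (Ideal.Quotient.mk 𝔭) := by
    intro a ha
    rw [Ideal.mem_comap, Ideal.Quotient.eq_zero_iff_mem.2 ha]
    exact Q'.zero_mem
  have hcomap : P.comap (algebraMap R S) ≤
      (Q'.comap (Ideal.Quotient.mk 𝔭)).comap (algebraMap R S) := by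
    rw [← Ideal.map_le_iff_le_comap]
    exact h𝔭.trans hker
  have hQeq : Q'.comap (Ideal.Quotient.mk 𝔭) = P := by
    by_contra hne
    have hlt' := hlt _ P hQprime inferInstance (lt_of_le_of_ne hQle hne)
    exact absurd (lt_of_lt_of_le hlt' hcomap) (lt_irrefl _)
  have : (Q'.comap (Ideal.Quotient.mk 𝔭)).map (Ideal.Quotient.mk 𝔭) = Q' :=
    Ideal.map_comap_of_surjective _ hsurj Q'
  rw [hQeq] at this
  exact this.le

/-- quotient of a formally strictly equidimensional ring by a minimal prime -/
theorem isStrictlyEquidim_quotient_map_of_mem_minimalPrimes (B : Type u) [CommRing B]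
    [IsLocalRing B] [IsNoetherianRing B]
    (h : EGA4.IsStrictlyEquidim (AdicCompletion (maximalIdeal B) B))
    (q : Ideal B) [q.IsPrime] (hq : q ∈ minimalPrimes B) :
    EGA4.IsStrictlyEquidim (AdicCompletion (maximalIdeal B) B ⧸
      q.map (algebraMap B (AdicCompletion (maximalIdeal B) B))) := by
  have hnoe := Groth.Agent.H72.FormalEquidim.isNoetherianRing_compl B
  have hqass : q ∈ associatedPrimes B B := by
    apply Module.associatedPrimes.minimalPrimes_annihilator_subset_associatedPrimes B B
    rw [Module.annihilator_eq_bot.mpr inferInstance]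
    exact hq
  obtain ⟨-, f, hf⟩ := (isAssociatedPrime_iff_exists_injective_linearMap q B).1 hqass
  have hflat : Module.Flat B (AdicCompletion (maximalIdeal B) B) := inferInstance
  have hfinj : Function.Injective (f.baseChange (AdicCompletion (maximalIdeal B) B)) := by
    rw [LinearMap.baseChange_eq_ltensor]
    exact Module.Flat.lTensor_preserves_injective_linearMap f hf
  intro Q' hQ'
  have hQass := Groth.Agent.H72.FormalEquidim.comap_mem_associatedPrimes_quotient _ Q' hQ'
  have hQass' : Q'.comap (Ideal.Quotient.mk _) ∈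
      associatedPrimes (AdicCompletion (maximalIdeal B) B)
        (AdicCompletion (maximalIdeal B) B ⊗[B] (B ⧸ q)) := by
    rw [← LinearEquiv.AssociatedPrimes.eq
      (Algebra.TensorProduct.quotIdealMapEquivTensorQuot (AdicCompletion (maximalIdeal B) B)
        q).toLinearEquiv]
    exact hQass
  have hQB : Q'.comap (Ideal.Quotient.mk _) ∈
      associatedPrimes (AdicCompletion (maximalIdeal B) B) (AdicCompletion (maximalIdeal B) B) := by
    rw [← LinearEquiv.AssociatedPrimes.eq
      (TensorProduct.AlgebraTensorModule.rid B (AdicCompletion (maximalIdeal B) B)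
        (AdicCompletion (maximalIdeal B) B))]
    exact associatedPrimes.subset_of_injective hfinj hQass'
  have h1 := h _ hQB
  rw [Groth.Agent.H72.FormalEquidim.ringKrullDim_quotient_comap_mk, h1]
  apply le_antisymm
  · rw [← h1]
    have hle : q.map (algebraMap B (AdicCompletion (maximalIdeal B) B)) ≤
        Q'.comap (Ideal.Quotient.mk _) := by
      intro a ha
      rw [Ideal.mem_comap, Ideal.Quotient.eq_zero_iff_mem.2 ha]
      exact Q'.zero_mem
    exact ringKrullDim_le_of_surjective (Ideal.Quotient.factor hle)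
      (Ideal.Quotient.factor_surjective hle)
  · exact ringKrullDim_quotient_le _

/-- Formal catenarity ascends along a flat local homomorphism with `𝔪_R S = 𝔪_S`, trivial residue
extension and strictly monotone contraction of primes. -/
theorem isFormallyCatenary_of_flat [Module.Flat R S]
    (hmax : (maximalIdeal R).map (algebraMap R S) = maximalIdeal S)
    (hres : ∀ b : S, ∃ a : R, b - algebraMap R S a ∈ maximalIdeal S)
    (hlt : ∀ (q q' : Ideal S), q.IsPrime → q'.IsPrime → q < q' →
      q.comap (algebraMap R S) < q'.comap (algebraMap R S))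
    (h : EGA4.IsFormallyCatenary R) : EGA4.IsFormallyCatenary S := by
  intro P hP
  have hpprime : (P.comap (algebraMap R S)).IsPrime := Ideal.comap_isPrime _ _
  have hle : (P.comap (algebraMap R S)).map (algebraMap R S) ≤ P := Ideal.map_comap_le
  have hne : (P.comap (algebraMap R S)).map (algebraMap R S) ≠ ⊤ := fun h =>
    hP.ne_top (top_le_iff.mp (h ▸ hle))
  have hnt : Nontrivial (S ⧸ (P.comap (algebraMap R S)).map (algebraMap R S)) :=
    Ideal.Quotient.nontrivial_iff.mpr hne
  obtain ⟨e⟩ := nonempty_compl_quotient_equiv (R := R) (S := S) hmax hres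
    (P.comap (algebraMap R S))
  have h1 : EGA4.IsFormallyEquidim (S ⧸ (P.comap (algebraMap R S)).map (algebraMap R S)) :=
    Groth.Agent.H72.FormalEquidim.isEquidim_of_ringEquiv e.symm (h (P.comap (algebraMap R S)))
  have hmin := map_mk_mem_minimalPrimes (R := R) hlt P _ hle le_rfl
  have hPbar : (P.map (Ideal.Quotient.mk
      ((P.comap (algebraMap R S)).map (algebraMap R S)))).IsPrime := hmin.1.1
  have h2 := ((Groth.Agent.S2629.result
    (S ⧸ (P.comap (algebraMap R S)).map (algebraMap R S))).1 h1).2 _ hmin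
  obtain ⟨ê⟩ := Groth.Agent.H72.FormalEquidim.nonempty_ringEquiv_compl
    (DoubleQuot.quotQuotEquivQuotOfLE hle).symm
  exact Groth.Agent.H72.FormalEquidim.isEquidim_of_ringEquiv ê h2

/-- Strict formal catenarity ascends along a flat local homomorphism with `𝔪_R S = 𝔪_S`, trivial
residue extension and strictly monotone contraction of primes. -/
theorem isFormallyStrictlyCatenary_of_flat [Module.Flat R S]
    (hmax : (maximalIdeal R).map (algebraMap R S) = maximalIdeal S)
    (hres : ∀ b : S, ∃ a : R, b - algebraMap R S a ∈ maximalIdeal S)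
    (hlt : ∀ (q q' : Ideal S), q.IsPrime → q'.IsPrime → q < q' →
      q.comap (algebraMap R S) < q'.comap (algebraMap R S))
    (h : EGA4.IsFormallyStrictlyCatenary R) : EGA4.IsFormallyStrictlyCatenary S := by
  intro P hP
  have hpprime : (P.comap (algebraMap R S)).IsPrime := Ideal.comap_isPrime _ _
  have hle : (P.comap (algebraMap R S)).map (algebraMap R S) ≤ P := Ideal.map_comap_le
  have hne : (P.comap (algebraMap R S)).map (algebraMap R S) ≠ ⊤ := fun h =>
    hP.ne_top (top_le_iff.mp (h ▸ hle))
  have hnt : Nontrivial (S ⧸ (P.comap (algebraMap R S)).map (algebraMap R S)) :=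
    Ideal.Quotient.nontrivial_iff.mpr hne
  obtain ⟨e⟩ := nonempty_compl_quotient_equiv (R := R) (S := S) hmax hres
    (P.comap (algebraMap R S))
  have h1 : EGA4.IsStrictlyEquidim (AdicCompletion
      (maximalIdeal (S ⧸ (P.comap (algebraMap R S)).map (algebraMap R S)))
      (S ⧸ (P.comap (algebraMap R S)).map (algebraMap R S))) :=
    Groth.Agent.H72.FormalEquidim.isStrictlyEquidim_of_ringEquiv e.symm
      (h (P.comap (algebraMap R S)))
  have hmin := map_mk_mem_minimalPrimes (R := R) hlt P _ hle le_rfl
  have hPbar : (P.map (Ideal.Quotient.mk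
      ((P.comap (algebraMap R S)).map (algebraMap R S)))).IsPrime := hmin.1.1
  have h2 := isStrictlyEquidim_quotient_map_of_mem_minimalPrimes
    (S ⧸ (P.comap (algebraMap R S)).map (algebraMap R S)) h1 _ hmin
  obtain ⟨e3, -⟩ := Groth.Agent.H26.ComplQuot.exists_adicCompletion_quotient_equiv
    (S ⧸ (P.comap (algebraMap R S)).map (algebraMap R S))
    (P.map (Ideal.Quotient.mk ((P.comap (algebraMap R S)).map (algebraMap R S))))
  have h3 := Groth.Agent.H72.FormalEquidim.isStrictlyEquidim_of_ringEquiv e3 h2
  obtain ⟨ê⟩ := Groth.Agent.H72.FormalEquidim.nonempty_ringEquiv_compl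
    (DoubleQuot.quotQuotEquivQuotOfLE hle).symm
  exact Groth.Agent.H72.FormalEquidim.isStrictlyEquidim_of_ringEquiv ê h3

end Main

end Groth.Agent.H72.HensFormal
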