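import Mathlib
import Groth.Prelude.Def_Found
import Groth.Prelude.Def_EGA4b
import Groth.Agent.H13.LocalNagata
import Groth.Agent.H13.N1Crit
import Groth.Agent.H26.FormalFibreFinite
import Groth.Agent.H26.FormalFibreQuot
import Groth.Agent.H26.NormalFlat
import Groth.Agent.H48.GeomIrr
import Groth.Agent.S0499

/-!
# Henselian local rings with geometrically normal formal fibres (EGA IV 18.9.1 / 18.9.2)

For a henselian Noetherian local ring `A` whose formal fibres are geometrically normal:
* the normalization `B'` of a finite domain `B` over `A` is finite, local and `B' ⊗_A Â` is a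
  normal local ring, hence a domain;
* the formal fibres of `A` are geometrically integral;
* if `A` is a domain then so is `Â`.
-/

set_option autoImplicit false
set_option linter.style.haveILetI false
set_option linter.unusedSectionVars false
set_option linter.unnecessarySimpa false
universe u

open TensorProduct IsLocalRing

namespace Groth.Agent.H72.HensGeomInt

/-- A normal ring is reduced. -/
theorem isReduced_of_isNormalRing (R : Type u) [CommRing R] (h : EGA4.IsNormalRing R) :
    IsReduced R := by
  refine isReduced_ofLocalizationMaximal R (fun J hJ => ?_)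
  haveI : J.IsPrime := hJ.isPrime
  haveI := (h J).1
  infer_instance

/-- A local normal ring is a domain. -/
theorem isDomain_of_isNormalRing_of_isLocalRing (R : Type u) [CommRing R] [IsLocalRing R]
    (h : EGA4.IsNormalRing R) : IsDomain R := by
  haveI := (h (maximalIdeal R)).1
  have hinj : Function.Injective (algebraMap R (Localization.AtPrime (maximalIdeal R))) := by
    apply IsLocalization.injective (M := (maximalIdeal R).primeCompl)
    intro x hx
    have hu : IsUnit x := by
      by_contra hnu
      exact hx ((IsLocalRing.mem_maximalIdeal x).mpr hnu)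
    exact IsUnit.mem_nonZeroDivisors hu
  exact hinj.isDomain _

/-- An integrally closed domain is a normal ring. -/
theorem isNormalRing_of_isIntegrallyClosed (R : Type u) [CommRing R] [IsDomain R]
    [IsIntegrallyClosed R] : EGA4.IsNormalRing R := by
  intro p hp
  exact ⟨inferInstance, isIntegrallyClosed_of_isLocalization (Localization.AtPrime p) p.primeCompl
    p.primeCompl_le_nonZeroDivisors⟩

/-- A domain which is finite over a henselian local ring is local. -/
theorem isLocalRing_of_finite_of_isDomain (A : Type u) [CommRing A] [HenselianLocalRing A]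
    (S : Type u) [CommRing S] [IsDomain S] [Algebra A S] [Module.Finite A S] : IsLocalRing S := by
  classical
  obtain ⟨ι, hι, X, hX, hloc, ⟨e⟩⟩ := Groth.Agent.S0499.result A S
  haveI := hloc
  have hsub : ∀ i j : ι, i = j := by
    intro i j
    by_contra hij
    have h1 : e.symm (Pi.single i 1) * e.symm (Pi.single j 1) = 0 := by
      rw [← map_mul]
      have : (Pi.single i 1 : ∀ i, X i) * Pi.single j 1 = 0 := by
        funext k
        by_cases hk : k = i
        · subst hk
          simp [hij]
        · simp [hk]
      rw [this, map_zero]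
    rcases mul_eq_zero.mp h1 with h | h
    · have h2 : (Pi.single i 1 : ∀ i, X i) = 0 := by
        have := congrArg e h
        simpa using this
      have := congrFun h2 i
      simp at this
    · have h2 : (Pi.single j 1 : ∀ i, X i) = 0 := by
        have := congrArg e h
        simpa using this
      have := congrFun h2 j
      simp at this
  refine IsLocalRing.of_isUnit_or_isUnit_one_sub_self (fun a => ?_)
  have key : ∀ b : S, (∀ i, IsUnit (e b i)) → IsUnit b := by
    intro b hb
    have : IsUnit (e b) := Pi.isUnit_iff.mpr hb
    exact (isUnit_map_iff e b).mp this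
  by_cases hne : Nonempty ι
  · obtain ⟨i₀⟩ := hne
    rcases IsLocalRing.isUnit_or_isUnit_one_sub_self (e a i₀) with h | h
    · left
      refine key a (fun i => ?_)
      rw [hsub i i₀]
      exact h
    · right
      refine key (1 - a) (fun i => ?_)
      rw [hsub i i₀]
      simpa using h
  · left
    exact key a (fun i => (hne ⟨i⟩).elim)

section Local

variable (A : Type u) [CommRing A] [IsLocalRing A] [IsNoetherianRing A]

set_option backward.isDefEq.respectTransparency false in
/-- For a finite domain `B` over `A` with fraction field `K`, the ring `K ⊗_A Â` is normal when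
the formal fibres of `A` are geometrically normal. -/
theorem isNormalRing_fractionField_tensor (hA : EGA4.HasGeomNormalFormalFibres A)
    (B K : Type u) [CommRing B] [IsDomain B] [Field K] [Algebra A B] [Module.Finite A B]
    [Algebra B K] [IsFractionRing B K] [Algebra A K] [IsScalarTower A B K] :
    EGA4.IsNormalRing (K ⊗[A] EGA4.Cpl A) := by
  obtain ⟨p, hp, alg, tower⟩ :=
    Groth.Agent.H26.RegHomBaseChange.exists_residueField_algebra' (R := A) K
  haveI hfin : Module.Finite p.ResidueField K :=
    Groth.Agent.H26.FormalFibreFinite.finite_residueField_of_finite A B K p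
  have h := hA p K hfin
  exact Groth.Agent.H26.FormalFibreQuot.isNormalRing_of_ringEquiv
    (Groth.Agent.H26.RegHomDescent.tensorFiberEquiv A (EGA4.Cpl A) K p).symm h

/-- A finite domain over a Noetherian local ring with geometrically normal formal fibres is N-1. -/
theorem isN1_of_finite (hA : EGA4.HasGeomNormalFormalFibres A)
    (B : Type u) [CommRing B] [IsDomain B] [Algebra A B] [Module.Finite A B] : CAlg.IsN1 B := by
  haveI := Groth.Agent.H72.FormalEquidim.isLocalRing_compl A
  haveI := Groth.Agent.H72.FormalEquidim.isNoetherianRing_compl A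
  haveI := Groth.Agent.H72.FormalEquidim.isLocalHom_compl A
  haveI : IsAdicComplete (maximalIdeal (AdicCompletion (maximalIdeal A) A))
      (AdicCompletion (maximalIdeal A) A) :=
    AdicCompletion.isAdicComplete_of_fg (maximalIdeal A).fg_of_isNoetherianRing
  haveI : Module.FaithfullyFlat A (AdicCompletion (maximalIdeal A) A) :=
    Module.FaithfullyFlat.of_flat_of_isLocalHom
  have hC : CAlg.IsNagata (AdicCompletion (maximalIdeal A) A) :=
    Groth.Agent.H13.CompleteNagata.isNagata_of_complete_local _
  refine Groth.Agent.H13.NagataDescent.isN1_of_faithfullyFlat_nagata A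
      (AdicCompletion (maximalIdeal A) A) B hC ?_
  have h1 : IsReduced (FractionRing B ⊗[A] EGA4.Cpl A) :=
    isReduced_of_isNormalRing _ (isNormalRing_fractionField_tensor A hA B (FractionRing B))
  exact isReduced_of_injective
    (Algebra.TensorProduct.comm A (AdicCompletion (maximalIdeal A) A) (FractionRing B)).toRingHom
    (Algebra.TensorProduct.comm A (AdicCompletion (maximalIdeal A) A) (FractionRing B)).injective

attribute [local instance] Algebra.TensorProduct.rightAlgebra

/-- `B' ⊗_A Â` is finite over `Â` (for the right algebra structure). -/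
theorem finite_tensor_cpl (B' : Type u) [CommRing B'] [Algebra A B'] [Module.Finite A B'] :
    Module.Finite (EGA4.Cpl A) (B' ⊗[A] EGA4.Cpl A) := by
  refine Module.Finite.of_equiv_equiv (A₁ := EGA4.Cpl A) (B₁ := EGA4.Cpl A ⊗[A] B')
    (RingEquiv.refl _) (Algebra.TensorProduct.comm A (EGA4.Cpl A) B').toRingEquiv ?_
  ext x
  simp [Algebra.TensorProduct.right_algebraMap_apply]

/-- every element of `Â` is congruent to an element of `A` modulo the maximal ideal. -/
theorem exists_sub_mem_maximalIdeal (x : EGA4.Cpl A) :
    ∃ a : A, x - algebraMap A (EGA4.Cpl A) a ∈ maximalIdeal (EGA4.Cpl A) := by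
  obtain ⟨a, ha⟩ := Submodule.mkQ_surjective _ (x.1 1)
  refine ⟨a, ?_⟩
  rw [AdicCompletion.mem_maximalIdeal_iff_eval_one_eq_zero]
  have h1 : (algebraMap A (EGA4.Cpl A) a).1 1 = x.1 1 := by
    rw [← ha]
    rfl
  have : (x - algebraMap A (EGA4.Cpl A) a).1 1 = x.1 1 - (algebraMap A (EGA4.Cpl A) a).1 1 := rfl
  rw [this, h1, sub_self]

/-- If `B'` is a local ring, finite over `A`, then `B' ⊗_A Â` is a local ring. -/
theorem isLocalRing_tensor_cpl (B' : Type u) [CommRing B'] [IsLocalRing B'] [Algebra A B']
    [Module.Finite A B'] : IsLocalRing (B' ⊗[A] EGA4.Cpl A) := by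
  haveI hfin := finite_tensor_cpl A B'
  haveI hint : Algebra.IsIntegral (EGA4.Cpl A) (B' ⊗[A] EGA4.Cpl A) :=
    Algebra.IsIntegral.of_finite _ _
  haveI := Groth.Agent.H72.FormalEquidim.isLocalHom_compl A
  haveI : Module.FaithfullyFlat A (EGA4.Cpl A) :=
    Module.FaithfullyFlat.of_flat_of_isLocalHom
  haveI hnt : Nontrivial (B' ⊗[A] EGA4.Cpl A) :=
    Module.FaithfullyFlat.rTensor_nontrivial A (EGA4.Cpl A) B'
  set T := B' ⊗[A] EGA4.Cpl A with hT
  let I : Ideal T := (maximalIdeal (EGA4.Cpl A)).map (algebraMap (EGA4.Cpl A) T)
  have hI : ∀ M : Ideal T, M.IsMaximal → I ≤ M := by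
    intro M hM
    have h1 : (M.comap (algebraMap (EGA4.Cpl A) T)).IsMaximal :=
      Ideal.isMaximal_comap_of_isIntegral_of_isMaximal M
    have h2 := IsLocalRing.eq_maximalIdeal h1
    rw [Ideal.map_le_iff_le_comap, h2]
  have hsurj : Function.Surjective ((Ideal.Quotient.mk I).comp (algebraMap B' T)) := by
    intro y
    obtain ⟨t, rfl⟩ := Ideal.Quotient.mk_surjective y
    induction t using TensorProduct.induction_on with
    | zero => exact ⟨0, by simp⟩
    | tmul b x =>
      obtain ⟨a, ha⟩ := exists_sub_mem_maximalIdeal A x
      refine ⟨a • b, ?_⟩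
      rw [RingHom.comp_apply, Ideal.Quotient.eq]
      have h1 : algebraMap B' T (a • b) - b ⊗ₜ[A] x =
          - ((algebraMap B' T b) *
            algebraMap (EGA4.Cpl A) T (x - algebraMap A (EGA4.Cpl A) a)) := by
        rw [Algebra.TensorProduct.right_algebraMap_apply, Algebra.TensorProduct.algebraMap_apply,
          Algebra.TensorProduct.algebraMap_apply, Algebra.algebraMap_self, RingHom.id_apply,
          RingHom.id_apply, Algebra.TensorProduct.tmul_mul_tmul, mul_one, one_mul,
          TensorProduct.tmul_sub, Algebra.algebraMap_eq_smul_one, TensorProduct.tmul_smul,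
          TensorProduct.smul_tmul']
        abel
      rw [h1]
      exact I.neg_mem (I.mul_mem_left _ (Ideal.mem_map_of_mem _ ha))
    | add t₁ t₂ h₁ h₂ =>
      obtain ⟨b₁, hb₁⟩ := h₁
      obtain ⟨b₂, hb₂⟩ := h₂
      exact ⟨b₁ + b₂, by rw [map_add, hb₁, hb₂, map_add]⟩
  obtain ⟨M₀, hM₀⟩ := Ideal.exists_maximal T
  have hIne : I ≠ ⊤ := fun h => hM₀.ne_top (top_le_iff.mp (h ▸ hI M₀ hM₀))
  haveI hntQ : Nontrivial (T ⧸ I) := Ideal.Quotient.nontrivial_iff.mpr hIne
  haveI hlocQ : IsLocalRing (T ⧸ I) := IsLocalRing.of_surjective' _ hsurj
  refine IsLocalRing.of_unique_max_ideal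
    ⟨(maximalIdeal (T ⧸ I)).comap (Ideal.Quotient.mk I),
      Ideal.comap_isMaximal_of_surjective _ Ideal.Quotient.mk_surjective, fun M hM => ?_⟩
  have hker : RingHom.ker (Ideal.Quotient.mk I) ≤ M := by
    rw [Ideal.mk_ker]
    exact hI M hM
  have h1 : (M.map (Ideal.Quotient.mk I)).IsMaximal :=
    Ideal.map_eq_top_or_isMaximal_of_surjective _ Ideal.Quotient.mk_surjective hM |>.resolve_left
      (by
        intro htop
        have := congrArg (Ideal.comap (Ideal.Quotient.mk I)) htop
        rw [Ideal.comap_map_of_surjective _ Ideal.Quotient.mk_surjective, Ideal.comap_top,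
          ← RingHom.ker_eq_comap_bot, sup_eq_left.mpr hker] at this
        exact hM.ne_top this)
  have h2 : maximalIdeal (T ⧸ I) = M.map (Ideal.Quotient.mk I) :=
    (IsLocalRing.eq_maximalIdeal h1).symm
  rw [h2, Ideal.comap_map_of_surjective _ Ideal.Quotient.mk_surjective,
    ← RingHom.ker_eq_comap_bot, sup_eq_left.mpr hker]

set_option backward.isDefEq.respectTransparency false in
/-- **Key step**: if `B'` is a normal domain, finite over a Noetherian local ring `A`
with geometrically normal formal fibres, then `B' ⊗_A Â` is a normal ring. -/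
theorem isNormalRing_tensor_cpl (hA : EGA4.HasGeomNormalFormalFibres A)
    (B' : Type u) [CommRing B'] [IsDomain B'] [IsIntegrallyClosed B']
    [Algebra A B'] [Module.Finite A B'] : EGA4.IsNormalRing (B' ⊗[A] EGA4.Cpl A) := by
  haveI := Groth.Agent.H72.FormalEquidim.isNoetherianRing_compl A
  haveI hfin := finite_tensor_cpl A B'
  haveI hN : IsNoetherianRing (B' ⊗[A] EGA4.Cpl A) :=
    IsNoetherianRing.of_finite (EGA4.Cpl A) _
  haveI hNB : IsNoetherianRing B' := IsNoetherianRing.of_finite A B'
  refine Groth.Agent.H26.NormalFlat.isNormalRing_of_flat_of_fibres B' (B' ⊗[A] EGA4.Cpl A)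
    (isNormalRing_of_isIntegrallyClosed B') (fun q hq => ?_)
  have h1 : EGA4.IsNormalRing (q.ResidueField ⊗[A] EGA4.Cpl A) :=
    isNormalRing_fractionField_tensor A hA (B' ⧸ q) q.ResidueField
  exact Groth.Agent.H26.FormalFibreQuot.isNormalRing_of_ringEquiv
    (Algebra.TensorProduct.cancelBaseChange A B' B' q.ResidueField (EGA4.Cpl A)).symm.toRingEquiv h1

/-- If moreover `B'` is local, `B' ⊗_A Â` is a domain. -/
theorem isDomain_tensor_cpl (hA : EGA4.HasGeomNormalFormalFibres A)
    (B' : Type u) [CommRing B'] [IsDomain B'] [IsIntegrallyClosed B'] [IsLocalRing B']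
    [Algebra A B'] [Module.Finite A B'] : IsDomain (B' ⊗[A] EGA4.Cpl A) := by
  haveI := isLocalRing_tensor_cpl A B'
  exact isDomain_of_isNormalRing_of_isLocalRing _ (isNormalRing_tensor_cpl A hA B')

end Local

section Henselian

variable (A : Type u) [CommRing A] [HenselianLocalRing A] [IsNoetherianRing A]

set_option backward.isDefEq.respectTransparency false in
/-- For a henselian Noetherian local ring with geometrically normal formal fibres and a finite
domain `B` over it with fraction field `K` and normalization `B'`, the ring `B' ⊗_A Â` is a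
domain. -/
theorem isDomain_integralClosure_tensor_cpl (hA : EGA4.HasGeomNormalFormalFibres A)
    (B K : Type u) [CommRing B] [IsDomain B] [Algebra A B] [Module.Finite A B]
    [Field K] [Algebra B K] [IsFractionRing B K] [Algebra A K] [IsScalarTower A B K] :
    IsDomain ((integralClosure B K) ⊗[A] EGA4.Cpl A) := by
  haveI hfinB : Module.Finite B (integralClosure B K) :=
    (Groth.Agent.H13.N1Crit.isN1_iff B K).mp (isN1_of_finite A hA B)
  haveI : Module.Finite A (integralClosure B K) := Module.Finite.trans B _
  haveI : IsIntegrallyClosed (integralClosure B K) :=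
    integralClosure.isIntegrallyClosedOfFiniteExtension K
  haveI : IsLocalRing (integralClosure B K) :=
    isLocalRing_of_finite_of_isDomain A _
  exact isDomain_tensor_cpl A hA _

set_option backward.isDefEq.respectTransparency false in
/-- For a henselian Noetherian local ring with geometrically normal formal fibres and a finite
domain `B` over it with fraction field `K`, `K ⊗_A Â` is a domain. -/
theorem isDomain_fractionField_tensor_cpl (hA : EGA4.HasGeomNormalFormalFibres A)
    (B K : Type u) [CommRing B] [IsDomain B] [Algebra A B] [Module.Finite A B]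
    [Field K] [Algebra B K] [IsFractionRing B K] [Algebra A K] [IsScalarTower A B K] :
    IsDomain (K ⊗[A] EGA4.Cpl A) := by
  haveI hdom := isDomain_integralClosure_tensor_cpl A hA B K
  haveI : IsFractionRing (integralClosure B K) K :=
    integralClosure.isFractionRing_of_finite_extension K K
  haveI := Groth.Agent.H72.FormalEquidim.isLocalHom_compl A
  haveI : Module.FaithfullyFlat A (EGA4.Cpl A) :=
    Module.FaithfullyFlat.of_flat_of_isLocalHom
  haveI hloc : IsLocalization
      (Algebra.algebraMapSubmonoid ((integralClosure B K) ⊗[A] EGA4.Cpl A)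
        (nonZeroDivisors (integralClosure B K)))
      (((integralClosure B K) ⊗[A] EGA4.Cpl A) ⊗[integralClosure B K] K) :=
    IsLocalization.tensor K (nonZeroDivisors (integralClosure B K))
  have hM : Algebra.algebraMapSubmonoid ((integralClosure B K) ⊗[A] EGA4.Cpl A)
        (nonZeroDivisors (integralClosure B K)) ≤
      nonZeroDivisors ((integralClosure B K) ⊗[A] EGA4.Cpl A) := by
    rintro _ ⟨b, hb, rfl⟩
    apply mem_nonZeroDivisors_of_ne_zero
    intro h0
    have hff : Module.FaithfullyFlat (integralClosure B K)
      ((integralClosure B K) ⊗[A] EGA4.Cpl A) := inferInstance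
    have hinj : Function.Injective (algebraMap (integralClosure B K)
        ((integralClosure B K) ⊗[A] EGA4.Cpl A)) :=
      @FaithfulSMul.algebraMap_injective (integralClosure B K)
        ((integralClosure B K) ⊗[A] EGA4.Cpl A) _ _ _
        (@Module.FaithfullyFlat.faithfulSMul (integralClosure B K)
          ((integralClosure B K) ⊗[A] EGA4.Cpl A) _ _ _ hff)
    have : b = 0 := hinj (by rw [h0, map_zero])
    exact nonZeroDivisors.ne_zero hb this
  haveI : IsDomain (((integralClosure B K) ⊗[A] EGA4.Cpl A) ⊗[integralClosure B K] K) :=
    IsLocalization.isDomain_of_le_nonZeroDivisors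
      (((integralClosure B K) ⊗[A] EGA4.Cpl A) ⊗[integralClosure B K] K) hM
  let e1 := (Algebra.TensorProduct.comm (integralClosure B K)
    ((integralClosure B K) ⊗[A] EGA4.Cpl A) K).toRingEquiv
  let e2 := (Algebra.TensorProduct.cancelBaseChange A (integralClosure B K)
    (integralClosure B K) K (EGA4.Cpl A)).toRingEquiv
  exact (e1.trans e2).symm.injective.isDomain (e1.trans e2).symm.toRingHom

set_option backward.isDefEq.respectTransparency false in
/-- The completion of a henselian Noetherian local domain with geometrically normal formal fibres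
is a domain. -/
theorem isDomain_cpl [IsDomain A] (hA : EGA4.HasGeomNormalFormalFibres A) :
    IsDomain (EGA4.Cpl A) := by
  haveI hdom := isDomain_integralClosure_tensor_cpl A hA A (FractionRing A)
  have hinj : Function.Injective (Algebra.TensorProduct.includeRight :
      EGA4.Cpl A →ₐ[A] (integralClosure A (FractionRing A)) ⊗[A] EGA4.Cpl A) :=
    Algebra.TensorProduct.includeRight_injective
      (FaithfulSMul.algebraMap_injective A (integralClosure A (FractionRing A)))
  exact hinj.isDomain (Algebra.TensorProduct.includeRight :
      EGA4.Cpl A →ₐ[A] (integralClosure A (FractionRing A)) ⊗[A] EGA4.Cpl A).toRingHom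

set_option backward.isDefEq.respectTransparency false in
/-- Finite case: for a finite extension `E` of the residue field of a prime `p`,
`E ⊗ (formal fibre at p)` is a domain. -/
theorem isDomain_finite_tensor_formalFibre (hA : EGA4.HasGeomNormalFormalFibres A)
    (p : Ideal A) [p.IsPrime] (E : Type u) [Field E] [Algebra p.ResidueField E]
    [Module.Finite p.ResidueField E] :
    IsDomain (E ⊗[p.ResidueField] (EGA4.formalFibre A p)) := by
  letI : Algebra A E :=
    ((algebraMap p.ResidueField E).comp (algebraMap A p.ResidueField)).toAlgebra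
  haveI : IsScalarTower A p.ResidueField E := IsScalarTower.of_algebraMap_eq (fun x => rfl)
  obtain ⟨B, hBfin, hBfrac⟩ :=
    Groth.Agent.H26.FormalFibreFinite.exists_finite_subalgebra_isFractionRing p E
  haveI := hBfin
  haveI := hBfrac
  haveI hdom : IsDomain (E ⊗[A] EGA4.Cpl A) := isDomain_fractionField_tensor_cpl A hA B E
  let e := Groth.Agent.H26.RegHomDescent.tensorFiberEquiv A (EGA4.Cpl A) E p
  exact e.symm.injective.isDomain e.symm.toRingHom

set_option backward.isDefEq.respectTransparency false in
/-- **EGA IV 18.9.1**: the formal fibres of a henselian Noetherian local ring with geometrically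
normal formal fibres are geometrically integral. -/
theorem isDomain_tensor_formalFibre (hA : EGA4.HasGeomNormalFormalFibres A)
    (p : Ideal A) [p.IsPrime] (K : Type u) [Field K] [Algebra p.ResidueField K] :
    IsDomain (K ⊗[p.ResidueField] (EGA4.formalFibre A p)) := by
  haveI : IsDomain (AlgebraicClosure p.ResidueField ⊗[p.ResidueField] (EGA4.formalFibre A p)) :=
    Groth.Agent.H48.isDomain_of_isDomain_finite_subextensions
      (fun E hE => isDomain_finite_tensor_formalFibre A hA p E)
  exact Groth.Agent.H48.isDomain_of_algClosure K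

end Henselian

end Groth.Agent.H72.HensGeomInt
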