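import Mathlib
import Groth.Prelude.Def_EGA4b
import Groth.Prelude.Def_Hensel
import Groth.Agent.H14.HensProp.FibreSep2
import Groth.Agent.H14.HensProp.Small
import Groth.Agent.H3.HensUnion
import Groth.Agent.H3.HensDim
import Groth.Agent.H3.Henselization
import Groth.Agent.H72.HensFormal
import Groth.Agent.H72.HensGeomInt

/-!
# Formal fibres of a henselization (EGA IV 18.7.? / 18.9)

If `A → S` is a local homomorphism which is a union of étale images with `Ŝ = Â` (for instance a
henselization), then for every field `k'` finite over a residue field of `S` the ring `k' ⊗_S Ŝ` is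
a localization of `k'' ⊗_A Â` for a finite extension `k''` of a residue field of `A`.  Hence local
properties of the geometric formal fibres pass from `A` to `S`.
-/

set_option autoImplicit false
set_option linter.style.haveILetI false
set_option linter.unusedSectionVars false
set_option linter.unnecessarySimpa false
universe u

open TensorProduct IsLocalRing Groth.Agent.H14.HensProp

namespace Groth.Agent.H72.HensFormalFibres

attribute [local instance] RingHom.ker_isPrime

/-- A field which is a quotient of a von Neumann regular ring is a localization of it. -/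
theorem isLocalization_of_vnr {G k' : Type*} [CommRing G] [Field k'] [Algebra G k']
    (hv : ∀ g : G, ∃ y, g * g * y = g) (hs : Function.Surjective (algebraMap G k')) :
    IsLocalization (RingHom.ker (algebraMap G k')).primeCompl k' := by
  refine ⟨?_, ?_, ?_⟩
  · rintro ⟨y, hy⟩
    have : algebraMap G k' y ≠ 0 := fun h => hy (RingHom.mem_ker.mpr h)
    exact this.isUnit
  · intro z
    obtain ⟨g, rfl⟩ := hs z
    exact ⟨(g, 1), by simp⟩
  · intro a b hab
    obtain ⟨y, hy⟩ := hv (a - b)
    have hker : a - b ∈ RingHom.ker (algebraMap G k') := by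
      rw [RingHom.mem_ker, map_sub, hab, sub_self]
    refine ⟨⟨1 - (a - b) * y, ?_⟩, ?_⟩
    · intro hmem
      have h1 : (a - b) * y ∈ RingHom.ker (algebraMap G k') := Ideal.mul_mem_right _ _ hker
      have h2 : (1 : G) ∈ RingHom.ker (algebraMap G k') := by
        have := Ideal.add_mem _ hmem h1
        simpa using this
      exact (RingHom.ker_isPrime (algebraMap G k')).ne_top ((Ideal.eq_top_iff_one _).mpr h2)
    · have : (1 - (a - b) * y) * (a - b) = 0 := by
        have : (1 - (a - b) * y) * (a - b) = (a - b) - (a - b) * (a - b) * y := by ring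
        rw [this, hy, sub_self]
      have h3 : (1 - (a - b) * y) * a - (1 - (a - b) * y) * b = 0 := by
        rw [← mul_sub]; exact this
      exact sub_eq_zero.mp h3


section Field

variable (A S : Type u) [CommRing A] [CommRing S] [Algebra A S]
  (q : Ideal S) [q.IsPrime] (k' : Type u) [Field k'] [Algebra q.ResidueField k']
  [Algebra S k'] [IsScalarTower S q.ResidueField k'] [Algebra A k']
  [IsScalarTower A S k'] (P : Ideal A) [P.IsPrime] [Algebra P.ResidueField k']
  [IsScalarTower A P.ResidueField k']

/-- A subalgebra of `k'` integral over `κ(P)` and containing the image of `S` contains the image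
of `κ(q)`. -/
theorem residueField_mem (R₀ : Subalgebra P.ResidueField k')
    (hint : ∀ x ∈ R₀, IsIntegral P.ResidueField x) (hS : ∀ s : S, algebraMap S k' s ∈ R₀)
    (x : q.ResidueField) : algebraMap q.ResidueField k' x ∈ R₀ := by
  obtain ⟨a, b, hb, rfl⟩ := IsFractionRing.div_surjective (S ⧸ q) x
  obtain ⟨a', rfl⟩ := Ideal.Quotient.mk_surjective a
  obtain ⟨b', rfl⟩ := Ideal.Quotient.mk_surjective b
  have h1 : ∀ c : S, algebraMap q.ResidueField k'
      (algebraMap (S ⧸ q) q.ResidueField (Ideal.Quotient.mk q c)) = algebraMap S k' c := by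
    intro c
    have : algebraMap (S ⧸ q) q.ResidueField (Ideal.Quotient.mk q c) =
        algebraMap S q.ResidueField c := rfl
    rw [this, ← IsScalarTower.algebraMap_apply]
  rw [map_div₀, h1, h1, div_eq_mul_inv]
  exact R₀.mul_mem (hS a') (IsIntegral.inv_mem (hint _ (hS b')) (hS b'))

variable {A S}

include A in
/-- `k'` is algebraic over `κ(P)`. -/
theorem isIntegral_of_finite [Module.Finite q.ResidueField k']
    (hU : ∀ x : S, InEtImage A S {x}) (z : k') : IsIntegral P.ResidueField z := by
  have hS : ∀ s : S, algebraMap S k' s ∈ integralClosure P.ResidueField k' := by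
    intro s
    have hUF := inEtImage_baseChange A S hU P.ResidueField
    haveI := isIntegral_of_inEtImage hUF
    let π₀ : P.ResidueField ⊗[A] S →ₐ[P.ResidueField] k' :=
      Algebra.TensorProduct.lift (Algebra.ofId P.ResidueField k') (IsScalarTower.toAlgHom A S k')
        (fun _ _ => Commute.all _ _)
    have h1 : IsIntegral P.ResidueField ((1 : P.ResidueField) ⊗ₜ[A] s) :=
      Algebra.IsIntegral.isIntegral _
    have h2 := h1.map π₀
    have h3 : π₀ ((1 : P.ResidueField) ⊗ₜ[A] s) = algebraMap S k' s := by
      simp [π₀]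
    rwa [h3] at h2
  have hκ := residueField_mem A S q k' P (integralClosure P.ResidueField k') (fun x hx => hx) hS
  let ι : q.ResidueField →+* integralClosure P.ResidueField k' :=
    (algebraMap q.ResidueField k').codRestrict _ hκ
  letI : Algebra q.ResidueField (integralClosure P.ResidueField k') := ι.toAlgebra
  haveI : IsScalarTower q.ResidueField (integralClosure P.ResidueField k') k' :=
    IsScalarTower.of_algebraMap_eq (fun x => rfl)
  have hz : IsIntegral (integralClosure P.ResidueField k') z :=
    IsIntegral.tower_top (Algebra.IsIntegral.isIntegral (R := q.ResidueField) z)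
  exact isIntegral_trans (R := P.ResidueField) (A := integralClosure P.ResidueField k') z hz

instance isScalarTower_mid (k'' : IntermediateField P.ResidueField k') :
    IsScalarTower A k'' k' :=
  IsScalarTower.of_algebraMap_eq (fun _ => rfl)

/-- the canonical map `k'' ⊗_A S → k'` for an intermediate field `k''` of `k'/κ(P)`. -/
noncomputable def piMap (k'' : IntermediateField P.ResidueField k') : k'' ⊗[A] S →ₐ[k''] k' :=
  Algebra.TensorProduct.lift (Algebra.ofId k'' k') (IsScalarTower.toAlgHom A S k')
    (fun _ _ => Commute.all _ _)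

/-- There is a finite subextension `k''` of `k'/κ(P)` such that `k'' ⊗_A S → k'` is surjective. -/
theorem exists_finite_subfield_surjective [Module.Finite q.ResidueField k']
    (hU : ∀ x : S, InEtImage A S {x}) :
    ∃ k'' : IntermediateField P.ResidueField k', FiniteDimensional P.ResidueField k'' ∧
      Function.Surjective (piMap (A := A) (S := S) k' P k'') := by
  classical
  obtain ⟨s, hs⟩ := (Module.Finite.fg_top : (⊤ : Submodule q.ResidueField k').FG)
  let k'' : IntermediateField P.ResidueField k' :=
    IntermediateField.adjoin P.ResidueField (s : Set k')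
  have hfd : FiniteDimensional P.ResidueField k'' :=
    IntermediateField.finiteDimensional_adjoin
      (fun x _ => isIntegral_of_finite (A := A) q k' P hU x)
  refine ⟨k'', hfd, ?_⟩
  let R₂ : Subalgebra k'' k' := (piMap (A := A) (S := S) k' P k'').range
  have hS : ∀ c : S, algebraMap S k' c ∈ R₂.restrictScalars P.ResidueField := by
    intro c
    refine ⟨(1 : k'') ⊗ₜ[A] c, ?_⟩
    simp [piMap]
  have hκ := residueField_mem A S q k' P (R₂.restrictScalars P.ResidueField)
    (fun x _ => isIntegral_of_finite (A := A) q k' P hU x) hS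
  have hk'' : ∀ x : k'', (x : k') ∈ R₂ := by
    intro x
    refine ⟨x ⊗ₜ[A] (1 : S), ?_⟩
    simp [piMap]
  have hall : ∀ z : k', z ∈ R₂ := by
    intro z
    have hz : z ∈ Submodule.span q.ResidueField (s : Set k') := by rw [hs]; trivial
    induction hz using Submodule.span_induction with
    | mem x hx => exact hk'' ⟨x, IntermediateField.subset_adjoin _ _ hx⟩
    | zero => exact R₂.zero_mem
    | add x y _ _ hx hy => exact R₂.add_mem hx hy
    | smul c x _ hx =>
      rw [Algebra.smul_def]
      exact R₂.mul_mem (hκ c) hx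
  intro z
  exact hall z

end Field

section Core

variable (Q : ∀ (X : Type u) [CommRing X], Prop)
  (hQe : ∀ (X Y : Type u) [CommRing X] [CommRing Y], (X ≃+* Y) → Q X → Q Y)
  (hQl : ∀ (X Y : Type u) [CommRing X] [CommRing Y] [Algebra X Y] (M : Submonoid X)
    [IsLocalization M Y], Q X → Q Y)

variable {A S : Type u} [CommRing A] [CommRing S] [IsLocalRing A] [IsLocalRing S] [Algebra A S]

set_option backward.isDefEq.respectTransparency false in
include hQe hQl in
/-- Abstract form of the key localization statement. -/
theorem core_of_surjective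
    (φ : AdicCompletion (maximalIdeal A) A ≃+* AdicCompletion (maximalIdeal S) S)
    (hφ : ∀ r : A, φ (algebraMap A (AdicCompletion (maximalIdeal A) A) r) =
        algebraMap S (AdicCompletion (maximalIdeal S) S) (algebraMap A S r))
    (hU : ∀ x : S, InEtImage A S {x})
    (k' : Type u) [Field k'] [Algebra S k'] [Algebra A k'] [IsScalarTower A S k']
    (K : Type u) [Field K] [Algebra A K] [Algebra K k'] [IsScalarTower A K k']
    (hsurj : Function.Surjective (Algebra.TensorProduct.lift (Algebra.ofId K k')
      (IsScalarTower.toAlgHom A S k') (fun _ _ => Commute.all _ _) : K ⊗[A] S →ₐ[K] k'))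
    (hQ0 : Q (K ⊗[A] (AdicCompletion (maximalIdeal A) A))) :
    Q (k' ⊗[S] (AdicCompletion (maximalIdeal S) S)) := by
  let c : S ⊗[A] K ≃ₐ[A] K ⊗[A] S := Algebra.TensorProduct.comm A S K
  let π' : S ⊗[A] K →ₐ[S] k' :=
    Algebra.TensorProduct.lift (Algebra.ofId S k') (IsScalarTower.toAlgHom A K k')
      (fun _ _ => Commute.all _ _)
  have hπ' : ∀ g, π' g = (Algebra.TensorProduct.lift (Algebra.ofId K k')
      (IsScalarTower.toAlgHom A S k') (fun _ _ => Commute.all _ _) : K ⊗[A] S →ₐ[K] k') (c g) := by
    intro g
    induction g using TensorProduct.induction_on with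
    | zero => simp
    | tmul s x =>
      simp [π', c, mul_comm]
    | add x y hx hy =>
      rw [map_add π' x y, map_add c x y, map_add _ (c x) (c y), hx, hy]
  have hπ'surj : Function.Surjective π' := by
    intro z
    obtain ⟨g, hg⟩ := hsurj z
    exact ⟨c.symm g, by rw [hπ', c.apply_symm_apply, hg]⟩
  have hvnr : ∀ g : S ⊗[A] K, ∃ y, g * g * y = g := by
    intro g
    obtain ⟨y, hy⟩ := exists_mul_mul_eq_of_inEtImage
      (inEtImage_baseChange A S hU K) (c g)
    refine ⟨c.symm y, c.injective ?_⟩
    rw [map_mul c, map_mul c, c.apply_symm_apply, hy]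
  letI algG : Algebra (S ⊗[A] K) k' := π'.toRingHom.toAlgebra
  haveI : IsScalarTower S (S ⊗[A] K) k' :=
    IsScalarTower.of_algebraMap_eq (fun s => (π'.commutes s).symm)
  haveI hloc : IsLocalization (RingHom.ker (algebraMap (S ⊗[A] K) k')).primeCompl k' :=
    isLocalization_of_vnr hvnr hπ'surj
  have htow : ∀ x : A, algebraMap A (AdicCompletion (maximalIdeal S) S) x =
      algebraMap S (AdicCompletion (maximalIdeal S) S) (algebraMap A S x) := by
    intro x
    apply Subtype.ext
    funext n
    rfl
  haveI : IsScalarTower A S (AdicCompletion (maximalIdeal S) S) :=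
    IsScalarTower.of_algebraMap_eq htow
  let φA : AdicCompletion (maximalIdeal A) A ≃ₐ[A] AdicCompletion (maximalIdeal S) S :=
    AlgEquiv.ofRingEquiv (f := φ) (fun r => (hφ r).trans (htow r).symm)
  let e_b := (Algebra.TensorProduct.congr (AlgEquiv.refl (R := A) (A₁ := K)) φA).toRingEquiv
  let e_c := (Algebra.TensorProduct.comm A K (AdicCompletion (maximalIdeal S) S)).toRingEquiv
  let e_d := (Algebra.TensorProduct.cancelBaseChange A S S
    (AdicCompletion (maximalIdeal S) S) K).symm.toRingEquiv
  let e_e := (Algebra.TensorProduct.comm S (AdicCompletion (maximalIdeal S) S)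
    (S ⊗[A] K)).toRingEquiv
  have hQT : Q ((S ⊗[A] K) ⊗[S] (AdicCompletion (maximalIdeal S) S)) :=
    hQe _ _ (((e_b.trans e_c).trans e_d).trans e_e) hQ0
  haveI hlocT : IsLocalization
      (Algebra.algebraMapSubmonoid ((S ⊗[A] K) ⊗[S] (AdicCompletion (maximalIdeal S) S))
        (RingHom.ker (algebraMap (S ⊗[A] K) k')).primeCompl)
      (((S ⊗[A] K) ⊗[S] (AdicCompletion (maximalIdeal S) S)) ⊗[S ⊗[A] K] k') :=
    IsLocalization.tensor k' (RingHom.ker (algebraMap (S ⊗[A] K) k')).primeCompl
  have hQ1 : Q (((S ⊗[A] K) ⊗[S] (AdicCompletion (maximalIdeal S) S)) ⊗[S ⊗[A] K] k') :=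
    hQl _ _ (Algebra.algebraMapSubmonoid ((S ⊗[A] K) ⊗[S] (AdicCompletion (maximalIdeal S) S))
        (RingHom.ker (algebraMap (S ⊗[A] K) k')).primeCompl) hQT
  let e_f := (Algebra.TensorProduct.comm (S ⊗[A] K)
    ((S ⊗[A] K) ⊗[S] (AdicCompletion (maximalIdeal S) S)) k').toRingEquiv
  let e_g := (Algebra.TensorProduct.cancelBaseChange S (S ⊗[A] K) (S ⊗[A] K) k'
    (AdicCompletion (maximalIdeal S) S)).toRingEquiv
  exact hQe _ _ (e_f.trans e_g) hQ1

end Core


section Main

variable (Q : ∀ (X : Type u) [CommRing X], Prop)
  (hQe : ∀ (X Y : Type u) [CommRing X] [CommRing Y], (X ≃+* Y) → Q X → Q Y)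
  (hQl : ∀ (X Y : Type u) [CommRing X] [CommRing Y] [Algebra X Y] (M : Submonoid X)
    [IsLocalization M Y], Q X → Q Y)

variable {A S : Type u} [CommRing A] [CommRing S] [IsLocalRing A] [IsLocalRing S] [Algebra A S]

set_option backward.isDefEq.respectTransparency false in
include hQe hQl in
/-- Properties stable under localization pass from the geometric formal fibres of `A` to those of
`S`, when `S` is a union of étale images over `A` with the same completion. -/
theorem formalFibre_of_inEtImage
    (φ : AdicCompletion (maximalIdeal A) A ≃+* AdicCompletion (maximalIdeal S) S)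
    (hφ : ∀ r : A, φ (algebraMap A (AdicCompletion (maximalIdeal A) A) r) =
        algebraMap S (AdicCompletion (maximalIdeal S) S) (algebraMap A S r))
    (hU : ∀ x : S, InEtImage A S {x})
    (hA : ∀ (p : Ideal A) [p.IsPrime] (k'' : Type u) [Field k''] [Algebra p.ResidueField k''],
      Module.Finite p.ResidueField k'' → Q (k'' ⊗[p.ResidueField] (EGA4.formalFibre A p)))
    (q : Ideal S) [q.IsPrime] (k' : Type u) [Field k'] [Algebra q.ResidueField k']
    [Module.Finite q.ResidueField k'] :
    Q (k' ⊗[q.ResidueField] (EGA4.formalFibre S q)) := by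
  letI algS : Algebra S k' :=
    ((algebraMap q.ResidueField k').comp (algebraMap S q.ResidueField)).toAlgebra
  haveI : IsScalarTower S q.ResidueField k' := IsScalarTower.of_algebraMap_eq (fun x => rfl)
  letI algA : Algebra A k' := ((algebraMap S k').comp (algebraMap A S)).toAlgebra
  haveI : IsScalarTower A S k' := IsScalarTower.of_algebraMap_eq (fun x => rfl)
  obtain ⟨P₀, hP₀, algP, towerP⟩ :=
    Groth.Agent.H26.RegHomBaseChange.exists_residueField_algebra' (R := A) k'
  obtain ⟨k'', hfd, hsurj⟩ := exists_finite_subfield_surjective (A := A) q k' P₀ hU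
  have hQ0 : Q (k'' ⊗[P₀.ResidueField] (EGA4.formalFibre A P₀)) := hA P₀ k'' hfd
  let e_a := (Groth.Agent.H26.RegHomDescent.tensorFiberEquiv A (EGA4.Cpl A) k'' P₀).symm
  have hQ0' : Q (k'' ⊗[A] (AdicCompletion (maximalIdeal A) A)) := hQe _ _ e_a hQ0
  have hQ1 : Q (k' ⊗[S] (AdicCompletion (maximalIdeal S) S)) :=
    core_of_surjective Q hQe hQl φ hφ hU k' k'' hsurj hQ0'
  let e_h := Groth.Agent.H26.RegHomDescent.tensorFiberEquiv S (EGA4.Cpl S) k' q
  exact hQe _ _ e_h hQ1

end Main

end Groth.Agent.H72.HensFormalFibres
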