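import Mathlib
import Groth.Prelude.Def_EGA4b
import Groth.Agent.H3.HenselQF
import Groth.Agent.H22.FinitePart
import Groth.Agent.H13.JacobsonFinite
import Groth.Agent.H15.MTAlg7
import Groth.Agent.H58.HL.Hyper

/-!
# The local factor of a quasi-finite algebra over a complete local ring
-/

set_option autoImplicit false
set_option linter.style.haveILetI false
set_option linter.unusedSectionVars false
universe u

open IsLocalRing

namespace Groth.Agent.H72.QFFormal

section Hens

variable (S : Type u) [CommRing S] [IsLocalRing S] [IsNoetherianRing S]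
  [IsAdicComplete (maximalIdeal S) S]
  (E : Type u) [CommRing E] [Algebra S E] [Algebra.FiniteType S E]
  (n : Ideal E) [n.IsPrime] [n.LiesOver (maximalIdeal S)] [Algebra.QuasiFiniteAt S n]

/-- Over a complete local ring, a prime over the closed point at which a finite type algebra is
quasi-finite is cut out by an idempotent whose factor is a finite local algebra. -/
theorem exists_idempotent_local :
    ∃ e : E, IsIdempotentElem e ∧ e ∉ n ∧ Module.Finite S (E ⧸ Ideal.span {1 - e}) ∧
      ∃ (_ : IsLocalRing (E ⧸ Ideal.span {1 - e})),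
        (maximalIdeal (E ⧸ Ideal.span {1 - e})).comap (Ideal.Quotient.mk _) = n := by
  haveI : HenselianLocalRing S :=
    Groth.Agent.H22.FinitePart.henselianLocalRing_of_isAdicComplete S
  obtain ⟨e, he, hen, hfin, huniq⟩ := Groth.Agent.H3.exists_idempotent_of_quasiFiniteAt S E n
  refine ⟨e, he, hen, hfin, ?_⟩
  haveI := hfin
  set L := E ⧸ Ideal.span {1 - e} with hL
  have h1e : 1 - e ∈ n := by
    have h0 : e * (1 - e) ∈ n := by
      have : e * (1 - e) = 0 := by rw [mul_sub, mul_one, he.eq, sub_self]
      rw [this]; exact n.zero_mem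
    exact (Ideal.IsPrime.mem_or_mem inferInstance h0).resolve_left hen
  have hle : Ideal.span {1 - e} ≤ n := by
    rw [Ideal.span_le, Set.singleton_subset_iff]; exact h1e
  haveI : Nontrivial L := by
    apply Ideal.Quotient.nontrivial_iff.mpr
    intro htop
    exact (Ideal.IsPrime.ne_top inferInstance : n ≠ ⊤) (top_le_iff.mp (htop ▸ hle))
  haveI : Algebra.IsIntegral S L := Algebra.IsIntegral.of_finite S L
  have hcomap : ∀ M : Ideal L, M.IsMaximal → M.comap (Ideal.Quotient.mk (Ideal.span {1 - e})) = n := by
    intro M hM
    haveI := hM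
    set Q := M.comap (Ideal.Quotient.mk (Ideal.span {1 - e})) with hQ
    have hQp : Q.IsPrime := Ideal.comap_isPrime _ _
    have hQe : e ∉ Q := by
      intro heQ
      have h1 : (1 - e) ∈ Q := by
        rw [hQ, Ideal.mem_comap]
        have : Ideal.Quotient.mk (Ideal.span {1 - e}) (1 - e) = 0 :=
          Ideal.Quotient.eq_zero_iff_mem.mpr (Ideal.mem_span_singleton_self _)
        rw [this]; exact M.zero_mem
      have : (1 : E) ∈ Q := by
        have := Q.add_mem h1 heQ
        simpa using this
      exact hQp.ne_top ((Ideal.eq_top_iff_one _).mpr this)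
    have hQover : Q.LiesOver (maximalIdeal S) := by
      constructor
      have hmax : (M.comap (algebraMap S L)).IsMaximal :=
        Ideal.isMaximal_comap_of_isIntegral_of_isMaximal (R := S) M
      have h2 : M.comap (algebraMap S L) = maximalIdeal S := eq_maximalIdeal hmax
      rw [← h2]
      rfl
    exact huniq Q hQp hQover hQe
  have huniqM : ∀ M M' : Ideal L, M.IsMaximal → M'.IsMaximal → M = M' := by
    intro M M' hM hM'
    have e1 := hcomap M hM
    have e2 := hcomap M' hM'
    have s1 := Ideal.map_comap_of_surjective (Ideal.Quotient.mk (Ideal.span {1 - e}))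
      Ideal.Quotient.mk_surjective M
    have s2 := Ideal.map_comap_of_surjective (Ideal.Quotient.mk (Ideal.span {1 - e}))
      Ideal.Quotient.mk_surjective M'
    rw [← s1, ← s2, e1, e2]
  obtain ⟨M0, hM0⟩ := Ideal.exists_maximal L
  have hloc : IsLocalRing L :=
    IsLocalRing.of_unique_max_ideal ⟨M0, hM0, fun M' hM' => huniqM M' M0 hM' hM0⟩
  exact ⟨hloc, hcomap _ (@IsLocalRing.maximalIdeal.isMaximal L _ hloc)⟩

end Hens

section Complete

/-- A finite local algebra over a complete Noetherian local ring is complete. -/
theorem isAdicComplete_of_finite_local (S : Type u) [CommRing S] [IsLocalRing S]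
    [IsNoetherianRing S] [IsAdicComplete (maximalIdeal S) S]
    (L : Type u) [CommRing L] [IsLocalRing L] [Algebra S L] [Module.Finite S L] :
    IsAdicComplete (maximalIdeal L) L := by
  haveI : Algebra.IsIntegral S L := Algebra.IsIntegral.of_finite S L
  haveI h1 : IsAdicComplete ((maximalIdeal S).map (algebraMap S L)) L :=
    Groth.Agent.H15.MTA.isAdicComplete_map_of_finite (maximalIdeal S) L
  have hjac : (⊥ : Ideal L).jacobson = maximalIdeal L :=
    IsLocalRing.jacobson_eq_maximalIdeal ⊥ bot_ne_top
  have hle : (maximalIdeal S).map (algebraMap S L) ≤ maximalIdeal L := by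
    rw [← hjac]
    exact Groth.Agent.H13.JacobsonFinite.map_maximalIdeal_le_jacobson S L
  obtain ⟨e, he⟩ := Groth.Agent.H13.JacobsonFinite.exists_jacobson_pow_le S L
  rw [hjac] at he
  exact Groth.Agent.H58.HL.isAdicComplete_of_le_of_pow_le _ _ hle e he

end Complete

end Groth.Agent.H72.QFFormal
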