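import Mathlib
import Groth.Prelude.Def_EGA4b
import Groth.Prelude.Def_Found
import Groth.Agent.H62.CatenRing
import Groth.Agent.H26.RegHomComp
import Groth.Agent.H26.RegHomDescent
import Groth.Agent.H26.RegHomField
import Groth.Agent.H26.ComplFlatMap
import Groth.Agent.H26.SkFlat
import Groth.Agent.H26.FormalFibreFinite
import Groth.Agent.H20.ComplNoeth2

set_option autoImplicit false
set_option linter.unusedSectionVars false
set_option linter.unusedVariables false
set_option linter.style.haveILetI false
universe u

open IsLocalRing TensorProduct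

namespace Groth.Agent.H72.ExcellentLoc

/-- An algebra essentially of finite type over a universally catenary ring is catenary. -/
theorem isCatenary_of_essFiniteType (A B : Type u) [CommRing A] [CommRing B] [Algebra A B]
    [Algebra.EssFiniteType A B] (hA : CAlg.IsUniversallyCatenary A) : CAlg.IsCatenary B := by
  have h0 : CAlg.IsCatenary (Algebra.EssFiniteType.subalgebra A B) :=
    hA.2 (Algebra.EssFiniteType.subalgebra A B) inferInstance
  exact Groth.Agent.H62.isCatenary_of_isLocalization (Algebra.EssFiniteType.submonoid A B) h0

/-- An algebra essentially of finite type over a universally catenary ring is universally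
catenary. -/
theorem isUniversallyCatenary_of_essFiniteType (A B : Type u) [CommRing A] [CommRing B]
    [Algebra A B] [Algebra.EssFiniteType A B] (hA : CAlg.IsUniversallyCatenary A) :
    CAlg.IsUniversallyCatenary B := by
  have hN : IsNoetherianRing A := hA.1
  refine ⟨Algebra.EssFiniteType.isNoetherianRing A B, fun S _ _ hS => ?_⟩
  let algAS : Algebra A S := ((algebraMap B S).comp (algebraMap A B)).toAlgebra
  have : IsScalarTower A B S := IsScalarTower.of_algebraMap_eq (fun _ => rfl)
  have : Algebra.EssFiniteType A S := Algebra.EssFiniteType.comp A B S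
  exact isCatenary_of_essFiniteType A S hA

/-- The regular locus of a localization is open when that of the ring is. -/
theorem isOpen_regLocus_of_isLocalization {R B : Type u} [CommRing R] [CommRing B] [Algebra R B]
    (M : Submonoid R) [IsLocalization M B] (h : IsOpen (EGA4.regLocus R)) :
    IsOpen (EGA4.regLocus B) := by
  have heq : EGA4.regLocus B = PrimeSpectrum.comap (algebraMap R B) ⁻¹' EGA4.regLocus R := by
    ext P
    have hloc : IsLocalization.AtPrime (Localization.AtPrime P.asIdeal)
        (P.asIdeal.comap (algebraMap R B)) :=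
      IsLocalization.isLocalization_isLocalization_atPrime_isLocalization M
        (Localization.AtPrime P.asIdeal) P.asIdeal
    let e : Localization.AtPrime (P.asIdeal.comap (algebraMap R B)) ≃+*
        Localization.AtPrime P.asIdeal :=
      (IsLocalization.algEquiv (P.asIdeal.comap (algebraMap R B)).primeCompl
        (Localization.AtPrime (P.asIdeal.comap (algebraMap R B)))
        (Localization.AtPrime P.asIdeal)).toRingEquiv
    change IsRegularLocalRing (Localization.AtPrime P.asIdeal) ↔
      IsRegularLocalRing (Localization.AtPrime (P.asIdeal.comap (algebraMap R B)))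
    exact ⟨fun h => IsRegularLocalRing.of_ringEquiv e.symm,
      fun h => IsRegularLocalRing.of_ringEquiv e⟩
  rw [heq]
  exact h.preimage (PrimeSpectrum.continuous_comap _)

/-- J-2 passes to algebras essentially of finite type. -/
theorem isJ2_of_essFiniteType (A B : Type u) [CommRing A] [CommRing B] [Algebra A B]
    [Algebra.EssFiniteType A B] (hA : EGA4.IsJ2 A) : EGA4.IsJ2 B := by
  intro S _ _ hS
  let algAS : Algebra A S := ((algebraMap B S).comp (algebraMap A B)).toAlgebra
  have : IsScalarTower A B S := IsScalarTower.of_algebraMap_eq (fun _ => rfl)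
  have : Algebra.EssFiniteType A S := Algebra.EssFiniteType.comp A B S
  have h0 : IsOpen (EGA4.regLocus (Algebra.EssFiniteType.subalgebra A S)) :=
    hA (Algebra.EssFiniteType.subalgebra A S) inferInstance
  exact isOpen_regLocus_of_isLocalization (Algebra.EssFiniteType.submonoid A S) h0


/-- A bijective algebra map is a regular homomorphism. -/
theorem isRegularHom_of_bijective (B C : Type u) [CommRing B] [CommRing C] [Algebra B C]
    (h : Function.Bijective (algebraMap B C)) : CAlg.IsRegularHom B C := by
  refine ⟨RingHom.flat_algebraMap_iff.mp (RingHom.Flat.of_bijective h), fun p hp => ?_⟩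
  let e0 : B ≃ₐ[B] C := AlgEquiv.ofBijective (Algebra.ofId B C) h
  let e1 : p.Fiber C ≃ₐ[p.ResidueField] p.ResidueField ⊗[B] B :=
    Algebra.TensorProduct.congr AlgEquiv.refl e0.symm
  let e2 : p.ResidueField ⊗[B] B ≃ₐ[p.ResidueField] p.ResidueField :=
    Algebra.TensorProduct.rid B p.ResidueField p.ResidueField
  let e : p.Fiber C ≃ₐ[p.ResidueField] p.ResidueField := e1.trans e2
  refine ⟨isNoetherianRing_of_ringEquiv _ e.symm.toRingEquiv, ?_⟩
  intro k' _ _ hfin
  let e3 : k' ⊗[p.ResidueField] (p.Fiber C) ≃ₐ[k'] k' ⊗[p.ResidueField] p.ResidueField :=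
    Algebra.TensorProduct.congr AlgEquiv.refl e
  let e4 : k' ⊗[p.ResidueField] p.ResidueField ≃ₐ[k'] k' :=
    Algebra.TensorProduct.rid p.ResidueField k' k'
  have hk' : IsRegularRing k' :=
    Groth.Agent.H26.RegHomField.isRegularRing_of_isArtinianRing_of_isReduced k'
  exact @IsRegularRing.of_ringEquiv _ _ _ _ (e3.trans e4).symm.toRingEquiv hk'

/-- Regularity of the completion map descends along a regular flat local homomorphism. -/
theorem isRegularHom_compl_of_flat (B C : Type u) [CommRing B] [CommRing C] [IsLocalRing B]
    [IsLocalRing C] [IsNoetherianRing B] [IsNoetherianRing C] [Algebra B C]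
    [IsLocalHom (algebraMap B C)] [Module.Flat B C]
    (hBC : CAlg.IsRegularHom B C) (hC : CAlg.IsRegularHom C (EGA4.Cpl C)) :
    CAlg.IsRegularHom B (EGA4.Cpl B) := by
  letI := Groth.Agent.H26.ComplFlatMap.complAlgebra B C
  haveI := Groth.Agent.H26.ComplFlatMap.isScalarTower B C
  haveI := Groth.Agent.H26.ComplFlatMap.faithfullyFlat_complHom B C
  haveI : IsNoetherianRing (EGA4.Cpl C) := Groth.Agent.H20.isNoetherianRing_adicCompletion _
  haveI : IsScalarTower B C (EGA4.Cpl C) := IsScalarTower.of_algebraMap_eq (fun _ => rfl)
  have h1 : CAlg.IsRegularHom B (EGA4.Cpl C) :=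
    Groth.Agent.H26.RegHomComp.isRegularHom_comp B C (EGA4.Cpl C) hBC hC
      (fun p _ => Groth.Agent.H26.SkFlat.isNoetherianRing_fiber (EGA4.Cpl C) p)
  exact Groth.Agent.H26.RegHomDescent.isRegularHom_of_comp_of_faithfullyFlat B (EGA4.Cpl B)
    (EGA4.Cpl C) h1

/-- Regularity of the completion map is invariant under ring isomorphisms. -/
theorem isRegularHom_compl_of_ringEquiv {X Y : Type u} [CommRing X] [CommRing Y] [IsLocalRing X]
    [IsLocalRing Y] [IsNoetherianRing X] [IsNoetherianRing Y] (e : X ≃+* Y)
    (hX : CAlg.IsRegularHom X (EGA4.Cpl X)) : CAlg.IsRegularHom Y (EGA4.Cpl Y) := by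
  let alg : Algebra Y X := e.symm.toRingHom.toAlgebra
  have hbij : Function.Bijective (algebraMap Y X) := e.symm.bijective
  have hloc : IsLocalHom (algebraMap Y X) := by
    change IsLocalHom e.symm.toRingHom
    have : IsLocalHom e.symm := isLocalHom_equiv _
    exact isLocalHom_toRingHom e.symm
  have hflat : Module.Flat Y X := RingHom.Flat.of_bijective hbij
  exact isRegularHom_compl_of_flat Y X (isRegularHom_of_bijective Y X hbij) hX

/-- A localization of a G-ring is a G-ring. -/
theorem isGRing_of_isLocalization {A B : Type u} [CommRing A] [CommRing B] [Algebra A B]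
    (M : Submonoid A) [IsLocalization M B] (hA : CAlg.IsGRing A) : CAlg.IsGRing B := by
  have hN : IsNoetherianRing A := hA.1
  have hNB : IsNoetherianRing B := IsLocalization.isNoetherianRing M B hN
  refine ⟨hNB, fun P hP => ?_⟩
  have hloc : IsLocalization.AtPrime (Localization.AtPrime P) (P.comap (algebraMap A B)) :=
    IsLocalization.isLocalization_isLocalization_atPrime_isLocalization M
      (Localization.AtPrime P) P
  let e : Localization.AtPrime (P.comap (algebraMap A B)) ≃+* Localization.AtPrime P :=
    (IsLocalization.algEquiv (P.comap (algebraMap A B)).primeCompl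
      (Localization.AtPrime (P.comap (algebraMap A B))) (Localization.AtPrime P)).toRingEquiv
  have hN1 : IsNoetherianRing (Localization.AtPrime (P.comap (algebraMap A B))) :=
    IsLocalization.isNoetherianRing (P.comap (algebraMap A B)).primeCompl _ hN
  have hN2 : IsNoetherianRing (Localization.AtPrime P) :=
    IsLocalization.isNoetherianRing P.primeCompl _ hNB
  exact isRegularHom_compl_of_ringEquiv e (hA.2 (P.comap (algebraMap A B)))

/-- A localization of an excellent ring is excellent. -/
theorem isExcellent_of_isLocalization {A B : Type u} [CommRing A] [CommRing B] [Algebra A B]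
    (M : Submonoid A) [IsLocalization M B] (hA : EGA4.IsExcellent A) : EGA4.IsExcellent B := by
  obtain ⟨hN, hUC, hG, hJ⟩ := hA
  have hess : Algebra.EssFiniteType A B := Algebra.EssFiniteType.of_isLocalization B M
  exact ⟨IsLocalization.isNoetherianRing M B hN,
    isUniversallyCatenary_of_essFiniteType A B hUC, isGRing_of_isLocalization M hG,
    isJ2_of_essFiniteType A B hJ⟩

end Groth.Agent.H72.ExcellentLoc
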