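import Mathlib
import Groth.Prelude.Def_EGA4b
import Groth.Prelude.Def_Hensel
import Groth.Agent.H72.HensFormalFibres
import Groth.Agent.H72.ExcellentLoc
import Groth.Agent.H26.RegHomField
import Groth.Agent.H26.SkFlat

/-!
# The henselization of a local ring is a G-ring iff the ring is (EGA IV 18.7.?)
-/

set_option autoImplicit false
set_option linter.style.haveILetI false
set_option linter.unusedSectionVars false
universe u

open TensorProduct IsLocalRing Groth.Agent.H14.HensProp

namespace Groth.Agent.H72.HensGRing

/-- A localization of a regular ring is regular. -/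
theorem isRegularRing_of_isLocalization (X Y : Type u) [CommRing X] [CommRing Y] [Algebra X Y]
    (M : Submonoid X) [IsLocalization M Y] (h : IsRegularRing X) : IsRegularRing Y := by
  haveI : IsNoetherianRing Y := IsLocalization.isNoetherianRing M Y inferInstance
  rw [isRegularRing_iff]
  intro 𝔔 h𝔔
  refine Groth.Agent.H26.FormalFibreFinite.forall_prime_of_isLocalization
    (fun Z _ => IsRegularLocalRing Z) ?_ M (fun q hq _ => inferInstance) 𝔔
  intro Z W _ _ e hZ
  haveI := hZ
  exact IsRegularLocalRing.of_ringEquiv e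

set_option backward.isDefEq.respectTransparency false in
/-- A flat Noetherian algebra which is a union of étale images is a regular homomorphism. -/
theorem isRegularHom_of_inEtImage (R S : Type u) [CommRing R] [CommRing S] [Algebra R S]
    [IsNoetherianRing S] [Module.Flat R S] (hU : ∀ x : S, InEtImage R S {x}) :
    CAlg.IsRegularHom R S := by
  refine ⟨inferInstance, fun p hp => ?_⟩
  haveI hN : IsNoetherianRing (p.Fiber S) := Groth.Agent.H26.SkFlat.isNoetherianRing_fiber S p
  refine ⟨hN, ?_⟩
  intro k' _ _ hfin
  have hUF : ∀ t : p.ResidueField ⊗[R] S, InEtImage p.ResidueField (p.ResidueField ⊗[R] S) {t} :=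
    inEtImage_baseChange R S hU p.ResidueField
  have hUk : ∀ t : k' ⊗[p.ResidueField] (p.ResidueField ⊗[R] S),
      InEtImage k' (k' ⊗[p.ResidueField] (p.ResidueField ⊗[R] S)) {t} :=
    inEtImage_baseChange p.ResidueField (p.ResidueField ⊗[R] S) hUF k'
  haveI hred : IsReduced (k' ⊗[p.ResidueField] (p.ResidueField ⊗[R] S)) :=
    isReduced_of_inEtImage hUk
  haveI hfinF : Module.Finite (p.ResidueField ⊗[R] S)
      ((p.ResidueField ⊗[R] S) ⊗[p.ResidueField] k') := inferInstance
  haveI hN1 : IsNoetherianRing ((p.ResidueField ⊗[R] S) ⊗[p.ResidueField] k') :=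
    IsNoetherianRing.of_finite (p.ResidueField ⊗[R] S) _
  haveI hN2 : IsNoetherianRing (k' ⊗[p.ResidueField] (p.ResidueField ⊗[R] S)) :=
    isNoetherianRing_of_ringEquiv _
      (Algebra.TensorProduct.comm p.ResidueField (p.ResidueField ⊗[R] S) k').toRingEquiv
  haveI hdim : Ring.KrullDimLE 0 (k' ⊗[p.ResidueField] (p.ResidueField ⊗[R] S)) :=
    Ring.krullDimLE_zero_iff.mpr fun Q hQ => isMaximal_of_inEtImage hUk Q
  haveI hart : IsArtinianRing (k' ⊗[p.ResidueField] (p.ResidueField ⊗[R] S)) :=
    IsNoetherianRing.isArtinianRing_of_krullDimLE_zero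
  exact Groth.Agent.H26.RegHomField.isRegularRing_of_isArtinianRing_of_isReduced _

section Hens

variable (R S : Type u) [CommRing R] [IsLocalRing R] [IsNoetherianRing R] [CommRing S]
  [IsLocalRing S] [Algebra R S] [IsLocalHom (algebraMap R S)] [Hensel.IsHenselization R S]

/-- **S2772**: the formal fibres of the henselization are geometrically regular iff those of the
ring are. -/
theorem isRegularHom_cpl_henselization_iff :
    CAlg.IsRegularHom S (AdicCompletion (maximalIdeal S) S) ↔
      CAlg.IsRegularHom R (AdicCompletion (maximalIdeal R) R) := by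
  obtain ⟨hnoe, hflat, hmax⟩ := Groth.Agent.H14.HensProp.hens_basic R S
  haveI := hnoe
  haveI := hflat
  have hP := Groth.Agent.H3.HensIso.isPairHenselization_of_isHenselization
      (inferInstance : Hensel.IsHenselization R S)
  have hH0 : HenselianLocalRing (R ⧸ maximalIdeal R) := by
    let _ := Ideal.Quotient.field (maximalIdeal R)
    exact Field.henselian _
  have hres : ∀ b : S, ∃ a : R, b - algebraMap R S a ∈ maximalIdeal S := by
    intro b
    have hb := (Groth.Agent.H3.bijective_quotientMap_of_isHenselization R S (maximalIdeal R)).2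
      (Ideal.Quotient.mk _ b)
    obtain ⟨y, hy⟩ := hb
    obtain ⟨a, rfl⟩ := Ideal.Quotient.mk_surjective y
    refine ⟨a, ?_⟩
    rw [Ideal.quotientMap_mk, Ideal.Quotient.eq, hmax] at hy
    have := (maximalIdeal S).neg_mem hy
    rwa [neg_sub] at this
  have hU : ∀ x : S, InEtImage R S {x} :=
    fun x => Groth.Agent.H3.HensUnion.isUnion_of_isPairHenselization hP x
  constructor
  · intro hS
    exact Groth.Agent.H72.ExcellentLoc.isRegularHom_compl_of_flat R S
      (isRegularHom_of_inEtImage R S hU) hS
  · intro hR
    obtain ⟨φ, hφ⟩ := Groth.Agent.H72.HensFormal.exists_complEquiv (R := R) (S := S) hmax hres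
    haveI : IsNoetherianRing (AdicCompletion (maximalIdeal S) S) :=
      Groth.Agent.H20.isNoetherianRing_adicCompletion _
    refine ⟨inferInstance, fun q hq => ⟨Groth.Agent.H26.SkFlat.isNoetherianRing_fiber _ q, ?_⟩⟩
    intro k' _ _ hfin
    exact Groth.Agent.H72.HensFormalFibres.formalFibre_of_inEtImage
      (fun X _ => IsRegularRing X)
      (fun X Y _ _ e h => @IsRegularRing.of_ringEquiv _ _ _ _ e h)
      (fun X Y _ _ _ M _ h => isRegularRing_of_isLocalization X Y M h)
      φ hφ hU (fun p _ k'' _ _ hf => (hR.2 p).2 k'' hf) q k'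

end Hens

end Groth.Agent.H72.HensGRing
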