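import Mathlib
import Groth.Prelude.Def_EGA41
import Groth.Agent.H23.IntDer
import Groth.Agent.S4542
import Groth.Agent.H15.MTAlg7

/-!
# Extending derivations along adically formally smooth complete algebras

If `E` is a Noetherian `B`-algebra, complete for the `𝔟`-adic topology and formally smooth over the
discrete ring `B` for this topology, every (absolute) derivation of `B` extends to a derivation
of `E` (lift the identity of `E` to the dual numbers `E[ε]` with the `B`-algebra structure twisted
by the derivation).
-/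

set_option autoImplicit false
set_option linter.style.haveILetI false
set_option linter.unusedSectionVars false
universe u

namespace Groth.Agent.H72.DerExt

open TrivSqZeroExt Groth.Agent.H23

variable {B : Type u} (E : Type u) [CommRing B] [CommRing E] [Algebra B E]

/-- the twisted structure map `b ↦ b + D(b) ε`. -/
noncomputable def twist (D : IntDer B) : B →+* TrivSqZeroExt E E where
  toFun b := inl (algebraMap B E b) + inr (algebraMap B E (D b))
  map_one' := by
    rw [map_one, D.map_one_eq_zero, map_zero, inr_zero, add_zero, inl_one]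
  map_mul' x y := by
    apply TrivSqZeroExt.ext
    · simp
    · simp only [snd_add, snd_inl, snd_inr, zero_add, snd_mul, fst_add, fst_inl, fst_inr,
        add_zero, D.leibniz, map_add, smul_eq_mul, map_mul, MulOpposite.smul_eq_mul_unop,
        MulOpposite.unop_op]
      ring
  map_zero' := by
    rw [map_zero, map_zero, map_zero, inr_zero, add_zero, inl_zero]
  map_add' x y := by
    rw [map_add, map_add, map_add, inl_add, inr_add]
    abel

theorem fst_twist (D : IntDer B) (b : B) : (twist E D b).fst = algebraMap B E b := by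
  simp [twist]

theorem snd_twist (D : IntDer B) (b : B) : (twist E D b).snd = algebraMap B E (D b) := by
  simp [twist, Algebra.algebraMap_eq_smul_one]

/-- the dual numbers over `E`, with the `B`-algebra structure twisted by `D`. -/
def Tw (_D : IntDer B) : Type u := TrivSqZeroExt E E

noncomputable instance (D : IntDer B) : CommRing (Tw E D) :=
  inferInstanceAs (CommRing (TrivSqZeroExt E E))

noncomputable instance (D : IntDer B) : Algebra E (Tw E D) :=
  inferInstanceAs (Algebra E (TrivSqZeroExt E E))

noncomputable instance (D : IntDer B) : Algebra B (Tw E D) := (twist E D).toAlgebra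

/-- first projection -/
noncomputable def pr (D : IntDer B) : Tw E D →+* E :=
  ((fstHom E E E : TrivSqZeroExt E E →ₐ[E] E) : TrivSqZeroExt E E →+* E)

/-- second projection -/
def sn (D : IntDer B) (x : Tw E D) : E := TrivSqZeroExt.snd (R := E) (M := E) x

/-- inclusion -/
noncomputable def inc (D : IntDer B) : E →+* Tw E D := (inlHom E E : E →+* TrivSqZeroExt E E)

theorem pr_inc (D : IntDer B) (e : E) : pr E D (inc E D e) = e := by rfl

theorem algebraMap_E (D : IntDer B) : algebraMap E (Tw E D) = inc E D := by rfl

theorem pr_mul (D : IntDer B) (x y : Tw E D) : pr E D (x * y) = pr E D x * pr E D y := map_mul _ _ _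

theorem sn_mul (D : IntDer B) (x y : Tw E D) :
    sn E D (x * y) = pr E D x * sn E D y + pr E D y * sn E D x := by
  have h := snd_mul (R := E) (M := E) x y
  rw [smul_eq_mul, MulOpposite.smul_eq_mul_unop, MulOpposite.unop_op] at h
  rw [mul_comm (pr E D y)]
  exact h

theorem sn_add (D : IntDer B) (x y : Tw E D) : sn E D (x + y) = sn E D x + sn E D y := by rfl

theorem sn_zero (D : IntDer B) : sn E D 0 = 0 := by rfl

theorem pr_algebraMap (D : IntDer B) (b : B) : pr E D (algebraMap B (Tw E D) b) = algebraMap B E b :=
  fst_twist E D b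

theorem sn_algebraMap (D : IntDer B) (b : B) :
    sn E D (algebraMap B (Tw E D) b) = algebraMap B E (D b) :=
  snd_twist E D b

theorem ext' (D : IntDer B) {x y : Tw E D} (h1 : pr E D x = pr E D y) (h2 : sn E D x = sn E D y) :
    x = y := TrivSqZeroExt.ext (R := E) (M := E) h1 h2

instance (D : IntDer B) : Module.Finite E (Tw E D) := by
  let f : (E × E) →ₗ[E] TrivSqZeroExt E E :=
    { toFun := fun x => (inl x.1 + inr x.2 : TrivSqZeroExt E E)
      map_add' := fun x y => by
        apply TrivSqZeroExt.ext <;> simp
      map_smul' := fun c x => by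
        apply TrivSqZeroExt.ext <;> simp }
  have hf : Function.Surjective f := by
    intro x
    refine ⟨(TrivSqZeroExt.fst x, TrivSqZeroExt.snd x), ?_⟩
    apply TrivSqZeroExt.ext <;> simp [f]
  exact Module.Finite.of_surjective f hf

variable {E}

/-- **Extension of derivations.** -/
theorem exists_intDer [IsNoetherianRing E] (𝔟 : Ideal E) [IsAdicComplete 𝔟 E]
    (hfs : EGA41.IsFormallySmoothAdic B ⊥ E 𝔟) (D : IntDer B) :
    ∃ D' : IntDer E, ∀ b : B, D' (algebraMap B E b) = algebraMap B E (D b) := by
  haveI : IsNoetherianRing (Tw E D) := IsNoetherianRing.of_finite E (Tw E D)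
  haveI hcompl : IsAdicComplete (𝔟.map (algebraMap E (Tw E D))) (Tw E D) :=
    Groth.Agent.H15.MTA.isAdicComplete_map_of_finite 𝔟 (Tw E D)
  set J : Ideal (Tw E D) := RingHom.ker (pr E D) with hJdef
  have hJmem : ∀ x : Tw E D, x ∈ J ↔ pr E D x = 0 := fun x => RingHom.mem_ker
  have hJ2 : J ^ 2 ≤ 𝔟.map (algebraMap E (Tw E D)) := by
    have h0 : J ^ 2 = ⊥ := by
      rw [pow_two, eq_bot_iff, Ideal.mul_le]
      intro x hx y hy
      rw [hJmem] at hx hy
      rw [Ideal.mem_bot]
      apply ext' E D
      · rw [pr_mul, hx, zero_mul, map_zero]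
      · rw [sn_mul, hx, hy, zero_mul, zero_mul, add_zero]
        rfl
    rw [h0]
    exact bot_le
  haveI : IsHausdorff ((𝔟.map (algebraMap E (Tw E D))).map (Ideal.Quotient.mk J)) (Tw E D ⧸ J) := by
    apply IsHausdorff.of_le_jacobson
    have h1 : 𝔟.map (algebraMap E (Tw E D)) ≤ (⊥ : Ideal (Tw E D)).jacobson :=
      IsAdicComplete.le_jacobson_bot _
    rw [Ideal.map_le_iff_le_comap]
    intro x hx
    rw [Ideal.mem_comap, Ideal.jacobson, Ideal.mem_sInf]
    intro M hM
    obtain ⟨-, hMmax⟩ := hM
    haveI := hMmax
    have h2 : (M.comap (Ideal.Quotient.mk J)).IsMaximal :=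
      Ideal.comap_isMaximal_of_surjective _ Ideal.Quotient.mk_surjective
    have h3 := h1 hx
    rw [Ideal.jacobson, Ideal.mem_sInf] at h3
    exact h3 ⟨bot_le, h2⟩
  -- the map `E → E[ε]/(ε)`
  let u : E →ₐ[B] Tw E D ⧸ J :=
    { (Ideal.Quotient.mk J).comp (inc E D) with
      commutes' := fun b => by
        show Ideal.Quotient.mk J (inc E D (algebraMap B E b)) =
          Ideal.Quotient.mk J (algebraMap B (Tw E D) b)
        rw [Ideal.Quotient.eq, hJmem, map_sub, pr_inc, pr_algebraMap, sub_self] }
  have hu : ∀ e : E, u e = Ideal.Quotient.mk J (inc E D e) := fun e => rfl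
  obtain ⟨v, -, hv⟩ := Groth.Agent.S4542.result (⊥ : Ideal B) 𝔟 (𝔟.map (algebraMap E (Tw E D)))
    hfs ⟨1, by rw [pow_one, Ideal.map_bot]; exact bot_le⟩ J ⟨2, hJ2⟩ u
    ⟨1, by
      rw [pow_one, Ideal.map_map]
      exact le_of_eq rfl⟩
  have hpr : ∀ e : E, pr E D (v e) = e := by
    intro e
    have h1 : Ideal.Quotient.mk J (v e) = u e := AlgHom.congr_fun hv e
    rw [hu, Ideal.Quotient.eq, hJmem, map_sub, pr_inc, sub_eq_zero] at h1
    exact h1
  let d : E →+ E :=
    { toFun := fun e => sn E D (v e)
      map_zero' := by rw [map_zero, sn_zero]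
      map_add' := fun x y => by rw [map_add, sn_add] }
  refine ⟨IntDer.ofAddHom d (fun a b => ?_), fun b => ?_⟩
  · show sn E D (v (a * b)) = a * sn E D (v b) + b * sn E D (v a)
    rw [map_mul, sn_mul, hpr, hpr]
  · show sn E D (v (algebraMap B E b)) = _
    rw [v.commutes, sn_algebraMap]

end Groth.Agent.H72.DerExt
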