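import Mathlib
import Groth.Agent.H72.DerExt
import Groth.Agent.H23.GRStepRoot
import Groth.Agent.H23.GRSepPoly
import Groth.Agent.S4535
import Groth.Agent.S4537

/-!
# André's theorem for complete local rings: the two steps of the tower argument

`L` is a complete Noetherian local ring, adically formally smooth over `A₀`.  For a domain `C`
over `A₀` we consider the property `PL C : IsRegularRing (Frac C ⊗_{A₀} L)`.

* `PL_of_isSeparable` : ascent along a finite extension of domains with separable fraction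
  field extension;
* `PL_of_root` : ascent along `C = B[a]`, `a^p = f`, `f` not a `p`-th power in `Frac B`, given a
  derivation `D` of `B` with `D f ≠ 0` (the derivation is extended to `B ⊗ L` by formal
  smoothness, `exists_intDer_tensor`).
-/

set_option autoImplicit false
set_option linter.style.haveILetI false
set_option linter.unusedSectionVars false
set_option linter.unusedVariables false
universe u

namespace Groth.Agent.H72.Andre

open IsLocalRing TensorProduct Polynomial Groth.Agent.H23 Groth.Agent.H23.GR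

attribute [local instance] FractionRing.liftAlgebra

variable (A₀ L : Type u) [CommRing A₀] [CommRing L] [Algebra A₀ L]

/-- the generic fibre of `C → C ⊗ L` is regular. -/
def PL (C : Type u) [CommRing C] [Algebra A₀ C] : Prop :=
  IsRegularRing (FractionRing C ⊗[A₀] L)

section Sep

variable (B C : Type u) [CommRing B] [IsDomain B] [CommRing C] [IsDomain C]
  [Algebra A₀ B] [Algebra A₀ C] [Algebra B C] [IsScalarTower A₀ B C]
  [Module.Finite B C] [FaithfulSMul B C]

/-- **Separable step.** -/
theorem PL_of_isSeparable [Algebra.IsSeparable (FractionRing B) (FractionRing C)]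
    (hB : PL A₀ L B) : PL A₀ L C := by
  haveI : Algebra.IsIntegral B C := Algebra.IsIntegral.of_finite B C
  haveI h6 : Algebra.EssFiniteType C (FractionRing C) :=
    Algebra.EssFiniteType.of_isLocalization (FractionRing C) (nonZeroDivisors C)
  haveI h7 : Algebra.FiniteType B C := inferInstance
  haveI h8 : Algebra.EssFiniteType B C := inferInstance
  haveI h9 : Algebra.EssFiniteType B (FractionRing C) := Algebra.EssFiniteType.comp B C _
  haveI h10 : Algebra.EssFiniteType (FractionRing B) (FractionRing C) :=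
    Algebra.EssFiniteType.of_comp B _ _
  haveI h11 : Algebra.IsGeometricallyReduced (FractionRing B) (FractionRing C) :=
    Groth.Agent.H13.isGeometricallyReduced_of_isSeparable _ _
  haveI r1 : IsRegularRing (FractionRing B ⊗[A₀] L) := hB
  haveI r6 : IsRegularRing (FractionRing C ⊗[FractionRing B] (FractionRing B ⊗[A₀] L)) :=
    Groth.Agent.H14.GeomBC.isRegularRing_tensor_of_isGeometricallyReduced _ _ _
  exact IsRegularRing.of_ringEquiv (Algebra.TensorProduct.cancelBaseChange A₀ (FractionRing B)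
      (FractionRing B) (FractionRing C) L).toRingEquiv

/-- **Separable step**, polynomial form. -/
theorem PL_of_sepPoly (y : C) (hgen : Algebra.adjoin B {y} = ⊤) (g : B[X])
    (hg : aeval y g = 0) (hg' : aeval y (derivative g) ≠ 0) (hB : PL A₀ L B) : PL A₀ L C := by
  haveI := isSeparable_frac_of_poly B C y hgen g hg hg'
  exact PL_of_isSeparable A₀ L B C hB

end Sep

section Deriv

attribute [local instance] Algebra.TensorProduct.rightAlgebra

variable (B : Type u) [CommRing B] [Algebra A₀ B] [Module.Finite A₀ B]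

/-- `B ⊗ L` is finite over `L`. -/
theorem finite_tensor_right : Module.Finite L (B ⊗[A₀] L) := by
  refine Module.Finite.of_equiv_equiv (A₁ := L) (B₁ := L ⊗[A₀] B)
    (RingEquiv.refl _) (Algebra.TensorProduct.comm A₀ L B).toRingEquiv ?_
  ext x
  simp [Algebra.TensorProduct.right_algebraMap_apply]

variable [IsNoetherianRing L] [IsLocalRing L] [IsAdicComplete (maximalIdeal L) L]

/-- a derivation of `B` extends to `B ⊗ L` when `L` is complete and adically formally smooth
over `A₀`. -/
theorem exists_intDer_tensor (hfs : CAlgX.IsAdicFormallySmooth A₀ L (maximalIdeal L))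
    (D : IntDer B) :
    ∃ D' : IntDer (B ⊗[A₀] L), ∀ b : B, D' (b ⊗ₜ[A₀] (1 : L)) = D b ⊗ₜ[A₀] (1 : L) := by
  have hfsE := Groth.Agent.S4535.result (A := A₀) (B := L) (A' := B) (⊥ : Ideal A₀)
    (maximalIdeal L) (⊥ : Ideal B)
    ⟨1, by rw [pow_one, Ideal.map_bot]⟩
    ((Groth.Agent.S4537.result (maximalIdeal L)).mp hfs)
  haveI hfin : Module.Finite L (B ⊗[A₀] L) := finite_tensor_right A₀ L B
  haveI : IsNoetherianRing (B ⊗[A₀] L) := IsNoetherianRing.of_finite L (B ⊗[A₀] L)
  have hcompl : IsAdicComplete ((maximalIdeal L).map (algebraMap L (B ⊗[A₀] L))) (B ⊗[A₀] L) :=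
    Groth.Agent.H15.MTA.isAdicComplete_map_of_finite (maximalIdeal L) (B ⊗[A₀] L)
  have hI : (⊥ : Ideal B).map (algebraMap B (B ⊗[A₀] L)) ⊔
      (maximalIdeal L).map
        (Algebra.TensorProduct.includeRight : L →ₐ[A₀] B ⊗[A₀] L).toRingHom =
      (maximalIdeal L).map (algebraMap L (B ⊗[A₀] L)) := by
    rw [Ideal.map_bot, bot_sup_eq]
    rfl
  rw [hI] at hfsE
  haveI := hcompl
  obtain ⟨D', hD'⟩ := Groth.Agent.H72.DerExt.exists_intDer
    ((maximalIdeal L).map (algebraMap L (B ⊗[A₀] L))) hfsE D
  refine ⟨D', fun b => ?_⟩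
  have := hD' b
  rwa [Algebra.TensorProduct.algebraMap_apply, Algebra.TensorProduct.algebraMap_apply,
    Algebra.algebraMap_self, RingHom.id_apply, RingHom.id_apply] at this

/-- transport of a derivation along a ring isomorphism. -/
theorem exists_intDer_of_ringEquiv {X Y : Type u} [CommRing X] [CommRing Y] (e : X ≃+* Y)
    (D : IntDer X) : ∃ D' : IntDer Y, ∀ y : Y, D' y = e (D (e.symm y)) := by
  refine ⟨IntDer.ofAddHom (AddMonoidHom.mk' (fun y => e (D (e.symm y))) (fun a b => by
    simp only [map_add])) (fun a b => ?_), fun y => rfl⟩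
  show e (D (e.symm (a * b))) = a * e (D (e.symm b)) + b * e (D (e.symm a))
  rw [map_mul, D.leibniz, smul_eq_mul, smul_eq_mul, map_add, map_mul, map_mul,
    e.apply_symm_apply, e.apply_symm_apply]

variable [IsDomain B]

/-- a derivation of `B` extends to `Frac B ⊗ L`. -/
theorem exists_intDer_frac_tensor (hfs : CAlgX.IsAdicFormallySmooth A₀ L (maximalIdeal L))
    (D : IntDer B) :
    ∃ D' : IntDer (FractionRing B ⊗[A₀] L), ∀ b : B,
      D' (algebraMap B (FractionRing B) b ⊗ₜ[A₀] (1 : L)) =
        algebraMap B (FractionRing B) (D b) ⊗ₜ[A₀] (1 : L) := by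
  obtain ⟨DE, hDE⟩ := exists_intDer_tensor A₀ L B hfs D
  letI : Algebra (B ⊗[A₀] L) (FractionRing B ⊗[A₀] L) :=
    (Algebra.TensorProduct.map (IsScalarTower.toAlgHom A₀ B (FractionRing B))
      (AlgHom.id A₀ L)).toRingHom.toAlgebra
  have hmap : ∀ (b : B) (l : L), algebraMap (B ⊗[A₀] L) (FractionRing B ⊗[A₀] L) (b ⊗ₜ[A₀] l) =
      algebraMap B (FractionRing B) b ⊗ₜ[A₀] l := by
    intro b l
    show (Algebra.TensorProduct.map (IsScalarTower.toAlgHom A₀ B (FractionRing B))
      (AlgHom.id A₀ L)) (b ⊗ₜ[A₀] l) = _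
    simp
  haveI : IsScalarTower B (B ⊗[A₀] L) (FractionRing B ⊗[A₀] L) :=
    IsScalarTower.of_algebraMap_eq (fun d => by
      rw [Algebra.TensorProduct.algebraMap_apply, Algebra.TensorProduct.algebraMap_apply, hmap]
      simp)
  have H : (algebraMap (B ⊗[A₀] L) (FractionRing B ⊗[A₀] L)).comp
      (Algebra.TensorProduct.includeRight : L →ₐ[A₀] B ⊗[A₀] L).toRingHom =
      (Algebra.TensorProduct.includeRight : L →ₐ[A₀] FractionRing B ⊗[A₀] L).toRingHom := by
    ext a
    show algebraMap (B ⊗[A₀] L) (FractionRing B ⊗[A₀] L) ((1 : B) ⊗ₜ[A₀] a) =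
      (1 : FractionRing B) ⊗ₜ[A₀] a
    rw [hmap, map_one]
  haveI := IsLocalization.tensorProduct_tensorProduct A₀ L (nonZeroDivisors B) (FractionRing B) H
  refine ⟨IntDer.loc (Algebra.algebraMapSubmonoid (B ⊗[A₀] L) (nonZeroDivisors B)) DE,
    fun b => ?_⟩
  rw [← hmap, IntDer.loc_algebraMap, hDE, hmap]

/-- a derivation of `B` extends to `L ⊗ Frac B`. -/
theorem exists_intDer_tensor_frac (hfs : CAlgX.IsAdicFormallySmooth A₀ L (maximalIdeal L))
    (D : IntDer B) :
    ∃ D' : IntDer (L ⊗[A₀] FractionRing B), ∀ b : B,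
      D' ((1 : L) ⊗ₜ[A₀] algebraMap B (FractionRing B) b) =
        (1 : L) ⊗ₜ[A₀] algebraMap B (FractionRing B) (D b) := by
  obtain ⟨D₁, hD₁⟩ := exists_intDer_frac_tensor A₀ L B hfs D
  obtain ⟨D₂, hD₂⟩ := exists_intDer_of_ringEquiv
    (Algebra.TensorProduct.comm A₀ (FractionRing B) L).toRingEquiv D₁
  refine ⟨D₂, fun b => ?_⟩
  rw [hD₂]
  show (Algebra.TensorProduct.comm A₀ (FractionRing B) L)
    (D₁ ((Algebra.TensorProduct.comm A₀ (FractionRing B) L).symm _)) = _
  rw [Algebra.TensorProduct.comm_symm_tmul, hD₁, Algebra.TensorProduct.comm_tmul]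

end Deriv

section Root

variable [IsNoetherianRing L] [IsLocalRing L] [IsAdicComplete (maximalIdeal L) L]
variable (p : ℕ) [hp : Fact p.Prime] (B C : Type u) [CommRing B] [IsDomain B] [CharP B p]
  [CommRing C] [IsDomain C] [Algebra A₀ B] [Algebra A₀ C] [Algebra B C] [IsScalarTower A₀ B C]
  [Module.Finite A₀ B] [FaithfulSMul B C]

/-- **Root step.** -/
theorem PL_of_root (hfs : CAlgX.IsAdicFormallySmooth A₀ L (maximalIdeal L))
    (a : C) (f : B) (haf : a ^ p = algebraMap B C f)
    (hgen : Algebra.adjoin B {a} = ⊤)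
    (hf : ∀ x : FractionRing B, x ^ p ≠ algebraMap B (FractionRing B) f)
    (D : IntDer B) (hD : D f ≠ 0) (hB : PL A₀ L B) : PL A₀ L C := by
  haveI r0 : IsRegularRing (FractionRing B ⊗[A₀] L) := hB
  haveI r1 : IsRegularRing (L ⊗[A₀] FractionRing B) :=
    IsRegularRing.of_ringEquiv (Algebra.TensorProduct.comm A₀ (FractionRing B) L).toRingEquiv
  -- the derivation
  obtain ⟨D', hD'⟩ := exists_intDer_tensor_frac A₀ L B hfs D
  have hunit : IsUnit (D' ((1 : L) ⊗ₜ[A₀] algebraMap B (FractionRing B) f)) := by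
    rw [hD']
    have h1 : IsUnit (algebraMap B (FractionRing B) (D f)) := by
      rw [isUnit_iff_ne_zero]
      intro h0
      exact hD (IsFractionRing.injective B (FractionRing B) (h0.trans (map_zero _).symm))
    exact h1.map (Algebra.TensorProduct.includeRight : FractionRing B →ₐ[A₀] L ⊗[A₀] FractionRing B)
  have h46 := Groth.Agent.H46.isRegularRing_polynomial_quotient_of_derivation _
    ((1 : L) ⊗ₜ[A₀] algebraMap B (FractionRing B) f) D' hunit (X ^ p)
  rw [Polynomial.map_pow, Polynomial.map_X] at h46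
  -- the field extension
  obtain ⟨e⟩ := exists_algEquiv_adjoinRoot p B C a f haf hgen hf
  have hq : (X ^ p - Polynomial.C (algebraMap B (FractionRing B) f) : (FractionRing B)[X]).map
      (Algebra.TensorProduct.includeRight :
        FractionRing B →ₐ[A₀] L ⊗[A₀] FractionRing B).toRingHom =
      X ^ p - Polynomial.C ((1 : L) ⊗ₜ[A₀] algebraMap B (FractionRing B) f) := by
    rw [Polynomial.map_sub, Polynomial.map_pow, Polynomial.map_X, Polynomial.map_C]
    rfl
  let e1 := AdjoinRoot.tensorAlgEquiv (R := A₀) (T := L)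
    (X ^ p - Polynomial.C (algebraMap B (FractionRing B) f) : (FractionRing B)[X]) _ hq
  haveI r2 : IsRegularRing (L ⊗[A₀]
      AdjoinRoot (X ^ p - Polynomial.C (algebraMap B (FractionRing B) f) : (FractionRing B)[X])) := by
    haveI : IsRegularRing (AdjoinRoot (X ^ p - Polynomial.C
      ((1 : L) ⊗ₜ[A₀] algebraMap B (FractionRing B) f))) := h46
    exact IsRegularRing.of_ringEquiv e1.symm.toRingEquiv
  let e2 : L ⊗[A₀]
      AdjoinRoot (X ^ p - Polynomial.C (algebraMap B (FractionRing B) f) : (FractionRing B)[X]) ≃ₐ[A₀]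
      L ⊗[A₀] FractionRing C :=
    Algebra.TensorProduct.congr AlgEquiv.refl (e.restrictScalars A₀)
  haveI r3 : IsRegularRing (L ⊗[A₀] FractionRing C) :=
    IsRegularRing.of_ringEquiv e2.toRingEquiv
  exact IsRegularRing.of_ringEquiv (Algebra.TensorProduct.comm A₀ L (FractionRing C)).toRingEquiv

end Root

end Groth.Agent.H72.Andre
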