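import Mathlib
import Groth.Agent.H72.AndreSteps
import Groth.Agent.H72.QFFormal1
import Groth.Agent.H47.FlatLift
import Groth.Agent.H23.FlatLiftUnique
import Groth.Agent.H23.RegHomAdic
import Groth.Agent.S2487
import Groth.Agent.H26.RegularFlat

/-!
# André's theorem for complete local rings: descent of the algebra to a Cohen subring

Let `A₀ → A` be a finite local homomorphism of Noetherian local rings inducing an isomorphism of
residue fields, and `B` a complete Noetherian local `A`-algebra, adically formally smooth over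
`A`.  Then there is a complete Noetherian local `A₀`-algebra `L`, flat and adically formally
smooth over `A₀`, with `B ≃ A ⊗_{A₀} L` (`exists_lift`).
-/

set_option autoImplicit false
set_option linter.style.haveILetI false
set_option linter.unusedSectionVars false
set_option linter.unusedVariables false
universe u

namespace Groth.Agent.H72.Andre

open IsLocalRing TensorProduct

attribute [local instance] Algebra.TensorProduct.rightAlgebra

section TensorLocal

variable (A₀ A L : Type u) [CommRing A₀] [IsLocalRing A₀] [CommRing A] [IsLocalRing A]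
  [CommRing L] [IsLocalRing L] [Algebra A₀ A] [Algebra A₀ L] [IsLocalHom (algebraMap A₀ A)]
  [IsLocalHom (algebraMap A₀ L)] [Module.Finite A₀ A]

theorem algebraMap_comp_eq :
    (algebraMap A (A ⊗[A₀] L)).comp (algebraMap A₀ A) =
      (algebraMap L (A ⊗[A₀] L)).comp (algebraMap A₀ L) := by
  ext a
  rw [RingHom.comp_apply, RingHom.comp_apply, Algebra.TensorProduct.algebraMap_apply,
    Algebra.TensorProduct.right_algebraMap_apply, Algebra.algebraMap_self, RingHom.id_apply,
    Algebra.algebraMap_eq_smul_one, Algebra.algebraMap_eq_smul_one, TensorProduct.smul_tmul]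

/-- every element of `A ⊗ L` is congruent to an element of `L` modulo `𝔪_A`. -/
theorem exists_sub_mem (hres : Function.Surjective ((residue A).comp (algebraMap A₀ A)))
    (x : A ⊗[A₀] L) :
    ∃ l : L, x - (1 : A) ⊗ₜ[A₀] l ∈ (maximalIdeal A).map (algebraMap A (A ⊗[A₀] L)) := by
  induction x using TensorProduct.induction_on with
  | zero => exact ⟨0, by rw [TensorProduct.tmul_zero, sub_zero]; exact Ideal.zero_mem _⟩
  | tmul a l =>
    obtain ⟨a₀, ha₀⟩ := hres (residue A a)
    have hm : a - algebraMap A₀ A a₀ ∈ maximalIdeal A := by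
      rw [← residue_eq_zero_iff, map_sub, sub_eq_zero]
      exact ha₀.symm
    refine ⟨a₀ • l, ?_⟩
    have h1 : a ⊗ₜ[A₀] l - (1 : A) ⊗ₜ[A₀] (a₀ • l) =
        algebraMap A (A ⊗[A₀] L) (a - algebraMap A₀ A a₀) * ((1 : A) ⊗ₜ[A₀] l) := by
      rw [Algebra.TensorProduct.algebraMap_apply, Algebra.TensorProduct.tmul_mul_tmul,
        Algebra.algebraMap_self, RingHom.id_apply, mul_one, one_mul, TensorProduct.sub_tmul,
        ← TensorProduct.smul_tmul, Algebra.algebraMap_eq_smul_one]
    rw [h1]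
    exact Ideal.mul_mem_right _ _ (Ideal.mem_map_of_mem _ hm)
  | add x y hx hy =>
    obtain ⟨l₁, h₁⟩ := hx
    obtain ⟨l₂, h₂⟩ := hy
    refine ⟨l₁ + l₂, ?_⟩
    have : x + y - (1 : A) ⊗ₜ[A₀] (l₁ + l₂) =
        (x - (1 : A) ⊗ₜ[A₀] l₁) + (y - (1 : A) ⊗ₜ[A₀] l₂) := by
      rw [TensorProduct.tmul_add]
      ring
    rw [this]
    exact Ideal.add_mem _ h₁ h₂

/-- every maximal ideal of `A ⊗ L` contains `𝔪_A`. -/
theorem map_maximalIdeal_le_of_isMaximal (M : Ideal (A ⊗[A₀] L)) [hM : M.IsMaximal] :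
    (maximalIdeal A).map (algebraMap A (A ⊗[A₀] L)) ≤ M := by
  haveI hfin : Module.Finite L (A ⊗[A₀] L) := finite_tensor_right A₀ L A
  haveI : Algebra.IsIntegral L (A ⊗[A₀] L) := Algebra.IsIntegral.of_finite _ _
  haveI : Algebra.IsIntegral A₀ A := Algebra.IsIntegral.of_finite _ _
  have h1 : (M.comap (algebraMap L (A ⊗[A₀] L))).IsMaximal :=
    Ideal.isMaximal_comap_of_isIntegral_of_isMaximal M
  have h2 : M.comap (algebraMap L (A ⊗[A₀] L)) = maximalIdeal L := eq_maximalIdeal h1
  have h3 : (M.comap (algebraMap A (A ⊗[A₀] L))).comap (algebraMap A₀ A) = maximalIdeal A₀ := by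
    rw [Ideal.comap_comap, algebraMap_comp_eq, ← Ideal.comap_comap, h2]
    exact IsLocalRing.maximalIdeal_comap _
  haveI : (M.comap (algebraMap A (A ⊗[A₀] L))).IsPrime := Ideal.comap_isPrime _ _
  have h4 : (M.comap (algebraMap A (A ⊗[A₀] L))).IsMaximal :=
    Ideal.isMaximal_of_isIntegral_of_isMaximal_comap _ (by rw [h3]; exact maximalIdeal.isMaximal _)
  rw [Ideal.map_le_iff_le_comap, eq_maximalIdeal h4]

end TensorLocal

section Lift

variable (A₀ A B : Type u) [CommRing A₀] [IsLocalRing A₀] [IsNoetherianRing A₀]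
  [CommRing A] [IsLocalRing A] [IsNoetherianRing A]
  [Algebra A₀ A] [IsLocalHom (algebraMap A₀ A)] [Module.Finite A₀ A]
  [CommRing B] [IsLocalRing B] [IsNoetherianRing B] [IsAdicComplete (maximalIdeal B) B]
  [Algebra A B] [IsLocalHom (algebraMap A B)]

set_option maxHeartbeats 800000 in
/-- **Descent of a formally smooth complete algebra to a Cohen subring.** -/
theorem exists_lift (hres : Function.Surjective ((residue A).comp (algebraMap A₀ A)))
    (hfs : CAlgX.IsAdicFormallySmooth A B (maximalIdeal B)) :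
    ∃ (L : Type u) (_ : CommRing L) (_ : IsLocalRing L) (_ : IsNoetherianRing L)
      (_ : Algebra A₀ L),
      IsAdicComplete (maximalIdeal L) L ∧ Module.Flat A₀ L ∧
      CAlgX.IsAdicFormallySmooth A₀ L (maximalIdeal L) ∧
      (IsRegularLocalRing A₀ → IsRegularLocalRing L) ∧
      Nonempty (B ≃ₐ[A] A ⊗[A₀] L) := by
  classical
  haveI hflat : Module.Flat A B := Groth.Agent.H23.FlatOfAdic.flat_of_adic hfs
  -- the closed fibre
  have hIle : (maximalIdeal A).map (algebraMap A B) ≤ maximalIdeal B := by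
    rw [Ideal.map_le_iff_le_comap, IsLocalRing.maximalIdeal_comap]
  haveI : Nontrivial (B ⧸ (maximalIdeal A).map (algebraMap A B)) :=
    Ideal.Quotient.nontrivial_iff.2 (fun h' =>
      (maximalIdeal.isMaximal B).ne_top (top_le_iff.1 (h' ▸ hIle)))
  haveI : IsLocalRing (B ⧸ (maximalIdeal A).map (algebraMap A B)) :=
    IsLocalRing.of_surjective' (Ideal.Quotient.mk _) Ideal.Quotient.mk_surjective
  have hmR : (maximalIdeal B).map (Ideal.Quotient.mk ((maximalIdeal A).map (algebraMap A B))) =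
      maximalIdeal (B ⧸ (maximalIdeal A).map (algebraMap A B)) :=
    Groth.Agent.H47.CohenArtin.map_maximalIdeal_of_surjective _ Ideal.Quotient.mk_surjective
  have h₀₀ := Groth.Agent.H47.DVRAdic.adic_quotient (maximalIdeal A) (maximalIdeal B) hfs
  rw [hmR] at h₀₀
  haveI : IsAdicComplete (maximalIdeal (B ⧸ (maximalIdeal A).map (algebraMap A B)))
      (B ⧸ (maximalIdeal A).map (algebraMap A B)) :=
    Groth.Agent.H26.ComplQuot.isAdicComplete_quotient _
  letI : Field (A ⧸ maximalIdeal A) := Ideal.Quotient.field _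
  haveI : IsRegularLocalRing (B ⧸ (maximalIdeal A).map (algebraMap A B)) :=
    Groth.Agent.H96.GeomRegAdic.regular_of_adic_field (A ⧸ maximalIdeal A) _ h₀₀
  -- the `A₀`-structures
  letI algA₀B : Algebra A₀ B := ((algebraMap A B).comp (algebraMap A₀ A)).toAlgebra
  haveI : IsScalarTower A₀ A B := IsScalarTower.of_algebraMap_eq' rfl
  have hkillA : ∀ a ∈ maximalIdeal A,
      algebraMap A (B ⧸ (maximalIdeal A).map (algebraMap A B)) a = 0 := fun a ha =>
    Ideal.Quotient.eq_zero_iff_mem.2 (Ideal.mem_map_of_mem _ ha)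
  have hkill : ∀ a ∈ maximalIdeal A₀,
      algebraMap A₀ (B ⧸ (maximalIdeal A).map (algebraMap A B)) a = 0 := by
    intro a ha
    rw [IsScalarTower.algebraMap_apply A₀ A (B ⧸ (maximalIdeal A).map (algebraMap A B))]
    apply hkillA
    rw [← IsLocalRing.maximalIdeal_comap (algebraMap A₀ A)] at ha
    exact ha
  letI algk₀ : Algebra (A₀ ⧸ maximalIdeal A₀) (B ⧸ (maximalIdeal A).map (algebraMap A B)) :=
    (Ideal.Quotient.lift (maximalIdeal A₀)
      (algebraMap A₀ (B ⧸ (maximalIdeal A).map (algebraMap A B))) hkill).toAlgebra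
  haveI htow : IsScalarTower A₀ (A₀ ⧸ maximalIdeal A₀)
      (B ⧸ (maximalIdeal A).map (algebraMap A B)) :=
    IsScalarTower.of_algebraMap_eq (fun a => rfl)
  letI algk₀' : Algebra (ResidueField A₀) (B ⧸ (maximalIdeal A).map (algebraMap A B)) := algk₀
  obtain ⟨L, _, _, _, _, _, hLc, hLf, ⟨ε⟩⟩ := Groth.Agent.H47.FlatLift.main (A := A₀)
    (B ⧸ (maximalIdeal A).map (algebraMap A B))
  haveI := hLc
  haveI := hLf
  let ε' : (A₀ ⧸ maximalIdeal A₀) ⊗[A₀] L ≃ₐ[A₀ ⧸ maximalIdeal A₀]
      (B ⧸ (maximalIdeal A).map (algebraMap A B)) := ε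
  obtain ⟨gL, hgLs, hgLk, -⟩ := Groth.Agent.S2487.red (maximalIdeal A₀) ε'
  have hgLloc : ∀ l : L, gL l ∈ maximalIdeal (B ⧸ (maximalIdeal A).map (algebraMap A B)) →
      l ∈ maximalIdeal L := by
    intro l hl
    rw [mem_maximalIdeal, mem_nonunits_iff] at hl ⊢
    exact fun hu => hl (hu.map gL)
  -- the reduction of `L`
  let e₀ : (L ⧸ (maximalIdeal A₀).map (algebraMap A₀ L)) ≃ₐ[A₀]
      (B ⧸ (maximalIdeal A).map (algebraMap A B)) :=
    (Ideal.quotientEquivAlgOfEq A₀ hgLk.symm).trans (Ideal.quotientKerAlgEquivOfSurjective hgLs)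
  have he₀ : ∀ l : L, e₀ (Ideal.Quotient.mk _ l) = gL l := fun l => rfl
  have hL₀le : (maximalIdeal A₀).map (algebraMap A₀ L) ≤ maximalIdeal L := by
    rw [Ideal.map_le_iff_le_comap, IsLocalRing.maximalIdeal_comap]
  -- formal smoothness of `L`
  have hfsL : CAlgX.IsAdicFormallySmooth A₀ L (maximalIdeal L) := by
    refine Groth.Agent.H23.AdicOfFlat.adic_of_flat_of_quotient (maximalIdeal A₀) (maximalIdeal L)
      hL₀le ?_
    have hle : maximalIdeal A₀ ≤ (maximalIdeal A).comap (algebraMap A₀ A) := by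
      rw [IsLocalRing.maximalIdeal_comap]
    let ι : A₀ ⧸ maximalIdeal A₀ →+* A ⧸ maximalIdeal A :=
      Ideal.quotientMap (maximalIdeal A) (algebraMap A₀ A) hle
    letI : Field (A₀ ⧸ maximalIdeal A₀) := Ideal.Quotient.field _
    have hιs : Function.Surjective ι := by
      intro y
      obtain ⟨a₀, ha₀⟩ := hres y
      exact ⟨Ideal.Quotient.mk _ a₀, ha₀⟩
    let ιe : A₀ ⧸ maximalIdeal A₀ ≃+* A ⧸ maximalIdeal A :=
      RingEquiv.ofBijective ι ⟨ι.injective, hιs⟩
    haveI : IsScalarTower A₀ (A ⧸ maximalIdeal A) (B ⧸ (maximalIdeal A).map (algebraMap A B)) :=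
      IsScalarTower.of_algebraMap_eq (fun a => rfl)
    refine Groth.Agent.H23.RegHomAdic.adic_transport (A₁ := A₀) (κ₁ := A ⧸ maximalIdeal A)
      (κ₂ := A₀ ⧸ maximalIdeal A₀) (G := B ⧸ (maximalIdeal A).map (algebraMap A B))
      (F := L ⧸ (maximalIdeal A₀).map (algebraMap A₀ L)) ?_ Ideal.Quotient.mk_surjective
      (ιe.symm : A ⧸ maximalIdeal A →+* A₀ ⧸ maximalIdeal A₀) ?_ e₀.symm
      (maximalIdeal (B ⧸ (maximalIdeal A).map (algebraMap A B)))
      ((maximalIdeal L).map (Ideal.Quotient.mk ((maximalIdeal A₀).map (algebraMap A₀ L)))) ?_ h₀₀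
    · intro y
      obtain ⟨a₀, ha₀⟩ := hres y
      exact ⟨a₀, ha₀⟩
    · intro a
      show ιe.symm (ιe (Ideal.Quotient.mk _ a)) = Ideal.Quotient.mk _ a
      exact ιe.symm_apply_apply _
    · intro x hx
      obtain ⟨l, hl⟩ := Ideal.Quotient.mk_surjective (e₀.symm x)
      rw [← hl]
      refine Ideal.mem_map_of_mem _ (hgLloc l ?_)
      rw [← he₀, hl, AlgEquiv.apply_symm_apply]
      exact hx
  have hregL : IsRegularLocalRing A₀ → IsRegularLocalRing L := by
    intro hA₀
    haveI : IsRegularLocalRing (L ⧸ (maximalIdeal A₀).map (algebraMap A₀ L)) :=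
      Groth.Agent.H26.FormalFibreFinite.isRegularLocalRing_of_ringEquiv' e₀.symm.toRingEquiv
        inferInstance
    exact Groth.Agent.H26.isRegularLocalRing_of_flat_of_regular_fibre A₀ L
  refine ⟨L, inferInstance, inferInstance, inferInstance, inferInstance, hLc, hLf, hfsL, hregL, ?_⟩
  -- the base change `T = A ⊗ L`
  let p' : A ⊗[A₀] L →ₐ[A] (B ⧸ (maximalIdeal A).map (algebraMap A B)) :=
    Algebra.TensorProduct.lift (Algebra.ofId A (B ⧸ (maximalIdeal A).map (algebraMap A B))) gL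
      (fun _ _ => Commute.all _ _)
  have hp't : ∀ (a : A) (l : L), p' (a ⊗ₜ[A₀] l) =
      algebraMap A (B ⧸ (maximalIdeal A).map (algebraMap A B)) a * gL l := fun a l => by
    simp [p', Algebra.ofId_apply]
  have hp's : Function.Surjective p' := by
    intro r
    obtain ⟨l, rfl⟩ := hgLs r
    exact ⟨(1 : A) ⊗ₜ[A₀] l, by rw [hp't, map_one, one_mul]⟩
  have hmap_le_ker : (maximalIdeal A).map (algebraMap A (A ⊗[A₀] L)) ≤ RingHom.ker p' := by
    rw [Ideal.map_le_iff_le_comap]
    intro a ha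
    rw [Ideal.mem_comap, RingHom.mem_ker]
    show p' (algebraMap A (A ⊗[A₀] L) a) = 0
    rw [AlgHom.commutes]
    exact hkillA a ha
  have hincl : ∀ l ∈ (maximalIdeal A₀).map (algebraMap A₀ L),
      (1 : A) ⊗ₜ[A₀] l ∈ (maximalIdeal A).map (algebraMap A (A ⊗[A₀] L)) := by
    have h1 : (maximalIdeal A₀).map (algebraMap A₀ L) ≤
        ((maximalIdeal A).map (algebraMap A (A ⊗[A₀] L))).comap
          (algebraMap L (A ⊗[A₀] L)) := by
      rw [Ideal.map_le_iff_le_comap]
      intro a₀ ha₀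
      rw [Ideal.mem_comap, Ideal.mem_comap]
      have h2 := RingHom.congr_fun (algebraMap_comp_eq A₀ A L) a₀
      rw [RingHom.comp_apply, RingHom.comp_apply] at h2
      rw [← h2]
      refine Ideal.mem_map_of_mem _ ?_
      rw [← IsLocalRing.maximalIdeal_comap (algebraMap A₀ A)] at ha₀
      exact ha₀
    intro l hl
    exact h1 hl
  have hp'k : RingHom.ker p' = (maximalIdeal A).map (algebraMap A (A ⊗[A₀] L)) := by
    apply le_antisymm _ hmap_le_ker
    intro x hx
    rw [RingHom.mem_ker] at hx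
    obtain ⟨l, hl⟩ := exists_sub_mem A₀ A L hres x
    have h1 : p' (x - (1 : A) ⊗ₜ[A₀] l) = 0 := hmap_le_ker hl
    have h2 : gL l = 0 := by
      rw [map_sub, hx, zero_sub, neg_eq_zero, hp't, map_one, one_mul] at h1
      exact h1
    have h3 : l ∈ (maximalIdeal A₀).map (algebraMap A₀ L) := by
      rw [← hgLk]
      exact h2
    have h4 : x = (x - (1 : A) ⊗ₜ[A₀] l) + (1 : A) ⊗ₜ[A₀] l := by ring
    rw [h4]
    exact Ideal.add_mem _ hl (hincl l h3)
  -- `T` is a complete Noetherian local ring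
  haveI hfinT : Module.Finite L (A ⊗[A₀] L) := finite_tensor_right A₀ L A
  haveI : IsNoetherianRing (A ⊗[A₀] L) := IsNoetherianRing.of_finite L (A ⊗[A₀] L)
  haveI hlocT : IsLocalRing (A ⊗[A₀] L) := by
    set q : A ⊗[A₀] L →+* (B ⧸ (maximalIdeal A).map (algebraMap A B)) := p'.toRingHom with hq
    have hqs : Function.Surjective q := hp's
    have hqk : RingHom.ker q = (maximalIdeal A).map (algebraMap A (A ⊗[A₀] L)) := hp'k
    have h𝔐 : ((maximalIdeal (B ⧸ (maximalIdeal A).map (algebraMap A B))).comap q).IsMaximal :=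
      Ideal.comap_isMaximal_of_surjective _ hqs
    refine IsLocalRing.of_unique_max_ideal ⟨_, h𝔐, fun M hM => ?_⟩
    haveI := hM
    have h1 : RingHom.ker q ≤ M := by
      rw [hqk]
      exact map_maximalIdeal_le_of_isMaximal A₀ A L M
    have h2 : (M.map q).comap q = M := by
      rw [Ideal.comap_map_of_surjective _ hqs]
      exact sup_eq_left.2 h1
    rcases Ideal.map_eq_top_or_isMaximal_of_surjective q hqs hM with h3 | h3
    · exfalso
      rw [h3, Ideal.comap_top] at h2
      exact hM.ne_top h2.symm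
    · rw [← h2, eq_maximalIdeal h3]
  haveI : IsAdicComplete (maximalIdeal (A ⊗[A₀] L)) (A ⊗[A₀] L) :=
    Groth.Agent.H72.QFFormal.isAdicComplete_of_finite_local L (A ⊗[A₀] L)
  -- uniqueness of flat lifts
  have hpk : RingHom.ker (Ideal.Quotient.mkₐ A ((maximalIdeal A).map (algebraMap A B))) =
      (maximalIdeal A).map (algebraMap A B) := Ideal.Quotient.mkₐ_ker A _
  obtain ⟨v, -⟩ := Groth.Agent.H23.FlatLiftUnique.exists_algEquiv_of_flat_lifts
    (A := A) (B := B) (B' := A ⊗[A₀] L) (R := B ⧸ (maximalIdeal A).map (algebraMap A B))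
    (maximalIdeal A) h₀₀
    (Ideal.Quotient.mkₐ A ((maximalIdeal A).map (algebraMap A B)))
    (Ideal.Quotient.mkₐ_surjective A _) hpk p' hp's hp'k
  exact ⟨v⟩

end Lift

end Groth.Agent.H72.Andre
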