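import Mathlib
import Groth.Agent.H72.AndreLift
import Groth.Agent.H72.AndreTower
import Groth.Agent.H23.GRJ2
import Groth.Agent.S0581

/-!
# André's theorem for complete local rings: the generic fibre

`A` a complete Noetherian local domain, `B` a complete Noetherian local `A`-algebra, adically
formally smooth over `A`.  Then for every finite `A`-algebra domain `D ⊇ A` the ring
`Frac D ⊗_A B` is regular (`isRegularRing_fractionRing_tensor`).
-/

set_option autoImplicit false
set_option linter.style.haveILetI false
set_option linter.unusedSectionVars false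
set_option linter.unusedVariables false
universe u

namespace Groth.Agent.H72.Andre

open IsLocalRing TensorProduct Groth.Agent.H23 Groth.Agent.H23.GR

attribute [local instance] FractionRing.liftAlgebra

/-- base case of the tower: `Frac A₀ ⊗ L` is regular when `L` is. -/
theorem PL_base (A₀ L : Type u) [CommRing A₀] [CommRing L] [Algebra A₀ L] [IsRegularRing L] :
    PL A₀ L A₀ := by
  haveI h1 : IsLocalization (Algebra.algebraMapSubmonoid L (nonZeroDivisors A₀))
      (L ⊗[A₀] FractionRing A₀) := IsLocalization.tensor (FractionRing A₀) (nonZeroDivisors A₀)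
  haveI h2 : IsRegularRing (L ⊗[A₀] FractionRing A₀) :=
    Groth.Agent.H14.GeomBC.isRegularRing_of_isLocalization
      (Algebra.algebraMapSubmonoid L (nonZeroDivisors A₀)) (L ⊗[A₀] FractionRing A₀)
  exact IsRegularRing.of_ringEquiv (Algebra.TensorProduct.comm A₀ L (FractionRing A₀)).toRingEquiv

section Core

variable (A₀ A B D : Type u) [CommRing A₀] [IsRegularLocalRing A₀]
  [CommRing A] [IsLocalRing A] [IsNoetherianRing A]
  [Algebra A₀ A] [Module.Finite A₀ A]
  [CommRing B] [IsLocalRing B] [IsNoetherianRing B] [IsAdicComplete (maximalIdeal B) B]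
  [Algebra A B] [IsLocalHom (algebraMap A B)]
  [CommRing D] [IsDomain D] [Algebra A D] [Algebra A₀ D] [IsScalarTower A₀ A D]

/-- reduction to the tower statement over a Cohen subring `A₀`. -/
theorem isRegularRing_of_cohen (hinj₀ : Function.Injective (algebraMap A₀ A))
    (hres : Function.Surjective ((residue A).comp (algebraMap A₀ A)))
    (hfs : CAlgX.IsAdicFormallySmooth A B (maximalIdeal B))
    (htower : ∀ (L : Type u) [CommRing L] [IsLocalRing L] [IsNoetherianRing L] [Algebra A₀ L]
      [IsAdicComplete (maximalIdeal L) L], CAlgX.IsAdicFormallySmooth A₀ L (maximalIdeal L) →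
      PL A₀ L A₀ → PL A₀ L D) :
    IsRegularRing (FractionRing D ⊗[A] B) := by
  haveI : FaithfulSMul A₀ A := (faithfulSMul_iff_algebraMap_injective A₀ A).mpr hinj₀
  haveI : Algebra.IsIntegral A₀ A := Algebra.IsIntegral.of_finite A₀ A
  haveI : IsLocalHom (algebraMap A₀ A) := inferInstance
  obtain ⟨L, _, _, _, _, hLc, hLf, hfsL, hregL, ⟨v⟩⟩ := exists_lift A₀ A B hres hfs
  haveI := hLc
  haveI : IsRegularLocalRing L := hregL inferInstance
  haveI : IsRegularRing L := isRegularRing_of_isRegularLocalRing L
  have h1 : IsRegularRing (FractionRing D ⊗[A₀] L) := htower L hfsL (PL_base A₀ L)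
  haveI : IsScalarTower A₀ A (FractionRing D) := IsScalarTower.of_algebraMap_eq (fun a => by
    rw [IsScalarTower.algebraMap_apply A₀ D (FractionRing D),
      IsScalarTower.algebraMap_apply A D (FractionRing D),
      IsScalarTower.algebraMap_apply A₀ A D])
  have h2 : IsRegularRing (FractionRing D ⊗[A] (A ⊗[A₀] L)) :=
    @IsRegularRing.of_ringEquiv _ _ _ _
      (Algebra.TensorProduct.cancelBaseChange A₀ A A (FractionRing D) L).symm.toRingEquiv h1
  exact @IsRegularRing.of_ringEquiv _ _ _ _
    (Algebra.TensorProduct.congr (AlgEquiv.refl (R := A) (A₁ := FractionRing D)) v).symm.toRingEquiv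
    h2

end Core

section Main

variable (A B D : Type u) [CommRing A] [IsDomain A] [IsLocalRing A] [IsNoetherianRing A]
  [IsAdicComplete (maximalIdeal A) A]
  [CommRing B] [IsLocalRing B] [IsNoetherianRing B] [IsAdicComplete (maximalIdeal B) B]
  [Algebra A B] [IsLocalHom (algebraMap A B)]
  [CommRing D] [IsDomain D] [Algebra A D] [Module.Finite A D]

/-- **André's theorem, generic fibre**: `A` a complete Noetherian local domain, `B` a complete
Noetherian local ring, `A → B` local and adically formally smooth, `D ⊇ A` a finite domain.  Then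
`Frac D ⊗_A B` is regular. -/
theorem isRegularRing_fractionRing_tensor
    (hfs : CAlgX.IsAdicFormallySmooth A B (maximalIdeal B))
    (hinj : Function.Injective (algebraMap A D)) :
    IsRegularRing (FractionRing D ⊗[A] B) := by
  obtain ⟨q, hq⟩ := CharP.exists A
  rcases CharP.char_is_prime_or_zero A q with hqp | hq0
  · haveI : Fact q.Prime := ⟨hqp⟩
    obtain ⟨s, hs⟩ := Groth.Agent.H47.exists_coeffField_charP q A
    have hsurj : Function.Surjective ((residue A).comp s) := by
      rw [hs]
      exact Function.surjective_id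
    obtain ⟨n, f, hinjf, hfin, hres⟩ :=
      Groth.Agent.H96.CohenFinite2.main_of_coeffField A (ResidueField A) s hsurj
    letI : Algebra (MvPowerSeries (Fin n) (ResidueField A)) A := f.toAlgebra
    haveI : Module.Finite (MvPowerSeries (Fin n) (ResidueField A)) A := hfin
    haveI : CharP (ResidueField A) q := RingHom.charP s s.injective q
    haveI : CharP (MvPowerSeries (Fin n) (ResidueField A)) q := RingHom.charP f hinjf q
    haveI : IsRegularLocalRing (MvPowerSeries (Fin n) (ResidueField A)) :=
      isRegularLocalRing_ps _ (Or.inl (Field.toIsField _)) n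
    letI : Algebra (MvPowerSeries (Fin n) (ResidueField A)) D :=
      ((algebraMap A D).comp f).toAlgebra
    haveI : IsScalarTower (MvPowerSeries (Fin n) (ResidueField A)) A D :=
      IsScalarTower.of_algebraMap_eq' rfl
    haveI : Module.Finite (MvPowerSeries (Fin n) (ResidueField A)) D := Module.Finite.trans A D
    have hinjD : Function.Injective (algebraMap (MvPowerSeries (Fin n) (ResidueField A)) D) :=
      hinj.comp hinjf
    refine isRegularRing_of_cohen (MvPowerSeries (Fin n) (ResidueField A)) A B D hinjf hres hfs ?_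
    intro L _ _ _ _ _ hfsL hbase
    exact Tower.P_of_finite q (MvPowerSeries (Fin n) (ResidueField A))
      (fun X _ _ => PL (MvPowerSeries (Fin n) (ResidueField A)) L X)
      (fun B' C' _ _ _ _ _ _ _ _ _ _ _ _ y hgen g hg hg' hB' =>
        PL_of_sepPoly _ L B' C' y hgen g hg hg' hB')
      (fun B' C' _ _ _ _ _ _ _ _ _ _ _ _ _ a f' haf hgen hf D' hD' hB' =>
        PL_of_root _ L q B' C' hfsL a f' haf hgen hf D' hD' hB')
      (hasDer_ps q (ResidueField A) n) hbase D hinjD
  · subst hq0
    haveI : CharZero A := CharP.charP_to_charZero A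
    obtain ⟨Λ, _, n, f, hΛ, hinjf, hfin, hres⟩ := Groth.Agent.S0581.result A
    letI : Algebra (MvPowerSeries (Fin n) Λ) A := f.toAlgebra
    haveI : Module.Finite (MvPowerSeries (Fin n) Λ) A := hfin
    haveI : IsRegularLocalRing (MvPowerSeries (Fin n) Λ) := isRegularLocalRing_ps Λ hΛ n
    haveI : CharZero (MvPowerSeries (Fin n) Λ) := RingHom.charZero f
    haveI : IsDomain (MvPowerSeries (Fin n) Λ) := hinjf.isDomain f
    letI : Algebra (MvPowerSeries (Fin n) Λ) D := ((algebraMap A D).comp f).toAlgebra
    haveI : IsScalarTower (MvPowerSeries (Fin n) Λ) A D := IsScalarTower.of_algebraMap_eq' rfl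
    haveI : Module.Finite (MvPowerSeries (Fin n) Λ) D := Module.Finite.trans A D
    have hinjD : Function.Injective (algebraMap (MvPowerSeries (Fin n) Λ) D) := hinj.comp hinjf
    haveI : FaithfulSMul (MvPowerSeries (Fin n) Λ) D :=
      (faithfulSMul_iff_algebraMap_injective _ D).mpr hinjD
    haveI : Algebra.IsIntegral (MvPowerSeries (Fin n) Λ) D := Algebra.IsIntegral.of_finite _ D
    have hB : ∀ b : D, IsIntegral (FractionRing (MvPowerSeries (Fin n) Λ))
        (algebraMap D (FractionRing D) b) := fun b =>
      (IsIntegral.algebraMap (B := FractionRing D)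
        (Algebra.IsIntegral.isIntegral (R := MvPowerSeries (Fin n) Λ) b)).tower_top
    haveI h5 : Algebra.IsAlgebraic (FractionRing (MvPowerSeries (Fin n) Λ)) (FractionRing D) := by
      refine ⟨fun z => ?_⟩
      obtain ⟨x, y, _, rfl⟩ := IsFractionRing.div_surjective (A := D) z
      rw [div_eq_mul_inv]
      exact ((hB x).mul (hB y).inv).isAlgebraic
    haveI : Algebra.IsSeparable (FractionRing (MvPowerSeries (Fin n) Λ)) (FractionRing D) :=
      inferInstance
    refine isRegularRing_of_cohen (MvPowerSeries (Fin n) Λ) A B D hinjf hres hfs ?_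
    intro L _ _ _ _ _ hfsL hbase
    exact PL_of_isSeparable (MvPowerSeries (Fin n) Λ) L (MvPowerSeries (Fin n) Λ) D hbase

end Main

end Groth.Agent.H72.Andre
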