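import Mathlib
import Groth.Agent.H72.AndreCT
import Groth.Agent.H26.FormalFibreFinite
import Groth.Agent.H26.SkFlat

/-!
# André's theorem for complete local rings

A local homomorphism `A → B` of complete Noetherian local rings which is formally smooth for the
`𝔪_B`-adic topology is a regular homomorphism (`isRegularHom_of_adic`).
-/

set_option autoImplicit false
set_option linter.style.haveILetI false
set_option linter.unusedSectionVars false
set_option linter.unusedVariables false
universe u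

namespace Groth.Agent.H72.Andre

open IsLocalRing TensorProduct

attribute [local instance] FractionRing.liftAlgebra

variable (A B : Type u) [CommRing A] [IsLocalRing A] [IsNoetherianRing A]
  [IsAdicComplete (maximalIdeal A) A]
  [CommRing B] [IsLocalRing B] [IsNoetherianRing B] [IsAdicComplete (maximalIdeal B) B]
  [Algebra A B] [IsLocalHom (algebraMap A B)]

/-- the generic fibre of `D → D ⊗_A B` for a finite `A`-algebra domain `D`. -/
theorem isRegularRing_fractionRing_tensor_of_finite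
    (hfs : CAlgX.IsAdicFormallySmooth A B (maximalIdeal B))
    (D : Type u) [CommRing D] [IsDomain D] [Algebra A D] [Module.Finite A D] :
    IsRegularRing (FractionRing D ⊗[A] B) := by
  set 𝔭 : Ideal A := RingHom.ker (algebraMap A D) with h𝔭
  haveI : 𝔭.IsPrime := RingHom.ker_isPrime _
  -- the quotient `A' = A/𝔭`
  have h𝔭le : 𝔭 ≤ maximalIdeal A := le_maximalIdeal (Ideal.IsPrime.ne_top inferInstance)
  haveI : IsLocalRing (A ⧸ 𝔭) :=
    IsLocalRing.of_surjective' (Ideal.Quotient.mk 𝔭) Ideal.Quotient.mk_surjective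
  haveI : IsAdicComplete (maximalIdeal (A ⧸ 𝔭)) (A ⧸ 𝔭) :=
    Groth.Agent.H26.ComplQuot.isAdicComplete_quotient 𝔭
  letI algA'D : Algebra (A ⧸ 𝔭) D := (RingHom.kerLift (algebraMap A D)).toAlgebra
  haveI : IsScalarTower A (A ⧸ 𝔭) D := IsScalarTower.of_algebraMap_eq (fun a => rfl)
  haveI : Module.Finite (A ⧸ 𝔭) D := Module.Finite.of_restrictScalars_finite A (A ⧸ 𝔭) D
  have hinj' : Function.Injective (algebraMap (A ⧸ 𝔭) D) := RingHom.kerLift_injective _
  -- the quotient `B'' = B/𝔭B`
  have hIle : 𝔭.map (algebraMap A B) ≤ maximalIdeal B := by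
    rw [Ideal.map_le_iff_le_comap, IsLocalRing.maximalIdeal_comap]
    exact h𝔭le
  haveI : Nontrivial (B ⧸ 𝔭.map (algebraMap A B)) :=
    Ideal.Quotient.nontrivial_iff.2 (fun h' =>
      (maximalIdeal.isMaximal B).ne_top (top_le_iff.1 (h' ▸ hIle)))
  haveI : IsLocalRing (B ⧸ 𝔭.map (algebraMap A B)) :=
    IsLocalRing.of_surjective' (Ideal.Quotient.mk _) Ideal.Quotient.mk_surjective
  haveI : IsAdicComplete (maximalIdeal (B ⧸ 𝔭.map (algebraMap A B))) (B ⧸ 𝔭.map (algebraMap A B)) :=
    Groth.Agent.H26.ComplQuot.isAdicComplete_quotient _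
  have hmR : (maximalIdeal B).map (Ideal.Quotient.mk (𝔭.map (algebraMap A B))) =
      maximalIdeal (B ⧸ 𝔭.map (algebraMap A B)) :=
    Groth.Agent.H47.CohenArtin.map_maximalIdeal_of_surjective _ Ideal.Quotient.mk_surjective
  have hfs' := Groth.Agent.H47.DVRAdic.adic_quotient 𝔭 (maximalIdeal B) hfs
  rw [hmR] at hfs'
  haveI : IsLocalHom (algebraMap (A ⧸ 𝔭) (B ⧸ 𝔭.map (algebraMap A B))) := by
    refine ⟨fun x hx => ?_⟩
    obtain ⟨a, rfl⟩ := Ideal.Quotient.mk_surjective x
    have h1 : algebraMap (A ⧸ 𝔭) (B ⧸ 𝔭.map (algebraMap A B)) (Ideal.Quotient.mk 𝔭 a) =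
        Ideal.Quotient.mk _ (algebraMap A B a) := rfl
    rw [h1] at hx
    have h2 : IsUnit (algebraMap A B a) := by
      by_contra hnu
      have h3 : algebraMap A B a ∈ maximalIdeal B := (mem_maximalIdeal _).2 (mem_nonunits_iff.2 hnu)
      have h4 : Ideal.Quotient.mk (𝔭.map (algebraMap A B)) (algebraMap A B a) ∈
          maximalIdeal (B ⧸ 𝔭.map (algebraMap A B)) := by
        rw [← hmR]
        exact Ideal.mem_map_of_mem _ h3
      exact (mem_maximalIdeal _).1 h4 hx
    exact (isUnit_of_map_unit (algebraMap A B) a h2).map (Ideal.Quotient.mk 𝔭)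
  have h1 : IsRegularRing (FractionRing D ⊗[A ⧸ 𝔭] (B ⧸ 𝔭.map (algebraMap A B))) :=
    isRegularRing_fractionRing_tensor (A ⧸ 𝔭) (B ⧸ 𝔭.map (algebraMap A B)) D hfs' hinj'
  have h2 : IsRegularRing (FractionRing D ⊗[A ⧸ 𝔭] ((A ⧸ 𝔭) ⊗[A] B)) :=
    @IsRegularRing.of_ringEquiv _ _ _ _
      (Algebra.TensorProduct.congr (AlgEquiv.refl (R := A ⧸ 𝔭) (A₁ := FractionRing D))
        (Algebra.TensorProduct.quotIdealMapEquivQuotTensor B 𝔭)).toRingEquiv h1
  haveI : IsScalarTower A (A ⧸ 𝔭) (FractionRing D) := IsScalarTower.of_algebraMap_eq (fun a => by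
    rw [IsScalarTower.algebraMap_apply A D (FractionRing D),
      IsScalarTower.algebraMap_apply (A ⧸ 𝔭) D (FractionRing D),
      IsScalarTower.algebraMap_apply A (A ⧸ 𝔭) D])
  exact @IsRegularRing.of_ringEquiv _ _ _ _
    (Algebra.TensorProduct.cancelBaseChange A (A ⧸ 𝔭) (A ⧸ 𝔭) (FractionRing D) B).toRingEquiv h2

/-- **André's theorem for complete local rings.** -/
theorem isRegularHom_of_adic (hfs : CAlgX.IsAdicFormallySmooth A B (maximalIdeal B)) :
    CAlg.IsRegularHom A B := by
  haveI hflat : Module.Flat A B := Groth.Agent.H23.FlatOfAdic.flat_of_adic hfs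
  refine Groth.Agent.H26.FormalFibreFinite.isRegularHom_of_finite_domains A B
    (fun p _ => Groth.Agent.H26.SkFlat.isNoetherianRing_fiber B p) ?_
  intro D _ _ _ _ q _ hq0
  haveI hreg : IsRegularRing (FractionRing D ⊗[A] B) :=
    isRegularRing_fractionRing_tensor_of_finite A B hfs D
  exact (Groth.Agent.H26.FormalFibreFinite.forall_prime_iff (fun X _ => IsRegularLocalRing X)
    (fun X Y _ _ e h => Groth.Agent.H26.FormalFibreFinite.isRegularLocalRing_of_ringEquiv' e h)
    A D B (FractionRing D)).mp (fun 𝔔 _ => inferInstance) q hq0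

end Groth.Agent.H72.Andre
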