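import Mathlib
import Groth.Agent.H29.CatFlat2
import Groth.Agent.H29.ComplCat
import Groth.Agent.H72.HensFormal
import Groth.Agent.S2635
import Groth.Agent.S2630
import Groth.Agent.S9231

set_option autoImplicit false
set_option linter.unusedSectionVars false
universe u
open IsLocalRing

namespace Groth.Agent.H72.FormalLoc

open Groth.Agent.H29.CatFlat

section HtLoc

variable {B : Type u} [CommRing B] [IsNoetherianRing B]

/-- The height condition passes to the localization at a prime. -/
theorem htCond_localization (P : Ideal B) [P.IsPrime] (h : HtCond (PrimeSpectrum B)) :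
    HtCond (PrimeSpectrum (Localization.AtPrime P)) := by
  have hN : IsNoetherianRing (Localization.AtPrime P) :=
    IsLocalization.isNoetherianRing P.primeCompl _ inferInstance
  intro x y hxy
  let x' : PrimeSpectrum B := ⟨x.asIdeal.comap (algebraMap B (Localization.AtPrime P)), inferInstance⟩
  let y' : PrimeSpectrum B := ⟨y.asIdeal.comap (algebraMap B (Localization.AtPrime P)), inferInstance⟩
  have hmc : ∀ J : Ideal (Localization.AtPrime P),
      (J.comap (algebraMap B (Localization.AtPrime P))).map (algebraMap B (Localization.AtPrime P)) = J :=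
    fun J => IsLocalization.map_comap P.primeCompl _ J
  have hlt : x' < y' := by
    refine lt_of_le_of_ne (Ideal.comap_mono hxy.lt.le) fun heq => hxy.lt.ne ?_
    apply PrimeSpectrum.ext
    have := congrArg (fun z : PrimeSpectrum B => z.asIdeal.map (algebraMap B (Localization.AtPrime P))) heq
    simpa [x', y', hmc] using this
  have hcov : x' ⋖ y' := by
    refine ⟨hlt, fun z hxz hzy => ?_⟩
    have hdisj : Disjoint (P.primeCompl : Set B) (z.asIdeal : Set B) := by
      have hyP : Disjoint (P.primeCompl : Set B) (y'.asIdeal : Set B) :=
        ((IsLocalization.isPrime_iff_isPrime_disjoint P.primeCompl (Localization.AtPrime P)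
          y.asIdeal).mp y.2).2
      exact Set.disjoint_of_subset_right hzy.le hyP
    have hzprime : (z.asIdeal.map (algebraMap B (Localization.AtPrime P))).IsPrime :=
      IsLocalization.isPrime_of_isPrime_disjoint P.primeCompl _ _ z.2 hdisj
    have hzc : (z.asIdeal.map (algebraMap B (Localization.AtPrime P))).comap
        (algebraMap B (Localization.AtPrime P)) = z.asIdeal :=
      IsLocalization.comap_map_of_isPrime_disjoint P.primeCompl _ z.2 hdisj
    let z'' : PrimeSpectrum (Localization.AtPrime P) :=
      ⟨z.asIdeal.map (algebraMap B (Localization.AtPrime P)), hzprime⟩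
    have h1 : x < z'' := by
      refine lt_of_le_of_ne ?_ fun heq => hxz.ne ?_
      · change x.asIdeal ≤ z''.asIdeal
        rw [← hmc x.asIdeal]
        exact Ideal.map_mono hxz.le
      · apply PrimeSpectrum.ext
        change x.asIdeal.comap _ = z.asIdeal
        rw [heq]
        exact hzc
    have h2 : z'' < y := by
      refine lt_of_le_of_ne ?_ fun heq => hzy.ne ?_
      · change z''.asIdeal ≤ y.asIdeal
        rw [← hmc y.asIdeal]
        exact Ideal.map_mono hzy.le
      · apply PrimeSpectrum.ext
        change z.asIdeal = y.asIdeal.comap _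
        rw [← heq]
        exact hzc.symm
    exact hxy.2 h1 h2
  have hh := h x' y' hcov
  rw [← PrimeSpectrum.height_eq_orderHeight, ← PrimeSpectrum.height_eq_orderHeight] at hh ⊢
  have e1 : y'.asIdeal.height = y.asIdeal.height := IsLocalization.height_comap P.primeCompl _
  have e2 : x'.asIdeal.height = x.asIdeal.height := IsLocalization.height_comap P.primeCompl _
  rw [← e1, ← e2]
  exact hh

end HtLoc

section Descent

/-- Compatibility of the completion map with the canonical maps. -/
theorem complMap_comp_algebraMap {A B : Type u} [CommRing A] [CommRing B] (I : Ideal A) (K : Ideal B)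
    (g : A →+* B) (h : I.map g ≤ K) :
    (FSch.complMap I K g h).comp (algebraMap A (AdicCompletion I A)) =
      (algebraMap B (AdicCompletion K B)).comp g := by
  apply RingHom.ext
  intro r
  rw [RingHom.comp_apply, RingHom.comp_apply, AdicCompletion.algebraMap_apply,
    Algebra.algebraMap_self, RingHom.id_apply, Groth.Agent.H20.complMap_of,
    AdicCompletion.algebraMap_apply, Algebra.algebraMap_self, RingHom.id_apply]

/-- Formal equidimensionality descends along flat local homomorphisms. -/
theorem isFormallyEquidim_of_flat (A B : Type u) [CommRing A] [CommRing B] [IsLocalRing A]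
    [IsLocalRing B] [IsNoetherianRing A] [IsNoetherianRing B] [Algebra A B]
    [IsLocalHom (algebraMap A B)] [Module.Flat A B] (hB : EGA4.IsFormallyEquidim B) :
    EGA4.IsFormallyEquidim A := by
  have hNA : IsNoetherianRing (AdicCompletion (maximalIdeal A) A) :=
    Groth.Agent.H72.FormalEquidim.isNoetherianRing_compl A
  have hNB : IsNoetherianRing (AdicCompletion (maximalIdeal B) B) :=
    Groth.Agent.H72.FormalEquidim.isNoetherianRing_compl B
  have hcompB : IsAdicComplete (maximalIdeal (AdicCompletion (maximalIdeal B) B))
      (AdicCompletion (maximalIdeal B) B) :=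
    AdicCompletion.isAdicComplete_of_fg (maximalIdeal B).fg_of_isNoetherianRing
  have hcatB : CAlg.IsCatenary (AdicCompletion (maximalIdeal B) B) :=
    Groth.Agent.H29.ComplCat.isCatenary_of_isAdicComplete _
  have hle : (maximalIdeal A).map (algebraMap A B) ≤ maximalIdeal B :=
    ((IsLocalRing.local_hom_TFAE (algebraMap A B)).out 0 2).mp ‹IsLocalHom (algebraMap A B)›
  have hψ := complMap_comp_algebraMap (maximalIdeal A) (maximalIdeal B) (algebraMap A B) hle
  have hflat : (FSch.complMap (maximalIdeal A) (maximalIdeal B) (algebraMap A B) hle).Flat :=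
    (Groth.Agent.S9231.result A B _ hψ).2 (RingHom.flat_algebraMap_iff.mpr inferInstance)
  let alg : Algebra (AdicCompletion (maximalIdeal A) A) (AdicCompletion (maximalIdeal B) B) :=
    (FSch.complMap (maximalIdeal A) (maximalIdeal B) (algebraMap A B) hle).toAlgebra
  have hfl : Module.Flat (AdicCompletion (maximalIdeal A) A) (AdicCompletion (maximalIdeal B) B) :=
    hflat
  have hloc : IsLocalHom (algebraMap (AdicCompletion (maximalIdeal A) A)
      (AdicCompletion (maximalIdeal B) B)) := by
    refine ((IsLocalRing.local_hom_TFAE (algebraMap (AdicCompletion (maximalIdeal A) A)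
      (AdicCompletion (maximalIdeal B) B))).out 2 0).mp ?_
    rw [AdicCompletion.maximalIdeal_eq_map (R := A), Ideal.map_map,
      AdicCompletion.maximalIdeal_eq_map (R := B)]
    have : (algebraMap (AdicCompletion (maximalIdeal A) A)
        (AdicCompletion (maximalIdeal B) B)).comp
          (algebraMap A (AdicCompletion (maximalIdeal A) A)) =
        (algebraMap B (AdicCompletion (maximalIdeal B) B)).comp (algebraMap A B) := hψ
    rw [this, ← Ideal.map_map]
    exact Ideal.map_mono hle
  exact (Groth.Agent.S2630.result (AdicCompletion (maximalIdeal A) A)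
    (AdicCompletion (maximalIdeal B) B) hB hcatB).1

end Descent

section Loc

/-- A complete Noetherian local ring is a quotient of a Cohen–Macaulay local ring. -/
theorem exists_CM_surjective (C : Type u) [CommRing C] [IsNoetherianRing C] [IsLocalRing C]
    [IsAdicComplete (maximalIdeal C) C] :
    ∃ (T : Type u) (_ : CommRing T) (_ : LocCoh.IsCohenMacaulayLocalRing T) (f : T →+* C),
      Function.Surjective f := by
  obtain ⟨Λ, instΛ, n, f, hΛ, hf⟩ :=
    Groth.Agent.S0580.result C (IsNoetherian.noetherian (maximalIdeal C))
  have hCMΛ : LocCoh.IsCohenMacaulayLocalRing Λ :=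
    hΛ.elim (Groth.Agent.H29.ComplCat.isCM_of_isField Λ)
      (Groth.Agent.H29.ComplCat.isCM_of_isCohenRing Λ)
  exact ⟨MvPowerSeries (Fin n) Λ, inferInstance,
    Groth.Agent.H29.ComplCat.isCM_mvPowerSeries Λ hCMΛ n, f, hf⟩

theorem localRingHom_surjective {T C : Type u} [CommRing T] [CommRing C] (f : T →+* C)
    (hf : Function.Surjective f) (P : Ideal C) [P.IsPrime] :
    Function.Surjective (Localization.localRingHom (P.comap f) P f rfl) := by
  intro y
  obtain ⟨c, s, rfl⟩ := IsLocalization.exists_mk'_eq P.primeCompl y
  obtain ⟨t, rfl⟩ := hf c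
  obtain ⟨u, hu⟩ := hf s.1
  have hu' : u ∈ (P.comap f).primeCompl := by
    change u ∉ P.comap f
    rw [Ideal.mem_comap, hu]
    exact s.2
  refine ⟨IsLocalization.mk' _ t ⟨u, hu'⟩, ?_⟩
  rw [Localization.localRingHom_mk']
  congr 1
  exact Subtype.ext hu

/-- A localization of a quotient of a Cohen–Macaulay local ring is formally catenary. -/
theorem isFormallyCatenary_localization_of_surjective (T : Type u) [CommRing T]
    (hT : LocCoh.IsCohenMacaulayLocalRing T) (C : Type u) [CommRing C] [IsNoetherianRing C]
    (f : T →+* C) (hf : Function.Surjective f) (P : Ideal C) [P.IsPrime] :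
    EGA4.IsFormallyCatenary (Localization.AtPrime P) := by
  have hN : IsNoetherianRing (Localization.AtPrime P) :=
    IsLocalization.isNoetherianRing P.primeCompl _ inferInstance
  have hTP : LocCoh.IsCohenMacaulayLocalRing (Localization.AtPrime (P.comap f)) :=
    (Groth.Agent.H72.CMLocal.isCohenMacaulayRing_of_local T hT).isCohenMacaulayLocalRing_localization
      (P.comap f)
  let alg : Algebra (Localization.AtPrime (P.comap f)) (Localization.AtPrime P) :=
    (Localization.localRingHom (P.comap f) P f rfl).toAlgebra
  exact Groth.Agent.S2635.result (Localization.AtPrime (P.comap f)) (Localization.AtPrime P)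
    (localRingHom_surjective f hf P)

/-- Formal equidimensionality passes to localizations at primes. -/
theorem isFormallyEquidim_localization (D : Type u) [CommRing D] [IsNoetherianRing D]
    [IsLocalRing D] (h : EGA4.IsFormallyEquidim D) (Q : Ideal D) [Q.IsPrime] :
    EGA4.IsFormallyEquidim (Localization.AtPrime Q) := by
  have hnoe : IsNoetherianRing (AdicCompletion (maximalIdeal D) D) :=
    Groth.Agent.H72.FormalEquidim.isNoetherianRing_compl D
  have hlh := Groth.Agent.H72.FormalEquidim.isLocalHom_compl D
  have hcomp : IsAdicComplete (maximalIdeal (AdicCompletion (maximalIdeal D) D))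
      (AdicCompletion (maximalIdeal D) D) :=
    AdicCompletion.isAdicComplete_of_fg (maximalIdeal D).fg_of_isNoetherianRing
  have hcat : CAlg.IsCatenary (AdicCompletion (maximalIdeal D) D) :=
    Groth.Agent.H29.ComplCat.isCatenary_of_isAdicComplete _
  have hHt : HtCond (PrimeSpectrum (AdicCompletion (maximalIdeal D) D)) :=
    htCond_of_isCatenary_of_isEquidim hcat h
  obtain ⟨P, hP⟩ := exists_minimalPrimes_map (A := D) (B := AdicCompletion (maximalIdeal D) D) Q
  have hPprime : P.IsPrime := hP.1.1
  have hPQ : P.comap (algebraMap D (AdicCompletion (maximalIdeal D) D)) = Q :=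
    Groth.Agent.H72.EquidimFlat.comap_eq_of_mem_minimalPrimes_map Q P hP
  have hNQ : IsNoetherianRing (Localization.AtPrime Q) :=
    IsLocalization.isNoetherianRing Q.primeCompl _ inferInstance
  have hNP : IsNoetherianRing (Localization.AtPrime P) :=
    IsLocalization.isNoetherianRing P.primeCompl _ inferInstance
  have hHtP := htCond_localization P hHt
  have heqP : EGA4.IsEquidim (Localization.AtPrime P) := isEquidim_of_htCond hHtP
  obtain ⟨T, _, hT, f, hf⟩ := exists_CM_surjective (AdicCompletion (maximalIdeal D) D)
  have hfc : EGA4.IsFormallyCatenary (Localization.AtPrime P) :=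
    isFormallyCatenary_localization_of_surjective T hT _ f hf P
  have hfe : EGA4.IsFormallyEquidim (Localization.AtPrime P) :=
    (Groth.Agent.S2629.result _).2 ⟨heqP, fun p _ _ => hfc p⟩
  let alg : Algebra (Localization.AtPrime Q) (Localization.AtPrime P) :=
    (Localization.localRingHom Q P (algebraMap D (AdicCompletion (maximalIdeal D) D))
      hPQ.symm).toAlgebra
  have hgflat : Module.Flat (Localization.AtPrime Q) (Localization.AtPrime P) :=
    RingHom.Flat.localRingHom (RingHom.flat_algebraMap_iff.mpr inferInstance) P Q hPQ.symm
  have hgloc : IsLocalHom (algebraMap (Localization.AtPrime Q) (Localization.AtPrime P)) :=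
    Localization.isLocalHom_localRingHom Q P _ hPQ.symm
  exact isFormallyEquidim_of_flat (Localization.AtPrime Q) (Localization.AtPrime P) hfe

end Loc

end Groth.Agent.H72.FormalLoc
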