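import Mathlib
import Groth.Prelude.Def_CAlg
import Groth.Agent.H15.Depth
import Groth.Agent.H72.HalfExact

set_option autoImplicit false
universe u

open RingTheory.Sequence Groth.Agent.H15 CategoryTheory Abelian Pointwise

namespace Groth.Agent.H72.Ischebeck

variable {A : Type u} [CommRing A]

/-- `Ext` out of a zero object vanishes. -/
theorem subsingleton_ext_of_subsingleton (N M : ModuleCat.{u} A) [Subsingleton N] (i : ℕ) :
    Subsingleton (Ext N M i) := by
  refine ⟨fun e₁ e₂ => ?_⟩
  have h0 : 𝟙 N = 0 := (ModuleCat.isZero_of_subsingleton N).eq_of_src _ _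
  have h : ∀ e : Ext N M i, e = 0 := by
    intro e
    rw [← Ext.mk₀_id_comp e, h0, Ext.mk₀_zero, Ext.zero_comp]
  rw [h e₁, h e₂]

/-- Multiplication by a scalar, seen as precomposition. -/
theorem mk₀_smul_id_comp (N M : ModuleCat.{u} A) (x : A) (i : ℕ) (e : Ext N M i) :
    (Ext.mk₀ (x • 𝟙 N)).comp e (zero_add i) = x • e := by
  rw [Ext.mk₀_smul, Ext.smul_comp, Ext.mk₀_id_comp]

/-- Nakayama step: vanishing of the next `Ext` of the quotient by a regular element of the
maximal ideal forces vanishing of `Ext`. -/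
theorem subsingleton_ext_of_quotSMulTop [IsNoetherianRing A] [IsLocalRing A]
    (N M : ModuleCat.{u} A) [Module.Finite A N] [Module.Finite A M] (x : A)
    (hx : x ∈ IsLocalRing.maximalIdeal A) (hreg : IsSMulRegular N x) (i : ℕ)
    (h : Subsingleton (Ext (ModuleCat.of A (QuotSMulTop x N)) M (i + 1))) :
    Subsingleton (Ext N M i) := by
  have hS := hreg.smulShortComplex_shortExact
  have hsurj : ∀ e : Ext N M i, ∃ e' : Ext N M i, x • e' = e := by
    intro e
    obtain ⟨e₂, he₂⟩ := Ext.contravariant_sequence_exact₁ hS M e (add_comm 1 i)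
      (@Subsingleton.elim _ h _ _)
    refine ⟨e₂, ?_⟩
    rw [← he₂]
    exact (mk₀_smul_id_comp N M x i e₂).symm
  have htop : (⊤ : Submodule A (Ext N M i)) ≤
      IsLocalRing.maximalIdeal A • (⊤ : Submodule A (Ext N M i)) := by
    intro e _
    obtain ⟨e', rfl⟩ := hsurj e
    exact Submodule.smul_mem_smul hx Submodule.mem_top
  have hfg : (⊤ : Submodule A (Ext N M i)).FG := Module.finite_def.mp inferInstance
  have hbot := Submodule.eq_bot_of_le_smul_of_le_jacobson_bot _ _ hfg htop
    (IsLocalRing.maximalIdeal_le_jacobson _)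
  exact (Submodule.subsingleton_iff A).mp (subsingleton_of_bot_eq_top hbot.symm)

open IsLocalRing in
/-- The inductive step in the dimension of the support. -/
theorem step [IsNoetherianRing A] [IsLocalRing A] (M : ModuleCat.{u} A) [Module.Finite A M]
    (d : ℕ) (rs : List A) (hlen : rs.length = d) (hmem : ∀ r ∈ rs, r ∈ maximalIdeal A)
    (hreg : IsRegular M rs) (smul_lt : maximalIdeal A • (⊤ : Submodule A M) < ⊤) (r : ℕ)
    (H : ∀ (Q : Type u) [AddCommGroup Q] [Module A Q] [Module.Finite A Q],
      Module.supportDim A Q + 1 ≤ (r : WithBot ℕ∞) → ∀ i, i + r < d →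
        Subsingleton (Ext (ModuleCat.of A Q) M (i + 1)))
    (N : Type u) [AddCommGroup N] [Module A N] [hN : Module.Finite A N] :
    Module.supportDim A N ≤ (r : WithBot ℕ∞) → ∀ i, i + r < d →
      Subsingleton (Ext (ModuleCat.of A N) M i) := by
  induction hN using IsNoetherianRing.induction_on_isQuotientEquivQuotientPrime A with
  | subsingleton N =>
    intro _ i _
    exact subsingleton_ext_of_subsingleton _ _ i
  | quotient N p e =>
    intro hdim i hi
    by_cases hp : p.asIdeal = maximalIdeal A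
    · have hsupp : Module.support A N ⊆ PrimeSpectrum.zeroLocus (maximalIdeal A) := by
        rw [e.support_eq, Module.support_eq_zeroLocus, Ideal.annihilator_quotient, hp]
      exact ModuleCat.subsingleton_ext_of_exists_isRegular (maximalIdeal A) (ModuleCat.of A N)
        hsupp M smul_lt rs hmem hreg i (by omega)
    · obtain ⟨x, hxm, hxp⟩ : ∃ x ∈ maximalIdeal A, x ∉ p.asIdeal := by
        by_contra hcon
        push Not at hcon
        exact hp (le_antisymm (IsLocalRing.le_maximalIdeal p.2.ne_top) hcon)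
      have hregQ : IsSMulRegular (A ⧸ p.asIdeal) x := by
        intro a b hab
        have hab' : Ideal.Quotient.mk p.asIdeal x * a = Ideal.Quotient.mk p.asIdeal x * b := by
          simpa [Algebra.smul_def] using hab
        have hx0 : Ideal.Quotient.mk p.asIdeal x ≠ 0 := by
          rwa [Ne, Ideal.Quotient.eq_zero_iff_mem]
        exact mul_left_cancel₀ hx0 hab'
      have hregN : IsSMulRegular N x := (e.isSMulRegular_congr x).mpr hregQ
      have hdimQ := Module.supportDim_quotSMulTop_succ_eq_supportDim hregN hxm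
      have h1 := H (QuotSMulTop x N) (by rw [hdimQ]; exact hdim) i hi
      exact subsingleton_ext_of_quotSMulTop (ModuleCat.of A N) M x hxm hregN i h1
  | exact N₁ N₂ N₃ f g hf hg hfg h1 h3 =>
    intro hdim i hi
    have h1' := h1 ((Module.supportDim_le_of_injective f hf).trans hdim) i hi
    have h3' := h3 ((Module.supportDim_le_of_surjective g hg).trans hdim) i hi
    have hS := Groth.Agent.H72.HalfExact.shortExact_of_exact f g hf hg hfg
    have h : ∀ e : Ext (ModuleCat.of A N₂) M i, e = 0 := by
      intro e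
      obtain ⟨e₃, he₃⟩ := Ext.contravariant_sequence_exact₂ hS M e (@Subsingleton.elim _ h1' _ _)
      rw [← he₃, @Subsingleton.elim _ h3' e₃ 0, Ext.comp_zero]
    exact ⟨fun e e' => by rw [h e, h e']⟩

theorem aux1 (x : WithBot ℕ∞) (r : ℕ) (h : x + 1 ≤ ((r + 1 : ℕ) : WithBot ℕ∞)) :
    x ≤ ((r : ℕ) : WithBot ℕ∞) := by
  induction x using WithBot.recBotCoe with
  | bot => exact bot_le
  | coe e =>
    have h' : ((e + 1 : ℕ∞) : WithBot ℕ∞) ≤ (((r + 1 : ℕ) : ℕ∞) : WithBot ℕ∞) := by
      exact_mod_cast h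
    have h'' : e + 1 ≤ ((r : ℕ∞) + 1) := by exact_mod_cast WithBot.coe_le_coe.mp h'
    have : e ≤ (r : ℕ∞) := (ENat.add_le_add_iff_right (by simp)).mp h''
    exact_mod_cast WithBot.coe_le_coe.mpr this

theorem aux0 (x : WithBot ℕ∞) (h : x + 1 ≤ ((0 : ℕ) : WithBot ℕ∞)) : x = ⊥ := by
  induction x using WithBot.recBotCoe with
  | bot => rfl
  | coe e =>
    exfalso
    have h' : ((e + 1 : ℕ∞) : WithBot ℕ∞) ≤ ((0 : ℕ∞) : WithBot ℕ∞) := by
      exact_mod_cast h
    have h'' : e + 1 ≤ 0 := WithBot.coe_le_coe.mp h'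
    simp at h''

open IsLocalRing in
/-- Ischebeck's vanishing: `Ext^i(N, M) = 0` for `i + dim N < depth M`. -/
theorem main [IsNoetherianRing A] [IsLocalRing A] (M : Type u) [AddCommGroup M] [Module A M]
    [Module.Finite A M] [Nontrivial M] (d : ℕ) (hd : LocCoh.depth A M = d) :
    ∀ (r : ℕ) (N : Type u) [AddCommGroup N] [Module A N] [Module.Finite A N],
      Module.supportDim A N ≤ ((r : ℕ) : WithBot ℕ∞) → ∀ i, i + r < d →
        Subsingleton (Ext (ModuleCat.of A N) (ModuleCat.of A M) i) := by
  have hne : maximalIdeal A • (⊤ : Submodule A M) ≠ ⊤ :=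
    (Submodule.top_ne_ideal_smul_of_le_jacobson_annihilator
      (IsLocalRing.maximalIdeal_le_jacobson _)).symm
  obtain ⟨rs, hlen, hmem, hreg⟩ := exists_isRegular_of_le_idealDepth (maximalIdeal A) M hne d
    (by unfold LocCoh.depth at hd; rw [hd])
  intro r
  induction r with
  | zero =>
    intro N _ _ _
    refine step (ModuleCat.of A M) d rs hlen hmem hreg (lt_top_iff_ne_top.mpr hne) 0 ?_ N
    intro Q _ _ _ hQ i _
    have : Subsingleton Q := (Module.supportDim_eq_bot_iff_subsingleton A Q).mp (aux0 _ hQ)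
    exact subsingleton_ext_of_subsingleton _ _ _
  | succ r ih =>
    intro N _ _ _
    refine step (ModuleCat.of A M) d rs hlen hmem hreg (lt_top_iff_ne_top.mpr hne) (r + 1) ?_ N
    intro Q _ _ _ hQ i hi
    exact ih Q (aux1 _ r hQ) (i + 1) (by omega)

end Groth.Agent.H72.Ischebeck
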