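import Mathlib
import Groth.Prelude.Def_CAlg
import Groth.Agent.H15.DepthLoc
import Groth.Agent.H26.DepthInf
import Groth.Agent.H72.DepthCM
import Groth.Agent.H72.DepthFinite
import Groth.Agent.H72.Ischebeck

set_option autoImplicit false
universe u

open RingTheory.Sequence Groth.Agent.H15 Pointwise

namespace Groth.Agent.H72.DepthLocIneq

variable {R : Type u} [CommRing R]

/-- Height comparison along an injective monotone map of spectra. -/
theorem height_le_height_comap {S : Type u} [CommRing S] (ψ : R →+* S)
    (hinj : Function.Injective (PrimeSpectrum.comap ψ)) (P : Ideal S) [P.IsPrime] :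
    P.height ≤ (P.comap ψ).height := by
  have hmono : StrictMono (PrimeSpectrum.comap ψ) := by
    intro a b hab
    refine lt_of_le_of_ne ?_ (fun h => hab.ne (hinj h))
    exact Ideal.comap_mono hab.le
  have := Order.height_le_height_apply_of_strictMono _ hmono (⟨P, inferInstance⟩ : PrimeSpectrum S)
  rw [← PrimeSpectrum.height_eq_orderHeight, ← PrimeSpectrum.height_eq_orderHeight] at this
  exact this

/-- `ht(s/q) ≤ ht(s/p)` for primes `p ≤ q ≤ s`. -/
theorem height_map_mk_le (p q s : Ideal R) [p.IsPrime] [q.IsPrime] [s.IsPrime] (hpq : p ≤ q)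
    (hqs : q ≤ s) :
    (s.map (Ideal.Quotient.mk q)).height ≤ (s.map (Ideal.Quotient.mk p)).height := by
  let χ : R ⧸ p →+* R ⧸ q := Ideal.Quotient.factor hpq
  have hχ : Function.Surjective χ := Ideal.Quotient.factor_surjective hpq
  have hprime : (s.map (Ideal.Quotient.mk q)).IsPrime :=
    Ideal.map_isPrime_of_surjective Ideal.Quotient.mk_surjective (by simpa using hqs)
  have h1 := height_le_height_comap χ (PrimeSpectrum.comap_injective_of_surjective χ hχ)
    (s.map (Ideal.Quotient.mk q))
  refine h1.trans (le_of_eq ?_)
  congr 1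
  ext y
  obtain ⟨y, rfl⟩ := Ideal.Quotient.mk_surjective y
  simp only [Ideal.mem_comap, χ, Ideal.Quotient.factor_mk]
  rw [Ideal.mem_map_iff_of_surjective _ Ideal.Quotient.mk_surjective,
    Ideal.mem_map_iff_of_surjective _ Ideal.Quotient.mk_surjective]
  constructor
  · rintro ⟨z, hz, hzy⟩
    rw [Ideal.Quotient.eq] at hzy
    have hy : y ∈ s := by
      have := s.sub_mem hz (hqs hzy)
      simpa using this
    exact ⟨y, hy, rfl⟩
  · rintro ⟨z, hz, hzy⟩
    rw [Ideal.Quotient.eq] at hzy
    have hy : y ∈ s := by
      have := s.sub_mem hz (hpq.trans hqs hzy)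
      simpa using this
    exact ⟨y, hy, rfl⟩

/-- The dimension of `R_s / qR_s` is at most the height of `s/q`. -/
theorem ringKrullDim_quotient_localization_le (q s : Ideal R) [q.IsPrime] [s.IsPrime] :
    ringKrullDim (Localization.AtPrime s ⧸ q.map (algebraMap R (Localization.AtPrime s))) ≤
      (((s.map (Ideal.Quotient.mk q)).height : ℕ∞) : WithBot ℕ∞) := by
  set Q := q.map (algebraMap R (Localization.AtPrime s)) with hQ
  have hle : q ≤ Q.comap (algebraMap R (Localization.AtPrime s)) := Ideal.le_comap_map
  let ψ : R ⧸ q →+* Localization.AtPrime s ⧸ Q := Ideal.quotientMap Q _ hle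
  have hcomp : ψ.comp (Ideal.Quotient.mk q) =
      (Ideal.Quotient.mk Q).comp (algebraMap R (Localization.AtPrime s)) := by
    ext x
    simp [ψ]
  have hinj : Function.Injective (PrimeSpectrum.comap ψ) := by
    have h1 : Function.Injective (PrimeSpectrum.comap (ψ.comp (Ideal.Quotient.mk q))) := by
      rw [hcomp, PrimeSpectrum.comap_comp]
      exact (PrimeSpectrum.localization_comap_injective (Localization.AtPrime s)
        s.primeCompl).comp
        (PrimeSpectrum.comap_injective_of_surjective _ Ideal.Quotient.mk_surjective)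
    rw [PrimeSpectrum.comap_comp] at h1
    exact Function.Injective.of_comp h1
  rw [ringKrullDim_le_iff_height_le]
  intro P hP
  refine WithBot.coe_le_coe.mpr ?_
  refine (height_le_height_comap ψ hinj P).trans (Ideal.height_mono ?_)
  intro y hy
  obtain ⟨y, rfl⟩ := Ideal.Quotient.mk_surjective y
  rw [Ideal.mem_comap] at hy
  have hy' : Ideal.Quotient.mk Q (algebraMap R (Localization.AtPrime s) y) ∈ P := by
    have := RingHom.congr_fun hcomp y
    simp only [RingHom.comp_apply] at this
    rwa [← this]
  by_cases hys : y ∈ s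
  · exact Ideal.mem_map_of_mem _ hys
  · exfalso
    have hu : IsUnit (algebraMap R (Localization.AtPrime s) y) :=
      IsLocalization.map_units (Localization.AtPrime s) (⟨y, hys⟩ : s.primeCompl)
    exact hP.ne_top (Ideal.eq_top_of_isUnit_mem _ hy' (hu.map (Ideal.Quotient.mk Q)))

open CategoryTheory Abelian in
/-- At an associated prime `q ≤ s`, the depth of `M_s` is bounded by the height of `s/q`. -/
theorem depth_localization_le_height_of_mem_associatedPrimes [IsNoetherianRing R]
    (M : Type u) [AddCommGroup M] [Module R M] [Module.Finite R M] (q s : Ideal R) [q.IsPrime]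
    [s.IsPrime] (hqs : q ≤ s) (hq : q ∈ associatedPrimes R M) :
    LocCoh.depth (Localization.AtPrime s) (LocalizedModule s.primeCompl M) ≤
      (s.map (Ideal.Quotient.mk q)).height := by
  set A := Localization.AtPrime s
  set N := LocalizedModule s.primeCompl M
  set Q := q.map (algebraMap R A) with hQ
  obtain ⟨_, m, hm⟩ := isAssociatedPrime_iff.mp (AssociatedPrimes.mem_iff.mp hq)
  have hmem : ∀ b : R, b ∈ q ↔ b • m = 0 := by
    intro b
    rw [hm, Submodule.mem_colon_singleton, Submodule.mem_bot]
  let f := LocalizedModule.mkLinearMap s.primeCompl M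
  have hn0 : f m ≠ 0 := by
    intro h0
    rw [IsLocalizedModule.eq_zero_iff s.primeCompl f] at h0
    obtain ⟨t, ht⟩ := h0
    exact t.2 (hqs ((hmem t).mpr ht))
  have hkill : ∀ a ∈ Q, a • f m = 0 := by
    have hle : Q ≤ LinearMap.ker (LinearMap.toSpanSingleton A N (f m)) := by
      rw [hQ, Ideal.map_le_iff_le_comap]
      intro y hy
      simp only [Ideal.mem_comap, LinearMap.mem_ker, LinearMap.toSpanSingleton_apply]
      rw [algebraMap_smul, ← map_smul, (hmem y).mp hy, map_zero]
    intro a ha
    have := hle ha
    simpa [LinearMap.mem_ker, LinearMap.toSpanSingleton_apply] using this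
  have hNnt : Nontrivial N := ⟨⟨f m, 0, hn0⟩⟩
  by_contra hlt
  push Not at hlt
  obtain ⟨h, hh⟩ := ENat.ne_top_iff_exists.mp hlt.ne_top
  have hdfin : LocCoh.depth A N ≠ ⊤ := by
    intro htop
    have h1 := Groth.Agent.H72.DepthCM.depth_le_supportDim (A := A) N
    rw [htop] at h1
    have h2 := h1.trans (Module.supportDim_le_ringKrullDim A N)
    have h3 : ringKrullDim A < ⊤ := ringKrullDim_lt_top
    exact absurd (lt_of_le_of_lt h2 h3) (by simp)
  obtain ⟨d, hd⟩ := ENat.ne_top_iff_exists.mp hdfin
  rw [← hh, ← hd] at hlt
  have hhd : h < d := by exact_mod_cast hlt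
  have hdim : Module.supportDim A (A ⧸ Q) ≤ ((h : ℕ) : WithBot ℕ∞) := by
    rw [Module.supportDim_quotient_eq_ringKrullDim]
    refine (ringKrullDim_quotient_localization_le q s).trans ?_
    rw [← hh]
    rfl
  have hsub := Groth.Agent.H72.Ischebeck.main N d hd.symm h (A ⧸ Q) hdim 0 (by omega)
  -- a nonzero homomorphism `A ⧸ Q → N`
  let φ : (A ⧸ Q) →ₗ[A] N := Submodule.liftQ Q (LinearMap.toSpanSingleton A N (f m)) (by
    intro a ha
    simpa [LinearMap.mem_ker, LinearMap.toSpanSingleton_apply] using hkill a ha)
  have hφ : φ (Submodule.Quotient.mk 1) = f m := by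
    change Submodule.liftQ Q (LinearMap.toSpanSingleton A N (f m)) _ (Submodule.Quotient.mk 1) = _
    rw [Submodule.liftQ_apply, LinearMap.toSpanSingleton_apply, one_smul]
  have hzero : ModuleCat.ofHom φ = 0 := by
    apply Ext.addEquiv₀.symm.injective
    exact @Subsingleton.elim _ hsub _ _
  apply hn0
  rw [← hφ]
  have := congrArg (fun g => g.hom (Submodule.Quotient.mk 1)) hzero
  simpa using this

/-- An element avoiding the associated primes inside `s` is regular on `M_s`. -/
theorem isSMulRegular_localization_of_notMem [IsNoetherianRing R]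
    (M : Type u) [AddCommGroup M] [Module R M] [Module.Finite R M] (s : Ideal R) [s.IsPrime]
    (x : R) (hx : ∀ q ∈ associatedPrimes R M, q ≤ s → x ∉ q) :
    IsSMulRegular (LocalizedModule s.primeCompl M) (algebraMap R (Localization.AtPrime s) x) := by
  by_contra hreg
  have hmem : algebraMap R (Localization.AtPrime s) x ∈
      ⋃ P ∈ associatedPrimes (Localization.AtPrime s) (LocalizedModule s.primeCompl M),
        (P : Set (Localization.AtPrime s)) := by
    rw [biUnion_associatedPrimes_eq_compl_regular]
    exact hreg
  simp only [Set.mem_iUnion] at hmem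
  obtain ⟨P, hP, hxP⟩ := hmem
  have hPprime : P.IsPrime := IsAssociatedPrime.isPrime hP
  rw [← Module.associatedPrimes.preimage_comap_associatedPrimes_eq_associatedPrimes_of_isLocalizedModule
    s.primeCompl (Localization.AtPrime s) (LocalizedModule.mkLinearMap s.primeCompl M)] at hP
  refine hx _ hP ?_ hxP
  intro y hy
  by_contra hys
  have hu : IsUnit (algebraMap R (Localization.AtPrime s) y) :=
    IsLocalization.map_units (Localization.AtPrime s) (⟨y, hys⟩ : s.primeCompl)
  exact hPprime.ne_top (Ideal.eq_top_of_isUnit_mem _ hy hu)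

/-- Regularity on `M_s` passes to the further localization `M_p`. -/
theorem isSMulRegular_localization_of_le (M : Type u) [AddCommGroup M] [Module R M]
    (p s : Ideal R) [p.IsPrime] [s.IsPrime] (hps : p ≤ s) (x : R)
    (hx : IsSMulRegular (LocalizedModule s.primeCompl M)
      (algebraMap R (Localization.AtPrime s) x)) :
    IsSMulRegular (LocalizedModule p.primeCompl M) (algebraMap R (Localization.AtPrime p) x) := by
  rw [isSMulRegular_iff_right_eq_zero_of_smul]
  intro z hz
  induction z using LocalizedModule.induction_on with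
  | h m u =>
    rw [algebraMap_smul, LocalizedModule.smul'_mk, ← LocalizedModule.zero_mk u,
      LocalizedModule.mk_eq] at hz
    rw [← LocalizedModule.zero_mk u, LocalizedModule.mk_eq]
    obtain ⟨v, hv⟩ := hz
    rw [smul_zero, smul_zero] at hv
    -- `x • ((v * u) • m) = 0` in `M`, so `(v * u) • m` vanishes in `M_s`
    have h1 : algebraMap R (Localization.AtPrime s) x •
        (LocalizedModule.mkLinearMap s.primeCompl M (((v * u : p.primeCompl) : R) • m)) = 0 := by
      rw [algebraMap_smul, ← map_smul, smul_comm]
      have : ((v * u : p.primeCompl) : R) • x • m = 0 := by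
        rw [Submonoid.coe_mul, mul_smul]
        exact hv
      rw [this, map_zero]
    have h2 := hx.right_eq_zero_of_smul h1
    rw [IsLocalizedModule.eq_zero_iff s.primeCompl] at h2
    obtain ⟨w, hw⟩ := h2
    have hwp : (w : R) ∈ p.primeCompl := fun hwp => w.2 (hps hwp)
    refine ⟨⟨w, hwp⟩ * v, ?_⟩
    rw [smul_zero, smul_zero]
    have hw' : (w : R) • ((v : R) * (u : R)) • m = 0 := by
      have := hw
      rwa [Submonoid.smul_def, Submonoid.coe_mul] at this
    change (((⟨w, hwp⟩ * v : p.primeCompl) : R)) • (u : R) • m = 0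
    rw [Submonoid.coe_mul, mul_smul, ← mul_smul (v : R)]
    exact hw'

section quot

variable [IsNoetherianRing R] (M : Type u) [AddCommGroup M] [Module R M] [Module.Finite R M]
  (p : Ideal R) [p.IsPrime] (x : R)

/-- Localization commutes with the quotient by an element. -/
noncomputable def quotLocEquiv :
    QuotSMulTop (algebraMap R (Localization.AtPrime p) x) (LocalizedModule p.primeCompl M)
      ≃ₗ[Localization.AtPrime p] LocalizedModule p.primeCompl (QuotSMulTop x M) :=
  ((QuotSMulTop.algebraMapTensorEquivTensorQuotSMulTop x M (Localization.AtPrime p)).symm ≪≫ₗ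
    QuotSMulTop.congr (algebraMap R (Localization.AtPrime p) x)
      (IsLocalizedModule.isBaseChange p.primeCompl (Localization.AtPrime p)
        (LocalizedModule.mkLinearMap p.primeCompl M)).equiv).symm ≪≫ₗ
    (IsLocalizedModule.isBaseChange p.primeCompl (Localization.AtPrime p)
      (LocalizedModule.mkLinearMap p.primeCompl (QuotSMulTop x M))).equiv

theorem depth_localization_le_quot_add_one (hxp : x ∈ p)
    (hx : IsSMulRegular (LocalizedModule p.primeCompl M)
      (algebraMap R (Localization.AtPrime p) x)) :
    LocCoh.depth (Localization.AtPrime p) (LocalizedModule p.primeCompl M) ≤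
      LocCoh.depth (Localization.AtPrime p) (LocalizedModule p.primeCompl (QuotSMulTop x M)) + 1 := by
  have hmem : algebraMap R (Localization.AtPrime p) x ∈
      IsLocalRing.maximalIdeal (Localization.AtPrime p) :=
    (IsLocalization.AtPrime.to_map_mem_maximal_iff (Localization.AtPrime p) p x).mpr hxp
  rw [← ENat.forall_natCast_le_iff_le]
  intro n hn
  cases n with
  | zero => simp
  | succ k =>
    unfold LocCoh.depth at hn ⊢
    have h1 := le_idealDepth_quotSMulTop (IsLocalRing.maximalIdeal (Localization.AtPrime p))
      (LocalizedModule p.primeCompl M) (algebraMap R (Localization.AtPrime p) x) hmem hx k hn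
    rw [idealDepth_congr (quotLocEquiv M p x)] at h1
    have : ((k + 1 : ℕ) : ℕ∞) = (k : ℕ∞) + 1 := by push_cast; rfl
    rw [this]
    exact add_le_add_left h1 1

omit [IsNoetherianRing R] [Module.Finite R M] in
theorem depth_localization_quot_add_one_le (hxp : x ∈ p)
    (hx : IsSMulRegular (LocalizedModule p.primeCompl M)
      (algebraMap R (Localization.AtPrime p) x)) :
    LocCoh.depth (Localization.AtPrime p) (LocalizedModule p.primeCompl (QuotSMulTop x M)) + 1 ≤
      LocCoh.depth (Localization.AtPrime p) (LocalizedModule p.primeCompl M) := by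
  have hmem : algebraMap R (Localization.AtPrime p) x ∈
      IsLocalRing.maximalIdeal (Localization.AtPrime p) :=
    (IsLocalization.AtPrime.to_map_mem_maximal_iff (Localization.AtPrime p) p x).mpr hxp
  have key : ∀ n : ℕ, (n : ℕ∞) ≤ LocCoh.depth (Localization.AtPrime p)
      (LocalizedModule p.primeCompl (QuotSMulTop x M)) →
      ((n + 1 : ℕ) : ℕ∞) ≤ LocCoh.depth (Localization.AtPrime p)
        (LocalizedModule p.primeCompl M) := by
    intro n hn
    unfold LocCoh.depth at hn ⊢
    rw [← idealDepth_congr (quotLocEquiv M p x)] at hn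
    exact Groth.Agent.H72.DepthFinite.succ_le_idealDepth_of_quotSMulTop _ _ _ hmem hx n hn
  rcases eq_or_ne (LocCoh.depth (Localization.AtPrime p)
      (LocalizedModule p.primeCompl (QuotSMulTop x M))) ⊤ with htop | hne
  · rw [htop, top_add, top_le_iff, eq_top_iff, ← ENat.forall_natCast_le_iff_le]
    intro n _
    refine le_trans ?_ (key n (by rw [htop]; exact le_top))
    exact_mod_cast Nat.le_succ n
  · obtain ⟨k, hk⟩ := ENat.ne_top_iff_exists.mp hne
    rw [← hk]
    have := key k (by rw [hk])
    exact_mod_cast this

end quot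

theorem depth_localization_le_aux [IsNoetherianRing R] (p s : Ideal R) [p.IsPrime] [s.IsPrime]
    (hps : p ≤ s) :
    ∀ (t : ℕ) (M : Type u) [AddCommGroup M] [Module R M] [Module.Finite R M],
      LocCoh.depth (Localization.AtPrime p) (LocalizedModule p.primeCompl M) ≤ (t : ℕ∞) →
      LocCoh.depth (Localization.AtPrime s) (LocalizedModule s.primeCompl M) ≤
        (t : ℕ∞) + (s.map (Ideal.Quotient.mk p)).height := by
  intro t
  induction t with
  | zero =>
    intro M _ _ _ ht
    by_cases hA : ∃ q ∈ associatedPrimes R M, p ≤ q ∧ q ≤ s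
    · obtain ⟨q, hq, hpq, hqs⟩ := hA
      have : q.IsPrime := IsAssociatedPrime.isPrime hq
      exact ((depth_localization_le_height_of_mem_associatedPrimes M q s hqs hq).trans
        (height_map_mk_le p q s hpq hqs)).trans le_add_self
    · exfalso
      push Not at hA
      have hfin : {q ∈ associatedPrimes R M | q ≤ s}.Finite :=
        (associatedPrimes.finite R M).subset (fun q hq => hq.1)
      have hnot : ¬ ((p : Set R) ⊆ ⋃ q ∈ {q ∈ associatedPrimes R M | q ≤ s}, (q : Set R)) := by
        intro hsub
        obtain ⟨q, hq, hpq⟩ := (Ideal.subset_union_prime_finite hfin p p (by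
          intro Q hQ _ _
          exact IsAssociatedPrime.isPrime hQ.1)).mp hsub
        exact hA q hq.1 hpq hq.2
      rw [Set.not_subset] at hnot
      obtain ⟨x, hxp, hxT⟩ := hnot
      simp only [Set.mem_iUnion, not_exists] at hxT
      have hxs := isSMulRegular_localization_of_notMem M s x
        (fun q hq hqs hxq => hxT q ⟨hq, hqs⟩ hxq)
      have hxp' := isSMulRegular_localization_of_le M p s hps x hxs
      have h1 := depth_localization_quot_add_one_le M p x hxp hxp'
      have h2 := h1.trans ht
      simp at h2
  | succ t ih =>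
    intro M _ _ _ ht
    by_cases hA : ∃ q ∈ associatedPrimes R M, p ≤ q ∧ q ≤ s
    · obtain ⟨q, hq, hpq, hqs⟩ := hA
      have : q.IsPrime := IsAssociatedPrime.isPrime hq
      exact ((depth_localization_le_height_of_mem_associatedPrimes M q s hqs hq).trans
        (height_map_mk_le p q s hpq hqs)).trans le_add_self
    · push Not at hA
      have hfin : {q ∈ associatedPrimes R M | q ≤ s}.Finite :=
        (associatedPrimes.finite R M).subset (fun q hq => hq.1)
      have hnot : ¬ ((p : Set R) ⊆ ⋃ q ∈ {q ∈ associatedPrimes R M | q ≤ s}, (q : Set R)) := by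
        intro hsub
        obtain ⟨q, hq, hpq⟩ := (Ideal.subset_union_prime_finite hfin p p (by
          intro Q hQ _ _
          exact IsAssociatedPrime.isPrime hQ.1)).mp hsub
        exact hA q hq.1 hpq hq.2
      rw [Set.not_subset] at hnot
      obtain ⟨x, hxp, hxT⟩ := hnot
      simp only [Set.mem_iUnion, not_exists] at hxT
      have hxs := isSMulRegular_localization_of_notMem M s x
        (fun q hq hqs hxq => hxT q ⟨hq, hqs⟩ hxq)
      have hxp' := isSMulRegular_localization_of_le M p s hps x hxs
      have h1 := depth_localization_quot_add_one_le M p x hxp hxp'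
      have h2 : LocCoh.depth (Localization.AtPrime p)
          (LocalizedModule p.primeCompl (QuotSMulTop x M)) ≤ (t : ℕ∞) := by
        have h3 := h1.trans ht
        have h4 : ((t + 1 : ℕ) : ℕ∞) = (t : ℕ∞) + 1 := by push_cast; rfl
        rw [h4] at h3
        exact (ENat.add_le_add_iff_right (by simp)).mp h3
      have h5 := ih (QuotSMulTop x M) h2
      have h6 := depth_localization_le_quot_add_one M s x (hps hxp) hxs
      refine h6.trans ?_
      have h4 : ((t + 1 : ℕ) : ℕ∞) = (t : ℕ∞) + 1 := by push_cast; rfl
      rw [h4, add_right_comm]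
      exact add_le_add_left h5 1

/-- `depth M_s ≤ depth M_p + ht(s/p)` for primes `p ≤ s` of a Noetherian ring. -/
theorem depth_localization_le [IsNoetherianRing R] (M : Type u) [AddCommGroup M] [Module R M]
    [Module.Finite R M] (p s : Ideal R) [p.IsPrime] [s.IsPrime] (hps : p ≤ s) :
    LocCoh.depth (Localization.AtPrime s) (LocalizedModule s.primeCompl M) ≤
      LocCoh.depth (Localization.AtPrime p) (LocalizedModule p.primeCompl M) +
        (s.map (Ideal.Quotient.mk p)).height := by
  rcases eq_or_ne (LocCoh.depth (Localization.AtPrime p) (LocalizedModule p.primeCompl M)) ⊤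
    with htop | hne
  · rw [htop, top_add]
    exact le_top
  · obtain ⟨t, ht⟩ := ENat.ne_top_iff_exists.mp hne
    rw [← ht]
    exact depth_localization_le_aux p s hps t M (by rw [ht])

end Groth.Agent.H72.DepthLocIneq
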