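import Mathlib
import Groth.Prelude.Def_CAlg
import Groth.Agent.H2.DepthSES
import Groth.Agent.H72.DepthFlat
import Groth.Agent.H72.DepthCM

set_option autoImplicit false
set_option linter.unusedSectionVars false
universe u

open Groth.Agent.H15

namespace Groth.Agent.H72.NormFlatDepth

variable {A : Type u} [CommRing A] [IsNoetherianRing A] (J : Ideal A)

/-- `M` has `J`-depth `d` or `⊤`. -/
def P (d : ℕ∞) (M : Type u) [AddCommGroup M] [Module A M] : Prop :=
  LocCoh.idealDepth J M = d ∨ LocCoh.idealDepth J M = ⊤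

theorem P_congr (d : ℕ∞) {M N : Type u} [AddCommGroup M] [Module A M] [AddCommGroup N]
    [Module A N] (e : M ≃ₗ[A] N) (h : P J d M) : P J d N := by
  unfold P at *
  rwa [← idealDepth_congr e J]

theorem P_of_subsingleton (d : ℕ∞) (M : Type u) [AddCommGroup M] [Module A M] [Subsingleton M] :
    P J d M :=
  Or.inr (idealDepth_eq_top_of_smul_top_eq J M (Subsingleton.elim _ _))

theorem P_of_exact (d : ℕ∞) {N' N N'' : Type u} [AddCommGroup N'] [Module A N'] [Module.Finite A N']
    [AddCommGroup N] [Module A N] [Module.Finite A N]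
    [AddCommGroup N''] [Module A N''] [Module.Finite A N'']
    (f : N' →ₗ[A] N) (g : N →ₗ[A] N'') (hf : Function.Injective f) (hg : Function.Surjective g)
    (hfg : Function.Exact f g) (h' : P J d N') (h'' : P J d N'') : P J d N := by
  obtain ⟨h1, h2, h3⟩ := Groth.Agent.H2.DepthSES.depth_lemma J f g hf hg hfg
  unfold P at *
  generalize LocCoh.idealDepth J N' = a at *
  generalize LocCoh.idealDepth J N'' = c at *
  generalize LocCoh.idealDepth J N = b at *
  rcases h' with ha | ha <;> rcases h'' with hc | hc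
  · -- a = d, c = d
    rw [ha, hc] at h1
    rw [hc] at h3
    rw [ha] at h3
    by_cases hd : d = ⊤
    · right
      subst hd
      simpa using h1
    · left
      rw [min_self] at h1
      refine le_antisymm ?_ h1
      by_contra hlt
      push Not at hlt
      have h4 : d + 1 ≤ b := Order.add_one_le_of_lt hlt
      have h5 : d + 1 ≤ min b (d + 1) := le_min h4 le_rfl
      have h6 := le_trans h5 h3
      have : d < d + 1 := (ENat.lt_add_one_iff hd).mpr le_rfl
      exact absurd h6 (not_le.mpr this)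
  · -- a = d, c = ⊤
    left
    rw [ha, hc] at h1
    rw [hc, ha] at h3
    have h4 : b ≤ d := by simpa using h3
    have h5 : d ≤ b := by simpa using h1
    exact le_antisymm h4 h5
  · -- a = ⊤, c = d
    left
    rw [ha, hc] at h1
    rw [ha, hc] at h2
    have h4 : b ≤ d := by simpa using h2
    have h5 : d ≤ b := by simpa using h1
    exact le_antisymm h4 h5
  · right
    rw [ha, hc] at h1
    simpa using h1

/-- finite powers: `P Q ⇒ P (Fin r → Q)`. -/
theorem P_pi (d : ℕ∞) (Q : Type u) [AddCommGroup Q] [Module A Q] [Module.Finite A Q]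
    (hQ : P J d Q) : ∀ r : ℕ, P J d (Fin r → Q) := by
  intro r
  induction r with
  | zero => exact P_of_subsingleton J d _
  | succ r ih =>
    let f : Q →ₗ[A] (Fin (r + 1) → Q) := LinearMap.single A (fun _ => Q) 0
    let g : (Fin (r + 1) → Q) →ₗ[A] (Fin r → Q) := LinearMap.funLeft A Q Fin.succ
    have hf : Function.Injective f := fun a b hab => by simpa [f] using congrFun hab 0
    have hg : Function.Surjective g := by
      intro w
      refine ⟨Fin.cons 0 w, ?_⟩
      ext i
      simp [g, LinearMap.funLeft_apply]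
    have hfg : Function.Exact f g := by
      intro v
      constructor
      · intro hv
        refine ⟨v 0, ?_⟩
        ext i
        refine Fin.cases ?_ (fun j => ?_) i
        · simp [f]
        · have := congrFun hv j
          simp only [g, LinearMap.funLeft_apply, Pi.zero_apply] at this
          simp [f, this, Fin.succ_ne_zero]
      · rintro ⟨q, rfl⟩
        ext j
        simp [f, g, LinearMap.funLeft_apply, Fin.succ_ne_zero]
    exact P_of_exact J d f g hf hg hfg hQ ih

/-- The `I`-adic filtration step: if `P` holds for `I^(n+1) M` and for `gr_n`, it holds for `I^n M`. -/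
theorem P_step (d : ℕ∞) (I : Ideal A) (M : Type u) [AddCommGroup M] [Module A M] [Module.Finite A M]
    (n : ℕ) (h1 : P J d ↥(I ^ (n + 1) • (⊤ : Submodule A M)))
    (h2 : P J d (↥(I ^ n • (⊤ : Submodule A M)) ⧸
      (I • (⊤ : Submodule A ↥(I ^ n • (⊤ : Submodule A M)))))) :
    P J d ↥(I ^ n • (⊤ : Submodule A M)) := by
  have hle : I ^ (n + 1) • (⊤ : Submodule A M) ≤ I ^ n • (⊤ : Submodule A M) :=
    Submodule.smul_mono_left (Ideal.pow_le_pow_right (Nat.le_succ n))
  let f : ↥(I ^ (n + 1) • (⊤ : Submodule A M)) →ₗ[A] ↥(I ^ n • (⊤ : Submodule A M)) :=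
    Submodule.inclusion hle
  let g := (I • (⊤ : Submodule A ↥(I ^ n • (⊤ : Submodule A M)))).mkQ
  have hf : Function.Injective f := Submodule.inclusion_injective hle
  have hg : Function.Surjective g := Submodule.mkQ_surjective _
  have hmap : (I • (⊤ : Submodule A ↥(I ^ n • (⊤ : Submodule A M)))).map
      (I ^ n • (⊤ : Submodule A M)).subtype = I ^ (n + 1) • (⊤ : Submodule A M) := by
    rw [Submodule.map_smul'', Submodule.map_top, Submodule.range_subtype, ← mul_smul, ← pow_succ']
  have hfg : Function.Exact f g := by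
    intro v
    rw [show g v = 0 ↔ v ∈ (I • (⊤ : Submodule A ↥(I ^ n • (⊤ : Submodule A M)))) from
      Submodule.Quotient.mk_eq_zero _]
    constructor
    · intro hv
      have : (v : M) ∈ I ^ (n + 1) • (⊤ : Submodule A M) := by
        rw [← hmap]
        exact ⟨v, hv, rfl⟩
      exact ⟨⟨v, this⟩, rfl⟩
    · rintro ⟨w, rfl⟩
      have hw : (w : M) ∈ (I • (⊤ : Submodule A ↥(I ^ n • (⊤ : Submodule A M)))).map
          (I ^ n • (⊤ : Submodule A M)).subtype := by
        rw [hmap]; exact w.2
      obtain ⟨v, hv, hvw⟩ := hw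
      have : v = f w := Subtype.ext hvw
      rwa [← this]
  exact P_of_exact J d f g hf hg hfg h1 h2

section Main

variable [IsLocalRing A] (I : Ideal A) (hI : IsNilpotent I)
  (M : Type u) [AddCommGroup M] [Module A M] [Module.Finite A M]
  (hM : ∀ n : ℕ, Module.Flat (A ⧸ I) (↥(I ^ n • (⊤ : Submodule A M)) ⧸
      (I • (⊤ : Submodule A ↥(I ^ n • (⊤ : Submodule A M))))))

include hI in
theorem le_maximalIdeal_of_isNilpotent : I ≤ IsLocalRing.maximalIdeal A := by
  apply IsLocalRing.le_maximalIdeal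
  rintro rfl
  obtain ⟨n, hn⟩ := hI
  rw [Ideal.top_pow] at hn
  exact top_ne_bot hn

include hI in
theorem isLocalRing_quotient_of_isNilpotent : IsLocalRing (A ⧸ I) := by
  have hne : I ≠ ⊤ := by
    rintro rfl
    obtain ⟨n, hn⟩ := hI
    rw [Ideal.top_pow] at hn
    exact top_ne_bot hn
  have : Nontrivial (A ⧸ I) := Ideal.Quotient.nontrivial_iff.mpr hne
  exact IsLocalRing.of_surjective' (Ideal.Quotient.mk I) Ideal.Quotient.mk_surjective

include hI hM in
theorem P_gr (n : ℕ) : P (IsLocalRing.maximalIdeal A) (LocCoh.depth A (A ⧸ I))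
    (↥(I ^ n • (⊤ : Submodule A M)) ⧸ (I • (⊤ : Submodule A ↥(I ^ n • (⊤ : Submodule A M))))) := by
  have := isLocalRing_quotient_of_isNilpotent I hI
  have hfl := hM n
  have hfin : Module.Finite (A ⧸ I) (↥(I ^ n • (⊤ : Submodule A M)) ⧸
      (I • (⊤ : Submodule A ↥(I ^ n • (⊤ : Submodule A M))))) :=
    Module.Finite.of_restrictScalars_finite A (A ⧸ I) _
  have hfree : Module.Free (A ⧸ I) (↥(I ^ n • (⊤ : Submodule A M)) ⧸
      (I • (⊤ : Submodule A ↥(I ^ n • (⊤ : Submodule A M))))) :=
    Module.free_of_flat_of_isLocalRing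
  let e := (Module.finBasis (A ⧸ I) (↥(I ^ n • (⊤ : Submodule A M)) ⧸
      (I • (⊤ : Submodule A ↥(I ^ n • (⊤ : Submodule A M)))))).equivFun
  have hP : P (IsLocalRing.maximalIdeal A) (LocCoh.depth A (A ⧸ I)) (A ⧸ I) := Or.inl rfl
  exact P_congr _ _ (e.restrictScalars A).symm (P_pi _ _ (A ⧸ I) hP _)

include hI hM in
theorem P_filtration : ∀ k n : ℕ, (∃ N, I ^ N = ⊥ ∧ N ≤ n + k) →
    P (IsLocalRing.maximalIdeal A) (LocCoh.depth A (A ⧸ I)) ↥(I ^ n • (⊤ : Submodule A M)) := by
  intro k
  induction k with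
  | zero =>
    rintro n ⟨N, hN, hle⟩
    have : I ^ n = ⊥ := by
      rw [← Nat.add_sub_cancel' (by simpa using hle : N ≤ n), pow_add, hN, Ideal.bot_mul]
    have hbot : I ^ n • (⊤ : Submodule A M) = ⊥ := by rw [this, Submodule.bot_smul]
    have : Subsingleton ↥(I ^ n • (⊤ : Submodule A M)) := by
      rw [hbot]; infer_instance
    exact P_of_subsingleton _ _ _
  | succ k ih =>
    rintro n ⟨N, hN, hle⟩
    exact P_step _ _ I M n (ih (n + 1) ⟨N, hN, by omega⟩) (P_gr I hI M hM n)

include hI hM in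
theorem depth_eq_of_normallyFlat [Nontrivial M] :
    LocCoh.depth A M = LocCoh.depth A (A ⧸ I) := by
  obtain ⟨N, hN⟩ := hI
  have h0 := P_filtration I ⟨N, hN⟩ M hM N 0 ⟨N, hN, by omega⟩
  have htop : I ^ 0 • (⊤ : Submodule A M) = ⊤ := by
    rw [pow_zero, Ideal.one_eq_top, Submodule.top_smul]
  have e : ↥(I ^ 0 • (⊤ : Submodule A M)) ≃ₗ[A] M :=
    (LinearEquiv.ofEq _ _ htop).trans Submodule.topEquiv
  have h1 := P_congr _ _ e h0
  rcases h1 with h1 | h1
  · exact h1
  · exfalso
    have h2 := Groth.Agent.H72.DepthCM.depth_le_supportDim (A := A) M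
    have h3 : Module.supportDim A M ≤ ringKrullDim A := Module.supportDim_le_ringKrullDim A M
    have h4 : ringKrullDim A < ⊤ := ringKrullDim_lt_top
    unfold LocCoh.depth at h2
    rw [h1] at h2
    exact absurd (lt_of_le_of_lt (le_trans h2 h3) h4) (by simp)

include hI hM in
theorem annihilator_le_of_normallyFlat [Nontrivial M] : Module.annihilator A M ≤ I := by
  intro a ha
  have := isLocalRing_quotient_of_isNilpotent I hI
  have hfl := hM 0
  have hfin : Module.Finite (A ⧸ I) (↥(I ^ 0 • (⊤ : Submodule A M)) ⧸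
      (I • (⊤ : Submodule A ↥(I ^ 0 • (⊤ : Submodule A M))))) :=
    Module.Finite.of_restrictScalars_finite A (A ⧸ I) _
  have hfree : Module.Free (A ⧸ I) (↥(I ^ 0 • (⊤ : Submodule A M)) ⧸
      (I • (⊤ : Submodule A ↥(I ^ 0 • (⊤ : Submodule A M))))) :=
    Module.free_of_flat_of_isLocalRing
  have htop : I ^ 0 • (⊤ : Submodule A M) = ⊤ := by
    rw [pow_zero, Ideal.one_eq_top, Submodule.top_smul]
  have e : ↥(I ^ 0 • (⊤ : Submodule A M)) ≃ₗ[A] M :=
    (LinearEquiv.ofEq _ _ htop).trans Submodule.topEquiv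
  have hnt : Nontrivial ↥(I ^ 0 • (⊤ : Submodule A M)) := e.toEquiv.nontrivial
  have hne : I • (⊤ : Submodule A ↥(I ^ 0 • (⊤ : Submodule A M))) ≠ ⊤ :=
    (Submodule.top_ne_ideal_smul_of_le_jacobson_annihilator
      (le_trans (le_maximalIdeal_of_isNilpotent I hI)
        (IsLocalRing.maximalIdeal_le_jacobson _))).symm
  have hnt' : Nontrivial (↥(I ^ 0 • (⊤ : Submodule A M)) ⧸
      (I • (⊤ : Submodule A ↥(I ^ 0 • (⊤ : Submodule A M))))) :=
    Submodule.Quotient.nontrivial_iff.mpr hne
  have hz : ∀ x : (↥(I ^ 0 • (⊤ : Submodule A M)) ⧸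
      (I • (⊤ : Submodule A ↥(I ^ 0 • (⊤ : Submodule A M))))),
      (Ideal.Quotient.mk I a) • x = (0 : A ⧸ I) • x := by
    intro x
    obtain ⟨y, rfl⟩ := Submodule.Quotient.mk_surjective _ x
    rw [zero_smul]
    have : a • y = 0 := by
      apply Subtype.ext
      simpa using Module.mem_annihilator.mp ha (y : M)
    rw [show (Ideal.Quotient.mk I a) • (Submodule.Quotient.mk y : (↥(I ^ 0 • (⊤ : Submodule A M)) ⧸
      (I • (⊤ : Submodule A ↥(I ^ 0 • (⊤ : Submodule A M)))))) = Submodule.Quotient.mk (a • y) from rfl,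
      this, Submodule.Quotient.mk_zero]
  have h0 : Ideal.Quotient.mk I a = 0 := FaithfulSMul.eq_of_smul_eq_smul hz
  exact Ideal.Quotient.eq_zero_iff_mem.mp h0

include hI hM in
theorem supportDim_eq_of_normallyFlat [Nontrivial M] :
    Module.supportDim A M = ringKrullDim (A ⧸ I) := by
  rw [Module.supportDim_eq_ringKrullDim_quotient_annihilator, ringKrullDim_quotient,
    ringKrullDim_quotient]
  have h1 : PrimeSpectrum.zeroLocus (R := A) (I : Set A) = Set.univ := by
    rw [Set.eq_univ_iff_forall]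
    intro p
    rw [PrimeSpectrum.mem_zeroLocus]
    intro a ha
    obtain ⟨N, hN⟩ := hI
    have : a ^ N ∈ I ^ N := Ideal.pow_mem_pow ha N
    rw [hN] at this
    have h2 : a ^ N ∈ p.asIdeal := by
      rw [Ideal.mem_bot.mp this]; exact zero_mem _
    exact p.2.mem_of_pow_mem N h2
  have h2 : PrimeSpectrum.zeroLocus (R := A) (Module.annihilator A M : Set A) = Set.univ := by
    rw [Set.eq_univ_iff_forall]
    intro p
    have : p ∈ PrimeSpectrum.zeroLocus (R := A) (I : Set A) := by rw [h1]; trivial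
    exact PrimeSpectrum.zeroLocus_anti_mono (annihilator_le_of_normallyFlat I hI M hM) this
  rw [h1, h2]

end Main

end Groth.Agent.H72.NormFlatDepth
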