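import Mathlib
import Groth.Prelude.Def_CAlg
import Groth.Agent.H29.CMLocusFT2
import Groth.Agent.H81.CIGor2
import Groth.Agent.H72.CMLocal
import Groth.Agent.H72.FormalLoc

set_option autoImplicit false
set_option linter.style.haveILetI false
set_option linter.unusedSectionVars false
universe u

namespace Groth.Agent.H72.CMLocusReg

open IsLocalRing CategoryTheory

section Pointwise

variable {R S : Type u} [CommRing R] [CommRing S] [Algebra R S] [IsNoetherianRing R]
  (hf : Function.Surjective (algebraMap R S))

include hf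

/-- The kernel of `R_Q → S_q` is the extension of the kernel of `R → S`. -/
theorem ker_localization (q : Ideal S) [q.IsPrime]
    [Algebra (Localization.AtPrime (q.under R)) (Localization.AtPrime q)]
    [Localization.AtPrime.IsLiesOverAlgebra (q.under R) q] :
    RingHom.ker (algebraMap (Localization.AtPrime (q.under R)) (Localization.AtPrime q)) =
      (RingHom.ker (algebraMap R S)).map (algebraMap R (Localization.AtPrime (q.under R))) := by
  apply le_antisymm
  · intro z hz
    obtain ⟨x, s, rfl⟩ := IsLocalization.exists_mk'_eq (q.under R).primeCompl z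
    rw [RingHom.mem_ker] at hz
    have h1 : algebraMap (Localization.AtPrime (q.under R)) (Localization.AtPrime q)
        (algebraMap R (Localization.AtPrime (q.under R)) x) = 0 := by
      have h2 : algebraMap R (Localization.AtPrime (q.under R)) x =
          IsLocalization.mk' (Localization.AtPrime (q.under R)) x s *
            algebraMap R (Localization.AtPrime (q.under R)) s := by
        rw [IsLocalization.mk'_spec]
      rw [h2, map_mul, hz, zero_mul]
    rw [← IsScalarTower.algebraMap_apply R (Localization.AtPrime (q.under R)) (Localization.AtPrime q),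
      IsScalarTower.algebraMap_apply R S (Localization.AtPrime q),
      IsLocalization.map_eq_zero_iff q.primeCompl] at h1
    obtain ⟨⟨t, ht⟩, htx⟩ := h1
    obtain ⟨u, rfl⟩ := hf t
    have hu : u ∈ (q.under R).primeCompl := ht
    have h3 : u * x ∈ RingHom.ker (algebraMap R S) := by
      rw [RingHom.mem_ker, map_mul]
      exact htx
    have h4 : IsLocalization.mk' (Localization.AtPrime (q.under R)) x s =
        IsLocalization.mk' (Localization.AtPrime (q.under R)) (1 : R) (⟨u, hu⟩ * s) *
          algebraMap R (Localization.AtPrime (q.under R)) (u * x) := by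
      rw [mul_comm, IsLocalization.mul_mk'_eq_mk'_of_mul, mul_one,
        IsLocalization.mk'_eq_iff_eq]
      simp only [Submonoid.coe_mul]
      ring_nf
    rw [h4]
    exact Ideal.mul_mem_left _ _ (Ideal.mem_map_of_mem _ h3)
  · rw [Ideal.map_le_iff_le_comap]
    intro x hx
    rw [Ideal.mem_comap, RingHom.mem_ker,
      ← IsScalarTower.algebraMap_apply R (Localization.AtPrime (q.under R)) (Localization.AtPrime q),
      IsScalarTower.algebraMap_apply R S (Localization.AtPrime q), (RingHom.mem_ker).mp hx, map_zero]

theorem surjective_localization (q : Ideal S) [q.IsPrime]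
    [Algebra (Localization.AtPrime (q.under R)) (Localization.AtPrime q)]
    [Localization.AtPrime.IsLiesOverAlgebra (q.under R) q] :
    Function.Surjective
      (algebraMap (Localization.AtPrime (q.under R)) (Localization.AtPrime q)) := by
  intro z
  obtain ⟨c, t, rfl⟩ := IsLocalization.exists_mk'_eq q.primeCompl z
  obtain ⟨x, rfl⟩ := hf c
  obtain ⟨u, hu⟩ := hf t.1
  have hu' : u ∈ (q.under R).primeCompl := by
    change u ∉ q.under R
    rw [Ideal.under_def, Ideal.mem_comap, hu]
    exact t.2
  refine ⟨IsLocalization.mk' _ x ⟨u, hu'⟩, ?_⟩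
  have hcomm : ∀ r : R, algebraMap S (Localization.AtPrime q) (algebraMap R S r) =
      algebraMap (Localization.AtPrime (q.under R)) (Localization.AtPrime q)
        (algebraMap R (Localization.AtPrime (q.under R)) r) := fun r => by
    rw [← IsScalarTower.algebraMap_apply R S (Localization.AtPrime q),
      IsScalarTower.algebraMap_apply R (Localization.AtPrime (q.under R)) (Localization.AtPrime q)]
  rw [IsLocalization.eq_mk'_iff_mul_eq, ← hu, hcomm u, ← map_mul, IsLocalization.mk'_spec,
    hcomm x]

/-- Pointwise criterion for Cohen–Macaulayness of a local ring of a quotient of a ring which is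
regular at the prime below. -/
theorem isCM_iff (q : Ideal S) [q.IsPrime]
    [Algebra (Localization.AtPrime (q.under R)) (Localization.AtPrime q)]
    [Localization.AtPrime.IsLiesOverAlgebra (q.under R) q]
    [IsRegularLocalRing (Localization.AtPrime (q.under R))] :
    LocCoh.IsCohenMacaulayLocalRing (Localization.AtPrime q) ↔
      ∀ P ∈ (RingHom.ker (algebraMap R S)).minimalPrimes, P ≤ q.under R →
        projectiveDimension (ModuleCat.of (Localization.AtPrime (q.under R))
          (LocalizedModule (q.under R).primeCompl S)) ≤ ((P.height : ℕ∞) : WithBot ℕ∞) := by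
  set Q : Ideal R := q.under R with hQ
  haveI : IsNoetherianRing S := isNoetherianRing_of_surjective R S (algebraMap R S) hf
  haveI : IsNoetherianRing (Localization.AtPrime q) :=
    IsLocalization.isNoetherianRing q.primeCompl _ inferInstance
  obtain ⟨a, ha⟩ := Groth.Agent.H72.FlatCM.exists_ringKrullDim_eq_natCast (Localization.AtPrime Q)
  obtain ⟨b, hb⟩ := Groth.Agent.H72.FlatCM.exists_ringKrullDim_eq_natCast
    (Localization.AtPrime q)
  have hCMA := Groth.Agent.H26.CMFlat.isCohenMacaulayLocalRing_of_isRegularLocalRing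
    (Localization.AtPrime Q)
  have hdA : ringKrullDim (Localization.AtPrime Q) =
      ((LocCoh.depth (Localization.AtPrime Q) (Localization.AtPrime Q) : ℕ∞) : WithBot ℕ∞) :=
    (Groth.Agent.H72.FlatCM.isCohenMacaulayLocalRing_iff _).mp hCMA
  have hdB := Groth.Agent.H72.FlatCM.depth_le_ringKrullDim (Localization.AtPrime q)
  obtain ⟨e0⟩ := Groth.Agent.H29.CMLocusFT.nonempty_linearEquiv hf q
  haveI : Module.Finite R S := Module.Finite.of_surjective (Algebra.linearMap R S) hf
  haveI : Module.Finite (Localization.AtPrime Q) (LocalizedModule Q.primeCompl S) :=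
    Module.Finite.of_isLocalizedModule Q.primeCompl (LocalizedModule.mkLinearMap Q.primeCompl S)
  haveI : Nontrivial (LocalizedModule Q.primeCompl S) := e0.toEquiv.nontrivial
  have hdL := Groth.Agent.H29.CMLocusFT.depth_localizedModule_eq hf q
  have hpdLT := Groth.Agent.Lead.RLR.hasProjectiveDimensionLT (Localization.AtPrime Q) a ha
    (ModuleCat.of (Localization.AtPrime Q) (LocalizedModule Q.primeCompl S))
  have hpd_le : projectiveDimension (ModuleCat.of (Localization.AtPrime Q)
      (LocalizedModule Q.primeCompl S)) ≤ (a : WithBot ℕ∞) :=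
    (projectiveDimension_le_iff _ _).mpr hpdLT
  have hpd_ne_top : projectiveDimension (ModuleCat.of (Localization.AtPrime Q)
      (LocalizedModule Q.primeCompl S)) ≠ ⊤ := by
    intro h
    rw [h, top_le_iff] at hpd_le
    have h1 : ((a : ℕ∞) : WithBot ℕ∞) = ((⊤ : ℕ∞) : WithBot ℕ∞) := hpd_le
    exact ENat.natCast_ne_top a (WithBot.coe_inj.mp h1)
  obtain ⟨e, he⟩ := Groth.Agent.H29.AB.exists_nat_pd _ hpd_ne_top (fun h =>
    not_subsingleton (LocalizedModule Q.primeCompl S) ((ModuleCat.isZero_iff_subsingleton).mp h))
  have hAB := Groth.Agent.H29.AB.auslander_buchsbaum (LocalizedModule Q.primeCompl S) e he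
  -- the kernel
  set K : Ideal (Localization.AtPrime Q) :=
    RingHom.ker (algebraMap (Localization.AtPrime Q) (Localization.AtPrime q)) with hK
  have hKeq : K = (RingHom.ker (algebraMap R S)).map (algebraMap R (Localization.AtPrime Q)) :=
    ker_localization hf q
  have hKne : K ≠ ⊤ := RingHom.ker_ne_top _
  have hsurj := surjective_localization hf q
  have hbK : ringKrullDim (Localization.AtPrime Q ⧸ K) = b := by
    rw [← hb]
    exact ringKrullDim_eq_of_ringEquiv (RingHom.quotientKerEquivOfSurjective hsurj)
  have h1 := Groth.Agent.H72.CMLocal.ringKrullDim_le_quotient_add_height (Localization.AtPrime Q)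
    hCMA K hKne
  have h2 := Groth.Agent.H81.CIGor.height_add_ringKrullDim_quotient_le K hKne
  have hht_ne_top : K.height ≠ ⊤ := Ideal.height_ne_top hKne
  obtain ⟨h, hh⟩ := ENat.ne_top_iff_exists.mp hht_ne_top
  rw [hbK, ha, ← hh] at h1 h2
  have habh : a = b + h := by
    have h1' : a ≤ b + h := by exact_mod_cast h1
    have h2' : h + b ≤ a := by exact_mod_cast h2
    omega
  -- depths
  rw [ha] at hdA
  rw [hb] at hdB
  have hδ_ne_top : LocCoh.depth (Localization.AtPrime q) (Localization.AtPrime q) ≠ ⊤ := by
    intro h'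
    rw [h'] at hdB
    have h1 : ((⊤ : ℕ∞) : WithBot ℕ∞) ≤ ((b : ℕ∞) : WithBot ℕ∞) := hdB
    exact absurd (WithBot.coe_le_coe.mp h1) (by simp)
  obtain ⟨δ, hδ⟩ := ENat.ne_top_iff_exists.mp hδ_ne_top
  rw [← hδ] at hdB
  have hδb : δ ≤ b := by exact_mod_cast hdB
  rw [hdL, ← hδ] at hAB
  have hdA' : LocCoh.depth (Localization.AtPrime Q) (Localization.AtPrime Q) = (a : ℕ∞) := by
    have h1 : ((a : ℕ∞) : WithBot ℕ∞) =
      ((LocCoh.depth (Localization.AtPrime Q) (Localization.AtPrime Q) : ℕ∞) : WithBot ℕ∞) := hdA
    exact (WithBot.coe_inj.mp h1).symm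
  rw [hdA'] at hAB
  have haeδ : a = e + δ := by exact_mod_cast hAB
  -- reformulation of the right hand side
  have hrhs : (∀ P ∈ (RingHom.ker (algebraMap R S)).minimalPrimes, P ≤ Q →
      projectiveDimension (ModuleCat.of (Localization.AtPrime Q)
        (LocalizedModule Q.primeCompl S)) ≤ ((P.height : ℕ∞) : WithBot ℕ∞)) ↔ e ≤ h := by
    rw [he]
    constructor
    · intro H
      have : ((e : ℕ) : ℕ∞) ≤ K.height := by
        rw [Ideal.height_eq_inf_minimalPrimes]
        refine le_iInf₂ (fun P' hP' => ?_)
        have hP'prime : P'.IsPrime := hP'.1.1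
        rw [hKeq, IsLocalization.minimalPrimes_map Q.primeCompl] at hP'
        have hle : P'.under R ≤ Q := by
          have h3 : P' ≤ maximalIdeal (Localization.AtPrime Q) := le_maximalIdeal hP'prime.ne_top
          have h4 : P'.under R ≤ (maximalIdeal (Localization.AtPrime Q)).under R :=
            Ideal.comap_mono h3
          rwa [IsLocalization.AtPrime.under_maximalIdeal (Localization.AtPrime Q) Q] at h4
        have h5 := H (P'.under R) hP' hle
        rw [IsLocalization.height_under Q.primeCompl P'] at h5
        exact_mod_cast h5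
      rw [← hh] at this
      exact_mod_cast this
    · intro hle P hP hPQ
      have hPprime : P.IsPrime := hP.1.1
      have hdisj : Disjoint (Q.primeCompl : Set R) (P : Set R) := by
        rw [Set.disjoint_left]
        intro x hx hxP
        exact hx (hPQ hxP)
      have h3 := IsLocalization.height_map_of_disjoint (S := Localization.AtPrime Q) Q.primeCompl P
        hdisj
      have h4 : K ≤ P.map (algebraMap R (Localization.AtPrime Q)) := by
        rw [hKeq]
        exact Ideal.map_mono hP.1.2
      have h5 := Ideal.height_mono h4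
      rw [h3, ← hh] at h5
      have h6 : ((e : ℕ) : ℕ∞) ≤ P.height := le_trans (by exact_mod_cast hle) h5
      exact_mod_cast h6
  rw [hrhs, Groth.Agent.H72.FlatCM.isCohenMacaulayLocalRing_iff, hb, ← hδ]
  constructor
  · intro H
    have hbδ : b = δ := by exact_mod_cast H
    omega
  · intro H
    have : b = δ := by omega
    rw [this]
    rfl

end Pointwise

section Open

variable (R S : Type u) [CommRing R] [CommRing S] [Algebra R S] [IsRegularRing R]

theorem isCM_iff' (hf : Function.Surjective (algebraMap R S)) (q : PrimeSpectrum S) :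
    LocCoh.IsCohenMacaulayLocalRing (Localization.AtPrime q.asIdeal) ↔
      ∀ P ∈ (RingHom.ker (algebraMap R S)).minimalPrimes, P ≤ q.asIdeal.under R →
        projectiveDimension (Groth.Agent.H17.PdLocus.locMod R S
          (PrimeSpectrum.comap (algebraMap R S) q)) ≤ ((P.height : ℕ∞) : WithBot ℕ∞) := by
  letI := Localization.AtPrime.algebraOfLiesOver (q.asIdeal.under R) q.asIdeal
  exact isCM_iff hf q.asIdeal

/-- The Cohen–Macaulay locus of a quotient of a regular ring is open. -/
theorem isOpen_CMLocus (hf : Function.Surjective (algebraMap R S)) :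
    IsOpen {q : PrimeSpectrum S |
      LocCoh.IsCohenMacaulayLocalRing (Localization.AtPrime q.asIdeal)} := by
  classical
  rw [isOpen_iff_forall_mem_open]
  intro q0 hq0
  set I := RingHom.ker (algebraMap R S) with hI
  have hfinI : I.minimalPrimes.Finite := Ideal.finite_minimalPrimes_of_isNoetherianRing R I
  -- the minimal primes below `q0`
  have hIQ0 : I ≤ q0.asIdeal.under R := by
    intro x hx
    rw [Ideal.under_def, Ideal.mem_comap, (RingHom.mem_ker).mp hx]
    exact zero_mem _
  obtain ⟨P1, hP1, hP1Q⟩ := Ideal.exists_minimalPrimes_le hIQ0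
  have hfin0 : {P ∈ I.minimalPrimes | P ≤ q0.asIdeal.under R}.Finite :=
    hfinI.subset (fun P hP => hP.1)
  obtain ⟨P0, hP0, hP0min⟩ := Set.exists_min_image _ (fun P : Ideal R => P.height) hfin0
    ⟨P1, hP1, hP1Q⟩
  have hP0prime : P0.IsPrime := hP0.1.1.1
  obtain ⟨n0, hn0⟩ := ENat.ne_top_iff_exists.mp (Ideal.height_ne_top_of_isPrime (I := P0))
  have hcm0 := (isCM_iff' R S hf q0).mp hq0
  have hpd0 : projectiveDimension (Groth.Agent.H17.PdLocus.locMod R S
      (PrimeSpectrum.comap (algebraMap R S) q0)) ≤ ((n0 : ℕ) : WithBot ℕ∞) := by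
    have := hcm0 P0 hP0.1 hP0.2
    rw [← hn0] at this
    exact this
  -- the two open sets
  have hU1 : IsOpen ((PrimeSpectrum.comap (algebraMap R S)) ⁻¹'
      {p : PrimeSpectrum R | projectiveDimension (Groth.Agent.H17.PdLocus.locMod R S p) ≤
        ((n0 : ℕ) : WithBot ℕ∞)}) := by
    haveI : Module.Finite R S := Module.Finite.of_surjective (Algebra.linearMap R S) hf
    exact (Groth.Agent.H17.PdLocus.isOpen_pd_le R n0 S).preimage
      (PrimeSpectrum.continuous_comap (algebraMap R S))
  have hfin2 : {P ∈ I.minimalPrimes | P.height < (n0 : ℕ∞)}.Finite :=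
    hfinI.subset (fun P hP => hP.1)
  have hU2 : IsOpen (⋂ P ∈ {P ∈ I.minimalPrimes | P.height < (n0 : ℕ∞)},
      ((PrimeSpectrum.comap (algebraMap R S)) ⁻¹' (PrimeSpectrum.zeroLocus (P : Set R)))ᶜ) := by
    refine hfin2.isOpen_biInter (fun P _ => ?_)
    exact ((PrimeSpectrum.isClosed_zeroLocus _).preimage
      (PrimeSpectrum.continuous_comap (algebraMap R S))).isOpen_compl
  refine ⟨_, ?_, hU1.inter hU2, ⟨hpd0, ?_⟩⟩
  · rintro q ⟨hq1, hq2⟩
    rw [Set.mem_ofPred_eq, isCM_iff' R S hf q]
    intro P hP hPQ
    have hq1' : projectiveDimension (Groth.Agent.H17.PdLocus.locMod R S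
        (PrimeSpectrum.comap (algebraMap R S) q)) ≤ ((n0 : ℕ) : WithBot ℕ∞) := hq1
    have hnot : ¬ P.height < (n0 : ℕ∞) := by
      intro hlt
      rw [Set.mem_iInter₂] at hq2
      have := hq2 P ⟨hP, hlt⟩
      apply this
      rw [Set.mem_preimage, PrimeSpectrum.mem_zeroLocus]
      exact hPQ
    have hle : ((n0 : ℕ) : ℕ∞) ≤ P.height := not_lt.mp hnot
    refine hq1'.trans ?_
    exact_mod_cast hle
  · rw [Set.mem_iInter₂]
    rintro P ⟨hP, hlt⟩
    rw [Set.mem_compl_iff, Set.mem_preimage, PrimeSpectrum.mem_zeroLocus]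
    intro hPQ
    have := hP0min P ⟨hP, hPQ⟩
    rw [← hn0] at this
    exact absurd hlt (not_lt.mpr this)

end Open

end Groth.Agent.H72.CMLocusReg
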