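import Mathlib
import Groth.Agent.H72.FormalEquidim4
import Groth.Agent.H72.FlatCM
import Groth.Agent.H29.CatFlat

set_option autoImplicit false
set_option linter.unusedSectionVars false
universe u
open IsLocalRing

namespace Groth.Agent.H72.EquidimAscent

variable {A B : Type u} [CommRing A] [CommRing B] [Algebra A B]
  [IsNoetherianRing A] [IsLocalRing A] [IsNoetherianRing B] [IsLocalRing B]
  [IsLocalHom (algebraMap A B)] [Module.Flat A B]

/-- `dim B/IB = dim A/I + dim B/𝔪B` for a flat local homomorphism. -/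
theorem ringKrullDim_quotient_map_eq_add (I : Ideal A) (hI : I ≠ ⊤) :
    ringKrullDim (B ⧸ I.map (algebraMap A B)) =
      ringKrullDim (A ⧸ I) + ringKrullDim (B ⧸ (maximalIdeal A).map (algebraMap A B)) := by
  have hIB : I.map (algebraMap A B) ≤ maximalIdeal B :=
    (Ideal.map_mono (IsLocalRing.le_maximalIdeal hI)).trans
      (((IsLocalRing.local_hom_TFAE (algebraMap A B)).out 0 2).mp ‹IsLocalHom (algebraMap A B)›)
  have hIBne : I.map (algebraMap A B) ≠ ⊤ := fun h =>
    (maximalIdeal.isMaximal B).ne_top (top_le_iff.mp (h ▸ hIB))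
  have hntA : Nontrivial (A ⧸ I) := Ideal.Quotient.nontrivial_iff.mpr hI
  have hntB : Nontrivial (B ⧸ I.map (algebraMap A B)) := Ideal.Quotient.nontrivial_iff.mpr hIBne
  have hlA : IsLocalRing (A ⧸ I) :=
    IsLocalRing.of_surjective' (Ideal.Quotient.mk I) Ideal.Quotient.mk_surjective
  have hlB : IsLocalRing (B ⧸ I.map (algebraMap A B)) :=
    IsLocalRing.of_surjective' (Ideal.Quotient.mk _) Ideal.Quotient.mk_surjective
  have hflat : Module.Flat (A ⧸ I) (B ⧸ I.map (algebraMap A B)) :=
    Groth.Agent.H29.CatFlat.flat_quotient I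
  have hmA : (maximalIdeal A).map (Ideal.Quotient.mk I) = maximalIdeal (A ⧸ I) :=
    Groth.Agent.H72.FlatCM.map_mk_maximalIdeal I hI
  have hmB : (maximalIdeal B).map (Ideal.Quotient.mk (I.map (algebraMap A B))) =
      maximalIdeal (B ⧸ I.map (algebraMap A B)) :=
    Groth.Agent.H72.FlatCM.map_mk_maximalIdeal _ hIBne
  have hcomm : (algebraMap (A ⧸ I) (B ⧸ I.map (algebraMap A B))).comp (Ideal.Quotient.mk I) =
      (Ideal.Quotient.mk (I.map (algebraMap A B))).comp (algebraMap A B) := by
    apply RingHom.ext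
    intro a
    rfl
  have hmm : (maximalIdeal (A ⧸ I)).map (algebraMap (A ⧸ I) (B ⧸ I.map (algebraMap A B))) =
      ((maximalIdeal A).map (algebraMap A B)).map (Ideal.Quotient.mk (I.map (algebraMap A B))) := by
    rw [← hmA, Ideal.map_map, hcomm, ← Ideal.map_map]
  have hloc : IsLocalHom (algebraMap (A ⧸ I) (B ⧸ I.map (algebraMap A B))) := by
    refine ((IsLocalRing.local_hom_TFAE _).out 2 0).mp ?_
    rw [hmm, ← hmB]
    exact Ideal.map_mono
      (((IsLocalRing.local_hom_TFAE (algebraMap A B)).out 0 2).mp ‹IsLocalHom (algebraMap A B)›)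
  have key := Groth.Agent.H72.FlatCM.ringKrullDim_eq_add_of_flat (A := A ⧸ I)
    (B := B ⧸ I.map (algebraMap A B))
  rw [key, hmm]
  congr 1
  exact Groth.Agent.H72.EquidimFlat.ringKrullDim_quotQuot _ _
    (Ideal.map_mono (IsLocalRing.le_maximalIdeal hI))

/-- Equidimensionality ascends along a flat local homomorphism whose fibres over the minimal
primes are integral. -/
theorem isEquidim_of_flat_of_isPrime_map (hA : EGA4.IsEquidim A)
    (hp : ∀ p ∈ minimalPrimes A, (p.map (algebraMap A B)).IsPrime) : EGA4.IsEquidim B := by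
  intro Q hQ
  obtain ⟨hpmin, hQmin⟩ := Groth.Agent.H72.FormalEquidim.comap_mem_minimalPrimes (A := A) Q hQ
  have hpB := hp _ hpmin
  have hpp : (Q.comap (algebraMap A B)).IsPrime := hpmin.1.1
  have hQeq : Q = (Q.comap (algebraMap A B)).map (algebraMap A B) :=
    le_antisymm (hQmin.2 ⟨hpB, le_rfl⟩ hQmin.1.2) hQmin.1.2
  have h1 := ringKrullDim_quotient_map_eq_add (A := A) (B := B) (Q.comap (algebraMap A B))
    hpp.ne_top
  have h2 := Groth.Agent.H72.FlatCM.ringKrullDim_eq_add_of_flat (A := A) (B := B)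
  have h3 := hA _ hpmin
  rw [h3] at h1
  rw [h2, ← h1]
  exact congrArg (fun J : Ideal B => ringKrullDim (B ⧸ J)) hQeq

end Groth.Agent.H72.EquidimAscent
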