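import Mathlib

set_option autoImplicit false

universe v u

namespace Groth.Agent.H72

open CategoryTheory CategoryTheory.Limits

variable {C : Type u} [Category.{v} C] [Abelian C]

/-- A projective resolution with vanishing terms above `d` forces projective dimension `≤ d`. -/
theorem hasProjectiveDimensionLT_of_resolution {M : C} (P : ProjectiveResolution M) (d : ℕ)
    (hP : ∀ i : ℕ, d ≤ i → IsZero (P.complex.X i)) : HasProjectiveDimensionLT M d := by
  let := HasExt.standard C
  rw [hasProjectiveDimensionLT_iff]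
  intro i hi Y e
  obtain ⟨f, hf, rfl⟩ := P.extMk_surjective e (i + 1) rfl
  have : f = 0 := (hP i hi).eq_of_src _ _
  subst this
  exact P.extMk_zero _ _

/-- Splicing data: a complex of projectives resolving `S.X₁`, spliced with a short exact sequence
whose middle term is projective, gives a projective resolution of `S.X₃`. -/
noncomputable def spliceAux {S : ShortComplex C} (hS : S.ShortExact) [Projective S.X₂]
    (Q : ChainComplex C ℕ) (hproj : ∀ n, Projective (Q.X n)) (p : Q.X 0 ⟶ S.X₁)
    (hp : Q.d 1 0 ≫ p = 0) (hex0 : (ShortComplex.mk _ _ hp).Exact) (hepi : Epi p)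
    (hex : ∀ n, (ShortComplex.mk _ _ (Q.d_comp_d (n + 2) (n + 1) n)).Exact) :
    ProjectiveResolution S.X₃ where
  complex := Q.augment (p ≫ S.f) (by rw [reassoc_of% hp, zero_comp])
  projective n := by
    cases n with
    | zero => exact inferInstanceAs (Projective S.X₂)
    | succ n => exact hproj n
  hasHomology := inferInstance
  π := (ChainComplex.toSingle₀Equiv _ _).symm ⟨S.g, by
    change (p ≫ S.f) ≫ S.g = 0
    rw [Category.assoc, S.zero, comp_zero]⟩
  quasiIso := ⟨fun n => by
    have := hS.mono_f
    have := hS.epi_g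
    cases n with
    | zero =>
      rw [ChainComplex.quasiIsoAt₀_iff, ShortComplex.quasiIso_iff_of_zeros']
      · dsimp
        let α : ShortComplex.mk (p ≫ S.f) S.g (by rw [Category.assoc, S.zero, comp_zero]) ⟶ S :=
          { τ₁ := p
            τ₂ := 𝟙 _
            τ₃ := 𝟙 _ }
        have hα1 : Epi α.τ₁ := hepi
        have hα2 : IsIso α.τ₂ := inferInstanceAs (IsIso (𝟙 _))
        have hα3 : Mono α.τ₃ := inferInstanceAs (Mono (𝟙 _))
        refine (ShortComplex.exact_and_epi_g_iff_of_iso ?_).2
          ⟨(ShortComplex.exact_iff_of_epi_of_isIso_of_mono α).2 hS.exact, hS.epi_g⟩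
        exact ShortComplex.isoMk (Iso.refl _) (Iso.refl _) (Iso.refl _)
          (by dsimp; erw [Category.id_comp, Category.comp_id]; rfl)
          (by dsimp; erw [Category.id_comp, Category.comp_id]
              exact (ChainComplex.toSingle₀Equiv_symm_apply_f_zero
                (C := Q.augment (p ≫ S.f) (by rw [reassoc_of% hp, zero_comp])) S.g _).symm)
      all_goals rfl
    | succ n =>
      rw [quasiIsoAt_iff_exactAt']
      · rw [HomologicalComplex.exactAt_iff' _ (n + 1 + 1) (n + 1) n (by simp) (by simp)]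
        cases n with
        | zero =>
          let α : ShortComplex.mk (Q.d 1 0) p hp ⟶
              ShortComplex.mk (Q.d 1 0) (p ≫ S.f) (by rw [reassoc_of% hp, zero_comp]) :=
            { τ₁ := 𝟙 _
              τ₂ := 𝟙 _
              τ₃ := S.f }
          have hα1 : Epi α.τ₁ := inferInstanceAs (Epi (𝟙 _))
          have hα2 : IsIso α.τ₂ := inferInstanceAs (IsIso (𝟙 _))
          have hα3 : Mono α.τ₃ := hS.mono_f
          exact (ShortComplex.exact_iff_of_epi_of_isIso_of_mono α).1 hex0
        | succ n => exact hex n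
      · apply ChainComplex.exactAt_succ_single_obj⟩

theorem spliceAux_X_succ {S : ShortComplex C} (hS : S.ShortExact) [Projective S.X₂]
    (Q : ChainComplex C ℕ) (hproj : ∀ n, Projective (Q.X n)) (p : Q.X 0 ⟶ S.X₁)
    (hp : Q.d 1 0 ≫ p = 0) (hex0 : (ShortComplex.mk _ _ hp).Exact) (hepi : Epi p)
    (hex : ∀ n, (ShortComplex.mk _ _ (Q.d_comp_d (n + 2) (n + 1) n)).Exact) (i : ℕ) :
    (spliceAux hS Q hproj p hp hex0 hepi hex).complex.X (i + 1) = Q.X i := rfl

/-- Projective dimension `< d + 1` yields a projective resolution of length `≤ d`. -/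
theorem exists_resolution_of_hasProjectiveDimensionLT [EnoughProjectives C] (d : ℕ) :
    ∀ (M : C), HasProjectiveDimensionLT M (d + 1) →
      ∃ P : ProjectiveResolution M, ∀ i : ℕ, d < i → IsZero (P.complex.X i) := by
  induction d with
  | zero =>
    intro M hM
    have : Projective M := projective_iff_hasProjectiveDimensionLT_one.2 hM
    refine ⟨ProjectiveResolution.self M, fun i hi => ?_⟩
    obtain ⟨j, rfl⟩ := Nat.exists_eq_succ_of_ne_zero (Nat.pos_iff_ne_zero.mp hi)
    apply HomologicalComplex.isZero_single_obj_X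
    simp
  | succ d ih =>
    intro M hM
    let S : ShortComplex C :=
      ShortComplex.mk (kernel.ι (Projective.π M)) (Projective.π M) (kernel.condition _)
    have hS : S.ShortExact :=
      { exact := ShortComplex.exact_of_f_is_kernel _ (kernelIsKernel S.g) }
    have hproj : Projective S.X₂ := inferInstanceAs (Projective (Projective.over M))
    have hK : HasProjectiveDimensionLT S.X₁ (d + 1) :=
      (hS.hasProjectiveDimensionLT_X₃_iff d hproj).1 hM
    obtain ⟨Q, hQ⟩ := ih S.X₁ hK
    let e := HomologicalComplex.singleObjXSelf (ComplexShape.down ℕ) 0 S.X₁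
    let p : Q.complex.X 0 ⟶ S.X₁ := Q.π.f 0 ≫ e.hom
    have hp : Q.complex.d 1 0 ≫ p = 0 := by
      rw [Q.complex_d_comp_π_f_zero_assoc, zero_comp]
    have hex0 : (ShortComplex.mk _ _ hp).Exact := by
      let α : ShortComplex.mk _ _ Q.complex_d_comp_π_f_zero ⟶ ShortComplex.mk _ _ hp :=
        { τ₁ := 𝟙 _
          τ₂ := 𝟙 _
          τ₃ := e.hom }
      have hα1 : Epi α.τ₁ := inferInstanceAs (Epi (𝟙 _))
      have hα2 : IsIso α.τ₂ := inferInstanceAs (IsIso (𝟙 _))
      have hα3 : Mono α.τ₃ := inferInstanceAs (Mono e.hom)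
      exact (ShortComplex.exact_iff_of_epi_of_isIso_of_mono α).1 Q.exact₀
    have hepi : Epi p := epi_comp _ _
    refine ⟨spliceAux hS Q.complex Q.projective p hp hex0 hepi Q.exact_succ, fun i hi => ?_⟩
    obtain ⟨j, rfl⟩ := Nat.exists_eq_succ_of_ne_zero (by omega : i ≠ 0)
    rw [Nat.succ_eq_add_one, spliceAux_X_succ]
    exact hQ j (by omega)

end Groth.Agent.H72
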