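import Mathlib
import Groth.Agent.H72.ProjDim

set_option autoImplicit false

universe v u v' u'

namespace Groth.Agent.H72

open CategoryTheory CategoryTheory.Limits

variable {C : Type u} [Category.{v} C] [Abelian C] [HasProjectiveResolutions C]
  {D : Type u'} [Category.{v'} D] [Abelian D]

/-- A left derived functor vanishes in a degree where some projective resolution vanishes. -/
theorem isZero_leftDerived_of_resolution (F : C ⥤ D) [F.Additive] {X : C}
    (P : ProjectiveResolution X) (n : ℕ) (h : IsZero (P.complex.X n)) :
    IsZero ((F.leftDerived n).obj X) := by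
  refine IsZero.of_iso ?_ (P.isoLeftDerivedObj F n)
  erw [← HomologicalComplex.exactAt_iff_isZero_homology]
  exact ShortComplex.exact_of_isZero_X₂ _ (F.map_isZero h)

/-- Left derived functors vanish above the projective dimension. -/
theorem isZero_leftDerived_of_hasProjectiveDimensionLT [EnoughProjectives C]
    (F : C ⥤ D) [F.Additive] (X : C) (q : ℕ) [HasProjectiveDimensionLT X (q + 1)]
    (i : ℕ) (hi : q < i) : IsZero ((F.leftDerived i).obj X) := by
  obtain ⟨P, hP⟩ := exists_resolution_of_hasProjectiveDimensionLT q X inferInstance
  exact isZero_leftDerived_of_resolution F P i (hP i hi)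

end Groth.Agent.H72
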