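import Mathlib
import Groth.Agent.H33.Adapted

/-!
# `ℕ`-indexed projective resolutions from `ℤ`-indexed ones (dual of `H33.ResOfInt`)
-/

set_option autoImplicit false
universe v u

open CategoryTheory CategoryTheory.Limits

namespace Groth.Agent.H72.ProjOfInt

variable {A : Type u} [Category.{v} A] [Abelian A]

/-- restriction of a `ℤ`-indexed cochain complex to nonpositive degrees, as a chain complex. -/
noncomputable abbrev res (K : CochainComplex A ℤ) : ChainComplex A ℕ :=
  K.restriction ComplexShape.embeddingDownNat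

/-- restriction of a morphism. -/
noncomputable abbrev resMap {K L : CochainComplex A ℤ} (f : K ⟶ L) : res K ⟶ res L :=
  (ComplexShape.embeddingDownNat.restrictionFunctor A).map f

lemma res_exactAt_succ (K : CochainComplex A ℤ) (k : ℕ) (h : K.ExactAt (-((k : ℤ) + 1))) :
    (res K).ExactAt (k + 1) := by
  rw [HomologicalComplex.exactAt_iff' _ (k + 1 + 1) (k + 1) k (by simp) (by simp)]
  rw [HomologicalComplex.exactAt_iff' _ (-((k : ℤ) + 1 + 1)) (-((k : ℤ) + 1)) (-(k : ℤ))
    (by simp only [ComplexShape.prev_eq' _ (show (ComplexShape.up ℤ).Rel (-((k : ℤ) + 1 + 1)) (-((k : ℤ) + 1)) by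
      simp only [ComplexShape.up_Rel]; omega)])
    (by simp only [ComplexShape.next_eq' _ (show (ComplexShape.up ℤ).Rel (-((k : ℤ) + 1)) (-(k : ℤ)) by
      simp only [ComplexShape.up_Rel]; omega)])] at h
  exact (ShortComplex.exact_iff_of_iso (HomologicalComplex.restriction.sc'Iso K
    ComplexShape.embeddingDownNat (k + 1 + 1) (k + 1) k (i' := -((k : ℤ) + 1 + 1))
    (j' := -((k : ℤ) + 1)) (k' := -(k : ℤ))
    (by simp) (by simp) (by simp)
    (by simp only [ComplexShape.prev_eq' _ (show (ComplexShape.up ℤ).Rel (-((k : ℤ) + 1 + 1)) (-((k : ℤ) + 1)) by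
      simp only [ComplexShape.up_Rel]; omega)])
    (by simp only [ComplexShape.next_eq' _ (show (ComplexShape.up ℤ).Rel (-((k : ℤ) + 1)) (-(k : ℤ)) by
      simp only [ComplexShape.up_Rel]; omega)]))).2 h

lemma quasiIsoAt_zero_iff {S T : CochainComplex A ℤ} (φ : S ⟶ T)
    (hS₁ : IsZero (S.X 1)) (hT₁ : IsZero (T.X (-1))) (hT₂ : IsZero (T.X 1)) :
    QuasiIsoAt φ 0 ↔ (ShortComplex.mk (S.d (-1) 0) (φ.f 0) (by
      rw [← φ.comm, hT₁.eq_of_src (T.d (-1) 0) 0, comp_zero])).Exact ∧ Epi (φ.f 0) := by
  rw [quasiIsoAt_iff' _ (-1) 0 1 (by simp) (by simp)]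
  exact ShortComplex.quasiIso_iff_of_zeros' _ (hS₁.eq_of_tgt _ _) (hT₁.eq_of_src _ _)
    (hT₂.eq_of_tgt _ _)

variable {X : A} (K : CochainComplex A ℤ) [K.IsStrictlyLE 0]
  (α : K ⟶ (CochainComplex.singleFunctor A 0).obj X)

/-- the augmentation `K⁰ ⟶ X`. -/
noncomputable def aug : K.X 0 ⟶ X :=
  α.f 0 ≫ (HomologicalComplex.singleObjXSelf (ComplexShape.up ℤ) 0 X).hom

omit [K.IsStrictlyLE 0] in
set_option backward.isDefEq.respectTransparency false in
lemma d_aug : K.d (-1) 0 ≫ aug K α = 0 := by
  have hz : IsZero (((CochainComplex.singleFunctor A 0).obj X).X (-1)) :=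
    HomologicalComplex.isZero_single_obj_X _ _ _ _ (by simp)
  have h1 : K.d (-1) 0 ≫ α.f 0 = 0 := by
    rw [← α.comm (-1) 0, hz.eq_of_src (((CochainComplex.singleFunctor A 0).obj X).d (-1) 0) 0,
      comp_zero]
  dsimp only [aug]
  rw [reassoc_of% h1, zero_comp]

/-- the `ℕ`-indexed augmentation map. -/
noncomputable def πNat : res K ⟶ (ChainComplex.single₀ A).obj X :=
  (ChainComplex.toSingle₀Equiv (res K) X).symm ⟨aug K α, by
    change K.d (-((1 : ℕ) : ℤ)) (-((0 : ℕ) : ℤ)) ≫ aug K α = 0
    simpa using d_aug K α⟩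

omit [K.IsStrictlyLE 0] in
@[simp] lemma πNat_f_zero : (πNat K α).f 0 = aug K α := by
  dsimp only [πNat]
  exact ChainComplex.toSingle₀Equiv_symm_apply_f_zero _ _

omit [K.IsStrictlyLE 0] in
lemma exactAt_of_ne [QuasiIso α] (m : ℤ) (hm : m ≠ 0) : K.ExactAt m :=
  (exactAt_iff_of_quasiIsoAt α m).2
    (HomologicalComplex.exactAt_single_obj _ _ _ _ hm)

set_option backward.isDefEq.respectTransparency false in
lemma quasiIso_πNat [QuasiIso α] : QuasiIso (πNat K α) := by
  rw [quasiIso_iff]
  intro n
  cases n with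
  | zero =>
    have h0 := (quasiIsoAt_zero_iff α (K.isZero_of_isStrictlyLE 0 1 (by omega))
      (HomologicalComplex.isZero_single_obj_X _ _ _ _ (by simp))
      (HomologicalComplex.isZero_single_obj_X _ _ _ _ (by simp))).1 inferInstance
    obtain ⟨hex, hepi⟩ := h0
    rw [ChainComplex.quasiIsoAt₀_iff,
      ShortComplex.quasiIso_iff_of_zeros' _ (by simp) (by simp) (by simp)]
    constructor
    · let e : ShortComplex.mk (K.d (-1) 0) (α.f 0) (by
          rw [← α.comm, (HomologicalComplex.isZero_single_obj_X (ComplexShape.up ℤ) 0 X (-1)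
            (by simp)).eq_of_src (((CochainComplex.singleFunctor A 0).obj X).d (-1) 0) 0,
            comp_zero]) ≅
          ShortComplex.mk ((res K).d 1 0) ((πNat K α).f 0) (by
            rw [πNat_f_zero]
            exact d_aug K α) :=
        ShortComplex.isoMk (Iso.refl _) (Iso.refl _)
          (HomologicalComplex.singleObjXSelf (ComplexShape.up ℤ) 0 X) (by
            dsimp
            rw [Category.comp_id, Category.id_comp]
            rfl) (by
            dsimp
            rw [πNat_f_zero, Category.id_comp]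
            rfl)
      exact (ShortComplex.exact_iff_of_iso e).1 hex
    · change Epi ((πNat K α).f 0)
      rw [πNat_f_zero]
      dsimp only [aug]
      infer_instance
  | succ k =>
    rw [quasiIsoAt_iff_exactAt' _ _ (ChainComplex.exactAt_succ_single_obj X k)]
    apply res_exactAt_succ K k
    exact exactAt_of_ne K α _ (by omega)

/-- The `ℕ`-indexed projective resolution attached to a `ℤ`-indexed one. -/
noncomputable def resolution (hK : ∀ n, Projective (K.X n)) [QuasiIso α] :
    ProjectiveResolution X where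
  complex := res K
  projective _ := hK _
  π := πNat K α
  quasiIso := quasiIso_πNat K α

end Groth.Agent.H72.ProjOfInt
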