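import Mathlib

/-!
Helper lemmas on the canonical t-structure of a derived category: maps between objects concentrated
in a single degree are detected by homology; truncations of maps inducing zero on homology.
-/

namespace Groth.Agent.H72

open CategoryTheory Limits Pretriangulated Triangulated DerivedCategory

universe w v u
variable {C : Type u} [Category.{v} C] [Abelian C] [HasDerivedCategory.{w} C]

/-- A map between objects concentrated in degree `n` is zero as soon as it is zero on `H^n`. -/
theorem eq_zero_of_homologyFunctor_map_eq_zero {A B : DerivedCategory C} (n : ℤ)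
    [A.IsGE n] [A.IsLE n] [B.IsGE n] [B.IsLE n] (g : A ⟶ B)
    (hg : (homologyFunctor C n).map g = 0) : g = 0 := by
  obtain ⟨A₀, ⟨eA⟩⟩ := exists_iso_singleFunctor_obj_of_isGE_of_isLE A n
  obtain ⟨B₀, ⟨eB⟩⟩ := exists_iso_singleFunctor_obj_of_isGE_of_isLE B n
  obtain ⟨φ, hφ⟩ := (singleFunctor C n).map_surjective (eA.inv ≫ g ≫ eB.hom)
  have h1 : (homologyFunctor C n).map ((singleFunctor C n).map φ) = 0 := by
    rw [hφ, Functor.map_comp, Functor.map_comp, hg, zero_comp, comp_zero]
  have h2 : φ = 0 := by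
    have := NatIso.naturality_1 (singleFunctorCompHomologyFunctorIso C n) φ
    simp only [Functor.comp_obj, Functor.id_obj, Functor.comp_map, Functor.id_map] at this
    rw [← this, h1, zero_comp, comp_zero]
  have h3 : eA.inv ≫ g ≫ eB.hom = 0 := by rw [← hφ, h2, Functor.map_zero]
  rw [← cancel_epi eA.inv, ← cancel_mono eB.hom]
  simpa using h3

theorem mono_homologyFunctor_map_truncLTι_app (W : DerivedCategory C) (b i : ℤ) (hi : i < b) :
    Mono ((homologyFunctor C i).map (((TStructure.t (C := C)).truncLTι b).app W)) := by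
  have hT := (TStructure.t (C := C)).triangleLTGE_distinguished b W
  have h := (homologyFunctor C 0).homologySequence_mono_shift_map_mor₁_iff _ hT (i - 1) i
    (by omega)
  refine h.mpr ?_
  apply IsZero.eq_of_src
  exact isZero_of_isGE (((TStructure.t (C := C)).truncGE b).obj W) b (i - 1) (by omega)

theorem epi_homologyFunctor_map_truncGEπ_app (W : DerivedCategory C) (a i : ℤ) (hi : a ≤ i) :
    Epi ((homologyFunctor C i).map (((TStructure.t (C := C)).truncGEπ a).app W)) := by
  have hT := (TStructure.t (C := C)).triangleLTGE_distinguished a W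
  have h := (homologyFunctor C 0).homologySequence_epi_shift_map_mor₂_iff _ hT i (i + 1) rfl
  refine h.mpr ?_
  apply IsZero.eq_of_tgt
  exact isZero_of_isLE (((TStructure.t (C := C)).truncLT a).obj W) (a - 1) (i + 1) (by omega)

/-- If `f` is zero on `H^n`, then `τ_[n,n] f = 0`. -/
theorem truncGELT_map_eq_zero {K K' : DerivedCategory C} (f : K ⟶ K') (n b : ℤ) (h : n + 1 = b)
    (hf : (homologyFunctor C n).map f = 0) :
    ((TStructure.t (C := C)).truncGELT n b).map f = 0 := by
  subst h
  have i1 : (TStructure.t (C := C)).IsLE (((TStructure.t (C := C)).truncGELT n (n + 1)).obj K) n := by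
    dsimp; infer_instance
  have i2 : (TStructure.t (C := C)).IsLE (((TStructure.t (C := C)).truncGELT n (n + 1)).obj K') n := by
    dsimp; infer_instance
  apply eq_zero_of_homologyFunctor_map_eq_zero n
  have h1 : (homologyFunctor C n).map (((TStructure.t (C := C)).truncLT (n + 1)).map f) = 0 := by
    have := mono_homologyFunctor_map_truncLTι_app K' (n + 1) n (by omega)
    rw [← cancel_mono ((homologyFunctor C n).map
      (((TStructure.t (C := C)).truncLTι (n + 1)).app K')), zero_comp, ← Functor.map_comp]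
    have nat := ((TStructure.t (C := C)).truncLTι (n + 1)).naturality f
    rw [nat, Functor.map_comp]
    simp [hf]
  have := epi_homologyFunctor_map_truncGEπ_app
    (((TStructure.t (C := C)).truncLT (n + 1)).obj K) n n le_rfl
  rw [← cancel_epi ((homologyFunctor C n).map (((TStructure.t (C := C)).truncGEπ n).app
    (((TStructure.t (C := C)).truncLT (n + 1)).obj K))), comp_zero, ← Functor.map_comp]
  have nat := ((TStructure.t (C := C)).truncGEπ n).naturality
    (((TStructure.t (C := C)).truncLT (n + 1)).map f)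
  simp only [Functor.id_obj, Functor.id_map] at nat
  rw [Functor.comp_map, ← nat, Functor.map_comp, h1, zero_comp]

/-- A morphism of distinguished triangles vanishing on the outer terms factors uniquely through
`T.obj₃ ⟶ T'.obj₁`, under suitable injectivity conditions. -/
theorem existsUnique_of_triangle_map {D : Type*} [Category D] [Preadditive D] [HasZeroObject D]
    [HasShift D ℤ] [∀ n : ℤ, (shiftFunctor D n).Additive] [Pretriangulated D]
    (T T' : Triangle D) (hT : T ∈ distTriang D) (hT' : T' ∈ distTriang D) (φ : T ⟶ T')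
    (h₁ : φ.hom₁ = 0) (h₃ : φ.hom₃ = 0)
    (inj₁ : ∀ g : T.obj₁ ⟶ T'.obj₁, g ≫ T'.mor₁ = 0 → g = 0)
    (inj₂ : ∀ g : T.obj₂ ⟶ T'.obj₁, g ≫ T'.mor₁ = 0 → g = 0)
    (inj₃ : ∀ g : T.obj₃ ⟶ T'.obj₁, T.mor₂ ≫ g = 0 → g = 0) :
    ∃! L : T.obj₃ ⟶ T'.obj₁, φ.hom₂ = T.mor₂ ≫ L ≫ T'.mor₁ := by
  have e1 : φ.hom₂ ≫ T'.mor₂ = 0 := by rw [← φ.comm₂, h₃, comp_zero]
  obtain ⟨G, hG⟩ := Triangle.coyoneda_exact₂ T' hT' φ.hom₂ e1
  have e2 : T.mor₁ ≫ G = 0 := by
    apply inj₁
    rw [Category.assoc, ← hG, φ.comm₁, h₁, zero_comp]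
  obtain ⟨L, hL⟩ := Triangle.yoneda_exact₂ T hT G e2
  refine ⟨L, by rw [hG, hL, Category.assoc], ?_⟩
  intro L' hL'
  have h4 : (T.mor₂ ≫ (L' - L)) ≫ T'.mor₁ = 0 := by
    rw [Category.assoc, Preadditive.sub_comp, Preadditive.comp_sub, ← hL', hG, hL,
      Category.assoc, sub_self]
  have h5 : T.mor₂ ≫ (L' - L) = 0 := inj₂ _ h4
  exact sub_eq_zero.mp (inj₃ _ h5)

end Groth.Agent.H72
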