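import Mathlib

/-!
# Linearity of the classical left derived functors
-/

set_option autoImplicit false
universe v v' u u'

open CategoryTheory CategoryTheory.Limits

namespace Groth.Agent.H72.LDLinear

variable {R : Type*} [Semiring R]
variable {C : Type u} [Category.{v} C] [Abelian C] [Linear R C] [HasProjectiveResolutions C]
variable {D : Type u'} [Category.{v'} D] [Abelian D] [Linear R D]
variable (F : C ⥤ D) [F.Additive] [F.Linear R]

lemma homologyMap_smul {ι : Type*} {c : ComplexShape ι} {K L : HomologicalComplex D c}
    (r : R) (ψ : K ⟶ L) (n : ι) :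
    HomologicalComplex.homologyMap (r • ψ) n = r • HomologicalComplex.homologyMap ψ n := by
  have h : (HomologicalComplex.shortComplexFunctor D c n).map (r • ψ) =
      r • (HomologicalComplex.shortComplexFunctor D c n).map ψ := by
    ext <;> rfl
  change ShortComplex.homologyMap ((HomologicalComplex.shortComplexFunctor D c n).map (r • ψ)) = _
  rw [h, ShortComplex.homologyMap_smul]
  rfl

lemma homologyFunctor_map_smul {ι : Type*} {c : ComplexShape ι} {K L : HomologicalComplex D c}
    (r : R) (ψ : K ⟶ L) (n : ι) :
    (HomologicalComplex.homologyFunctor D c n).map (r • ψ) =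
      r • (HomologicalComplex.homologyFunctor D c n).map ψ :=
  homologyMap_smul r ψ n

omit [HasProjectiveResolutions C] in
lemma single₀_map_smul {X Y : C} (r : R) (f : X ⟶ Y) :
    (ChainComplex.single₀ C).map (r • f) = r • (ChainComplex.single₀ C).map f := by
  apply HomologicalComplex.to_single_hom_ext
  rw [HomologicalComplex.smul_f_apply]
  erw [ChainComplex.single₀_map_f_zero, ChainComplex.single₀_map_f_zero]
  rfl

theorem leftDerived_map_smul (n : ℕ) {X Y : C} (r : R) (f : X ⟶ Y) :
    (F.leftDerived n).map (r • f) = r • (F.leftDerived n).map f := by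
  let P := projectiveResolution X
  let Q := projectiveResolution Y
  have hφ := ProjectiveResolution.lift_commutes f P Q
  have hs : (r • ProjectiveResolution.lift f P Q) ≫ Q.π =
      P.π ≫ (ChainComplex.single₀ C).map (r • f) := by
    rw [Linear.smul_comp, hφ, single₀_map_smul, Linear.comp_smul]
  rw [F.leftDerived_map_eq n (r • f) _ hs, F.leftDerived_map_eq n f _ hφ]
  dsimp only [Functor.comp_map]
  rw [Functor.map_smul]
  rw [homologyFunctor_map_smul, Linear.smul_comp, Linear.comp_smul]

theorem leftDerived_map_smul_id (n : ℕ) (X : C) (r : R) :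
    (F.leftDerived n).map (r • 𝟙 X) = r • 𝟙 _ := by
  rw [leftDerived_map_smul, CategoryTheory.Functor.map_id]

end Groth.Agent.H72.LDLinear
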