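import Mathlib
import Groth.Prelude.Def_CAlg
import Groth.Prelude.Def_EGA4b
import Groth.Agent.S0392
import Groth.Agent.H72.Miracle
import Groth.Agent.H44.AdicLemmas
import Groth.Agent.H54.Dim
import Groth.Agent.H26.CMFibreComp
import Groth.Agent.H96.CohenFinite

set_option autoImplicit false
set_option linter.style.haveILetI false
set_option linter.unusedSectionVars false
universe u

open IsLocalRing TensorProduct

namespace Groth.Agent.H72.CMFibA

section A

variable (A C T : Type u) [CommRing A] [CommRing C] [CommRing T]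
  [IsNoetherianRing A] [IsNoetherianRing C] [IsNoetherianRing T]
  [IsLocalRing A] [IsLocalRing C] [IsLocalRing T]
  [Algebra A C] [Algebra C T] [Algebra A T] [IsScalarTower A C T]
  [IsLocalHom (algebraMap A C)] [IsLocalHom (algebraMap C T)] [IsLocalHom (algebraMap A T)]

/-- `T` is finite over the complete local ring `C` as soon as `𝔪_C T` is primary to the maximal
ideal and the residue field extension of `T` over `A` is finite. -/
theorem finite_of_primary [Module.Finite (ResidueField A) (ResidueField T)]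
    [IsAdicComplete (maximalIdeal C) C]
    (N : ℕ) (hN : maximalIdeal T ^ N ≤ (maximalIdeal C).map (algebraMap C T)) :
    Module.Finite C T := by
  set J : Ideal T := (maximalIdeal C).map (algebraMap C T) with hJ
  have hJm : J ≤ maximalIdeal T :=
    ((local_hom_TFAE (algebraMap C T)).out 0 2 rfl rfl).mp inferInstance
  have hart : IsArtinianRing (T ⧸ J) := Groth.Agent.H96.CohenFinite.isArtinianRing_quotient J hN
  have h1 : Module.length T (T ⧸ J) ≠ ⊤ := by
    rw [Module.length_eq_of_surjective (S := T) (R := T ⧸ J) (M := T ⧸ J)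
      Ideal.Quotient.mk_surjective]
    exact Module.length_ne_top
  have h2 : Module.length (ResidueField A) (ResidueField T) ≠ ⊤ := Module.length_ne_top
  have h3 := IsLocalRing.length_restrictScalars (A := A) (B := T) (M := T ⧸ J)
  have h4 : Module.length A (T ⧸ J) ≠ ⊤ := by
    rw [h3]
    exact WithTop.mul_ne_top h1 h2
  rw [Module.length_ne_top_iff, isFiniteLength_iff_isNoetherian_isArtinian] at h4
  have hfinA : Module.Finite A (T ⧸ J) := by
    have := h4.1
    infer_instance
  have hfinC : Module.Finite C (T ⧸ J) := Module.Finite.of_restrictScalars_finite A C (T ⧸ J)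
  have hsmul : ∀ j : ℕ, ((maximalIdeal C) ^ j • ⊤ : Submodule C T) =
      (J ^ j).restrictScalars C := fun j => by
    rw [Ideal.smul_top_eq_map, Ideal.map_pow]
  have hH : IsHausdorff (maximalIdeal C) T := by
    refine ⟨fun x hx => ?_⟩
    apply IsHausdorff.haus (I := maximalIdeal T) inferInstance
    intro j
    have := hx j
    rw [SModEq.zero, hsmul j] at this
    rw [SModEq.zero, smul_eq_mul, Ideal.mul_top]
    exact Ideal.pow_right_mono hJm j this
  have hfinq : Module.Finite C (T ⧸ (maximalIdeal C • ⊤ : Submodule C T)) := by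
    have h1 : (maximalIdeal C • ⊤ : Submodule C T) = J.restrictScalars C := by
      have := hsmul 1
      rwa [pow_one, pow_one] at this
    have : Module.Finite C (T ⧸ J.restrictScalars C) :=
      Module.Finite.equiv (Submodule.Quotient.restrictScalarsEquiv C J).symm
    exact Module.Finite.equiv (Submodule.quotEquivOfEq _ _ h1.symm)
  exact Groth.Agent.H44.finite_of_finite_quotient (maximalIdeal C) T hfinq

end A

section B0

variable (C T : Type u) [CommRing C] [CommRing T]
  [IsNoetherianRing C] [IsNoetherianRing T]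
  [IsLocalRing C] [IsLocalRing T]
  [Algebra C T] [IsLocalHom (algebraMap C T)]

/-- Flatness of the reduction modulo `I`. -/
theorem flat_quotient_of_CM [Module.Finite C T] (I : Ideal C) (hIm : I ≤ maximalIdeal C)
    (n : ℕ) (c : Fin n → C)
    (hc : maximalIdeal C = I ⊔ Ideal.span (Set.range c))
    (hCM : LocCoh.IsCohenMacaulayLocalRing (T ⧸ I.map (algebraMap C T)))
    (hdim : ringKrullDim (T ⧸ I.map (algebraMap C T)) = n)
    (N : ℕ) (hN : maximalIdeal T ^ N ≤ (maximalIdeal C).map (algebraMap C T)) :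
    Module.Flat (C ⧸ I) ((C ⧸ I) ⊗[C] T) := by
  have hJm : (maximalIdeal C).map (algebraMap C T) ≤ maximalIdeal T :=
    ((local_hom_TFAE (algebraMap C T)).out 0 2 rfl rfl).mp inferInstance
  have hITm : I.map (algebraMap C T) ≤ maximalIdeal T := (Ideal.map_mono hIm).trans hJm
  have hIne : I ≠ ⊤ := fun h => (maximalIdeal.isMaximal C).ne_top (top_le_iff.mp (h ▸ hIm))
  have hITne : I.map (algebraMap C T) ≠ ⊤ := fun h =>
    (maximalIdeal.isMaximal T).ne_top (top_le_iff.mp (h ▸ hITm))
  have hntC : Nontrivial (C ⧸ I) := Ideal.Quotient.nontrivial_iff.mpr hIne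
  have hntT : Nontrivial (T ⧸ I.map (algebraMap C T)) := Ideal.Quotient.nontrivial_iff.mpr hITne
  have hlocC : IsLocalRing (C ⧸ I) :=
    IsLocalRing.of_surjective' (Ideal.Quotient.mk _) Ideal.Quotient.mk_surjective
  have hlocT : IsLocalRing (T ⧸ I.map (algebraMap C T)) :=
    IsLocalRing.of_surjective' (Ideal.Quotient.mk _) Ideal.Quotient.mk_surjective
  have hmC : maximalIdeal (C ⧸ I) = (maximalIdeal C).map (Ideal.Quotient.mk I) :=
    (Groth.Agent.H72.FlatCM.map_mk_maximalIdeal I hIne).symm
  have hmT : maximalIdeal (T ⧸ I.map (algebraMap C T)) =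
      (maximalIdeal T).map (Ideal.Quotient.mk (I.map (algebraMap C T))) :=
    (Groth.Agent.H72.FlatCM.map_mk_maximalIdeal (I.map (algebraMap C T)) hITne).symm
  -- the maximal ideal of `C ⧸ I` is generated by the images of the `c i`
  have hmC' : maximalIdeal (C ⧸ I) =
      Ideal.span (Set.range (fun i => Ideal.Quotient.mk I (c i))) := by
    rw [hmC, hc, Ideal.map_sup, Ideal.map_span, ← Set.range_comp]
    have : I.map (Ideal.Quotient.mk I) = ⊥ := Ideal.map_quotient_self I
    rw [this, bot_sup_eq]
    rfl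
  -- the map on quotients is local
  have hmapm : (maximalIdeal (C ⧸ I)).map (algebraMap (C ⧸ I) (T ⧸ I.map (algebraMap C T))) =
      ((maximalIdeal C).map (algebraMap C T)).map (Ideal.Quotient.mk (I.map (algebraMap C T))) := by
    calc (maximalIdeal (C ⧸ I)).map (algebraMap (C ⧸ I) (T ⧸ I.map (algebraMap C T)))
        = ((maximalIdeal C).map (Ideal.Quotient.mk I)).map
            (algebraMap (C ⧸ I) (T ⧸ I.map (algebraMap C T))) := by rw [hmC]
      _ = (maximalIdeal C).map ((algebraMap (C ⧸ I) (T ⧸ I.map (algebraMap C T))).comp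
            (Ideal.Quotient.mk I)) := Ideal.map_map _ _
      _ = (maximalIdeal C).map ((Ideal.Quotient.mk (I.map (algebraMap C T))).comp
            (algebraMap C T)) := rfl
      _ = _ := (Ideal.map_map _ _).symm
  have hlochom : IsLocalHom (algebraMap (C ⧸ I) (T ⧸ I.map (algebraMap C T))) := by
    refine ((local_hom_TFAE (algebraMap (C ⧸ I) (T ⧸ I.map (algebraMap C T)))).out 0 2
      rfl rfl).mpr ?_
    rw [hmapm, hmT]
    exact Ideal.map_mono hJm
  have hfin0 : Module.Finite (C ⧸ I) (T ⧸ I.map (algebraMap C T)) := by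
    have : Module.Finite C (T ⧸ I.map (algebraMap C T)) := inferInstance
    exact Module.Finite.of_restrictScalars_finite C (C ⧸ I) (T ⧸ I.map (algebraMap C T))
  -- dimensions
  have hd1 : ringKrullDim (T ⧸ I.map (algebraMap C T)) ≤ ringKrullDim (C ⧸ I) := by
    have : Algebra.IsIntegral (C ⧸ I) (T ⧸ I.map (algebraMap C T)) := inferInstance
    exact Groth.Agent.H54.ringKrullDim_le_of_isIntegral
  have hd2 : (((maximalIdeal (C ⧸ I)).spanFinrank : ℕ) : WithBot ℕ∞) ≤ n := by
    rw [hmC']
    have h1 := Submodule.spanFinrank_span_le_ncard_of_finite (R := C ⧸ I)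
      (Set.finite_range (fun i => Ideal.Quotient.mk I (c i)))
    have h2 : (Set.range (fun i => Ideal.Quotient.mk I (c i))).ncard ≤ n := by
      have := Set.ncard_image_le (f := fun i => Ideal.Quotient.mk I (c i))
        (Set.finite_univ (α := Fin n))
      rw [Set.image_univ, Set.ncard_univ, Nat.card_fin] at this
      exact this
    exact_mod_cast h1.trans h2
  have hd3 : ringKrullDim (C ⧸ I) = n := by
    apply le_antisymm
    · exact (ringKrullDim_le_spanFinrank_maximalIdeal (C ⧸ I)).trans hd2
    · rw [← hdim]; exact hd1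
  have hreg : IsRegularLocalRing (C ⧸ I) := by
    apply IsRegularLocalRing.of_spanFinrank_maximalIdeal_le
    rw [hd3]
    exact hd2
  -- the closed fibre of `C ⧸ I → T ⧸ IT` is Artinian
  have hKN : maximalIdeal (T ⧸ I.map (algebraMap C T)) ^ N ≤
      (maximalIdeal (C ⧸ I)).map (algebraMap (C ⧸ I) (T ⧸ I.map (algebraMap C T))) := by
    rw [hmapm, hmT, ← Ideal.map_pow]
    exact Ideal.map_mono hN
  have hKm : (maximalIdeal (C ⧸ I)).map (algebraMap (C ⧸ I) (T ⧸ I.map (algebraMap C T))) ≤
      maximalIdeal (T ⧸ I.map (algebraMap C T)) :=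
    ((local_hom_TFAE (algebraMap (C ⧸ I) (T ⧸ I.map (algebraMap C T)))).out 0 2 rfl rfl).mp hlochom
  have hKne : (maximalIdeal (C ⧸ I)).map (algebraMap (C ⧸ I) (T ⧸ I.map (algebraMap C T))) ≠ ⊤ :=
    fun h => (maximalIdeal.isMaximal (T ⧸ I.map (algebraMap C T))).ne_top
      (top_le_iff.mp (h ▸ hKm))
  have hartK := Groth.Agent.H96.CohenFinite.isArtinianRing_quotient _ hKN
  have hntK := Ideal.Quotient.nontrivial_iff.mpr hKne
  have hdK : ringKrullDim ((T ⧸ I.map (algebraMap C T)) ⧸
      (maximalIdeal (C ⧸ I)).map (algebraMap (C ⧸ I) (T ⧸ I.map (algebraMap C T)))) = 0 := by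
    have : Ring.KrullDimLE 0 ((T ⧸ I.map (algebraMap C T)) ⧸
      (maximalIdeal (C ⧸ I)).map (algebraMap (C ⧸ I) (T ⧸ I.map (algebraMap C T)))) :=
      inferInstance
    exact ringKrullDimZero_iff_ringKrullDim_eq_zero.mp this
  have hflat0 : Module.Flat (C ⧸ I) (T ⧸ I.map (algebraMap C T)) := by
    apply Groth.Agent.H72.Miracle.flat_of_isCohenMacaulay (C ⧸ I) (T ⧸ I.map (algebraMap C T))
      (T ⧸ I.map (algebraMap C T)) hCM.supportDim_eq_depth
    rw [Module.supportDim_self_eq_ringKrullDim, hdim, hd3]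
    have : ((maximalIdeal (C ⧸ I)).map (algebraMap (C ⧸ I) (T ⧸ I.map (algebraMap C T))) •
        (⊤ : Submodule (T ⧸ I.map (algebraMap C T)) (T ⧸ I.map (algebraMap C T)))) =
        (maximalIdeal (C ⧸ I)).map (algebraMap (C ⧸ I) (T ⧸ I.map (algebraMap C T))) := by
      rw [smul_eq_mul, Ideal.mul_top]
    rw [this, Module.supportDim_quotient_eq_ringKrullDim, hdK, add_zero]
  -- transport to the tensor product
  let e1 : (T ⧸ I.map (algebraMap C T)) ≃ₗ[C] (C ⧸ I) ⊗[C] T :=
    ((Algebra.TensorProduct.quotIdealMapEquivTensorQuot T I).toLinearEquiv.restrictScalars C).trans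
      (TensorProduct.comm C T (C ⧸ I))
  let e2 : (T ⧸ I.map (algebraMap C T)) ≃ₗ[C ⧸ I] (C ⧸ I) ⊗[C] T :=
    LinearEquiv.extendScalarsOfSurjective Ideal.Quotient.mk_surjective e1
  exact Module.Flat.of_linearEquiv e2.symm

end B0

section B

variable (A C T : Type u) [CommRing A] [CommRing C] [CommRing T]
  [IsNoetherianRing A] [IsNoetherianRing C] [IsNoetherianRing T]
  [IsLocalRing A] [IsLocalRing C] [IsLocalRing T]
  [Algebra A C] [Algebra C T] [Algebra A T] [IsScalarTower A C T]
  [IsLocalHom (algebraMap A C)] [IsLocalHom (algebraMap C T)]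

/-- Flatness of `T` over `C` from Cohen–Macaulayness of the closed fibre of `A → T`. -/
theorem flat_of_CM_closed_fibre [Module.Flat A T] [Module.Finite C T]
    (n : ℕ) (c : Fin n → C)
    (hc : maximalIdeal C = (maximalIdeal A).map (algebraMap A C) ⊔ Ideal.span (Set.range c))
    (hCM : LocCoh.IsCohenMacaulayLocalRing
      (T ⧸ ((maximalIdeal A).map (algebraMap A C)).map (algebraMap C T)))
    (hdim : ringKrullDim (T ⧸ ((maximalIdeal A).map (algebraMap A C)).map (algebraMap C T)) = n)
    (N : ℕ) (hN : maximalIdeal T ^ N ≤ (maximalIdeal C).map (algebraMap C T)) :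
    Module.Flat A C ∧ Module.Flat C T := by
  have hIm : (maximalIdeal A).map (algebraMap A C) ≤ maximalIdeal C :=
    ((local_hom_TFAE (algebraMap A C)).out 0 2 rfl rfl).mp inferInstance
  have h := flat_quotient_of_CM C T ((maximalIdeal A).map (algebraMap A C)) hIm n c hc hCM hdim
    N hN
  exact Groth.Agent.S0392.result (R := A) (S := C) (S' := T) (M := T) h

/-- The fibres of `A → T` are Cohen–Macaulay when those of `A → C` are and `T` is finite flat
over `C`. -/
theorem fibres_CM_of_finite_flat [Module.Flat A C] [Module.Flat C T] [Module.Finite C T]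
    (hAC : ∀ (p : Ideal A) [p.IsPrime], LocCoh.IsCohenMacaulayRing (p.Fiber C))
    (p : Ideal A) [p.IsPrime] : LocCoh.IsCohenMacaulayRing (p.Fiber T) := by
  refine Groth.Agent.H26.CMFibreComp.fibres_comp A C T hAC (fun q hq => ?_) p
  have : Module.Finite q.ResidueField (q.Fiber T) := inferInstance
  have : IsArtinianRing (q.Fiber T) := IsArtinianRing.of_finite q.ResidueField _
  exact Groth.Agent.H26.CMFibreComp.isCohenMacaulayRing_of_isArtinianRing _

end B

end Groth.Agent.H72.CMFibA
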