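import Mathlib
import Groth.Prelude.Def_CAlg
import Groth.Prelude.Def_EGA4b
import Groth.Agent.H72.CMFibA
import Groth.Agent.H72.CMFormalFibres
import Groth.Agent.S2092

set_option autoImplicit false
set_option linter.style.haveILetI false
set_option linter.unusedSectionVars false
universe u

open IsLocalRing TensorProduct

namespace Groth.Agent.H72.CMFibB

section Pl

variable (A B : Type u) [CommRing A] [CommRing B] [IsLocalRing A] [IsLocalRing B] [Algebra A B]
  [IsLocalHom (algebraMap A B)] {n : ℕ} (y : Fin n → B)

/-- The prime of the polynomial ring lying under the maximal ideal of `B`. -/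
noncomputable def nn : Ideal (MvPolynomial (Fin n) A) :=
  (maximalIdeal B).comap (MvPolynomial.aeval y : MvPolynomial (Fin n) A →ₐ[A] B)

instance : (nn A B y).IsPrime := by
  unfold nn
  infer_instance

/-- The localization of the polynomial ring at that prime. -/
abbrev Pl : Type u := Localization.AtPrime (nn A B y)

theorem isUnit_aeval (s : (nn A B y).primeCompl) :
    IsUnit ((MvPolynomial.aeval y : MvPolynomial (Fin n) A →ₐ[A] B).toRingHom s) := by
  have h : (s : MvPolynomial (Fin n) A) ∉ nn A B y := s.2
  by_contra hu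
  exact h ((mem_maximalIdeal _).mpr hu)

/-- The canonical map `Pl → B`. -/
noncomputable def psi : Pl A B y →+* B :=
  IsLocalization.lift (M := (nn A B y).primeCompl) (isUnit_aeval A B y)

theorem psi_algebraMap (f : MvPolynomial (Fin n) A) :
    psi A B y (algebraMap _ (Pl A B y) f) = MvPolynomial.aeval y f :=
  IsLocalization.lift_eq _ f

/-- The algebra structure (not a global instance). -/
@[reducible] noncomputable def algPlB : Algebra (Pl A B y) B := (psi A B y).toAlgebra

attribute [local instance] algPlB

theorem isScalarTower_A_Pl_B : IsScalarTower A (Pl A B y) B := by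
  refine IsScalarTower.of_algebraMap_eq (fun a => ?_)
  rw [IsScalarTower.algebraMap_apply A (MvPolynomial (Fin n) A) (Pl A B y)]
  change _ = psi A B y _
  rw [psi_algebraMap, MvPolynomial.algebraMap_eq, MvPolynomial.aeval_C]

theorem map_maximalIdeal_Pl_le :
    (maximalIdeal (Pl A B y)).map (algebraMap (Pl A B y) B) ≤ maximalIdeal B := by
  rw [← Localization.AtPrime.map_eq_maximalIdeal, Ideal.map_map, Ideal.map_le_iff_le_comap]
  intro f hf
  rw [Ideal.mem_comap, RingHom.comp_apply]
  change psi A B y _ ∈ _
  rw [psi_algebraMap]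
  exact hf

theorem isLocalHom_Pl_B : IsLocalHom (algebraMap (Pl A B y) B) :=
  ((local_hom_TFAE (algebraMap (Pl A B y) B)).out 0 2 rfl rfl).mpr (map_maximalIdeal_Pl_le A B y)

theorem nn_eq (hy : ∀ i, y i ∈ maximalIdeal B) :
    nn A B y = (maximalIdeal A).map (MvPolynomial.C : A →+* MvPolynomial (Fin n) A) ⊔
      Ideal.span (Set.range (MvPolynomial.X : Fin n → MvPolynomial (Fin n) A)) := by
  have hX : Ideal.span (Set.range (MvPolynomial.X : Fin n → MvPolynomial (Fin n) A)) ≤
      nn A B y := by
    rw [Ideal.span_le]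
    rintro _ ⟨i, rfl⟩
    change MvPolynomial.aeval y (MvPolynomial.X i) ∈ maximalIdeal B
    rw [MvPolynomial.aeval_X]
    exact hy i
  apply le_antisymm
  · intro f hf
    have h1 : f - MvPolynomial.C (MvPolynomial.constantCoeff f) ∈
        Ideal.span (Set.range (MvPolynomial.X : Fin n → MvPolynomial (Fin n) A)) := by
      have := (MvPolynomial.mem_pow_idealOfVars_iff' (σ := Fin n) (R := A) 1
        (f - MvPolynomial.C (MvPolynomial.constantCoeff f))).mpr (by
          intro x hx
          have hx0 : x = 0 := by
            have : x.degree = 0 := by omega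
            exact (Finsupp.degree_eq_zero_iff x).mp this
          subst hx0
          simp [MvPolynomial.constantCoeff_eq])
      rwa [pow_one] at this
    have h2 : MvPolynomial.C (MvPolynomial.constantCoeff f) ∈ nn A B y := by
      have := (nn A B y).sub_mem hf (hX h1)
      rwa [sub_sub_cancel] at this
    have h3 : MvPolynomial.constantCoeff f ∈ maximalIdeal A := by
      by_contra hnot
      have hu : IsUnit (MvPolynomial.constantCoeff f) := by
        by_contra h
        exact hnot ((mem_maximalIdeal _).mpr h)
      have h4 : MvPolynomial.aeval y (MvPolynomial.C (MvPolynomial.constantCoeff f)) ∈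
          maximalIdeal B := h2
      rw [MvPolynomial.aeval_C] at h4
      exact (mem_maximalIdeal _).mp h4 (hu.map (algebraMap A B))
    have h5 : f = MvPolynomial.C (MvPolynomial.constantCoeff f) +
        (f - MvPolynomial.C (MvPolynomial.constantCoeff f)) := by ring
    rw [h5]
    exact Ideal.add_mem _ (Ideal.mem_sup_left (Ideal.mem_map_of_mem _ h3))
      (Ideal.mem_sup_right h1)
  · refine sup_le ?_ hX
    rw [Ideal.map_le_iff_le_comap]
    intro a ha
    change MvPolynomial.aeval y (MvPolynomial.C a) ∈ maximalIdeal B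
    rw [MvPolynomial.aeval_C]
    exact ((local_hom_TFAE (algebraMap A B)).out 0 2 rfl rfl).mp inferInstance
      (Ideal.mem_map_of_mem _ ha)

theorem maximalIdeal_Pl_eq (hy : ∀ i, y i ∈ maximalIdeal B) :
    maximalIdeal (Pl A B y) = (maximalIdeal A).map (algebraMap A (Pl A B y)) ⊔
      Ideal.span (Set.range (fun i => algebraMap (MvPolynomial (Fin n) A) (Pl A B y)
        (MvPolynomial.X i))) := by
  rw [← Localization.AtPrime.map_eq_maximalIdeal]
  have h := congrArg (Ideal.map (algebraMap (MvPolynomial (Fin n) A) (Pl A B y))) (nn_eq A B y hy)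
  rw [Ideal.map_sup, Ideal.map_map, Ideal.map_span, ← Set.range_comp] at h
  exact h

instance [IsNoetherianRing A] : IsNoetherianRing (Pl A B y) :=
  IsLocalization.isNoetherianRing (nn A B y).primeCompl _ inferInstance

instance : Module.Flat A (Pl A B y) :=
  Module.Flat.trans A (MvPolynomial (Fin n) A) (Pl A B y)

instance : Algebra.EssFiniteType A (Pl A B y) :=
  Algebra.EssFiniteType.comp A (MvPolynomial (Fin n) A) (Pl A B y)

theorem fibres_Pl [IsNoetherianRing A] (p : Ideal A) [p.IsPrime] :
    LocCoh.IsCohenMacaulayRing (p.Fiber (Pl A B y)) := by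
  refine Groth.Agent.H26.CMFibreComp.fibres_comp A (MvPolynomial (Fin n) A) (Pl A B y)
    (fun p' hp' => ?_) (fun q hq => ?_) p
  · have h1 : LocCoh.IsCohenMacaulayRing p'.ResidueField :=
      Groth.Agent.H26.CMFibreComp.isCohenMacaulayRing_of_isArtinianRing _
    have h2 : LocCoh.IsCohenMacaulayRing (MvPolynomial (Fin n) p'.ResidueField) :=
      Groth.Agent.S2092.result n
    let e : p'.ResidueField ⊗[A] MvPolynomial (Fin n) A ≃ₐ[p'.ResidueField]
        MvPolynomial (Fin n) p'.ResidueField := MvPolynomial.algebraTensorAlgEquiv A p'.ResidueField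
    exact Groth.Agent.H26.FormalFibreQuot.isCohenMacaulayRing_of_ringEquiv e.symm.toRingEquiv h2
  · exact Groth.Agent.H72.CMFormalFibres.isCohenMacaulayRing_fiber_of_isLocalization
      (nn A B y).primeCompl q

theorem pow_le_map_maximalIdeal_Pl (hy : ∀ i, y i ∈ maximalIdeal B) (N : ℕ)
    (hN : maximalIdeal B ^ N ≤ (maximalIdeal A).map (algebraMap A B) ⊔
      Ideal.span (Set.range y)) :
    maximalIdeal B ^ N ≤ (maximalIdeal (Pl A B y)).map (algebraMap (Pl A B y) B) := by
  have := isScalarTower_A_Pl_B A B y
  refine hN.trans (sup_le ?_ ?_)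
  · rw [IsScalarTower.algebraMap_eq A (Pl A B y) B, ← Ideal.map_map]
    apply Ideal.map_mono
    rw [maximalIdeal_Pl_eq A B y hy]
    exact le_sup_left
  · rw [Ideal.span_le]
    rintro _ ⟨i, rfl⟩
    have h1 : algebraMap (MvPolynomial (Fin n) A) (Pl A B y) (MvPolynomial.X i) ∈
        maximalIdeal (Pl A B y) := by
      rw [maximalIdeal_Pl_eq A B y hy]
      exact Ideal.mem_sup_right (Ideal.subset_span ⟨i, rfl⟩)
    have h2 := Ideal.mem_map_of_mem (algebraMap (Pl A B y) B) h1
    have h3 : algebraMap (Pl A B y) B (algebraMap (MvPolynomial (Fin n) A) (Pl A B y)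
        (MvPolynomial.X i)) = y i := by
      change psi A B y _ = _
      rw [psi_algebraMap, MvPolynomial.aeval_X]
    rwa [h3] at h2

end Pl

end Groth.Agent.H72.CMFibB
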