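import Mathlib
import Groth.Prelude.Def_CAlg
import Groth.Prelude.Def_EGA4b
import Groth.Agent.H72.CMFibA
import Groth.Agent.H72.CMFibB
import Groth.Agent.H72.CMFormalFibres
import Groth.Agent.H26.ComplFlatMap
import Groth.Agent.H87.ComplUnram
import Groth.Agent.S0547

set_option autoImplicit false
set_option linter.style.haveILetI false
set_option linter.unusedSectionVars false
universe u

open IsLocalRing TensorProduct

namespace Groth.Agent.H72.CMFibC

open Groth.Agent.H72.CMFibB

section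

variable (A B : Type u) [CommRing A] [CommRing B] [IsLocalRing A] [IsLocalRing B] [Algebra A B]
  [IsNoetherianRing A] [IsNoetherianRing B]
  [IsLocalHom (algebraMap A B)] {n : ℕ} (y : Fin n → B)

attribute [local instance] algPlB isLocalHom_Pl_B isScalarTower_A_Pl_B

/-- The algebra structure of the completion of `B` over the completion of `Pl`. -/
@[reducible] noncomputable def algCT : Algebra (EGA4.Cpl (Pl A B y)) (EGA4.Cpl B) :=
  Groth.Agent.H26.ComplFlatMap.complAlgebra (Pl A B y) B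

attribute [local instance] algCT

theorem algebraMap_CT_apply (x : Pl A B y) :
    algebraMap (EGA4.Cpl (Pl A B y)) (EGA4.Cpl B) (algebraMap (Pl A B y) (EGA4.Cpl (Pl A B y)) x) =
      algebraMap B (EGA4.Cpl B) (algebraMap (Pl A B y) B x) :=
  Groth.Agent.H26.ComplFlatMap.complHom_algebraMap (Pl A B y) B x

theorem isScalarTower_A_C_T : IsScalarTower A (EGA4.Cpl (Pl A B y)) (EGA4.Cpl B) := by
  refine IsScalarTower.of_algebraMap_eq (fun a => ?_)
  rw [IsScalarTower.algebraMap_apply A (Pl A B y) (EGA4.Cpl (Pl A B y)), algebraMap_CT_apply,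
    ← IsScalarTower.algebraMap_apply A (Pl A B y) B, ← IsScalarTower.algebraMap_apply A B]

theorem isLocalHom_A_Pl : IsLocalHom (algebraMap A (Pl A B y)) := by
  have h : IsLocalHom ((algebraMap (Pl A B y) B).comp (algebraMap A (Pl A B y))) := by
    rw [← IsScalarTower.algebraMap_eq A (Pl A B y) B]
    infer_instance
  exact isLocalHom_of_comp (algebraMap A (Pl A B y)) (algebraMap (Pl A B y) B)

theorem isLocalHom_A_C : IsLocalHom (algebraMap A (EGA4.Cpl (Pl A B y))) := by
  have := isLocalHom_A_Pl A B y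
  rw [IsScalarTower.algebraMap_eq A (Pl A B y) (EGA4.Cpl (Pl A B y))]
  exact RingHom.isLocalHom_comp _ _

theorem isLocalHom_A_T : IsLocalHom (algebraMap A (EGA4.Cpl B)) := by
  rw [IsScalarTower.algebraMap_eq A B (EGA4.Cpl B)]
  exact RingHom.isLocalHom_comp _ _

theorem isLocalHom_C_T : IsLocalHom (algebraMap (EGA4.Cpl (Pl A B y)) (EGA4.Cpl B)) :=
  Groth.Agent.H26.ComplFlatMap.isLocalHom_complHom (Pl A B y) B

theorem maximalIdeal_C_eq (hy : ∀ i, y i ∈ maximalIdeal B) :
    maximalIdeal (EGA4.Cpl (Pl A B y)) =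
      (maximalIdeal A).map (algebraMap A (EGA4.Cpl (Pl A B y))) ⊔
      Ideal.span (Set.range (fun i => algebraMap (Pl A B y) (EGA4.Cpl (Pl A B y))
        (algebraMap (MvPolynomial (Fin n) A) (Pl A B y) (MvPolynomial.X i)))) := by
  rw [AdicCompletion.maximalIdeal_eq_map (R := Pl A B y)]
  have h := congrArg (Ideal.map (algebraMap (Pl A B y) (EGA4.Cpl (Pl A B y))))
    (maximalIdeal_Pl_eq A B y hy)
  rw [Ideal.map_sup, Ideal.map_map, Ideal.map_span, ← Set.range_comp,
    ← IsScalarTower.algebraMap_eq A (Pl A B y) (EGA4.Cpl (Pl A B y))] at h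
  exact h

theorem pow_le_map_maximalIdeal_C (hy : ∀ i, y i ∈ maximalIdeal B) (N : ℕ)
    (hN : maximalIdeal B ^ N ≤ (maximalIdeal A).map (algebraMap A B) ⊔
      Ideal.span (Set.range y)) :
    maximalIdeal (EGA4.Cpl B) ^ N ≤ (maximalIdeal (EGA4.Cpl (Pl A B y))).map
      (algebraMap (EGA4.Cpl (Pl A B y)) (EGA4.Cpl B)) := by
  have h1 := pow_le_map_maximalIdeal_Pl A B y hy N hN
  rw [AdicCompletion.maximalIdeal_eq_map (R := B), AdicCompletion.maximalIdeal_eq_map (R := Pl A B y),
    ← Ideal.map_pow, Ideal.map_map]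
  have h2 : (algebraMap (EGA4.Cpl (Pl A B y)) (EGA4.Cpl B)).comp
      (algebraMap (Pl A B y) (EGA4.Cpl (Pl A B y))) =
      (algebraMap B (EGA4.Cpl B)).comp (algebraMap (Pl A B y) B) :=
    RingHom.ext (fun x => algebraMap_CT_apply A B y x)
  rw [h2, ← Ideal.map_map]
  exact Ideal.map_mono h1

theorem finite_residue_T [Module.Finite (ResidueField A) (ResidueField B)] :
    letI := isLocalHom_A_T A B
    Module.Finite (ResidueField A) (ResidueField (EGA4.Cpl B)) := by
  letI := isLocalHom_A_T A B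
  refine Module.Finite.of_equiv_equiv (RingEquiv.refl (ResidueField A))
    (Groth.Agent.H87.ComplUnram.resEquiv B) ?_
  ext x
  obtain ⟨x, rfl⟩ := residue_surjective x
  simp only [RingHom.coe_comp, RingHom.coe_coe, Function.comp_apply, RingEquiv.refl_apply,
    ResidueField.algebraMap_residue, Groth.Agent.H87.ComplUnram.resEquiv_residue]
  rw [← IsScalarTower.algebraMap_apply A B (EGA4.Cpl B)]

/-- A local ring which is a Cohen–Macaulay ring is a Cohen–Macaulay local ring. -/
theorem isCohenMacaulayLocalRing_of_isCohenMacaulayRing (X : Type u) [CommRing X] [IsLocalRing X]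
    (h : LocCoh.IsCohenMacaulayRing X) : LocCoh.IsCohenMacaulayLocalRing X := by
  have h1 : LocCoh.IsCohenMacaulayLocalRing (Localization.AtPrime (maximalIdeal X)) :=
    h.isCohenMacaulayLocalRing_localization (maximalIdeal X)
  let e : X ≃ₐ[X] Localization.AtPrime (maximalIdeal X) :=
    IsLocalization.atUnits X (maximalIdeal X).primeCompl (fun x hx => by
      by_contra hu
      exact hx ((mem_maximalIdeal _).mpr hu))
  exact Groth.Agent.H49.isCohenMacaulayLocalRing_of_ringEquiv e.symm.toRingEquiv h1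

theorem closedFibre_CM
    (hcl : LocCoh.IsCohenMacaulayRing ((maximalIdeal A).Fiber (EGA4.Cpl B))) :
    LocCoh.IsCohenMacaulayRing (EGA4.Cpl B ⧸ (maximalIdeal A).map (algebraMap A (EGA4.Cpl B))) := by
  let e0 : (A ⧸ maximalIdeal A) ≃ₐ[A] (maximalIdeal A).ResidueField :=
    AlgEquiv.ofBijective (IsScalarTower.toAlgHom A (A ⧸ maximalIdeal A) (maximalIdeal A).ResidueField)
      (Ideal.bijective_algebraMap_quotient_residueField (maximalIdeal A))
  let e1 : (maximalIdeal A).ResidueField ⊗[A] EGA4.Cpl B ≃ₐ[A] (A ⧸ maximalIdeal A) ⊗[A] EGA4.Cpl B :=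
    Algebra.TensorProduct.congr e0.symm AlgEquiv.refl
  let e2 : (A ⧸ maximalIdeal A) ⊗[A] EGA4.Cpl B ≃ₐ[A] EGA4.Cpl B ⊗[A] (A ⧸ maximalIdeal A) :=
    Algebra.TensorProduct.comm A _ _
  let e3 := (Algebra.TensorProduct.quotIdealMapEquivTensorQuot (EGA4.Cpl B) (maximalIdeal A)).symm
  exact Groth.Agent.H26.FormalFibreQuot.isCohenMacaulayRing_of_ringEquiv
    ((e1.trans e2).toRingEquiv.trans e3.toRingEquiv) hcl

theorem closedFibre_dim [Module.Flat A B] (hdim : ringKrullDim (B ⧸ (maximalIdeal A).map (algebraMap A B)) = n) :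
    ringKrullDim (EGA4.Cpl B ⧸ (maximalIdeal A).map (algebraMap A (EGA4.Cpl B))) = n := by
  have := isLocalHom_A_T A B
  have hfl : Module.Flat A (EGA4.Cpl B) := Module.Flat.trans A B (EGA4.Cpl B)
  have h1 := Groth.Agent.H72.FlatCM.ringKrullDim_eq_add_of_flat (A := A) (B := B)
  have h2 := Groth.Agent.H72.FlatCM.ringKrullDim_eq_add_of_flat (A := A) (B := EGA4.Cpl B)
  have h3 : ringKrullDim (EGA4.Cpl B) = ringKrullDim B := Groth.Agent.S0547.result B
  obtain ⟨a, ha⟩ := Groth.Agent.H72.FlatCM.exists_ringKrullDim_eq_natCast A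
  obtain ⟨t, ht⟩ := Groth.Agent.H72.FlatCM.exists_ringKrullDim_eq_natCast
    (EGA4.Cpl B ⧸ (maximalIdeal A).map (algebraMap A (EGA4.Cpl B)))
  rw [ht]
  rw [h3, h1, hdim, ha, ht] at h2
  have h4 : ((a + n : ℕ) : WithBot ℕ∞) = ((a + t : ℕ) : WithBot ℕ∞) := by
    push_cast
    exact h2
  have h5 : a + n = a + t := by exact_mod_cast h4
  have : t = n := by omega
  rw [this]

/-- Main theorem: a flat local homomorphism `A → B` of Noetherian local rings with finite residue
field extension, `A` with Cohen–Macaulay formal fibres, and with the closed fibre of `A → B̂`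
Cohen–Macaulay, has Cohen–Macaulay fibres. -/
theorem fibres_CM [Module.Flat A B] [Module.Finite (ResidueField A) (ResidueField B)]
    (hA : EGA4.HasCMFormalFibres A)
    (hcl : LocCoh.IsCohenMacaulayRing ((maximalIdeal A).Fiber (EGA4.Cpl B)))
    (p : Ideal A) [p.IsPrime] : LocCoh.IsCohenMacaulayRing (p.Fiber B) := by
  classical
  obtain ⟨n, b, hdim, hbm, N, hN⟩ := Groth.Agent.H96.CohenFinite.exists_sop
    (B ⧸ (maximalIdeal A).map (algebraMap A B))
  have hlift : ∀ i, ∃ z : B, Ideal.Quotient.mk ((maximalIdeal A).map (algebraMap A B)) z = b i :=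
    fun i => Ideal.Quotient.mk_surjective (b i)
  choose y hyb using hlift
  have hmB : (maximalIdeal A).map (algebraMap A B) ≤ maximalIdeal B :=
    ((local_hom_TFAE (algebraMap A B)).out 0 2 rfl rfl).mp inferInstance
  have hy : ∀ i, y i ∈ maximalIdeal B := by
    intro i
    by_contra hnot
    have hu : IsUnit (y i) := by
      by_contra h
      exact hnot ((mem_maximalIdeal _).mpr h)
    have := hu.map (Ideal.Quotient.mk ((maximalIdeal A).map (algebraMap A B)))
    rw [hyb i] at this
    exact (mem_maximalIdeal _).mp (hbm i) this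
  have hN' : maximalIdeal B ^ N ≤ (maximalIdeal A).map (algebraMap A B) ⊔
      Ideal.span (Set.range y) := by
    intro x hx
    have h1 : Ideal.Quotient.mk ((maximalIdeal A).map (algebraMap A B)) x ∈
        maximalIdeal (B ⧸ (maximalIdeal A).map (algebraMap A B)) ^ N := by
      rw [← Groth.Agent.H72.FlatCM.map_mk_maximalIdeal _
        (Groth.Agent.H72.FlatCM.mB_ne_top (A := A) (B := B)), ← Ideal.map_pow]
      exact Ideal.mem_map_of_mem _ hx
    have h2 := hN h1
    have h3 : Ideal.span (Set.range b) = (Ideal.span (Set.range y)).map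
        (Ideal.Quotient.mk ((maximalIdeal A).map (algebraMap A B))) := by
      rw [Ideal.map_span, ← Set.range_comp]
      congr 2
      funext i
      exact (hyb i).symm
    rw [h3] at h2
    have h4 : x ∈ ((Ideal.span (Set.range y)).map
        (Ideal.Quotient.mk ((maximalIdeal A).map (algebraMap A B)))).comap
        (Ideal.Quotient.mk ((maximalIdeal A).map (algebraMap A B))) := h2
    rw [Ideal.comap_map_of_surjective _ Ideal.Quotient.mk_surjective, ← RingHom.ker_eq_comap_bot,
      Ideal.mk_ker, sup_comm] at h4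
    exact h4
  -- the intermediate ring and its completion
  have i1 := isScalarTower_A_C_T A B y
  have i2 := isLocalHom_A_C A B y
  have i3 := isLocalHom_A_T A B
  have i4 := isLocalHom_C_T A B y
  have i5 := finite_residue_T A B
  have i6 : Module.Flat A (EGA4.Cpl B) := Module.Flat.trans A B (EGA4.Cpl B)
  have hpow := pow_le_map_maximalIdeal_C A B y hy N hN'
  have hfin : Module.Finite (EGA4.Cpl (Pl A B y)) (EGA4.Cpl B) :=
    Groth.Agent.H72.CMFibA.finite_of_primary A (EGA4.Cpl (Pl A B y)) (EGA4.Cpl B) N hpow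
  have hIeq : (maximalIdeal A).map (algebraMap A (EGA4.Cpl B)) =
      ((maximalIdeal A).map (algebraMap A (EGA4.Cpl (Pl A B y)))).map
        (algebraMap (EGA4.Cpl (Pl A B y)) (EGA4.Cpl B)) := by
    rw [Ideal.map_map, ← IsScalarTower.algebraMap_eq]
  have hCM0 := closedFibre_CM A B hcl
  have hd0 := closedFibre_dim A B hdim
  have hCM1 : LocCoh.IsCohenMacaulayRing (EGA4.Cpl B ⧸
      ((maximalIdeal A).map (algebraMap A (EGA4.Cpl (Pl A B y)))).map
        (algebraMap (EGA4.Cpl (Pl A B y)) (EGA4.Cpl B))) :=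
    Groth.Agent.H26.FormalFibreQuot.isCohenMacaulayRing_of_ringEquiv
      (Ideal.quotEquivOfEq hIeq) hCM0
  have hd1 : ringKrullDim (EGA4.Cpl B ⧸
      ((maximalIdeal A).map (algebraMap A (EGA4.Cpl (Pl A B y)))).map
        (algebraMap (EGA4.Cpl (Pl A B y)) (EGA4.Cpl B))) = n := by
    rw [← hd0]
    exact (ringKrullDim_eq_of_ringEquiv (Ideal.quotEquivOfEq hIeq)).symm
  have hne : ((maximalIdeal A).map (algebraMap A (EGA4.Cpl (Pl A B y)))).map
        (algebraMap (EGA4.Cpl (Pl A B y)) (EGA4.Cpl B)) ≠ ⊤ := by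
    rw [← hIeq]
    exact Groth.Agent.H72.FlatCM.mB_ne_top (A := A) (B := EGA4.Cpl B)
  have hnt := Ideal.Quotient.nontrivial_iff.mpr hne
  have hloc : IsLocalRing (EGA4.Cpl B ⧸
      ((maximalIdeal A).map (algebraMap A (EGA4.Cpl (Pl A B y)))).map
        (algebraMap (EGA4.Cpl (Pl A B y)) (EGA4.Cpl B))) :=
    IsLocalRing.of_surjective' (Ideal.Quotient.mk _) Ideal.Quotient.mk_surjective
  have hCM2 := isCohenMacaulayLocalRing_of_isCohenMacaulayRing _ hCM1
  obtain ⟨hflAC, hflCT⟩ := Groth.Agent.H72.CMFibA.flat_of_CM_closed_fibre A (EGA4.Cpl (Pl A B y))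
    (EGA4.Cpl B) n _ (maximalIdeal_C_eq A B y hy) hCM2 hd1 N hpow
  -- fibres of `A → C`
  have hPl : EGA4.HasCMFormalFibres (Pl A B y) :=
    Groth.Agent.H72.CMFormalFibres.hasCMFormalFibres_of_essFiniteType A hA (Pl A B y)
  have hAC : ∀ (p : Ideal A) [p.IsPrime],
      LocCoh.IsCohenMacaulayRing (p.Fiber (EGA4.Cpl (Pl A B y))) := fun p hp =>
    Groth.Agent.H26.CMFibreComp.fibres_comp A (Pl A B y) (EGA4.Cpl (Pl A B y))
      (fun p' hp' => fibres_Pl A B y p') (fun q hq => hPl q) p
  have hAT : ∀ (p : Ideal A) [p.IsPrime], LocCoh.IsCohenMacaulayRing (p.Fiber (EGA4.Cpl B)) :=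
    fun p hp => Groth.Agent.H72.CMFibA.fibres_CM_of_finite_flat A (EGA4.Cpl (Pl A B y))
      (EGA4.Cpl B) hAC p
  have hff : Module.FaithfullyFlat B (EGA4.Cpl B) := Module.FaithfullyFlat.of_flat_of_isLocalHom
  exact Groth.Agent.H26.CMFibreComp.fibres_descent A B (EGA4.Cpl B) hAT p

end

end Groth.Agent.H72.CMFibC
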