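import Mathlib

/-!
# Algebraization of closed formal subschemes (helper72), part 1

Basic predicates: `ComplLike I P` (the `B`-algebra `P` looks like the `I`-adic completion of `B` at
every finite level) and `DenseIso I ψ` (the map `ψ : D → C` of `B`-algebras induces isomorphisms
modulo all powers of `I`).  Flatness consequences: colon ideals by one element commute with the
base change to a flat algebra.
-/

set_option autoImplicit false
universe u

namespace Groth.Agent.H72.Algz

open Ideal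

section Defs

variable {B : Type*} [CommRing B] (I : Ideal B)

/-- `P` looks like the `I`-adic completion of `B` at every finite level. -/
structure ComplLike (P : Type*) [CommRing P] [Algebra B P] : Prop where
  surj : ∀ (n : ℕ) (p : P), ∃ b : B, p - algebraMap B P b ∈ (I ^ n).map (algebraMap B P)
  inj : ∀ (n : ℕ) (b : B), algebraMap B P b ∈ (I ^ n).map (algebraMap B P) → b ∈ I ^ n

/-- The `B`-algebra map `ψ` induces bijections modulo all powers of `I`. -/
structure DenseIso {D C : Type*} [CommRing D] [CommRing C] [Algebra B D] [Algebra B C]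
    (ψ : D →ₐ[B] C) : Prop where
  surj : ∀ (n : ℕ) (y : C), ∃ d : D, y - ψ d ∈ (I ^ n).map (algebraMap B C)
  inj : ∀ (n : ℕ) (d : D), ψ d ∈ (I ^ n).map (algebraMap B C) → d ∈ (I ^ n).map (algebraMap B D)

/-- The colon ideal `(𝔡 : x)`. -/
def colonElt (𝔡 : Ideal B) (x : B) : Ideal B where
  carrier := {z | x * z ∈ 𝔡}
  add_mem' := by
    intro a b ha hb
    simp only [Set.mem_ofPred_eq] at ha hb ⊢
    rw [mul_add]
    exact 𝔡.add_mem ha hb
  zero_mem' := by simp
  smul_mem' := by
    intro c a ha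
    simp only [Set.mem_ofPred_eq, smul_eq_mul] at ha ⊢
    rw [mul_left_comm]
    exact 𝔡.mul_mem_left c ha

theorem mem_colonElt {𝔡 : Ideal B} {x z : B} : z ∈ colonElt 𝔡 x ↔ x * z ∈ 𝔡 := Iff.rfl

/-- The `I`-saturation `(𝔡 : I^∞)`. -/
def sat (𝔡 : Ideal B) : Ideal B where
  carrier := {z | ∃ n : ℕ, ∀ i ∈ I ^ n, i * z ∈ 𝔡}
  add_mem' := by
    rintro a b ⟨n, hn⟩ ⟨m, hm⟩
    refine ⟨n + m, fun i hi => ?_⟩
    rw [mul_add]
    exact 𝔡.add_mem (hn i (Ideal.pow_le_pow_right (Nat.le_add_right n m) hi))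
      (hm i (Ideal.pow_le_pow_right (Nat.le_add_left m n) hi))
  zero_mem' := ⟨0, fun i _ => by simp⟩
  smul_mem' := by
    rintro c a ⟨n, hn⟩
    refine ⟨n, fun i hi => ?_⟩
    rw [smul_eq_mul, mul_left_comm]
    exact 𝔡.mul_mem_left c (hn i hi)

theorem mem_sat {𝔡 : Ideal B} {z : B} : z ∈ sat I 𝔡 ↔ ∃ n : ℕ, ∀ i ∈ I ^ n, i * z ∈ 𝔡 := Iff.rfl

theorem le_sat (𝔡 : Ideal B) : 𝔡 ≤ sat I 𝔡 := fun _ hz => ⟨0, fun i _ => 𝔡.mul_mem_left i hz⟩

end Defs

section ComplLike

variable {B : Type*} [CommRing B] {I : Ideal B} {P : Type*} [CommRing P] [Algebra B P]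

/-- Elements of an extended ideal are approximated by elements of the ideal (strong form). -/
theorem ComplLike.exists_mem_sub_mem' (h : ComplLike I P) (𝔠 : Ideal B) (n : ℕ) {x : P}
    (hx : x ∈ 𝔠.map (algebraMap B P)) :
    ∃ b ∈ 𝔠, x - algebraMap B P b ∈ (I ^ n * 𝔠).map (algebraMap B P) := by
  induction hx using Submodule.span_induction with
  | mem x hx =>
    obtain ⟨c, hc, rfl⟩ := hx
    exact ⟨c, hc, by simp⟩
  | zero => exact ⟨0, 𝔠.zero_mem, by simp⟩
  | add x y _ _ hx hy =>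
    obtain ⟨b1, hb1, h1⟩ := hx
    obtain ⟨b2, hb2, h2⟩ := hy
    refine ⟨b1 + b2, 𝔠.add_mem hb1 hb2, ?_⟩
    have : x + y - algebraMap B P (b1 + b2) =
        (x - algebraMap B P b1) + (y - algebraMap B P b2) := by
      rw [map_add]; ring
    rw [this]
    exact Ideal.add_mem _ h1 h2
  | smul r x _ hx =>
    obtain ⟨b, hb, h1⟩ := hx
    obtain ⟨b', h2⟩ := h.surj n r
    refine ⟨b' * b, 𝔠.mul_mem_left b' hb, ?_⟩
    have : r • x - algebraMap B P (b' * b) =
        r * (x - algebraMap B P b) + (r - algebraMap B P b') * algebraMap B P b := by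
      rw [map_mul, smul_eq_mul]; ring
    rw [this]
    refine Ideal.add_mem _ (Ideal.mul_mem_left _ _ h1) ?_
    rw [Ideal.map_mul]
    exact Ideal.mul_mem_mul h2 (Ideal.mem_map_of_mem _ hb)

/-- Elements of an extended ideal are approximated by elements of the ideal. -/
theorem ComplLike.exists_mem_sub_mem (h : ComplLike I P) (𝔠 : Ideal B) (n : ℕ) {x : P}
    (hx : x ∈ 𝔠.map (algebraMap B P)) :
    ∃ b ∈ 𝔠, x - algebraMap B P b ∈ (I ^ n).map (algebraMap B P) := by
  obtain ⟨b, hb, h1⟩ := h.exists_mem_sub_mem' 𝔠 n hx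
  have hle : I ^ n * 𝔠 ≤ I ^ n := Ideal.mul_le_left
  exact ⟨b, hb, Ideal.map_mono hle h1⟩

/-- Contraction of an extended ideal, for ideals containing a power of `I`. -/
theorem ComplLike.mem_of_map_mem (h : ComplLike I P) {𝔠 : Ideal B} {n : ℕ} (h𝔠 : I ^ n ≤ 𝔠)
    {b : B} (hb : algebraMap B P b ∈ 𝔠.map (algebraMap B P)) : b ∈ 𝔠 := by
  obtain ⟨b', hb', h1⟩ := h.exists_mem_sub_mem 𝔠 n hb
  rw [← map_sub] at h1
  have h2 := h𝔠 (h.inj n _ h1)
  have : b = (b - b') + b' := by ring
  rw [this]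
  exact 𝔠.add_mem h2 hb'

/-- Density: every element is congruent to an element of `B` modulo an ideal containing `I^n`. -/
theorem ComplLike.exists_sub_mem (h : ComplLike I P) {𝔠 : Ideal B} {n : ℕ} (h𝔠 : I ^ n ≤ 𝔠)
    (p : P) : ∃ b : B, p - algebraMap B P b ∈ 𝔠.map (algebraMap B P) := by
  obtain ⟨b, hb⟩ := h.surj n p
  exact ⟨b, Ideal.map_mono h𝔠 hb⟩

end ComplLike

section Flat

variable {B : Type*} [CommRing B] {I : Ideal B} {P : Type*} [CommRing P] [Algebra B P]
  [Module.Flat B P]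

/-- Colon ideals by one element commute with flat base change. -/
theorem mem_map_colonElt (𝔡 : Ideal B) (x : B) (p : P)
    (h : algebraMap B P x * p ∈ 𝔡.map (algebraMap B P)) :
    p ∈ (colonElt 𝔡 x).map (algebraMap B P) := by
  classical
  have h1 : x • p ∈ 𝔡 • Submodule.span B (Set.range (id : P → P)) := by
    rw [Set.range_id, Submodule.span_univ, Ideal.smul_top_eq_map, Submodule.restrictScalars_mem,
      Algebra.smul_def]
    exact h
  rw [Submodule.mem_ideal_smul_span_iff_exists_sum] at h1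
  obtain ⟨a, ha, hsum⟩ := h1
  -- the relation `x • p - ∑ a q • q = 0`
  let f : Option a.support → B := fun o => Option.elim o x (fun q => - a q.1)
  let v : Option a.support → P := fun o => Option.elim o p (fun q => (q.1 : P))
  have hrel : ∑ o, f o • v o = 0 := by
    rw [Fintype.sum_option]
    simp only [f, v, Option.elim_none, Option.elim_some, neg_smul, Finset.sum_neg_distrib]
    rw [← hsum, Finsupp.sum, ← Finset.sum_coe_sort a.support (fun q => a q • id q)]
    simp
  obtain ⟨k, A, y, hy, hA⟩ := Module.Flat.isTrivialRelation_of_sum_smul_eq_zero (R := B) (M := P)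
    (f := f) (x := v) hrel
  have hp : p = ∑ j, A none j • y j := hy none
  rw [hp]
  refine Ideal.sum_mem _ fun j _ => ?_
  rw [Algebra.smul_def]
  refine Ideal.mul_mem_right _ _ (Ideal.mem_map_of_mem _ ?_)
  rw [mem_colonElt]
  have h2 := hA j
  rw [Fintype.sum_option] at h2
  simp only [f, Option.elim_none, Option.elim_some, neg_mul, Finset.sum_neg_distrib] at h2
  rw [add_neg_eq_zero] at h2
  rw [h2]
  exact Ideal.sum_mem _ fun q _ => 𝔡.mul_mem_right _ (ha q.1)

/-- A regular element modulo `𝔡` stays regular modulo `𝔡 P`. -/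
theorem mem_map_of_regular (𝔡 : Ideal B) (a : B) (ha : ∀ z, a * z ∈ 𝔡 → z ∈ 𝔡) (k : ℕ) (p : P)
    (hp : algebraMap B P a ^ k * p ∈ 𝔡.map (algebraMap B P)) : p ∈ 𝔡.map (algebraMap B P) := by
  induction k with
  | zero => simpa using hp
  | succ k ih =>
    apply ih
    have h1 : algebraMap B P a * (algebraMap B P a ^ k * p) ∈ 𝔡.map (algebraMap B P) := by
      rw [← mul_assoc, ← pow_succ']; exact hp
    have h2 := mem_map_colonElt 𝔡 a _ h1
    exact Ideal.map_mono (fun z hz => ha z hz) h2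

/-- An element of `B` whose class modulo `𝔡` is `I`-power torsion and which dies in `P / 𝔡 P` lies
in `𝔡`. -/
theorem ComplLike.mem_of_pow_mul_mem (h : ComplLike I P) (𝔡 : Ideal B) (n : ℕ) (b : B)
    (hI : ∀ i ∈ I ^ n, i * b ∈ 𝔡) (hb : algebraMap B P b ∈ 𝔡.map (algebraMap B P)) : b ∈ 𝔡 := by
  have h1 : (1 : P) ∈ (colonElt 𝔡 b).map (algebraMap B P) :=
    mem_map_colonElt 𝔡 b 1 (by rwa [mul_one])
  have h2 : I ^ n ≤ colonElt 𝔡 b := fun i hi => by
    rw [mem_colonElt, mul_comm]; exact hI i hi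
  have h3 : (1 : B) ∈ colonElt 𝔡 b := h.mem_of_map_mem h2 (by rwa [map_one])
  rw [mem_colonElt, mul_one] at h3
  exact h3

end Flat

end Groth.Agent.H72.Algz
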