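import Mathlib
import Groth.Agent.H72.Algz1

/-!
# Algebraization of closed formal subschemes (helper72), part 3

Torsion thickening: if `P/J₁` is algebraizable and `J ≤ J₁` with `I^N J₁ ≤ J`, then `P/J` is
algebraizable.
-/

set_option autoImplicit false
universe u

namespace Groth.Agent.H72.Algz

open Ideal

section Aux

variable {B : Type*} [CommRing B]

theorem map_algebraMap_eq {X Y : Type*} [CommRing X] [CommRing Y] [Algebra B X] [Algebra B Y]
    (φ : X →ₐ[B] Y) (𝔠 : Ideal B) :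
    𝔠.map (algebraMap B Y) = (𝔠.map (algebraMap B X)).map φ := by
  change _ = Ideal.map (φ : X →+* Y) _
  rw [Ideal.map_map]
  congr 1
  exact φ.comp_algebraMap.symm

/-- Elements of `𝔠 Y` lift along a surjective algebra map to elements of `𝔠 X`. -/
theorem exists_mem_map_of_surjective {X Y : Type*} [CommRing X] [CommRing Y] [Algebra B X]
    [Algebra B Y] (φ : X →ₐ[B] Y) (hφ : Function.Surjective φ) (𝔠 : Ideal B) {y : Y}
    (hy : y ∈ 𝔠.map (algebraMap B Y)) : ∃ x ∈ 𝔠.map (algebraMap B X), φ x = y := by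
  rw [map_algebraMap_eq φ] at hy
  exact (Ideal.mem_map_iff_of_surjective φ hφ).mp hy

theorem map_mem_map {X Y : Type*} [CommRing X] [CommRing Y] [Algebra B X]
    [Algebra B Y] (φ : X →ₐ[B] Y) (𝔠 : Ideal B) {x : X}
    (hx : x ∈ 𝔠.map (algebraMap B X)) : φ x ∈ 𝔠.map (algebraMap B Y) := by
  rw [map_algebraMap_eq φ]
  exact Ideal.mem_map_of_mem _ hx

end Aux

section Thick

variable {B : Type u} [CommRing B] (I : Ideal B)
  {P : Type u} [CommRing P] [Algebra B P] [IsNoetherianRing P]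

theorem exists_denseIso_of_thickening (hP : ComplLike I P)
    {C C₁ : Type u} [CommRing C] [CommRing C₁] [Algebra B C] [Algebra B C₁]
    (π : P →ₐ[B] C) (hπ : Function.Surjective π) (π₁ : P →ₐ[B] C₁) (hπ₁ : Function.Surjective π₁)
    (hle : RingHom.ker π ≤ RingHom.ker π₁) (N : ℕ)
    (hN : (I ^ N).map (algebraMap B P) * RingHom.ker π₁ ≤ RingHom.ker π)
    (D₁ : Type u) [CommRing D₁] [Algebra B D₁] [Algebra.FiniteType B D₁]
    (ψ₁ : D₁ →ₐ[B] C₁) (hψ₁ : DenseIso I ψ₁) :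
    ∃ (D : Type u) (_ : CommRing D) (_ : Algebra B D), Algebra.FiniteType B D ∧
      ∃ ψ : D →ₐ[B] C, DenseIso I ψ := by
  classical
  obtain ⟨s, θ, hθ⟩ := Algebra.FiniteType.iff_quotient_mvPolynomial''.mp
    (inferInstance : Algebra.FiniteType B D₁)
  choose c hc using fun i : Fin s => hπ₁ (ψ₁ (θ (MvPolynomial.X i)))
  let Θ : MvPolynomial (Fin s) B →ₐ[B] P := MvPolynomial.aeval c
  have hΘ : ∀ q, π₁ (Θ q) = ψ₁ (θ q) := by
    intro q
    have : π₁.comp Θ = ψ₁.comp θ := by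
      apply MvPolynomial.algHom_ext
      intro i
      simp [Θ, hc]
    exact DFunLike.congr_fun this q
  set J : Ideal P := RingHom.ker π with hJ
  set J₁ : Ideal P := RingHom.ker π₁ with hJ₁
  -- Artin-Rees
  obtain ⟨k, hk⟩ := Ideal.exists_pow_inf_eq_pow_smul (I.map (algebraMap B P))
    (J₁.restrictScalars P)
  set N' := N + k with hN'
  have hAR : ∀ x ∈ J₁, x ∈ J ⊔ (I ^ N').map (algebraMap B P) → x ∈ J := by
    intro x hx1 hx2
    obtain ⟨j, hj, y, hy, rfl⟩ := Submodule.mem_sup.mp hx2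
    have hy1 : y ∈ J₁ := by
      have : y = (j + y) - j := by ring
      rw [this]
      exact J₁.sub_mem hx1 (hle hj)
    have h1 : y ∈ (I.map (algebraMap B P)) ^ N' • (⊤ : Submodule P P) ⊓ J₁.restrictScalars P := by
      refine ⟨?_, hy1⟩
      rw [smul_eq_mul, Ideal.mul_top, ← Ideal.map_pow]
      exact hy
    rw [hk N' (Nat.le_add_left k N)] at h1
    have h2 : N' - k = N := by omega
    rw [h2] at h1
    have h3 : (I.map (algebraMap B P)) ^ N • ((I.map (algebraMap B P)) ^ k • (⊤ : Submodule P P) ⊓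
        J₁.restrictScalars P) ≤ J := by
      rw [← Ideal.map_pow]
      refine le_trans ?_ hN
      rw [← smul_eq_mul]
      exact Submodule.smul_mono le_rfl inf_le_right
    exact J.add_mem hj (h3 h1)
  let 𝔞 : Ideal (MvPolynomial (Fin s) B) := RingHom.ker θ
  let 𝔟 : Ideal (MvPolynomial (Fin s) B) := (J ⊔ (I ^ N').map (algebraMap B P)).comap Θ
  have hkill : ∀ a ∈ 𝔞 ⊓ 𝔟, (π.comp Θ) a = 0 := by
    rintro a ⟨ha, hb⟩
    have h1 : Θ a ∈ J₁ := by
      rw [hJ₁, RingHom.mem_ker, hΘ]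
      have : θ a = 0 := ha
      rw [this, map_zero]
    have h2 : Θ a ∈ J := hAR _ h1 hb
    exact h2
  let ψ : (MvPolynomial (Fin s) B ⧸ (𝔞 ⊓ 𝔟)) →ₐ[B] C := Ideal.Quotient.liftₐ (𝔞 ⊓ 𝔟) (π.comp Θ) hkill
  have hψmk : ∀ q, ψ (Ideal.Quotient.mk _ q) = π (Θ q) := fun q => rfl
  -- lifting ideal membership
  have hmkmem : ∀ (n : ℕ) (v : MvPolynomial (Fin s) B),
      v ∈ (I ^ n).map (algebraMap B (MvPolynomial (Fin s) B)) →
      Ideal.Quotient.mk (𝔞 ⊓ 𝔟) v ∈ (I ^ n).map (algebraMap B (MvPolynomial (Fin s) B ⧸ (𝔞 ⊓ 𝔟))) :=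
    fun n v hv => map_mem_map (Ideal.Quotient.mkₐ B (𝔞 ⊓ 𝔟)) (I ^ n) hv
  -- injectivity for large exponents
  have hinj_large : ∀ n, N' ≤ n → ∀ q : MvPolynomial (Fin s) B,
      π (Θ q) ∈ (I ^ n).map (algebraMap B C) →
      Ideal.Quotient.mk (𝔞 ⊓ 𝔟) q ∈ (I ^ n).map (algebraMap B (MvPolynomial (Fin s) B ⧸ (𝔞 ⊓ 𝔟))) := by
    intro n hn q hq
    obtain ⟨r, hr, hrq⟩ := exists_mem_map_of_surjective π hπ (I ^ n) hq
    have h1 : Θ q - r ∈ J := by
      rw [hJ, RingHom.mem_ker, map_sub, hrq, sub_self]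
    have h2 : ψ₁ (θ q) ∈ (I ^ n).map (algebraMap B C₁) := by
      rw [← hΘ]
      have : π₁ (Θ q) = π₁ (Θ q - r) + π₁ r := by rw [map_sub]; ring
      rw [this, (RingHom.mem_ker).mp (hle h1), zero_add]
      exact map_mem_map π₁ _ hr
    have h3 := hψ₁.inj n _ h2
    obtain ⟨v, hv, hvq⟩ := exists_mem_map_of_surjective θ hθ (I ^ n) h3
    have h4 : q - v ∈ 𝔞 := by
      change θ (q - v) = 0
      rw [map_sub, hvq, sub_self]
    have h5 : q - v ∈ 𝔟 := by
      change Θ (q - v) ∈ J ⊔ (I ^ N').map (algebraMap B P)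
      have : Θ (q - v) = (Θ q - r) + (r - Θ v) := by rw [map_sub]; ring
      rw [this]
      refine Submodule.add_mem_sup h1 ?_
      refine Ideal.map_mono (Ideal.pow_le_pow_right hn) ?_
      exact Ideal.sub_mem _ hr (map_mem_map Θ _ hv)
    have h6 : Ideal.Quotient.mk (𝔞 ⊓ 𝔟) q = Ideal.Quotient.mk (𝔞 ⊓ 𝔟) v := by
      rw [Ideal.Quotient.eq]
      exact ⟨h4, h5⟩
    rw [h6]
    exact hmkmem n v hv
  refine ⟨MvPolynomial (Fin s) B ⧸ (𝔞 ⊓ 𝔟), inferInstance, inferInstance, ?_, ψ, ?_, ?_⟩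
  · exact Algebra.FiniteType.of_surjective (Ideal.Quotient.mkₐ B (𝔞 ⊓ 𝔟))
      (Ideal.Quotient.mkₐ_surjective B _)
  · -- surjectivity
    intro n y
    obtain ⟨p, rfl⟩ := hπ y
    obtain ⟨d₁, hd₁⟩ := hψ₁.surj n (π₁ p)
    obtain ⟨q₁, rfl⟩ := hθ d₁
    rw [← hΘ, ← map_sub] at hd₁
    obtain ⟨r, hr, hrq⟩ := exists_mem_map_of_surjective π₁ hπ₁ (I ^ n) hd₁
    have hj₁ : p - Θ q₁ - r ∈ J₁ := by
      rw [hJ₁, RingHom.mem_ker, map_sub, hrq, sub_self]
    obtain ⟨b, hb⟩ := hP.surj n (p - Θ q₁ - r)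
    have h1 : ψ₁ (algebraMap B D₁ b) ∈ (I ^ n).map (algebraMap B C₁) := by
      rw [AlgHom.commutes, ← π₁.commutes]
      have : π₁ (algebraMap B P b) = π₁ (algebraMap B P b - (p - Θ q₁ - r)) := by
        rw [map_sub π₁ (algebraMap B P b), (RingHom.mem_ker).mp hj₁, sub_zero]
      rw [this]
      apply map_mem_map π₁
      rw [← Ideal.neg_mem_iff, neg_sub]
      exact hb
    have h2 := hψ₁.inj n _ h1
    obtain ⟨v, hv, hvq⟩ := exists_mem_map_of_surjective θ hθ (I ^ n) h2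
    have h3 : MvPolynomial.C b - v ∈ 𝔞 := by
      change θ (MvPolynomial.C b - v) = 0
      rw [map_sub, hvq, ← MvPolynomial.algebraMap_eq, AlgHom.commutes, sub_self]
    refine ⟨Ideal.Quotient.mk _ (q₁ + (MvPolynomial.C b - v)), ?_⟩
    rw [hψmk, ← map_sub]
    apply map_mem_map π
    have : p - Θ (q₁ + (MvPolynomial.C b - v)) =
        r + ((p - Θ q₁ - r) - algebraMap B P b) + Θ v := by
      rw [map_add, map_sub, ← MvPolynomial.algebraMap_eq, AlgHom.commutes]; ring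
    rw [this]
    exact Ideal.add_mem _ (Ideal.add_mem _ hr hb) (map_mem_map Θ _ hv)
  · -- injectivity
    intro n d hd
    obtain ⟨q, rfl⟩ := Ideal.Quotient.mk_surjective d
    rw [hψmk] at hd
    obtain ⟨z, hz, hzq⟩ := exists_mem_map_of_surjective π hπ (I ^ n) hd
    obtain ⟨b, hb, hbz⟩ := hP.exists_mem_sub_mem' (I ^ n) (n + N') hz
    have hle1 : I ^ (n + N') * I ^ n ≤ I ^ (n + N') := Ideal.mul_le_left
    have h1 : π (Θ (q - MvPolynomial.C b)) ∈ (I ^ (n + N')).map (algebraMap B C) := by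
      have : π (Θ (q - MvPolynomial.C b)) = π (z - algebraMap B P b) := by
        rw [map_sub, map_sub, map_sub, hzq, ← MvPolynomial.algebraMap_eq, AlgHom.commutes]
      rw [this]
      exact map_mem_map π _ (Ideal.map_mono hle1 hbz)
    have h2 := hinj_large (n + N') (Nat.le_add_left _ _) _ h1
    have h3 : Ideal.Quotient.mk (𝔞 ⊓ 𝔟) q =
        Ideal.Quotient.mk (𝔞 ⊓ 𝔟) (q - MvPolynomial.C b) +
          Ideal.Quotient.mk (𝔞 ⊓ 𝔟) (MvPolynomial.C b) := by
      rw [← map_add]; congr 1; ring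
    rw [h3]
    refine Ideal.add_mem _ (Ideal.map_mono (Ideal.pow_le_pow_right (Nat.le_add_right _ _)) h2) ?_
    apply hmkmem
    rw [← MvPolynomial.algebraMap_eq]
    exact Ideal.mem_map_of_mem _ hb

end Thick

end Groth.Agent.H72.Algz
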