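import Mathlib
import Groth.Agent.H72.Algz1

/-!
# Algebraization of closed formal subschemes (helper72), part 2

Saturations in Noetherian rings: uniform exponents, existence of regular elements modulo a
saturated ideal (prime avoidance), and the torsion comparison `Γ_I(B/𝔡) ≅ Γ_I(P/𝔡P)`.
-/

set_option autoImplicit false
universe u

namespace Groth.Agent.H72.Algz

open Ideal

section Sat

variable {B : Type*} [CommRing B] [IsNoetherianRing B] (I 𝔡 : Ideal B)

/-- A uniform exponent for the saturation. -/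
theorem exists_pow_mul_sat_le : ∃ N : ℕ, I ^ N * sat I 𝔡 ≤ 𝔡 := by
  classical
  obtain ⟨S, hS⟩ := (isNoetherianRing_iff_ideal_fg B).mp inferInstance (sat I 𝔡)
  have hSmem : ∀ z ∈ S, z ∈ sat I 𝔡 := fun z hz => hS ▸ Ideal.subset_span hz
  choose! n hn using fun z (hz : z ∈ S) => (mem_sat I).mp (hSmem z hz)
  refine ⟨S.sup n, ?_⟩
  rw [Ideal.mul_le]
  intro i hi z hz
  rw [← hS] at hz
  induction hz using Submodule.span_induction with
  | mem z hz => exact hn z hz i (Ideal.pow_le_pow_right (Finset.le_sup hz) hi)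
  | zero => simp
  | add x y _ _ hx hy => rw [mul_add]; exact 𝔡.add_mem hx hy
  | smul c x _ hx => rw [smul_eq_mul, mul_left_comm]; exact 𝔡.mul_mem_left c hx

/-- The saturation is saturated. -/
theorem mem_sat_of_mul_mem {z : B} (hz : ∀ i ∈ I, i * z ∈ sat I 𝔡) : z ∈ sat I 𝔡 := by
  obtain ⟨N, hN⟩ := exists_pow_mul_sat_le I 𝔡
  refine ⟨N + 1, fun i hi => ?_⟩
  rw [pow_succ] at hi
  refine Submodule.mul_induction_on hi (fun u hu v hv => ?_) (fun x y hx hy => ?_)
  · rw [mul_assoc]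
    exact hN (Ideal.mul_mem_mul hu (hz v hv))
  · rw [add_mul]; exact 𝔡.add_mem hx hy

/-- There is an element of `I` which is regular modulo the `I`-saturation of `𝔡`. -/
theorem exists_regular_mod_sat : ∃ a ∈ I, ∀ z, a * z ∈ sat I 𝔡 → z ∈ sat I 𝔡 := by
  classical
  by_contra hcon
  push Not at hcon
  let M := B ⧸ sat I 𝔡
  have hsub : (I : Set B) ⊆ ⋃ p ∈ associatedPrimes B M, (p : Set B) := by
    rw [biUnion_associatedPrimes_eq_zero_divisors B M]
    intro a ha
    obtain ⟨z, hz1, hz2⟩ := hcon a ha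
    refine ⟨Ideal.Quotient.mk _ z, ?_, ?_⟩
    · rwa [Ne, Ideal.Quotient.eq_zero_iff_mem]
    · rw [← Ideal.Quotient.mk_eq_mk, ← Submodule.Quotient.mk_smul, Ideal.Quotient.mk_eq_mk,
        Ideal.Quotient.eq_zero_iff_mem, smul_eq_mul]
      exact hz1
  have hfin : (associatedPrimes B M).Finite := associatedPrimes.finite B M
  have hsub' : (I : Set B) ⊆ ⋃ p ∈ (hfin.toFinset : Set (Ideal B)), ((id p : Ideal B) : Set B) := by
    simpa using hsub
  rw [Ideal.subset_union_prime (⊥ : Ideal B) ⊥] at hsub'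
  · obtain ⟨p, hp, hIp⟩ := hsub'
    rw [Set.Finite.mem_toFinset] at hp
    obtain ⟨hprime, x, hx⟩ := (isAssociatedPrime_iff).mp hp
    obtain ⟨z, rfl⟩ := Ideal.Quotient.mk_surjective x
    have hz : z ∈ sat I 𝔡 := by
      apply mem_sat_of_mul_mem
      intro i hi
      have h1 : i ∈ (⊥ : Submodule B M).colon {Ideal.Quotient.mk (sat I 𝔡) z} := by
        have := hIp hi
        simp only [id] at this
        rwa [hx] at this
      rw [Submodule.mem_colon_singleton, Submodule.mem_bot, ← Ideal.Quotient.mk_eq_mk,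
        ← Submodule.Quotient.mk_smul, Ideal.Quotient.mk_eq_mk, Ideal.Quotient.eq_zero_iff_mem,
        smul_eq_mul] at h1
      exact h1
    apply hprime.ne_top
    rw [hx, Ideal.eq_top_iff_one, Submodule.mem_colon_singleton, one_smul, Submodule.mem_bot,
      Ideal.Quotient.eq_zero_iff_mem]
    exact hz
  · intro p hp _ _
    rw [Set.Finite.mem_toFinset] at hp
    exact hp.isPrime

end Sat

section Torsion

variable {B : Type*} [CommRing B] [IsNoetherianRing B] {I : Ideal B} {P : Type*} [CommRing P]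
  [Algebra B P] [Module.Flat B P]

/-- Surjectivity of `Γ_I(B/𝔡) → Γ_I(P/𝔡P)`. -/
theorem ComplLike.exists_sat_sub_mem (h : ComplLike I P) (𝔡 : Ideal B) (m : ℕ) (p : P)
    (hp : ∀ i ∈ I ^ m, algebraMap B P i * p ∈ 𝔡.map (algebraMap B P)) :
    ∃ b ∈ sat I 𝔡, p - algebraMap B P b ∈ 𝔡.map (algebraMap B P) := by
  obtain ⟨a, haI, hreg⟩ := exists_regular_mod_sat I 𝔡
  have h1 : p ∈ (sat I 𝔡).map (algebraMap B P) := by
    apply mem_map_of_regular (sat I 𝔡) a hreg m
    rw [← map_pow]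
    exact Ideal.map_mono (le_sat I 𝔡) (hp _ (Ideal.pow_mem_pow haI m))
  obtain ⟨N, hN⟩ := exists_pow_mul_sat_le I 𝔡
  obtain ⟨b, hb, h2⟩ := h.exists_mem_sub_mem' (sat I 𝔡) N h1
  exact ⟨b, hb, Ideal.map_mono hN h2⟩

end Torsion

end Groth.Agent.H72.Algz
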