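import Mathlib
import Groth.Agent.H72.Algz2

/-!
# Algebraization of closed formal subschemes (helper72), part 5

The determinant trick for ideals `J` with `x J ⊆ J²`, and the choice of a good regular element.
-/

set_option autoImplicit false
universe u

namespace Groth.Agent.H72.Algz

open Ideal

/-- If `x J ⊆ J²` for a finitely generated ideal `J`, then `(xⁿ - ε) J = 0` for some `n > 0` and
`ε ∈ J`. -/
theorem exists_pow_sub_mem_annihilator {P : Type*} [CommRing P] [IsNoetherianRing P] (J : Ideal P)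
    (x : P) (hx : ∀ j ∈ J, x * j ∈ J * J) :
    ∃ n : ℕ, 0 < n ∧ ∃ ε ∈ J, ∀ j ∈ J, (x ^ n - ε) * j = 0 := by
  classical
  let f : Module.End P J := algebraMap P (Module.End P J) x
  have hf : ∀ j : J, ((f j : J) : P) = x * (j : P) := fun j => by
    simp [f, Module.algebraMap_end_apply]
  have hI : LinearMap.range f ≤ J • (⊤ : Submodule P J) := by
    rintro _ ⟨j, rfl⟩
    rw [Submodule.mem_smul_top_iff, hf]
    exact hx j j.2
  obtain ⟨p, hmonic, -, hcoeff, hp⟩ :=
    LinearMap.exists_monic_and_natDegree_eq_and_coeff_mem_pow_and_aeval_eq_zero P f J hI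
  have hkill : ∀ j ∈ J, p.eval x * j = 0 := by
    intro j hj
    have h1 : Polynomial.aeval f p = algebraMap P (Module.End P J) (p.eval x) := by
      rw [Polynomial.aeval_algebraMap_apply, Polynomial.coe_aeval_eq_eval]
    rw [h1] at hp
    have h2 := congrArg (fun g : Module.End P J => ((g ⟨j, hj⟩ : J) : P)) hp
    simpa [Module.algebraMap_end_apply] using h2
  have hε : x ^ p.natDegree - p.eval x ∈ J := by
    rw [Polynomial.eval_eq_sum_range, Finset.sum_range_succ, hmonic.coeff_natDegree, one_mul,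
      sub_add_cancel_right, Ideal.neg_mem_iff]
    refine Ideal.sum_mem _ fun k hk => Ideal.mul_mem_right _ _ ?_
    have hk' : k < p.natDegree := Finset.mem_range.mp hk
    exact Ideal.pow_le_self (by omega) (hcoeff k)
  refine ⟨p.natDegree + 1, Nat.succ_pos _, x * (x ^ p.natDegree - p.eval x),
    Ideal.mul_mem_left _ _ hε, fun j hj => ?_⟩
  have : (x ^ (p.natDegree + 1) - x * (x ^ p.natDegree - p.eval x)) * j = x * (p.eval x * j) := by
    ring
  rw [this, hkill j hj, mul_zero]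

section Setup

variable {B : Type*} [CommRing B] [IsNoetherianRing B] (I : Ideal B)
  {P : Type*} [CommRing P] [Algebra B P] [IsNoetherianRing P]

/-- For every element of `I^c P` the determinant trick applies. -/
theorem exists_pow_sub_of_mem (J : Ideal P) (c : ℕ)
    (hJ : (I.map (algebraMap B P)) ^ c * J ≤ J ^ 2) (x : P) (hx : x ∈ (I.map (algebraMap B P)) ^ c) :
    ∃ n : ℕ, 0 < n ∧ ∃ ε ∈ J, ∀ j ∈ J, (x ^ n - ε) * j = 0 := by
  apply exists_pow_sub_mem_annihilator
  intro j hj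
  rw [← sq]
  exact hJ (Ideal.mul_mem_mul hx hj)

theorem regular_pow {𝔡 : Ideal B} {a : B} (ha : ∀ z, a * z ∈ 𝔡 → z ∈ 𝔡) (k : ℕ) :
    ∀ z, a ^ k * z ∈ 𝔡 → z ∈ 𝔡 := by
  induction k with
  | zero => intro z hz; simpa using hz
  | succ k ih =>
    intro z hz
    apply ih
    apply ha
    rw [← mul_assoc, ← pow_succ']
    exact hz

/-- The choice of a good element `a ∈ I`: regular modulo the `I`-power torsion and such that
`(a - ε₀) J = 0` for some `ε₀ ∈ J`. -/
theorem exists_good_element (J : Ideal P) (c : ℕ)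
    (hJ : (I.map (algebraMap B P)) ^ c * J ≤ J ^ 2) :
    ∃ a ∈ I, (∀ z, a * z ∈ sat I ⊥ → z ∈ sat I ⊥) ∧
      ∃ ε₀ ∈ J, ∀ j ∈ J, (algebraMap B P a - ε₀) * j = 0 := by
  obtain ⟨a₀, ha₀, hreg⟩ := exists_regular_mod_sat I (⊥ : Ideal B)
  have hx₀ : algebraMap B P (a₀ ^ (c + 1)) ∈ (I.map (algebraMap B P)) ^ c := by
    rw [← Ideal.map_pow]
    apply Ideal.mem_map_of_mem
    exact Ideal.pow_le_pow_right (Nat.le_succ c) (Ideal.pow_mem_pow ha₀ _)
  obtain ⟨n, hn, ε, hε, h⟩ := exists_pow_sub_of_mem I J c hJ _ hx₀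
  refine ⟨(a₀ ^ (c + 1)) ^ n, ?_, ?_, ε, hε, ?_⟩
  · rw [← pow_mul]
    exact Ideal.pow_mem_of_mem I ha₀ _ (Nat.mul_pos (Nat.succ_pos c) hn)
  · rw [← pow_mul]
    exact regular_pow hreg _
  · intro j hj
    rw [map_pow]
    exact h j hj

end Setup

end Groth.Agent.H72.Algz
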