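import Mathlib
import Groth.Agent.H72.Algz5

/-!
# Algebraization of closed formal subschemes (helper72), part 6

The localized picture `B_a → P_a` for an element `a ∈ I` which is regular modulo the `I`-power
torsion: kernels of the localization maps and the key descent lemma.
-/

set_option autoImplicit false
set_option linter.unusedSectionVars false
universe u

namespace Groth.Agent.H72.Algz

open Ideal

section Loc

variable {B : Type u} [CommRing B] [IsNoetherianRing B] (I : Ideal B)
  {P : Type u} [CommRing P] [Algebra B P] [Module.Flat B P] (a : B)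

/-- The map `B_a → P_a`. -/
noncomputable def lam : Localization.Away a →ₐ[B] Localization.Away (algebraMap B P a) :=
  IsLocalization.liftAlgHom (M := Submonoid.powers a)
    (f := Algebra.ofId B (Localization.Away (algebraMap B P a))) (by
      rintro ⟨_, n, rfl⟩
      rw [Algebra.ofId_apply,
        IsScalarTower.algebraMap_apply B P (Localization.Away (algebraMap B P a)), map_pow, map_pow]
      exact (IsLocalization.Away.algebraMap_isUnit _).pow n)

theorem lam_algebraMap (b : B) :
    lam (P := P) a (algebraMap B (Localization.Away a) b) =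
      algebraMap P (Localization.Away (algebraMap B P a)) (algebraMap B P b) := by
  rw [AlgHom.commutes, IsScalarTower.algebraMap_apply B P (Localization.Away (algebraMap B P a))]

variable {I a}

/-- The kernel of `B → B_a` is the `I`-power torsion. -/
theorem algebraMap_away_eq_zero_iff (ha : a ∈ I) (hreg : ∀ z, a * z ∈ sat I ⊥ → z ∈ sat I ⊥)
    (b : B) : algebraMap B (Localization.Away a) b = 0 ↔ b ∈ sat I ⊥ := by
  rw [IsLocalization.map_eq_zero_iff (Submonoid.powers a)]
  constructor
  · rintro ⟨⟨_, k, rfl⟩, hk⟩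
    apply regular_pow hreg k
    rw [hk]
    exact Ideal.zero_mem _
  · rintro ⟨n, hn⟩
    refine ⟨⟨a ^ n, n, rfl⟩, ?_⟩
    have := hn (a ^ n) (Ideal.pow_mem_pow ha n)
    rwa [Ideal.mem_bot] at this

/-- The kernel of `P → P_a` is generated by the `I`-power torsion of `B`. -/
theorem algebraMap_away_eq_zero_iff' (ha : a ∈ I) (hreg : ∀ z, a * z ∈ sat I ⊥ → z ∈ sat I ⊥)
    (p : P) : algebraMap P (Localization.Away (algebraMap B P a)) p = 0 ↔
      p ∈ (sat I (⊥ : Ideal B)).map (algebraMap B P) := by
  rw [IsLocalization.map_eq_zero_iff (Submonoid.powers (algebraMap B P a))]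
  constructor
  · rintro ⟨⟨_, k, rfl⟩, hk⟩
    apply mem_map_of_regular (sat I ⊥) a hreg k
    rw [hk]
    exact Ideal.zero_mem _
  · intro hp
    obtain ⟨N, hN⟩ := exists_pow_mul_sat_le I (⊥ : Ideal B)
    refine ⟨⟨algebraMap B P a ^ N, N, rfl⟩, ?_⟩
    have h1 : algebraMap B P a ^ N * p ∈ (I ^ N * sat I ⊥).map (algebraMap B P) := by
      rw [Ideal.map_mul, ← map_pow]
      exact Ideal.mul_mem_mul (Ideal.mem_map_of_mem _ (Ideal.pow_mem_pow ha N)) hp
    have h2 := Ideal.map_mono hN h1
    rwa [Ideal.map_bot, Ideal.mem_bot] at h2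

/-- The key descent lemma: an element of `B_a` whose image in `P_a` comes from `P` and which is
multiplied into the image of `B` by a power of `I` comes from `B`. -/
theorem mem_range_of_lam_mem_range (hP : ComplLike I P) (ha : a ∈ I)
    (hreg : ∀ z, a * z ∈ sat I ⊥ → z ∈ sat I ⊥) (z : Localization.Away a)
    (h1 : ∃ n : ℕ, ∀ i ∈ I ^ n, ∃ b : B,
      algebraMap B (Localization.Away a) i * z = algebraMap B (Localization.Away a) b)
    (h2 : ∃ p : P, lam (P := P) a z = algebraMap P (Localization.Away (algebraMap B P a)) p) :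
    ∃ b : B, z = algebraMap B (Localization.Away a) b := by
  obtain ⟨n, hn⟩ := h1
  obtain ⟨p, hp⟩ := h2
  obtain ⟨k, b, hz⟩ := IsLocalization.Away.surj a z
  set 𝔡 : Ideal B := Ideal.span {a ^ k} ⊔ sat I ⊥ with h𝔡
  -- (i)
  have hi : algebraMap B P b ∈ 𝔡.map (algebraMap B P) := by
    have h3 := congrArg (lam (P := P) a) hz
    rw [map_mul, map_pow, lam_algebraMap, lam_algebraMap, hp, ← map_pow, ← map_mul,
      ← sub_eq_zero, ← map_sub, algebraMap_away_eq_zero_iff' ha hreg] at h3
    have : algebraMap B P b = p * algebraMap B P a ^ k -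
        (p * algebraMap B P a ^ k - algebraMap B P b) := by ring
    rw [this, h𝔡, Ideal.map_sup]
    refine Ideal.sub_mem _ (Ideal.mem_sup_left ?_) (Ideal.mem_sup_right h3)
    rw [← map_pow]
    exact Ideal.mul_mem_left _ _ (Ideal.mem_map_of_mem _ (Ideal.mem_span_singleton_self _))
  -- (ii)
  have hii : ∀ i ∈ I ^ n, i * b ∈ 𝔡 := by
    intro i hi'
    obtain ⟨bi, hbi⟩ := hn i hi'
    have h3 : algebraMap B (Localization.Away a) (i * b - bi * a ^ k) = 0 := by
      rw [map_sub, map_mul, map_mul, ← hz, ← hbi, map_pow]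
      ring
    rw [algebraMap_away_eq_zero_iff ha hreg] at h3
    have : i * b = bi * a ^ k + (i * b - bi * a ^ k) := by ring
    rw [this, h𝔡]
    exact Ideal.add_mem _ (Ideal.mem_sup_left (Ideal.mul_mem_left _ _
      (Ideal.mem_span_singleton_self _))) (Ideal.mem_sup_right h3)
  -- (iii)
  have hiii := hP.mem_of_pow_mul_mem 𝔡 n b hii hi
  rw [h𝔡] at hiii
  obtain ⟨y, hy, t, ht, rfl⟩ := Submodule.mem_sup.mp hiii
  obtain ⟨r, rfl⟩ := Ideal.mem_span_singleton'.mp hy
  refine ⟨r, ?_⟩
  have hu : IsUnit (algebraMap B (Localization.Away a) a ^ k) :=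
    (IsLocalization.Away.algebraMap_isUnit a).pow k
  apply hu.mul_right_cancel
  rw [hz, map_add, map_mul, map_pow, (algebraMap_away_eq_zero_iff ha hreg t).mpr ht, add_zero]

end Loc

end Groth.Agent.H72.Algz
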