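import Mathlib
import Groth.Agent.H72.Algz3
import Groth.Agent.H72.Algz6

/-!
# Algebraization of closed formal subschemes (helper72), part 7

The idempotent `e ∈ P_a` cutting out `J` away from `V(I)`, and the finite `P`-algebra
`P' = P[e] ⊆ P_a`.
-/

set_option autoImplicit false
set_option linter.unusedSectionVars false
universe u

namespace Groth.Agent.H72.Algz

open Ideal

/-- Induction principle for extended ideals: sums of multiples of elements of the ideal. -/
theorem map_algebraMap_induction {B S : Type*} [CommRing B] [CommRing S] [Algebra B S]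
    (𝔠 : Ideal B) {Q : S → Prop}
    (hmul : ∀ i ∈ 𝔠, ∀ w : S, Q (algebraMap B S i * w)) (hadd : ∀ x y, Q x → Q y → Q (x + y))
    {x : S} (hx : x ∈ 𝔠.map (algebraMap B S)) : Q x := by
  have h1 : x ∈ 𝔠 • (⊤ : Submodule B S) := by
    rw [Ideal.smul_top_eq_map]; exact hx
  refine Submodule.smul_induction_on h1 (fun r hr n _ => ?_) hadd
  rw [Algebra.smul_def]
  exact hmul r hr n

section Idem

variable {B : Type u} [CommRing B] {P : Type u} [CommRing P] [Algebra B P] (a : B) (ε₀ : P)

/-- The element `e = ε₀ / a` of `P_a`. -/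
noncomputable def eElt : Localization.Away (algebraMap B P a) :=
  IsLocalization.mk' (Localization.Away (algebraMap B P a)) ε₀
    (⟨algebraMap B P a, Submonoid.mem_powers _⟩ : Submonoid.powers (algebraMap B P a))

theorem eElt_mul : eElt a ε₀ * algebraMap P (Localization.Away (algebraMap B P a))
    (algebraMap B P a) = algebraMap P _ ε₀ :=
  IsLocalization.mk'_spec _ _ _

theorem isUnit_away : IsUnit (algebraMap P (Localization.Away (algebraMap B P a))
    (algebraMap B P a)) :=
  IsLocalization.Away.algebraMap_isUnit _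

variable {a ε₀} {J : Ideal P} (hε₀ : ε₀ ∈ J) (hkill : ∀ j ∈ J, (algebraMap B P a - ε₀) * j = 0)

include hε₀ hkill

theorem eElt_mul_self : eElt a ε₀ * eElt a ε₀ = eElt a ε₀ := by
  have hu := isUnit_away (P := P) a
  apply (hu.mul hu).mul_right_cancel
  have h1 : ε₀ * ε₀ = algebraMap B P a * ε₀ := by
    have := hkill ε₀ hε₀
    rw [sub_mul, sub_eq_zero] at this
    exact this.symm
  have h2 : eElt a ε₀ * eElt a ε₀ * (algebraMap P _ (algebraMap B P a) *
      algebraMap P _ (algebraMap B P a)) =
      (eElt a ε₀ * algebraMap P _ (algebraMap B P a)) *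
        (eElt a ε₀ * algebraMap P _ (algebraMap B P a)) := by ring
  have h3 : eElt a ε₀ * (algebraMap P (Localization.Away (algebraMap B P a)) (algebraMap B P a) *
      algebraMap P _ (algebraMap B P a)) =
      (eElt a ε₀ * algebraMap P _ (algebraMap B P a)) * algebraMap P _ (algebraMap B P a) := by
    ring
  rw [h2, h3, eElt_mul, ← map_mul, ← map_mul, h1, mul_comm]

theorem algebraMap_mul_eElt (j : P) (hj : j ∈ J) :
    algebraMap P (Localization.Away (algebraMap B P a)) j * eElt a ε₀ = algebraMap P _ j := by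
  have hu := isUnit_away (P := P) a
  apply hu.mul_right_cancel
  have h1 : j * ε₀ = j * algebraMap B P a := by
    have := hkill j hj
    rw [sub_mul, sub_eq_zero] at this
    rw [mul_comm j, mul_comm j]
    exact this.symm
  rw [mul_assoc, eElt_mul, ← map_mul, ← map_mul, h1]

/-- If `(z - ε) J = 0` with `ε ∈ J` then `z e = ε` in `P_a`. -/
theorem algebraMap_mul_eElt_of_kill (z ε : P) (hε : ε ∈ J) (hz : ∀ j ∈ J, (z - ε) * j = 0) :
    algebraMap P (Localization.Away (algebraMap B P a)) z * eElt a ε₀ = algebraMap P _ ε := by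
  have hu := isUnit_away (P := P) a
  rw [← algebraMap_mul_eElt hε₀ hkill ε hε]
  apply hu.mul_right_cancel
  have h1 : z * ε₀ = ε * ε₀ := by
    have := hz ε₀ hε₀
    rw [sub_mul, sub_eq_zero] at this
    exact this
  rw [mul_assoc, mul_assoc, eElt_mul, ← map_mul, ← map_mul, h1]

end Idem

section PPrime

variable {B : Type u} [CommRing B] {P : Type u} [CommRing P] [Algebra B P] {a : B} {ε₀ : P}
  {J : Ideal P} (hε₀ : ε₀ ∈ J) (hkill : ∀ j ∈ J, (algebraMap B P a - ε₀) * j = 0)

/-- The subalgebra `P[e]` of `P_a`. -/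
noncomputable def PPrime : Subalgebra B (Localization.Away (algebraMap B P a)) where
  carrier := {w | ∃ p₀ p₁ : P, w = algebraMap P _ p₀ + algebraMap P _ p₁ * eElt a ε₀}
  mul_mem' := by
    rintro _ _ ⟨p₀, p₁, rfl⟩ ⟨q₀, q₁, rfl⟩
    refine ⟨p₀ * q₀, p₀ * q₁ + p₁ * q₀ + p₁ * q₁, ?_⟩
    have he := eElt_mul_self hε₀ hkill
    simp only [map_mul, map_add]
    linear_combination (algebraMap P (Localization.Away (algebraMap B P a)) p₁ *
      algebraMap P _ q₁) * he
  add_mem' := by
    rintro _ _ ⟨p₀, p₁, rfl⟩ ⟨q₀, q₁, rfl⟩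
    refine ⟨p₀ + q₀, p₁ + q₁, ?_⟩
    simp only [map_add]
    ring
  algebraMap_mem' := by
    intro b
    refine ⟨algebraMap B P b, 0, ?_⟩
    rw [map_zero, zero_mul, add_zero,
      IsScalarTower.algebraMap_apply B P (Localization.Away (algebraMap B P a))]

theorem mem_PPrime {w : Localization.Away (algebraMap B P a)} :
    w ∈ PPrime hε₀ hkill ↔
      ∃ p₀ p₁ : P, w = algebraMap P _ p₀ + algebraMap P _ p₁ * eElt a ε₀ := Iff.rfl

theorem algebraMap_mem_PPrime (p : P) :
    algebraMap P (Localization.Away (algebraMap B P a)) p ∈ PPrime hε₀ hkill :=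
  ⟨p, 0, by simp⟩

theorem eElt_mem_PPrime : eElt a ε₀ ∈ PPrime hε₀ hkill := ⟨0, 1, by simp⟩

/-- The map `P → P[e]`. -/
noncomputable def iotaP : P →ₐ[B] PPrime hε₀ hkill :=
  (IsScalarTower.toAlgHom B P (Localization.Away (algebraMap B P a))).codRestrict _
    (fun p => algebraMap_mem_PPrime hε₀ hkill p)

theorem iotaP_coe (p : P) :
    ((iotaP hε₀ hkill p : PPrime hε₀ hkill) : Localization.Away (algebraMap B P a)) =
      algebraMap P _ p := rfl

end PPrime

end Groth.Agent.H72.Algz
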