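import Mathlib
import Groth.Agent.H72.Algz7

/-!
# Algebraization of closed formal subschemes (helper72), part 8

The conductor of `P[e]` into `P`, the lattice `B' ⊆ B_a` and the dense isomorphism `B' → P[e]`.
-/

set_option autoImplicit false
set_option linter.unusedSectionVars false
universe u

namespace Groth.Agent.H72.Algz

open Ideal

section Cond

variable {B : Type u} [CommRing B] (I : Ideal B) {P : Type u} [CommRing P] [Algebra B P]
  [IsNoetherianRing P] {a : B} {ε₀ : P}
  {J : Ideal P} (hε₀ : ε₀ ∈ J) (hkill : ∀ j ∈ J, (algebraMap B P a - ε₀) * j = 0)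

/-- The conductor-like ideal of elements multiplying `e` into the image of `P`. -/
noncomputable def cond : Ideal P where
  carrier := {z | ∃ p : P, algebraMap P (Localization.Away (algebraMap B P a)) z * eElt a ε₀ =
    algebraMap P _ p}
  add_mem' := by
    rintro x y ⟨p, hp⟩ ⟨q, hq⟩
    exact ⟨p + q, by rw [map_add, add_mul, hp, hq, map_add]⟩
  zero_mem' := ⟨0, by simp⟩
  smul_mem' := by
    rintro c x ⟨p, hp⟩
    exact ⟨c * p, by rw [smul_eq_mul, map_mul, mul_assoc, hp, map_mul]⟩

include hε₀ hkill in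
/-- A power of `I` multiplies `P[e]` into the image of `P`. -/
theorem exists_pow_mul_PPrime (c : ℕ)
    (hdet : ∀ x ∈ (I.map (algebraMap B P)) ^ c, ∃ n : ℕ, 0 < n ∧ ∃ ε ∈ J,
      ∀ j ∈ J, (x ^ n - ε) * j = 0) :
    ∃ m : ℕ, ∀ i ∈ I ^ m, ∀ w ∈ PPrime hε₀ hkill, ∃ p : P,
      algebraMap P (Localization.Away (algebraMap B P a)) (algebraMap B P i) * w =
        algebraMap P _ p := by
  have hrad : (I.map (algebraMap B P)) ^ c ≤ (cond (a := a) (ε₀ := ε₀)).radical := by
    intro x hx
    obtain ⟨n, -, ε, hε, h⟩ := hdet x hx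
    exact ⟨n, ε, algebraMap_mul_eElt_of_kill hε₀ hkill (x ^ n) ε hε h⟩
  obtain ⟨M, hM⟩ := Ideal.exists_pow_le_of_le_radical_of_fg hrad
    ((isNoetherianRing_iff_ideal_fg P).mp inferInstance _)
  refine ⟨c * M, fun i hi w hw => ?_⟩
  have h1 : algebraMap B P i ∈ cond (a := a) (ε₀ := ε₀) := by
    apply hM
    rw [← pow_mul, ← Ideal.map_pow]
    exact Ideal.mem_map_of_mem _ hi
  obtain ⟨p, hp⟩ := h1
  obtain ⟨p₀, p₁, rfl⟩ := hw
  refine ⟨algebraMap B P i * p₀ + p₁ * p, ?_⟩
  rw [map_add, map_mul, map_mul, ← hp]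
  ring

end Cond

section Lattice

variable {B : Type u} [CommRing B] [IsNoetherianRing B] (I : Ideal B)
  {P : Type u} [CommRing P] [Algebra B P] [Module.Flat B P] {a : B} {ε₀ : P}
  {J : Ideal P} (hε₀ : ε₀ ∈ J) (hkill : ∀ j ∈ J, (algebraMap B P a - ε₀) * j = 0)

/-- The lattice `B' ⊆ B_a`: elements multiplied into `B` by a power of `I` whose image in `P_a`
lies in `P[e]`. -/
noncomputable def BPrime : Subalgebra B (Localization.Away a) where
  carrier := {y | (∃ n : ℕ, ∀ i ∈ I ^ n, algebraMap B (Localization.Away a) i * y ∈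
      (algebraMap B (Localization.Away a)).range) ∧ lam (P := P) a y ∈ PPrime hε₀ hkill}
  mul_mem' := by
    rintro x y ⟨⟨n, hn⟩, hx⟩ ⟨⟨m, hm⟩, hy⟩
    refine ⟨⟨n + m, fun i hi => ?_⟩, by rw [map_mul]; exact Subalgebra.mul_mem _ hx hy⟩
    rw [pow_add] at hi
    refine Submodule.mul_induction_on hi (fun u hu v hv => ?_) (fun u v hu hv => ?_)
    · have : algebraMap B (Localization.Away a) (u * v) * (x * y) =
          (algebraMap B (Localization.Away a) u * x) * (algebraMap B (Localization.Away a) v * y) := by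
        rw [map_mul]; ring
      rw [this]
      exact Subring.mul_mem _ (hn u hu) (hm v hv)
    · rw [map_add, add_mul]
      exact Subring.add_mem _ hu hv
  add_mem' := by
    rintro x y ⟨⟨n, hn⟩, hx⟩ ⟨⟨m, hm⟩, hy⟩
    refine ⟨⟨n + m, fun i hi => ?_⟩, by rw [map_add]; exact Subalgebra.add_mem _ hx hy⟩
    rw [mul_add]
    exact Subring.add_mem _ (hn i (Ideal.pow_le_pow_right (Nat.le_add_right n m) hi))
      (hm i (Ideal.pow_le_pow_right (Nat.le_add_left m n) hi))
  algebraMap_mem' := by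
    intro b
    refine ⟨⟨0, fun i _ => ⟨i * b, by rw [map_mul]⟩⟩, ?_⟩
    rw [AlgHom.commutes]
    exact Subalgebra.algebraMap_mem _ b

/-- The map `B' → P[e]`. -/
noncomputable def lamPrime : BPrime I hε₀ hkill →ₐ[B] PPrime hε₀ hkill :=
  ((lam (P := P) a).comp (BPrime I hε₀ hkill).val).codRestrict _ (fun y => y.2.2)

theorem lamPrime_coe (y : BPrime I hε₀ hkill) :
    ((lamPrime I hε₀ hkill y : PPrime hε₀ hkill) : Localization.Away (algebraMap B P a)) =
      lam (P := P) a (y : Localization.Away a) := rfl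

end Lattice

end Groth.Agent.H72.Algz
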