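import Mathlib
import Groth.Agent.H72.Algz8

/-!
# Algebraization of closed formal subschemes (helper72), part 9

Properties of the lattice `B'`: it is a finite `B`-module and `B' → P[e]` is a dense isomorphism.
-/

set_option autoImplicit false
set_option linter.unusedSectionVars false
universe u

namespace Groth.Agent.H72.Algz

open Ideal

section Lattice

variable {B : Type u} [CommRing B] [IsNoetherianRing B] {I : Ideal B}
  {P : Type u} [CommRing P] [Algebra B P] [Module.Flat B P] {a : B} {ε₀ : P}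
  {J : Ideal P} (hε₀ : ε₀ ∈ J) (hkill : ∀ j ∈ J, (algebraMap B P a - ε₀) * j = 0)
  (hP : ComplLike I P) (ha : a ∈ I) (hreg : ∀ z, a * z ∈ sat I ⊥ → z ∈ sat I ⊥)
  (m : ℕ) (hm : ∀ i ∈ I ^ m, ∀ w ∈ PPrime hε₀ hkill, ∃ p : P,
      algebraMap P (Localization.Away (algebraMap B P a)) (algebraMap B P i) * w =
        algebraMap P _ p)

include hP ha hreg hm

/-- `I^m B' ⊆ B`. -/
theorem pow_mul_BPrime_mem_range (y : Localization.Away a) (hy : y ∈ BPrime I hε₀ hkill)
    (i : B) (hi : i ∈ I ^ m) :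
    ∃ b : B, algebraMap B (Localization.Away a) i * y = algebraMap B (Localization.Away a) b := by
  obtain ⟨⟨n, hn⟩, hy2⟩ := hy
  have h1 : ∃ n : ℕ, ∀ i' ∈ I ^ n, ∃ b : B,
      algebraMap B (Localization.Away a) i' * (algebraMap B (Localization.Away a) i * y) =
        algebraMap B (Localization.Away a) b := by
    refine ⟨n, fun i' hi' => ?_⟩
    obtain ⟨b', hb'⟩ := hn i' hi'
    refine ⟨i * b', ?_⟩
    rw [map_mul, hb']
    ring
  have h2 : ∃ p : P, lam (P := P) a (algebraMap B (Localization.Away a) i * y) =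
      algebraMap P (Localization.Away (algebraMap B P a)) p := by
    rw [map_mul, lam_algebraMap]
    exact hm i hi _ hy2
  exact mem_range_of_lam_mem_range hP ha hreg _ h1 h2

/-- `B'` is a finite `B`-module. -/
theorem finite_BPrime : Module.Finite B (BPrime I hε₀ hkill) := by
  let R : Submodule B (Localization.Away a) :=
    LinearMap.range (Algebra.linearMap B (Localization.Away a))
  haveI : IsNoetherian B R :=
    isNoetherian_of_surjective (Algebra.linearMap B (Localization.Away a)).rangeRestrict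
      (LinearMap.range_rangeRestrict _)
  let φ₀ : BPrime I hε₀ hkill →ₗ[B] Localization.Away a :=
    (LinearMap.mulLeft B (algebraMap B (Localization.Away a) (a ^ m))).comp
      (BPrime I hε₀ hkill).val.toLinearMap
  have hφ₀ : ∀ y, φ₀ y ∈ R := by
    intro y
    obtain ⟨b, hb⟩ := pow_mul_BPrime_mem_range hε₀ hkill hP ha hreg m hm y.1 y.2 (a ^ m)
      (Ideal.pow_mem_pow ha m)
    exact ⟨b, hb.symm⟩
  let φ : BPrime I hε₀ hkill →ₗ[B] R := φ₀.codRestrict R hφ₀
  apply Module.Finite.of_injective φ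
  intro x y hxy
  have h1 : φ₀ x = φ₀ y := congrArg Subtype.val hxy
  have hu : IsUnit (algebraMap B (Localization.Away a) (a ^ m)) := by
    rw [map_pow]
    exact (IsLocalization.Away.algebraMap_isUnit a).pow m
  apply Subtype.ext
  exact hu.mul_left_cancel h1

/-- There is an element of `B'` mapping to `e` modulo `P`. -/
theorem exists_BPrime_lam_eq : ∃ y₀ ∈ BPrime I hε₀ hkill, ∃ q : P,
    lam (P := P) a y₀ = eElt a ε₀ + algebraMap P _ q := by
  set T : Ideal B := sat I ⊥ with hT
  set 𝔡 : Ideal B := Ideal.span {a} ⊔ T with h𝔡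
  have hmapd : ∀ x : P, x ∈ 𝔡.map (algebraMap B P) ↔
      ∃ q' : P, ∃ τ ∈ T.map (algebraMap B P), x = algebraMap B P a * q' + τ := by
    intro x
    rw [h𝔡, Ideal.map_sup, Ideal.map_span, Set.image_singleton]
    constructor
    · intro hx
      obtain ⟨y, hy, τ, hτ, rfl⟩ := Submodule.mem_sup.mp hx
      obtain ⟨q', rfl⟩ := Ideal.mem_span_singleton'.mp hy
      exact ⟨q', τ, hτ, by ring⟩
    · rintro ⟨q', τ, hτ, rfl⟩
      exact Ideal.add_mem _ (Ideal.mem_sup_left (Ideal.mul_mem_right _ _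
        (Ideal.mem_span_singleton_self _))) (Ideal.mem_sup_right hτ)
  have hu := isUnit_away (P := P) a
  -- `I^m ε₀ ⊆ 𝔡 P`
  have hp : ∀ i ∈ I ^ m, algebraMap B P i * ε₀ ∈ 𝔡.map (algebraMap B P) := by
    intro i hi
    obtain ⟨p, hp⟩ := hm i hi _ (eElt_mem_PPrime hε₀ hkill)
    have h1 : algebraMap P (Localization.Away (algebraMap B P a))
        (algebraMap B P i * ε₀ - algebraMap B P a * p) = 0 := by
      rw [map_sub, map_mul, map_mul, ← hp, ← eElt_mul a ε₀]
      ring
    rw [algebraMap_away_eq_zero_iff' ha hreg] at h1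
    rw [hmapd]
    exact ⟨p, _, h1, by ring⟩
  obtain ⟨b, hb, hbε⟩ := hP.exists_sat_sub_mem 𝔡 m ε₀ hp
  obtain ⟨q', τ, hτ, hq'⟩ := (hmapd _).mp hbε
  let y₀ : Localization.Away a := IsLocalization.mk' (Localization.Away a) b
    (⟨a, Submonoid.mem_powers _⟩ : Submonoid.powers a)
  have hy₀ : y₀ * algebraMap B (Localization.Away a) a = algebraMap B _ b :=
    IsLocalization.mk'_spec _ _ _
  have huB : IsUnit (algebraMap B (Localization.Away a) a) :=
    IsLocalization.Away.algebraMap_isUnit a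
  have hlam : lam (P := P) a y₀ = eElt a ε₀ + algebraMap P _ (-q') := by
    apply hu.mul_right_cancel
    have h1 := congrArg (lam (P := P) a) hy₀
    rw [map_mul, lam_algebraMap, lam_algebraMap] at h1
    rw [h1, add_mul, eElt_mul, ← map_mul, ← map_add]
    have h2 : algebraMap P (Localization.Away (algebraMap B P a)) τ = 0 :=
      (algebraMap_away_eq_zero_iff' ha hreg τ).mpr hτ
    have h3 : algebraMap B P b = ε₀ + -q' * algebraMap B P a - τ := by
      have : algebraMap B P b = ε₀ - (ε₀ - algebraMap B P b) := by ring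
      rw [this, hq']; ring
    rw [h3, map_sub, h2, sub_zero]
  refine ⟨y₀, ⟨?_, ?_⟩, -q', hlam⟩
  · obtain ⟨n, hn⟩ := (mem_sat I).mp hb
    refine ⟨n, fun i hi => ?_⟩
    have h1 := hn i hi
    rw [h𝔡] at h1
    obtain ⟨y, hy, t, ht, hyt⟩ := Submodule.mem_sup.mp h1
    obtain ⟨r, rfl⟩ := Ideal.mem_span_singleton'.mp hy
    refine ⟨r, ?_⟩
    apply huB.mul_right_cancel
    rw [mul_assoc, hy₀, ← map_mul, ← map_mul, ← hyt, map_add,
      (algebraMap_away_eq_zero_iff ha hreg t).mpr ht, add_zero]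
  · rw [hlam]
    exact ⟨-q', 1, by rw [map_one, one_mul]; ring⟩

end Lattice

end Groth.Agent.H72.Algz
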