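import Mathlib
import Groth.Agent.H72.Algz9

/-!
# Algebraization of closed formal subschemes (helper72), part 10

`B' → P[e]` is a dense isomorphism.
-/

set_option autoImplicit false
set_option linter.unusedSectionVars false
universe u

namespace Groth.Agent.H72.Algz

open Ideal

section Lattice

variable {B : Type u} [CommRing B] [IsNoetherianRing B] {I : Ideal B}
  {P : Type u} [CommRing P] [Algebra B P] [Module.Flat B P] {a : B} {ε₀ : P}
  {J : Ideal P} (hε₀ : ε₀ ∈ J) (hkill : ∀ j ∈ J, (algebraMap B P a - ε₀) * j = 0)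
  (hP : ComplLike I P) (ha : a ∈ I) (hreg : ∀ z, a * z ∈ sat I ⊥ → z ∈ sat I ⊥)
  (m : ℕ) (hm : ∀ i ∈ I ^ m, ∀ w ∈ PPrime hε₀ hkill, ∃ p : P,
      algebraMap P (Localization.Away (algebraMap B P a)) (algebraMap B P i) * w =
        algebraMap P _ p)

include hP ha hreg hm

theorem lamPrime_surj (n : ℕ) (w : PPrime hε₀ hkill) :
    ∃ u : BPrime I hε₀ hkill, w - lamPrime I hε₀ hkill u ∈
      (I ^ n).map (algebraMap B (PPrime hε₀ hkill)) := by
  obtain ⟨p₀, p₁, hw⟩ := w.2
  obtain ⟨y₀, hy₀, q, hq⟩ := exists_BPrime_lam_eq hε₀ hkill hP ha hreg m hm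
  obtain ⟨b₀, hb₀⟩ := hP.surj n (p₀ - p₁ * q)
  obtain ⟨b₁, hb₁⟩ := hP.surj n p₁
  let Y₀ : BPrime I hε₀ hkill := ⟨y₀, hy₀⟩
  refine ⟨algebraMap B _ b₀ + algebraMap B _ b₁ * Y₀, ?_⟩
  have key : w - lamPrime I hε₀ hkill (algebraMap B _ b₀ + algebraMap B _ b₁ * Y₀) =
      iotaP hε₀ hkill (p₀ - p₁ * q - algebraMap B P b₀) +
        iotaP hε₀ hkill (p₁ - algebraMap B P b₁) * lamPrime I hε₀ hkill Y₀ := by
    apply Subtype.ext
    rw [Subalgebra.coe_sub, Subalgebra.coe_add, Subalgebra.coe_mul, lamPrime_coe, lamPrime_coe,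
      iotaP_coe, iotaP_coe, Subalgebra.coe_add, Subalgebra.coe_mul, Subalgebra.coe_algebraMap,
      Subalgebra.coe_algebraMap, map_add, map_mul, AlgHom.commutes, AlgHom.commutes,
      IsScalarTower.algebraMap_apply B P (Localization.Away (algebraMap B P a)),
      IsScalarTower.algebraMap_apply B P (Localization.Away (algebraMap B P a)) b₁]
    have hw' : (w : Localization.Away (algebraMap B P a)) =
        algebraMap P _ p₀ + algebraMap P _ p₁ * eElt a ε₀ := hw
    have hY : ((Y₀ : BPrime I hε₀ hkill) : Localization.Away a) = y₀ := rfl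
    rw [hw', hY, hq]
    simp only [map_sub, map_mul]
    ring
  rw [key]
  exact Ideal.add_mem _ (map_mem_map (iotaP hε₀ hkill) _ hb₀)
    (Ideal.mul_mem_right _ _ (map_mem_map (iotaP hε₀ hkill) _ hb₁))

/-- Elements of `I^m P[e]` come from `P`. -/
theorem exists_eq_algebraMap_of_mem (r : PPrime hε₀ hkill)
    (hr : r ∈ (I ^ m).map (algebraMap B (PPrime hε₀ hkill))) :
    ∃ p : P, (r : Localization.Away (algebraMap B P a)) = algebraMap P _ p := by
  refine map_algebraMap_induction (I ^ m) (Q := fun r : PPrime hε₀ hkill =>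
    ∃ p : P, (r : Localization.Away (algebraMap B P a)) = algebraMap P _ p) ?_ ?_ hr
  · intro i hi w
    obtain ⟨p, hp⟩ := hm i hi w.1 w.2
    refine ⟨p, ?_⟩
    rw [Subalgebra.coe_mul, Subalgebra.coe_algebraMap,
      IsScalarTower.algebraMap_apply B P (Localization.Away (algebraMap B P a)), hp]
  · rintro x y ⟨p, hp⟩ ⟨q, hq⟩
    exact ⟨p + q, by rw [Subalgebra.coe_add, hp, hq, map_add]⟩

/-- Elements of `I^n P[e]` are sums of an element of `I^n B'` and an element of `I^n P`. -/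
theorem exists_decomp_of_mem (n : ℕ) (w : PPrime hε₀ hkill)
    (hw : w ∈ (I ^ n).map (algebraMap B (PPrime hε₀ hkill))) :
    ∃ u₁ ∈ (I ^ n).map (algebraMap B (BPrime I hε₀ hkill)),
      ∃ p ∈ (I ^ n).map (algebraMap B P),
        (w : Localization.Away (algebraMap B P a)) =
          lam (P := P) a (u₁ : Localization.Away a) + algebraMap P _ p := by
  refine map_algebraMap_induction (I ^ n) (Q := fun w : PPrime hε₀ hkill =>
    ∃ u₁ ∈ (I ^ n).map (algebraMap B (BPrime I hε₀ hkill)),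
      ∃ p ∈ (I ^ n).map (algebraMap B P),
        (w : Localization.Away (algebraMap B P a)) =
          lam (P := P) a (u₁ : Localization.Away a) + algebraMap P _ p) ?_ ?_ hw
  · intro i hi w
    obtain ⟨u, hu⟩ := lamPrime_surj hε₀ hkill hP ha hreg m hm m w
    obtain ⟨pr, hpr⟩ := exists_eq_algebraMap_of_mem hε₀ hkill hP ha hreg m hm _ hu
    rw [Subalgebra.coe_sub, lamPrime_coe, sub_eq_iff_eq_add] at hpr
    refine ⟨algebraMap B _ i * u, Ideal.mul_mem_right _ _ (Ideal.mem_map_of_mem _ hi),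
      algebraMap B P i * pr, Ideal.mul_mem_right _ _ (Ideal.mem_map_of_mem _ hi), ?_⟩
    rw [Subalgebra.coe_mul, Subalgebra.coe_algebraMap, Subalgebra.coe_mul,
      Subalgebra.coe_algebraMap, hpr, map_mul, map_mul, AlgHom.commutes,
      IsScalarTower.algebraMap_apply B P (Localization.Away (algebraMap B P a))]
    ring
  · rintro x y ⟨u, hu, p, hp, h1⟩ ⟨v, hv, q, hq, h2⟩
    refine ⟨u + v, Ideal.add_mem _ hu hv, p + q, Ideal.add_mem _ hp hq, ?_⟩
    rw [Subalgebra.coe_add, h1, h2, Subalgebra.coe_add, map_add, map_add]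
    ring

theorem lamPrime_inj (n : ℕ) (u : BPrime I hε₀ hkill)
    (hu : lamPrime I hε₀ hkill u ∈ (I ^ n).map (algebraMap B (PPrime hε₀ hkill))) :
    u ∈ (I ^ n).map (algebraMap B (BPrime I hε₀ hkill)) := by
  obtain ⟨u₁, hu₁, p, hp, h1⟩ := exists_decomp_of_mem hε₀ hkill hP ha hreg m hm n _ hu
  rw [lamPrime_coe] at h1
  -- `u' = u - u₁` maps into the image of `P`
  have h2 : lam (P := P) a ((u - u₁ : BPrime I hε₀ hkill) : Localization.Away a) =
      algebraMap P _ p := by
    rw [Subalgebra.coe_sub, map_sub, h1]; ring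
  obtain ⟨⟨n', hn'⟩, -⟩ := (u - u₁).2
  obtain ⟨b, hb⟩ := mem_range_of_lam_mem_range hP ha hreg
    ((u - u₁ : BPrime I hε₀ hkill) : Localization.Away a)
    ⟨n', fun i hi => by
      obtain ⟨b', hb'⟩ := hn' i hi
      exact ⟨b', hb'.symm⟩⟩ ⟨p, h2⟩
  have h3 : algebraMap P (Localization.Away (algebraMap B P a)) (algebraMap B P b - p) = 0 := by
    rw [map_sub, ← h2, hb, lam_algebraMap, sub_self]
  rw [algebraMap_away_eq_zero_iff' ha hreg] at h3
  have h4 : algebraMap B P b ∈ (I ^ n ⊔ sat I ⊥).map (algebraMap B P) := by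
    have : algebraMap B P b = p + (algebraMap B P b - p) := by ring
    rw [this, Ideal.map_sup]
    exact Ideal.add_mem _ (Ideal.mem_sup_left hp) (Ideal.mem_sup_right h3)
  have h5 : b ∈ I ^ n ⊔ sat I ⊥ := hP.mem_of_map_mem (n := n) le_sup_left h4
  obtain ⟨i, hi, t, ht, rfl⟩ := Submodule.mem_sup.mp h5
  have h6 : u - u₁ = algebraMap B _ i := by
    apply Subtype.ext
    rw [hb, Subalgebra.coe_algebraMap, map_add, (algebraMap_away_eq_zero_iff ha hreg t).mpr ht,
      add_zero]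
  have h7 : u = u₁ + algebraMap B _ i := by rw [← h6]; ring
  rw [h7]
  exact Ideal.add_mem _ hu₁ (Ideal.mem_map_of_mem _ hi)

theorem denseIso_lamPrime : DenseIso I (lamPrime I hε₀ hkill) :=
  ⟨fun n w => lamPrime_surj hε₀ hkill hP ha hreg m hm n w,
    fun n u hu => lamPrime_inj hε₀ hkill hP ha hreg m hm n u hu⟩

end Lattice

end Groth.Agent.H72.Algz
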