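import Mathlib
import Groth.Agent.H72.Algz3

/-!
# Algebraization of closed formal subschemes (helper72), part 11

Dense isomorphisms and idempotents: localizing the source at a lift of `1 - e` and dividing the
target by `e`.
-/

set_option autoImplicit false
set_option linter.unusedSectionVars false
universe u

namespace Groth.Agent.H72.Algz

open Ideal

theorem denseIso_localization_quotient {B : Type u} [CommRing B] (I : Ideal B)
    {D C : Type u} [CommRing D] [CommRing C] [Algebra B D] [Algebra B C] (ψ : D →ₐ[B] C)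
    (hψ : DenseIso I ψ) (e : C) (he : e * e = e) (g : D)
    (hg : ψ g - (1 - e) ∈ I.map (algebraMap B C))
    (hunit : IsUnit (Ideal.Quotient.mk (Ideal.span {e}) (ψ g))) :
    ∃ ψ₁ : Localization.Away g →ₐ[B] C ⧸ Ideal.span {e},
      (∀ d : D, ψ₁ (algebraMap D _ d) = Ideal.Quotient.mk _ (ψ d)) ∧ DenseIso I ψ₁ := by
  let f : D →ₐ[B] C ⧸ Ideal.span {e} := (Ideal.Quotient.mkₐ B (Ideal.span {e})).comp ψ
  have hf : ∀ y : Submonoid.powers g, IsUnit (f y) := by
    rintro ⟨_, k, rfl⟩
    change IsUnit (f (g ^ k))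
    rw [map_pow]
    exact hunit.pow k
  let ψ₁ : Localization.Away g →ₐ[B] C ⧸ Ideal.span {e} :=
    IsLocalization.liftAlgHom (M := Submonoid.powers g) (f := f) hf
  have hψ₁ : ∀ d : D, ψ₁ (algebraMap D _ d) = Ideal.Quotient.mk _ (ψ d) := by
    intro d
    change IsLocalization.lift hf (algebraMap D _ d) = _
    rw [IsLocalization.lift_eq]
    rfl
  refine ⟨ψ₁, hψ₁, ?_, ?_⟩
  · intro n y
    obtain ⟨c, rfl⟩ := Ideal.Quotient.mk_surjective y
    obtain ⟨d, hd⟩ := hψ.surj n c
    refine ⟨algebraMap D _ d, ?_⟩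
    rw [hψ₁, ← map_sub]
    exact map_mem_map (Ideal.Quotient.mkₐ B (Ideal.span {e})) _ hd
  · intro n x hx
    obtain ⟨k, d, hxd⟩ := IsLocalization.Away.surj g x
    have h1 : Ideal.Quotient.mk (Ideal.span {e}) (ψ d) ∈
        (I ^ n).map (algebraMap B (C ⧸ Ideal.span {e})) := by
      rw [← hψ₁, ← hxd, map_mul]
      exact Ideal.mul_mem_right _ _ hx
    obtain ⟨r, hr, hrd⟩ := exists_mem_map_of_surjective (Ideal.Quotient.mkₐ B (Ideal.span {e}))
      (Ideal.Quotient.mkₐ_surjective B _) (I ^ n) h1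
    rw [Ideal.Quotient.mkₐ_eq_mk, Ideal.Quotient.eq, ← Ideal.neg_mem_iff, neg_sub] at hrd
    obtain ⟨s, hs⟩ := Ideal.mem_span_singleton'.mp hrd
    -- `ψ(g)^n e ∈ I^n C`
    set ι := ψ g - (1 - e) with hι
    have hge : ψ g * e = ι * e := by
      rw [hι]
      linear_combination -he
    have hgne : ∀ l : ℕ, ψ g ^ l * e = ι ^ l * e := by
      intro l
      induction l with
      | zero => simp
      | succ l ih =>
        rw [pow_succ, mul_assoc, hge, ← mul_assoc, mul_comm (ψ g ^ l) ι, mul_assoc, ih]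
        ring
    have h2 : ψ (g ^ n * d) ∈ (I ^ n).map (algebraMap B C) := by
      have : ψ (g ^ n * d) = ψ g ^ n * r + s * (ψ g ^ n * e) := by
        rw [map_mul, map_pow]
        linear_combination (ψ g ^ n) * hs.symm
      rw [this, hgne n]
      refine Ideal.add_mem _ (Ideal.mul_mem_left _ _ hr) (Ideal.mul_mem_left _ _
        (Ideal.mul_mem_right _ _ ?_))
      rw [Ideal.map_pow]
      exact Ideal.pow_mem_pow hg n
    have h3 := hψ.inj n _ h2
    have hu : IsUnit (algebraMap D (Localization.Away g) g ^ (k + n)) :=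
      (IsLocalization.Away.algebraMap_isUnit g).pow _
    rw [← Ideal.mul_unit_mem_iff_mem _ hu]
    have h4 : x * algebraMap D (Localization.Away g) g ^ (k + n) =
        algebraMap D (Localization.Away g) (g ^ n * d) := by
      rw [pow_add, ← mul_assoc, hxd, map_mul, map_pow]
      ring
    rw [h4]
    exact map_mem_map (IsScalarTower.toAlgHom B D (Localization.Away g)) _ h3

end Groth.Agent.H72.Algz
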