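import Mathlib
import Groth.Agent.H72.Algz10
import Groth.Agent.H72.Algz11

/-!
# Algebraization of closed formal subschemes (helper72), part 12a

Abstract lemmas used in the final assembly.
-/

set_option autoImplicit false
set_option linter.unusedSectionVars false
universe u

namespace Groth.Agent.H72.Algz

open Ideal

/-- A lift of `1 - e` modulo `I` becomes a unit in `S/(e)` when `S/(e)` is a quotient of an
`I`-adically complete ring. -/
theorem isUnit_mk_of_sub_mem {B : Type u} [CommRing B] (I : Ideal B)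
    {P : Type u} [CommRing P] [Algebra B P] [IsAdicComplete (I.map (algebraMap B P)) P]
    {S : Type u} [CommRing S] [Algebra B S] (ι : P →ₐ[B] S) (e : S)
    (hsurj : Function.Surjective ((Ideal.Quotient.mkₐ B (Ideal.span {e})).comp ι))
    (x : S) (hx : x - (1 - e) ∈ I.map (algebraMap B S)) :
    IsUnit (Ideal.Quotient.mkₐ B (Ideal.span {e}) x) := by
  set π₁ : P →ₐ[B] S ⧸ Ideal.span {e} := (Ideal.Quotient.mkₐ B (Ideal.span {e})).comp ι with hπ₁
  have hmk_e : Ideal.Quotient.mkₐ B (Ideal.span {e}) e = 0 :=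
    Ideal.Quotient.eq_zero_iff_mem.mpr (Ideal.mem_span_singleton_self _)
  have h1 : Ideal.Quotient.mkₐ B (Ideal.span {e}) (x - (1 - e)) ∈
      I.map (algebraMap B (S ⧸ Ideal.span {e})) :=
    map_mem_map (Ideal.Quotient.mkₐ B (Ideal.span {e})) I hx
  obtain ⟨pι, hpι, hpι2⟩ := exists_mem_map_of_surjective π₁ hsurj I h1
  have h2 : Ideal.Quotient.mkₐ B (Ideal.span {e}) x = π₁ (pι * 1 + 1) := by
    rw [map_add, map_mul, map_one, mul_one, hpι2, map_sub, map_sub, map_one, hmk_e]
    ring
  rw [h2]
  apply IsUnit.map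
  have h3 : pι ∈ Ideal.jacobson (⊥ : Ideal P) :=
    IsAdicComplete.le_jacobson_bot (I.map (algebraMap B P)) hpι
  exact Ideal.mem_jacobson_bot.mp h3 1

end Groth.Agent.H72.Algz
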