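import Mathlib
import Groth.Agent.H72.Algz12a

/-!
# Algebraization of closed formal subschemes (helper72), part 12

The quotient `P[e]/(e)` as a quotient of `P`, and its kernel.
-/

set_option autoImplicit false
set_option linter.unusedSectionVars false
universe u

namespace Groth.Agent.H72.Algz

open Ideal

section Quot

variable {B : Type u} [CommRing B] {P : Type u} [CommRing P] [Algebra B P] {a : B} {ε₀ : P}
  {J : Ideal P} (hε₀ : ε₀ ∈ J) (hkill : ∀ j ∈ J, (algebraMap B P a - ε₀) * j = 0)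

/-- The idempotent `e` as an element of `P[e]`. -/
noncomputable def ePrime : PPrime hε₀ hkill := ⟨eElt a ε₀, eElt_mem_PPrime hε₀ hkill⟩

theorem ePrime_mul_self : ePrime hε₀ hkill * ePrime hε₀ hkill = ePrime hε₀ hkill :=
  Subtype.ext (eElt_mul_self hε₀ hkill)

/-- The surjection `P → P[e]/(e)`. -/
noncomputable def pi1 : P →ₐ[B] (PPrime hε₀ hkill ⧸ Ideal.span {ePrime hε₀ hkill}) :=
  (Ideal.Quotient.mkₐ B (Ideal.span {ePrime hε₀ hkill})).comp (iotaP hε₀ hkill)

theorem pi1_apply (p : P) :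
    pi1 hε₀ hkill p = Ideal.Quotient.mk (Ideal.span {ePrime hε₀ hkill}) (iotaP hε₀ hkill p) :=
  rfl

theorem pi1_surjective : Function.Surjective (pi1 hε₀ hkill) := by
  intro y
  obtain ⟨w, rfl⟩ := Ideal.Quotient.mk_surjective y
  obtain ⟨p₀, p₁, hw⟩ := w.2
  refine ⟨p₀, ?_⟩
  rw [pi1_apply, Ideal.Quotient.eq, ← Ideal.neg_mem_iff, neg_sub, Ideal.mem_span_singleton']
  refine ⟨iotaP hε₀ hkill p₁, ?_⟩
  apply Subtype.ext
  rw [Subalgebra.coe_mul, Subalgebra.coe_sub, iotaP_coe, iotaP_coe]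
  have hw' : (w : Localization.Away (algebraMap B P a)) =
      algebraMap P _ p₀ + algebraMap P _ p₁ * eElt a ε₀ := hw
  rw [hw']
  change _ * eElt a ε₀ = _
  ring

theorem mul_eElt_of_mem_ker_pi1 (p : P) (hp : p ∈ RingHom.ker (pi1 hε₀ hkill)) :
    algebraMap P (Localization.Away (algebraMap B P a)) p * eElt a ε₀ = algebraMap P _ p := by
  rw [RingHom.mem_ker, pi1_apply, Ideal.Quotient.eq_zero_iff_mem] at hp
  obtain ⟨s, hs⟩ := Ideal.mem_span_singleton'.mp hp
  have h2 := congrArg Subtype.val hs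
  rw [Subalgebra.coe_mul, iotaP_coe] at h2
  change (s : Localization.Away (algebraMap B P a)) * eElt a ε₀ = _ at h2
  rw [← h2, mul_assoc, eElt_mul_self hε₀ hkill]

theorem le_ker_pi1 : J ≤ RingHom.ker (pi1 hε₀ hkill) := by
  intro j hj
  rw [RingHom.mem_ker, pi1_apply, Ideal.Quotient.eq_zero_iff_mem, Ideal.mem_span_singleton']
  refine ⟨iotaP hε₀ hkill j, ?_⟩
  apply Subtype.ext
  rw [Subalgebra.coe_mul, iotaP_coe]
  exact algebraMap_mul_eElt hε₀ hkill j hj

end Quot

section Ker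

variable {B : Type u} [CommRing B] [IsNoetherianRing B] (I : Ideal B)
  {P : Type u} [CommRing P] [Algebra B P] [IsNoetherianRing P] [Module.Flat B P] {a : B} {ε₀ : P}
  {J : Ideal P} (hε₀ : ε₀ ∈ J) (hkill : ∀ j ∈ J, (algebraMap B P a - ε₀) * j = 0)
  (ha : a ∈ I) (hreg : ∀ z, a * z ∈ sat I ⊥ → z ∈ sat I ⊥)

include ha hreg in
theorem exists_pow_mul_ker_pi1_le (c : ℕ)
    (hdet : ∀ x ∈ (I.map (algebraMap B P)) ^ c, ∃ n : ℕ, 0 < n ∧ ∃ ε ∈ J,
      ∀ j ∈ J, (x ^ n - ε) * j = 0) :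
    ∃ N : ℕ, (I ^ N).map (algebraMap B P) * RingHom.ker (pi1 hε₀ hkill) ≤ J := by
  set T : Ideal B := sat I ⊥ with hT
  set K : Ideal P := RingHom.ker (pi1 hε₀ hkill) with hK
  obtain ⟨t₀, ht₀⟩ := exists_pow_mul_sat_le I (⊥ : Ideal B)
  have hrad : (I.map (algebraMap B P)) ^ c ≤
      ((J ⊔ T.map (algebraMap B P)).colon (K : Set P)).radical := by
    intro x hx
    obtain ⟨n, -, ε, hε, h⟩ := hdet x hx
    refine ⟨n, ?_⟩
    rw [Submodule.mem_colon]
    intro p hp
    have h1 := algebraMap_mul_eElt_of_kill hε₀ hkill (x ^ n) ε hε h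
    have hpe := mul_eElt_of_mem_ker_pi1 hε₀ hkill p hp
    have h2 : algebraMap P (Localization.Away (algebraMap B P a)) (x ^ n * p - ε * p) = 0 := by
      rw [map_sub, map_mul, map_mul]
      linear_combination (-(algebraMap P (Localization.Away (algebraMap B P a)) (x ^ n))) * hpe +
        (algebraMap P (Localization.Away (algebraMap B P a)) p) * h1
    rw [algebraMap_away_eq_zero_iff' ha hreg] at h2
    have : x ^ n • p = ε * p + (x ^ n * p - ε * p) := by rw [smul_eq_mul]; ring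
    rw [this]
    exact Submodule.add_mem_sup (J.mul_mem_right _ hε) h2
  obtain ⟨M, hM⟩ := Ideal.exists_pow_le_of_le_radical_of_fg hrad
    ((isNoetherianRing_iff_ideal_fg P).mp inferInstance _)
  refine ⟨t₀ + c * M, ?_⟩
  rw [pow_add, Ideal.map_mul, mul_assoc]
  have h1 : (I ^ (c * M)).map (algebraMap B P) * K ≤ J ⊔ T.map (algebraMap B P) := by
    rw [Ideal.mul_le]
    intro x hx p hp
    have h2 : x ∈ (J ⊔ T.map (algebraMap B P)).colon (K : Set P) := by
      apply hM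
      rw [← pow_mul, ← Ideal.map_pow]
      exact hx
    exact (Submodule.mem_colon.mp h2) p hp
  refine (Ideal.mul_mono_right h1).trans ?_
  rw [Ideal.mul_sup]
  refine sup_le Ideal.mul_le_right ?_
  rw [← Ideal.map_mul]
  refine (Ideal.map_mono ht₀).trans ?_
  rw [Ideal.map_bot]
  exact bot_le

end Ker

end Groth.Agent.H72.Algz
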