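import Mathlib
import Groth.Agent.H72.Algz12

/-!
# Algebraization of closed formal subschemes (helper72), part 13

Main abstract theorem: if `P` is an `I`-adic completion of the Noetherian ring `B` and `J ⊆ P` is an
ideal with `I^c J ⊆ J²`, then `P/J` is (at all finite levels) the completion of a `B`-algebra of
finite type.
-/

set_option autoImplicit false
set_option linter.unusedSectionVars false
universe u

namespace Groth.Agent.H72.Algz

open Ideal

theorem exists_algebraization {B : Type u} [CommRing B] [IsNoetherianRing B] (I : Ideal B)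
    {P : Type u} [CommRing P] [Algebra B P] [IsNoetherianRing P] [Module.Flat B P]
    [IsAdicComplete (I.map (algebraMap B P)) P] (hP : ComplLike I P)
    {C : Type u} [CommRing C] [Algebra B C] (π : P →ₐ[B] C) (hπ : Function.Surjective π) (c : ℕ)
    (hJ : (I.map (algebraMap B P)) ^ c * RingHom.ker π ≤ RingHom.ker π ^ 2) :
    ∃ (D : Type u) (_ : CommRing D) (_ : Algebra B D), Algebra.FiniteType B D ∧
      ∃ ψ : D →ₐ[B] C, DenseIso I ψ := by
  set J : Ideal P := RingHom.ker π with hJdef
  obtain ⟨a, ha, hreg, ε₀, hε₀, hkill⟩ := exists_good_element I J c hJ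
  have hdet := fun x hx => exists_pow_sub_of_mem I J c hJ x hx
  obtain ⟨m, hm⟩ := exists_pow_mul_PPrime I hε₀ hkill c hdet
  have hdense := denseIso_lamPrime hε₀ hkill hP ha hreg m hm
  have hfin : Module.Finite B (BPrime I hε₀ hkill) := finite_BPrime hε₀ hkill hP ha hreg m hm
  obtain ⟨g, hg0⟩ := hdense.surj 1 (1 - ePrime hε₀ hkill)
  have hg : lamPrime I hε₀ hkill g - (1 - ePrime hε₀ hkill) ∈
      I.map (algebraMap B (PPrime hε₀ hkill)) := by
    rw [pow_one] at hg0
    rw [← Ideal.neg_mem_iff, neg_sub]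
    exact hg0
  have hunit := isUnit_mk_of_sub_mem I (iotaP hε₀ hkill) (ePrime hε₀ hkill)
    (pi1_surjective hε₀ hkill) _ hg
  obtain ⟨ψ₁, -, hψ₁⟩ := denseIso_localization_quotient I (lamPrime I hε₀ hkill) hdense
    (ePrime hε₀ hkill) (ePrime_mul_self hε₀ hkill) g hg hunit
  obtain ⟨N, hN⟩ := exists_pow_mul_ker_pi1_le I hε₀ hkill ha hreg c hdet
  exact exists_denseIso_of_thickening
    (C₁ := PPrime hε₀ hkill ⧸ Ideal.span {ePrime hε₀ hkill}) I hP π hπ (pi1 hε₀ hkill)
    (pi1_surjective hε₀ hkill) (le_ker_pi1 hε₀ hkill) N hN (Localization.Away g) ψ₁ hψ₁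

end Groth.Agent.H72.Algz
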