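import Mathlib
import Groth.Agent.H72.Algz1
import Groth.Agent.H20.ComplBij

/-!
# Algebraization of closed formal subschemes (helper72), part 4

A dense isomorphism into an adically complete algebra identifies the target with the adic
completion of the source.
-/

set_option autoImplicit false
universe u

namespace Groth.Agent.H72.Algz

open Ideal

theorem exists_ringEquiv_adicCompletion {B : Type u} [CommRing B] (I : Ideal B)
    {D C : Type u} [CommRing D] [CommRing C] [Algebra B D] [Algebra B C]
    [IsAdicComplete (I.map (algebraMap B C)) C] (ψ : D →ₐ[B] C) (hψ : DenseIso I ψ) :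
    ∃ e : C ≃+* AdicCompletion (I.map (algebraMap B D)) D,
      ∀ b : B, e (algebraMap B C b) =
        algebraMap D (AdicCompletion (I.map (algebraMap B D)) D) (algebraMap B D b) := by
  set ID : Ideal D := I.map (algebraMap B D) with hID
  set K : Ideal C := I.map (algebraMap B C) with hK
  let g : D →+* C := ψ
  have hmap : ID.map g = K := by
    rw [hID, hK, Ideal.map_map]
    congr 1
    exact ψ.comp_algebraMap
  have h : ID.map g ≤ K := hmap.le
  have hKn : ∀ n, K ^ n = (I ^ n).map (algebraMap B C) := fun n => by rw [hK, Ideal.map_pow]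
  have hIDn : ∀ n, ID ^ n = (I ^ n).map (algebraMap B D) := fun n => by rw [hID, Ideal.map_pow]
  have hb : ∀ n, Function.Bijective
      (Ideal.quotientMap (K ^ n) g (FSch.pow_le_comap_pow_of_map_le ID K g h n)) := by
    intro n
    constructor
    · rw [injective_iff_map_eq_zero]
      intro y hy
      obtain ⟨d, rfl⟩ := Ideal.Quotient.mk_surjective y
      rw [Ideal.quotientMap_mk, Ideal.Quotient.eq_zero_iff_mem, hKn] at hy
      rw [Ideal.Quotient.eq_zero_iff_mem, hIDn]
      exact hψ.inj n d hy
    · intro y
      obtain ⟨c, rfl⟩ := Ideal.Quotient.mk_surjective y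
      obtain ⟨d, hd⟩ := hψ.surj n c
      refine ⟨Ideal.Quotient.mk _ d, ?_⟩
      rw [Ideal.quotientMap_mk, Ideal.Quotient.eq, hKn, ← Ideal.neg_mem_iff, neg_sub]
      exact hd
  have hbij := Groth.Agent.H20.complMap_bijective ID K g h hb
  let φ : AdicCompletion ID D ≃+* AdicCompletion K C := RingEquiv.ofBijective _ hbij
  let e0 : C ≃+* AdicCompletion K C := (AdicCompletion.ofAlgEquiv K).toRingEquiv
  refine ⟨e0.trans φ.symm, fun b => ?_⟩
  rw [RingEquiv.trans_apply, RingEquiv.symm_apply_eq]
  have h1 : e0 (algebraMap B C b) = AdicCompletion.of K C (algebraMap B C b) :=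
    AdicCompletion.ofAlgEquiv_apply K _
  rw [h1]
  have h2 : φ (algebraMap D (AdicCompletion ID D) (algebraMap B D b)) =
      FSch.complMap ID K g h (AdicCompletion.of ID D (algebraMap B D b)) := rfl
  rw [h2, Groth.Agent.H20.complMap_of]
  congr 1
  exact (ψ.commutes b).symm

end Groth.Agent.H72.Algz
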