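import Mathlib
import Groth.Agent.H72.Algz13
import Groth.Agent.H72.Algz4
import Groth.Agent.H20.ComplNoeth2
import Groth.Agent.H20.AdicQuot
import Groth.Agent.H15.MTAlg7

/-!
# Algebraization of closed formal subschemes (helper72), part 14

The adic completion of a Noetherian ring satisfies `ComplLike`, and the final form of the
algebraization theorem for quotients `B^ → C` with `I^c`-torsion conormal module.
-/

set_option autoImplicit false
set_option linter.unusedSectionVars false
universe u

namespace Groth.Agent.H72.Algz

open Ideal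

theorem complLike_adicCompletion {B : Type u} [CommRing B] [IsNoetherianRing B] (K : Ideal B) :
    ComplLike K (AdicCompletion K B) := by
  have hfg : K.FG := IsNoetherian.noetherian K
  constructor
  · intro n p
    obtain ⟨b, hb⟩ := Ideal.Quotient.mk_surjective (AdicCompletion.evalₐ K n p)
    refine ⟨b, ?_⟩
    rw [← Groth.Agent.H20.ker_evalₐ_eq_map K hfg n, RingHom.mem_ker, map_sub]
    change _ - AdicCompletion.evalₐ K n (AdicCompletion.of K B b) = 0
    rw [AdicCompletion.evalₐ_of, hb]
    exact sub_self _
  · intro n b hb
    rw [← Groth.Agent.H20.ker_evalₐ_eq_map K hfg n, RingHom.mem_ker] at hb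
    change AdicCompletion.evalₐ K n (AdicCompletion.of K B b) = 0 at hb
    rw [AdicCompletion.evalₐ_of] at hb
    exact Ideal.Quotient.eq_zero_iff_mem.mp hb

theorem exists_equiv_adicCompletion_core {B : Type u} [CommRing B] [IsNoetherianRing B]
    (IB : Ideal B) (C : Type u) [CommRing C]
    (π : AdicCompletion IB B →+* C) (hπ : Function.Surjective π) (c : ℕ)
    (hJ : (IB.map (algebraMap B (AdicCompletion IB B))) ^ c * RingHom.ker π ≤ RingHom.ker π ^ 2) :
    ∃ (D : Type u) (_ : CommRing D) (_ : Algebra B D), Algebra.FiniteType B D ∧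
      ∃ e : C ≃+* AdicCompletion (IB.map (algebraMap B D)) D,
        ∀ b : B, e (π (algebraMap B _ b)) = algebraMap D _ (algebraMap B D b) := by
  have hfg : IB.FG := IsNoetherian.noetherian IB
  have : IsNoetherianRing (AdicCompletion IB B) :=
    Groth.Agent.H20.isNoetherianRing_adicCompletion IB
  have hcP : IsAdicComplete (IB.map (algebraMap B (AdicCompletion IB B))) (AdicCompletion IB B) :=
    AdicCompletion.isAdicComplete_self IB hfg
  have hP : ComplLike IB (AdicCompletion IB B) := complLike_adicCompletion IB
  letI algC : Algebra B C := (π.comp (algebraMap B (AdicCompletion IB B))).toAlgebra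
  let π' : AdicCompletion IB B →ₐ[B] C := { π with commutes' := fun b => rfl }
  have hπ' : Function.Surjective π' := hπ
  have hJ' : (IB.map (algebraMap B (AdicCompletion IB B))) ^ c * RingHom.ker π' ≤
      RingHom.ker π' ^ 2 := hJ
  obtain ⟨D, hD1, hD2, hft, ψ, hψ⟩ := exists_algebraization IB hP π' hπ' c hJ'
  -- completeness of `C`
  have hcC : IsAdicComplete (IB.map (algebraMap B C)) C := by
    letI algPC : Algebra (AdicCompletion IB B) C := π.toAlgebra
    have : Module.Finite (AdicCompletion IB B) C :=
      Module.Finite.of_surjective (Algebra.linearMap (AdicCompletion IB B) C) hπ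
    have h1 := Groth.Agent.H15.MTA.isAdicComplete_map_of_finite
      (IB.map (algebraMap B (AdicCompletion IB B))) C
    have h2 : (IB.map (algebraMap B (AdicCompletion IB B))).map
        (algebraMap (AdicCompletion IB B) C) = IB.map (algebraMap B C) := by
      rw [Ideal.map_map]
      rfl
    rwa [h2] at h1
  obtain ⟨e, he⟩ := exists_ringEquiv_adicCompletion IB ψ hψ
  exact ⟨D, hD1, hD2, hft, e, fun b => he b⟩

theorem exists_equiv_adicCompletion (A : Type u) [CommRing A] [IsNoetherianRing A] (I : Ideal A)
    (B : Type u) [CommRing B] [Algebra A B] [Algebra.FiniteType A B] (C : Type u) [CommRing C]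
    (π : AdicCompletion (I.map (algebraMap A B)) B →+* C) (hπ : Function.Surjective π) (c : ℕ)
    (hJ : ((I.map (algebraMap A B)).map
      (algebraMap B (AdicCompletion (I.map (algebraMap A B)) B))) ^ c * RingHom.ker π ≤
        RingHom.ker π ^ 2) :
    ∃ (D : Type u) (_ : CommRing D) (_ : Algebra A D), Algebra.FiniteType A D ∧
      ∃ e : C ≃+* AdicCompletion (Ideal.map (algebraMap A D) I) D,
        ∀ a : A, e (π (algebraMap B _ (algebraMap A B a))) =
          algebraMap D _ (algebraMap A D a) := by
  have : IsNoetherianRing B := Algebra.FiniteType.isNoetherianRing A B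
  obtain ⟨D, hD1, hD2, hft, e, he⟩ :=
    exists_equiv_adicCompletion_core (I.map (algebraMap A B)) C π hπ c hJ
  letI algAD : Algebra A D := ((algebraMap B D).comp (algebraMap A B)).toAlgebra
  have : IsScalarTower A B D := IsScalarTower.of_algebraMap_eq (fun _ => rfl)
  refine ⟨D, hD1, algAD, Algebra.FiniteType.trans (inferInstance : Algebra.FiniteType A B) hft, ?_⟩
  have hid : Ideal.map (algebraMap A D) I = (I.map (algebraMap A B)).map (algebraMap B D) := by
    rw [Ideal.map_map]
    rfl
  rw [hid]
  exact ⟨e, fun a => he (algebraMap A B a)⟩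

end Groth.Agent.H72.Algz
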