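import Mathlib
import Groth.Prelude.Def_Pi1
import Groth.Prelude.Def_CAlgX
import Groth.Agent.H72.AndreLift
import Groth.Agent.H72.FormalLoc
import Groth.Agent.H72.FormalEquidim
import Groth.Agent.S9317

/-!
# Complete intersections ascend along adically formally smooth local homomorphisms
-/

set_option autoImplicit false
set_option linter.style.haveILetI false
set_option linter.unusedSectionVars false
set_option linter.unusedVariables false
universe u

namespace Groth.Agent.H72.CIAscent

open TensorProduct IsLocalRing

set_option maxHeartbeats 800000 in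
/-- Complete case: `A` a Noetherian local ring which is a quotient `T/(rs)` of a regular local
ring by a regular sequence, `B` a complete Noetherian local ring, adically formally smooth over
`A`.  Then `B` is a quotient of a regular local ring by a regular sequence. -/
theorem exists_regular_presentation (T A B : Type u) [CommRing T] [IsRegularLocalRing T]
    [CommRing A] [IsLocalRing A] [IsNoetherianRing A]
    [CommRing B] [IsLocalRing B] [IsNoetherianRing B] [IsAdicComplete (maximalIdeal B) B]
    [Algebra A B] [IsLocalHom (algebraMap A B)]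
    (rs : List T) (hreg : RingTheory.Sequence.IsRegular T rs)
    (e : A ≃+* T ⧸ Ideal.ofList rs)
    (hfs : CAlgX.IsAdicFormallySmooth A B (maximalIdeal B)) :
    ∃ (L : Type u) (_ : CommRing L) (_ : IsRegularLocalRing L) (rs' : List L),
      (∀ r ∈ rs', r ∈ maximalIdeal L) ∧ RingTheory.Sequence.IsRegular L rs' ∧
      Nonempty (B ≃+* L ⧸ Ideal.span {r | r ∈ rs'}) := by
  classical
  set I : Ideal T := Ideal.ofList rs with hI
  letI algTA : Algebra T A := (e.symm.toRingHom.comp (Ideal.Quotient.mk I)).toAlgebra
  have hsurj : Function.Surjective (algebraMap T A) := by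
    show Function.Surjective (e.symm.toRingHom.comp (Ideal.Quotient.mk I))
    exact e.symm.surjective.comp Ideal.Quotient.mk_surjective
  haveI : IsLocalHom (algebraMap T A) := IsLocalHom.of_surjective _ hsurj
  haveI : Module.Finite T A := Module.Finite.of_surjective (Algebra.linearMap T A) hsurj
  have hres : Function.Surjective ((residue A).comp (algebraMap T A)) :=
    (residue_surjective (R := A)).comp hsurj
  obtain ⟨L, iL1, iL2, iL3, iL4, hLc, hLflat, hLfs, hLreg, ⟨φ⟩⟩ :=
    Groth.Agent.H72.Andre.exists_lift T A B hres hfs
  haveI : IsRegularLocalRing L := hLreg inferInstance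
  -- the `T`-algebra isomorphism `A ≃ T/I`
  let eT : A ≃ₐ[T] T ⧸ I :=
    { e with
      commutes' := fun t => by
        show e (e.symm (Ideal.Quotient.mk I t)) = _
        rw [RingEquiv.apply_symm_apply]; rfl }
  let e1 : A ⊗[T] L ≃+* (T ⧸ I) ⊗[T] L :=
    (Algebra.TensorProduct.congr eT (AlgEquiv.refl : L ≃ₐ[T] L)).toRingEquiv
  let e2 : (T ⧸ I) ⊗[T] L ≃+* L ⧸ I.map (algebraMap T L) :=
    (Algebra.TensorProduct.quotIdealMapEquivQuotTensor L I).symm.toRingEquiv
  let ψ : B ≃+* L ⧸ I.map (algebraMap T L) := (φ.toRingEquiv.trans e1).trans e2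
  have hspan : Ideal.span {r | r ∈ rs.map (algebraMap T L)} = I.map (algebraMap T L) := by
    rw [hI, Ideal.map_ofList]
  refine ⟨L, inferInstance, inferInstance, rs.map (algebraMap T L), ?_, ?_, ⟨?_⟩⟩
  · -- membership in the maximal ideal
    intro r hr
    by_contra hnot
    have hu : IsUnit r := by
      by_contra h'
      exact hnot ((IsLocalRing.mem_maximalIdeal r).2 h')
    have htop : I.map (algebraMap T L) = ⊤ := by
      rw [← hspan]
      exact Ideal.eq_top_of_isUnit_mem _ (Ideal.subset_span hr) hu
    have h01 : (0 : L ⧸ I.map (algebraMap T L)) = 1 := by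
      have : (1 : L) ∈ I.map (algebraMap T L) := by rw [htop]; trivial
      rw [← map_one (Ideal.Quotient.mk _)]
      exact ((Ideal.Quotient.eq_zero_iff_mem).2 this).symm
    have : (ψ.symm 0 : B) = ψ.symm 1 := by rw [h01]
    rw [map_zero, map_one] at this
    exact zero_ne_one this
  · -- regularity
    have hw : RingTheory.Sequence.IsWeaklyRegular L (rs.map (algebraMap T L)) :=
      RingTheory.Sequence.IsWeaklyRegular.of_flat hreg.toIsWeaklyRegular
    have hsub : ∀ r ∈ rs.map (algebraMap T L), r ∈ maximalIdeal L := by
      intro r hr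
      by_contra hnot
      have hu : IsUnit r := by
        by_contra h'
        exact hnot ((IsLocalRing.mem_maximalIdeal r).2 h')
      have htop : I.map (algebraMap T L) = ⊤ := by
        rw [← hspan]
        exact Ideal.eq_top_of_isUnit_mem _ (Ideal.subset_span hr) hu
      have h01 : (0 : L ⧸ I.map (algebraMap T L)) = 1 := by
        have : (1 : L) ∈ I.map (algebraMap T L) := by rw [htop]; trivial
        rw [← map_one (Ideal.Quotient.mk _)]
        exact ((Ideal.Quotient.eq_zero_iff_mem).2 this).symm
      have : (ψ.symm 0 : B) = ψ.symm 1 := by rw [h01]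
      rw [map_zero, map_one] at this
      exact zero_ne_one this
    exact (IsLocalRing.isRegular_iff_isWeaklyRegular_of_subset_maximalIdeal hsub).mpr hw
  · exact ψ.trans (Ideal.quotEquivOfEq hspan.symm)

/-- **Ascent of complete intersections.** If `R → S` is a local homomorphism of Noetherian local
rings, formally smooth for the adic topology of `S`, and `R` is a complete intersection, then so
is `S`. -/
theorem isCompleteIntersection_of_adic (A B : Type u) [CommRing A] [CommRing B] [IsLocalRing A]
    [IsLocalRing B] [IsNoetherianRing A] [IsNoetherianRing B] [Algebra A B]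
    [IsLocalHom (algebraMap A B)]
    (h : CAlgX.IsAdicFormallySmooth A B (maximalIdeal B))
    (hA : Pi1.IsCompleteIntersection A) : Pi1.IsCompleteIntersection B := by
  obtain ⟨T, iT1, iT2, rs, hmem, hreg, ⟨e⟩⟩ := hA
  haveI := Groth.Agent.H72.FormalEquidim.isLocalRing_compl A
  haveI := Groth.Agent.H72.FormalEquidim.isNoetherianRing_compl A
  haveI := Groth.Agent.H72.FormalEquidim.isLocalHom_compl A
  haveI := Groth.Agent.H72.FormalEquidim.isLocalRing_compl B
  haveI := Groth.Agent.H72.FormalEquidim.isNoetherianRing_compl B
  haveI := Groth.Agent.H72.FormalEquidim.isLocalHom_compl B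
  haveI hcB : IsAdicComplete (maximalIdeal (AdicCompletion (maximalIdeal B) B))
      (AdicCompletion (maximalIdeal B) B) :=
    AdicCompletion.isAdicComplete_of_fg (maximalIdeal B).fg_of_isNoetherianRing
  have hle : (maximalIdeal A).map (algebraMap A B) ≤ maximalIdeal B :=
    ((IsLocalRing.local_hom_TFAE (algebraMap A B)).out 0 2).mp ‹IsLocalHom (algebraMap A B)›
  have hψ := Groth.Agent.H72.FormalLoc.complMap_comp_algebraMap (maximalIdeal A) (maximalIdeal B)
    (algebraMap A B) hle
  have h1 := (Groth.Agent.S9317.result (maximalIdeal A) (maximalIdeal B)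
    (maximalIdeal A).fg_of_isNoetherianRing (maximalIdeal B).fg_of_isNoetherianRing
    ⟨1, by rw [pow_one]; exact hle⟩ _ hψ).mp h
  letI alg : Algebra (AdicCompletion (maximalIdeal A) A) (AdicCompletion (maximalIdeal B) B) :=
    (FSch.complMap (maximalIdeal A) (maximalIdeal B) (algebraMap A B) hle).toAlgebra
  have h2 : CAlgX.IsAdicFormallySmooth (AdicCompletion (maximalIdeal A) A)
      (AdicCompletion (maximalIdeal B) B)
      (maximalIdeal (AdicCompletion (maximalIdeal B) B)) := by
    rw [AdicCompletion.maximalIdeal_eq_map (R := B)]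
    exact h1
  haveI hloc : IsLocalHom (algebraMap (AdicCompletion (maximalIdeal A) A)
      (AdicCompletion (maximalIdeal B) B)) := by
    refine ((IsLocalRing.local_hom_TFAE (algebraMap (AdicCompletion (maximalIdeal A) A)
      (AdicCompletion (maximalIdeal B) B))).out 2 0).mp ?_
    rw [AdicCompletion.maximalIdeal_eq_map (R := A), Ideal.map_map,
      AdicCompletion.maximalIdeal_eq_map (R := B)]
    have : (algebraMap (AdicCompletion (maximalIdeal A) A)
        (AdicCompletion (maximalIdeal B) B)).comp
          (algebraMap A (AdicCompletion (maximalIdeal A) A)) =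
        (algebraMap B (AdicCompletion (maximalIdeal B) B)).comp (algebraMap A B) := hψ
    rw [this, ← Ideal.map_map]
    exact Ideal.map_mono hle
  exact exists_regular_presentation T (AdicCompletion (maximalIdeal A) A)
    (AdicCompletion (maximalIdeal B) B) rs hreg e h2

end Groth.Agent.H72.CIAscent
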