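import Mathlib
import Groth.Prelude.Def_Pi1
import Groth.Agent.H26.ComplQuot
import Groth.Agent.H72.FormalEquidim

/-!
# A complete intersection modulo a regular sequence is a complete intersection
-/

set_option autoImplicit false
set_option linter.style.haveILetI false
set_option linter.unusedSectionVars false
set_option linter.unusedVariables false
universe u

namespace Groth.Agent.H72.CIQuot

open TensorProduct IsLocalRing RingTheory.Sequence

set_option maxHeartbeats 800000 in
/-- If `A` is a Noetherian local complete intersection and `fs` is a weakly regular sequence in the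
maximal ideal, then `A ⧸ (fs)` is a complete intersection. -/
theorem isCompleteIntersection_quotient (A : Type u) [CommRing A] [IsLocalRing A]
    [IsNoetherianRing A] (hA : Pi1.IsCompleteIntersection A) (fs : List A)
    (hmem : ∀ f ∈ fs, f ∈ maximalIdeal A) (hw : IsWeaklyRegular A fs)
    [IsLocalRing (A ⧸ Ideal.ofList fs)] :
    Pi1.IsCompleteIntersection (A ⧸ Ideal.ofList fs) := by
  classical
  obtain ⟨T, iT1, iT2, rs, hrsmem, hreg, ⟨e⟩⟩ := hA
  haveI := Groth.Agent.H72.FormalEquidim.isLocalRing_compl A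
  haveI := Groth.Agent.H72.FormalEquidim.isNoetherianRing_compl A
  haveI := Groth.Agent.H72.FormalEquidim.isLocalHom_compl A
  set Â := AdicCompletion (maximalIdeal A) A with hÂ
  set I : Ideal A := Ideal.ofList fs with hI
  set J : Ideal T := Ideal.ofList rs with hJ
  -- the sequence in the completion
  have hw1 : IsWeaklyRegular Â (fs.map (algebraMap A Â)) := IsWeaklyRegular.of_flat hw
  -- transported to `T/(rs)`
  set gs : List (T ⧸ J) := (fs.map (algebraMap A Â)).map e with hgs
  have hw2 : IsWeaklyRegular (T ⧸ J) gs :=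
    (e.toAddEquiv.isWeaklyRegular_congr (List.forall₂_map_right_iff.mpr
      (List.forall₂_same.mpr fun r _ x => by
        show e (r * x) = e r * e x
        exact map_mul e r x))).mp hw1
  -- lifts to `T`
  let lift : T ⧸ J → T := Function.surjInv (Ideal.Quotient.mk_surjective (I := J))
  have hlift : ∀ g, Ideal.Quotient.mk J (lift g) = g :=
    Function.surjInv_eq (Ideal.Quotient.mk_surjective (I := J))
  set ts : List T := gs.map lift with hts
  have htsmap : ts.map (algebraMap T (T ⧸ J)) = gs := by
    rw [hts, List.map_map]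
    conv_rhs => rw [← List.map_id gs]
    apply List.map_congr_left
    intro g _
    exact hlift g
  have hw3 : IsWeaklyRegular (T ⧸ J) ts := by
    rw [← isWeaklyRegular_map_algebraMap_iff (T ⧸ J) (T ⧸ J) ts, htsmap]
    exact hw2
  have hJtop : (J • ⊤ : Submodule T T) = J := by
    rw [smul_eq_mul, Ideal.mul_top]
  have hw4 : IsWeaklyRegular (T ⧸ (J • ⊤ : Submodule T T)) ts :=
    ((Submodule.quotEquivOfEq _ _ hJtop.symm).isWeaklyRegular_congr ts).mp hw3
  have hw5 : IsWeaklyRegular T (rs ++ ts) :=
    (isWeaklyRegular_append_iff T rs ts).mpr ⟨hreg.toIsWeaklyRegular, hw4⟩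
  -- membership in the maximal ideal
  have htsmem : ∀ t ∈ ts, t ∈ maximalIdeal T := by
    intro t ht
    rw [hts, List.mem_map] at ht
    obtain ⟨g, hg, rfl⟩ := ht
    rw [hgs, List.mem_map] at hg
    obtain ⟨a, ha, rfl⟩ := hg
    rw [List.mem_map] at ha
    obtain ⟨f, hf, rfl⟩ := ha
    by_contra hnot
    have hu : IsUnit (lift (e (algebraMap A Â f))) := by
      by_contra h'
      exact hnot ((IsLocalRing.mem_maximalIdeal _).2 h')
    have hu2 : IsUnit (e (algebraMap A Â f)) := by
      rw [← hlift (e (algebraMap A Â f))]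
      exact hu.map (Ideal.Quotient.mk J)
    have hu3 : IsUnit (algebraMap A Â f) := by
      have := hu2.map e.symm
      rwa [RingEquiv.symm_apply_apply] at this
    have hu4 : IsUnit f := IsLocalHom.map_nonunit (f := algebraMap A Â) f hu3
    exact (IsLocalRing.mem_maximalIdeal f).1 (hmem f hf) hu4
  have hallmem : ∀ r ∈ rs ++ ts, r ∈ maximalIdeal T := by
    intro r hr
    rcases List.mem_append.1 hr with h | h
    · exact hrsmem r h
    · exact htsmem r h
  have hreg' : IsRegular T (rs ++ ts) :=
    (IsLocalRing.isRegular_iff_isWeaklyRegular_of_subset_maximalIdeal hallmem).mpr hw5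
  -- the isomorphism
  obtain ⟨ε0⟩ := Groth.Agent.H26.ComplQuot.nonempty_adicCompletion_quotient_equiv A I
  have hIJ : (Ideal.ofList ts).map (Ideal.Quotient.mk J) = (I.map (algebraMap A Â)).map
      (e : Â →+* T ⧸ J) := by
    rw [hI, Ideal.map_ofList, Ideal.map_ofList, Ideal.map_ofList]
    congr 1
  let ε1 : Â ⧸ I.map (algebraMap A Â) ≃+* (T ⧸ J) ⧸ (Ideal.ofList ts).map (Ideal.Quotient.mk J) :=
    Ideal.quotientEquiv _ _ e hIJ
  let ε2 : (T ⧸ J) ⧸ (Ideal.ofList ts).map (Ideal.Quotient.mk J) ≃+* T ⧸ (J ⊔ Ideal.ofList ts) :=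
    DoubleQuot.quotQuotEquivQuotSup J (Ideal.ofList ts)
  have hsup : J ⊔ Ideal.ofList ts = Ideal.span {r | r ∈ rs ++ ts} := by
    rw [hJ, ← Ideal.span_union]
    congr 1
    ext r
    simp [List.mem_append]
  exact ⟨T, iT1, iT2, rs ++ ts, hallmem, hreg',
    ⟨((ε0.trans ε1).trans ε2).trans (Ideal.quotEquivOfEq hsup)⟩⟩

end Groth.Agent.H72.CIQuot
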