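import Mathlib
import Groth.Prelude.Def_Pi1
import Groth.Prelude.Def_CAlg
import Groth.Agent.H72.CIAscent
import Groth.Agent.H23.RegHomAdic
import Groth.Agent.H26.GorRegHom
import Groth.Agent.H47.CI.AbsCITransfer

/-!
# Complete intersection fibres are preserved by composing with a regular map (S8951)
-/

set_option autoImplicit false
set_option linter.style.haveILetI false
set_option linter.unusedSectionVars false
set_option linter.unusedVariables false
universe u

namespace Groth.Agent.H72.CIRegHom

open TensorProduct IsLocalRing

/-- Local complete intersections ascend along regular homomorphisms. -/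
theorem isCompleteIntersection_atPrime_of_isRegularHom (R S : Type u) [CommRing R] [CommRing S]
    [Algebra R S] [IsNoetherianRing R] [IsNoetherianRing S] (h : CAlg.IsRegularHom R S)
    (hR : ∀ (p : Ideal R) [p.IsPrime], Pi1.IsCompleteIntersection (Localization.AtPrime p))
    (P : Ideal S) [P.IsPrime] : Pi1.IsCompleteIntersection (Localization.AtPrime P) := by
  set p : Ideal R := P.comap (algebraMap R S) with hp
  haveI : p.IsPrime := Ideal.comap_isPrime _ _
  haveI : IsNoetherianRing (Localization.AtPrime p) :=
    IsLocalization.isNoetherianRing p.primeCompl _ inferInstance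
  haveI : IsNoetherianRing (Localization.AtPrime P) :=
    IsLocalization.isNoetherianRing P.primeCompl _ inferInstance
  letI : Algebra (Localization.AtPrime p) (Localization.AtPrime P) :=
    (Localization.localRingHom p P (algebraMap R S) rfl).toAlgebra
  haveI : IsScalarTower R (Localization.AtPrime p) (Localization.AtPrime P) :=
    IsScalarTower.of_algebraMap_eq (fun a => by
      show algebraMap R (Localization.AtPrime P) a =
        Localization.localRingHom p P (algebraMap R S) rfl (algebraMap R _ a)
      rw [Localization.localRingHom_to_map, IsScalarTower.algebraMap_apply R S])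
  haveI : IsLocalHom (algebraMap (Localization.AtPrime p) (Localization.AtPrime P)) :=
    Localization.isLocalHom_localRingHom p P (algebraMap R S) rfl
  have hfs := Groth.Agent.H23.RegHomAdic.adic_of_isRegularHom R S h p P rfl
  exact Groth.Agent.H72.CIAscent.isCompleteIntersection_of_adic _ _ hfs (hR p)

/-- Localizations at corresponding primes under a ring isomorphism are isomorphic. -/
noncomputable def atPrimeEquiv {X Y : Type u} [CommRing X] [CommRing Y] (e : X ≃+* Y)
    (p : Ideal Y) [p.IsPrime] [(p.comap (e : X →+* Y)).IsPrime] :
    Localization.AtPrime (p.comap (e : X →+* Y)) ≃+* Localization.AtPrime p :=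
  IsLocalization.ringEquivOfRingEquiv (M := (p.comap (e : X →+* Y)).primeCompl)
    (T := p.primeCompl) (Localization.AtPrime (p.comap (e : X →+* Y))) (Localization.AtPrime p) e
    (by
      ext y
      constructor
      · rintro ⟨x, hx, rfl⟩
        exact hx
      · intro hy
        refine ⟨e.symm y, ?_, e.apply_symm_apply y⟩
        show e.symm y ∈ (p.comap (e : X →+* Y)).primeCompl
        intro hmem
        apply hy
        have : (e : X →+* Y) (e.symm y) ∈ p := hmem
        simpa using this)

/-- The complete intersection property of all local rings is invariant under ring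
isomorphisms. -/
theorem forall_ci_of_ringEquiv {X Y : Type u} [CommRing X] [CommRing Y] (e : X ≃+* Y)
    (h : ∀ (p : Ideal X) [p.IsPrime], Pi1.IsCompleteIntersection (Localization.AtPrime p))
    (p : Ideal Y) [p.IsPrime] : Pi1.IsCompleteIntersection (Localization.AtPrime p) := by
  haveI : (p.comap (e : X →+* Y)).IsPrime := Ideal.comap_isPrime _ _
  exact Groth.Agent.H47.CI.isCompleteIntersection_of_ringEquiv (atPrimeEquiv e p)
    (h (p.comap (e : X →+* Y)))

set_option backward.isDefEq.respectTransparency false in
/-- **S8951**: complete intersection fibres are preserved by composing with a regular map. -/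
theorem ci_fiber_comp (A B C : Type u) [CommRing A] [CommRing B] [CommRing C]
    [IsNoetherianRing A] [IsNoetherianRing B] [IsNoetherianRing C] [Algebra A B] [Algebra B C]
    [Algebra A C] [IsScalarTower A B C] [Module.Flat A B] [Module.Flat B C]
    (hAB : ∀ (q : Ideal A) [q.IsPrime] (P : Ideal (q.Fiber B)) [P.IsPrime],
      Pi1.IsCompleteIntersection (Localization.AtPrime P))
    (hBC : CAlg.IsRegularHom B C) (q : Ideal A) [q.IsPrime] (P : Ideal (q.Fiber C)) [P.IsPrime] :
    Pi1.IsCompleteIntersection (Localization.AtPrime P) := by
  haveI : IsNoetherianRing (q.Fiber B) := Groth.Agent.H26.SkFlat.isNoetherianRing_fiber B q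
  haveI : IsNoetherianRing (B ⊗[A] q.ResidueField) :=
    isNoetherianRing_of_ringEquiv _ (Algebra.TensorProduct.comm A q.ResidueField B).toRingEquiv
  have hR' : ∀ (p : Ideal (B ⊗[A] q.ResidueField)) [p.IsPrime],
      Pi1.IsCompleteIntersection (Localization.AtPrime p) :=
    fun p _ => forall_ci_of_ringEquiv (Algebra.TensorProduct.comm A q.ResidueField B).toRingEquiv
      (fun P' _ => hAB q P') p
  have hreg : CAlg.IsRegularHom (B ⊗[A] q.ResidueField) ((B ⊗[A] q.ResidueField) ⊗[B] C) :=
    Groth.Agent.H26.RegHomBaseChange.isRegularHom_baseChange_of_essFiniteType B C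
      (B ⊗[A] q.ResidueField) hBC
  let ε : (B ⊗[A] q.ResidueField) ⊗[B] C ≃+* q.Fiber C :=
    Groth.Agent.H26.RegHomDescent.tensorTensorEquiv A B C q.ResidueField
  haveI : IsNoetherianRing (q.Fiber C) := Groth.Agent.H26.SkFlat.isNoetherianRing_fiber C q
  haveI : IsNoetherianRing ((B ⊗[A] q.ResidueField) ⊗[B] C) :=
    isNoetherianRing_of_ringEquiv _ ε.symm
  exact forall_ci_of_ringEquiv ε
    (fun P₁ _ => isCompleteIntersection_atPrime_of_isRegularHom (B ⊗[A] q.ResidueField) _ hreg
      hR' P₁) P

end Groth.Agent.H72.CIRegHom
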