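import Mathlib
import Groth.Agent.H14.GeomBC.RegSep

/-!
# A finitely generated field extension is the residue field of an essentially smooth regular
local algebra
-/

set_option autoImplicit false
set_option linter.style.haveILetI false
set_option linter.unusedSectionVars false
set_option linter.unusedVariables false
universe u

namespace Groth.Agent.H72.FGField

open TensorProduct IsLocalRing

/-- A localization `W` of a polynomial ring over a field `k` stays regular after any base field
extension. -/
theorem isRegularRing_tensor_localization (k : Type u) [Field k] (σ : Type u) [Finite σ]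
    (M : Submonoid (MvPolynomial σ k)) (W : Type u) [CommRing W] [Algebra (MvPolynomial σ k) W]
    [Algebra k W] [IsScalarTower k (MvPolynomial σ k) W] [IsLocalization M W]
    (L : Type u) [Field L] [Algebra k L] : IsRegularRing (L ⊗[k] W) := by
  -- `(P₀ ⊗ L) ⊗[P₀] W` is a localization of `P₀ ⊗ L ≅ L[x]`
  have e0 : L ⊗[k] MvPolynomial σ k ≃+* MvPolynomial σ L :=
    (MvPolynomial.algebraTensorAlgEquiv k L).toRingEquiv
  have e0' : MvPolynomial σ k ⊗[k] L ≃+* MvPolynomial σ L :=
    (Algebra.TensorProduct.comm k (MvPolynomial σ k) L).toRingEquiv.trans e0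
  haveI : IsRegularRing (MvPolynomial σ k ⊗[k] L) := IsRegularRing.of_ringEquiv e0'.symm
  haveI : IsLocalization (Algebra.algebraMapSubmonoid (MvPolynomial σ k ⊗[k] L) M)
      ((MvPolynomial σ k ⊗[k] L) ⊗[MvPolynomial σ k] W) := inferInstance
  haveI h1 : IsRegularRing ((MvPolynomial σ k ⊗[k] L) ⊗[MvPolynomial σ k] W) :=
    Groth.Agent.H14.GeomBC.isRegularRing_of_isLocalization
      (Algebra.algebraMapSubmonoid (MvPolynomial σ k ⊗[k] L) M) _
  -- identify with `L ⊗ W`
  have e1 : (MvPolynomial σ k ⊗[k] L) ⊗[MvPolynomial σ k] W ≃+*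
      W ⊗[MvPolynomial σ k] (MvPolynomial σ k ⊗[k] L) :=
    (Algebra.TensorProduct.comm (MvPolynomial σ k) (MvPolynomial σ k ⊗[k] L) W).toRingEquiv
  have e2 : W ⊗[MvPolynomial σ k] (MvPolynomial σ k ⊗[k] L) ≃+* W ⊗[k] L :=
    (Algebra.TensorProduct.cancelBaseChange k (MvPolynomial σ k) (MvPolynomial σ k) W L).toRingEquiv
  have e3 : W ⊗[k] L ≃+* L ⊗[k] W := (Algebra.TensorProduct.comm k W L).toRingEquiv
  exact @IsRegularRing.of_ringEquiv _ _ _ _ ((e1.trans e2).trans e3) h1

/-- A finitely generated field extension `K/k` is a quotient of a regular local `k`-algebra `W`,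
a localization of a polynomial ring (so `L ⊗ W` is regular for every field `L` over `k`). -/
theorem exists_regular_local_presentation (k K : Type u) [Field k] [Field K] [Algebra k K]
    (hK : ∃ s : Finset K, IntermediateField.adjoin k (s : Set K) = ⊤) :
    ∃ (W : Type u) (_ : CommRing W) (_ : IsRegularLocalRing W) (_ : Algebra k W),
      Algebra.EssFiniteType k W ∧
      (∀ (L : Type u) [Field L] [Algebra k L], IsRegularRing (L ⊗[k] W)) ∧
      ∃ ψ : W →ₐ[k] K, Function.Surjective ψ := by
  classical
  obtain ⟨s, hs⟩ := hK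
  let σ : Type u := ↥s
  let φ : MvPolynomial σ k →ₐ[k] K := MvPolynomial.aeval (fun x : σ => (x : K))
  let 𝔓 : Ideal (MvPolynomial σ k) := RingHom.ker φ.toRingHom
  haveI h𝔓 : 𝔓.IsPrime := RingHom.ker_isPrime φ.toRingHom
  have hunit : ∀ y : 𝔓.primeCompl, IsUnit (φ (y : MvPolynomial σ k)) := by
    intro y
    apply IsUnit.mk0
    intro h0
    exact y.2 ((RingHom.mem_ker).2 h0)
  let ψ : Localization.AtPrime 𝔓 →ₐ[k] K := IsLocalization.liftAlgHom (M := 𝔓.primeCompl) hunit
  have hψ : ∀ a : MvPolynomial σ k, ψ (algebraMap _ (Localization.AtPrime 𝔓) a) = φ a := by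
    intro a
    exact IsLocalization.lift_eq _ a
  refine ⟨Localization.AtPrime 𝔓, inferInstance, inferInstance, inferInstance, ?_, ?_, ψ, ?_⟩
  · haveI : Algebra.EssFiniteType (MvPolynomial σ k) (Localization.AtPrime 𝔓) :=
      Algebra.EssFiniteType.of_isLocalization _ 𝔓.primeCompl
    exact Algebra.EssFiniteType.comp k (MvPolynomial σ k) (Localization.AtPrime 𝔓)
  · intro L _ _
    exact isRegularRing_tensor_localization k σ 𝔓.primeCompl (Localization.AtPrime 𝔓) L
  · -- surjectivity: the range is a subfield containing `s`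
    have hinv : ∀ x ∈ ψ.range, x⁻¹ ∈ ψ.range := by
      rintro _ ⟨w, rfl⟩
      obtain ⟨a, b, rfl⟩ := IsLocalization.exists_mk'_eq 𝔓.primeCompl w
      by_cases ha : φ a = 0
      · have : ψ (IsLocalization.mk' (Localization.AtPrime 𝔓) a b) = 0 := by
          have h1 : IsLocalization.mk' (Localization.AtPrime 𝔓) a b *
              algebraMap _ (Localization.AtPrime 𝔓) (b : MvPolynomial σ k) =
              algebraMap _ (Localization.AtPrime 𝔓) a := IsLocalization.mk'_spec _ a b
          have h2 := congrArg ψ h1
          rw [map_mul, hψ, hψ, ha] at h2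
          rcases mul_eq_zero.1 h2 with h | h
          · exact h
          · exact absurd h (hunit b).ne_zero
        show (ψ (IsLocalization.mk' (Localization.AtPrime 𝔓) a b))⁻¹ ∈ ψ.range
        rw [this, inv_zero]
        exact zero_mem _
      · have ha' : a ∈ 𝔓.primeCompl := fun h => ha ((RingHom.mem_ker).1 h)
        refine ⟨IsLocalization.mk' (Localization.AtPrime 𝔓) (b : MvPolynomial σ k) ⟨a, ha'⟩, ?_⟩
        have h1 : IsLocalization.mk' (Localization.AtPrime 𝔓) a b *
            IsLocalization.mk' (Localization.AtPrime 𝔓) (b : MvPolynomial σ k) ⟨a, ha'⟩ = 1 := by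
          rw [← IsLocalization.mk'_mul, IsLocalization.mk'_eq_iff_eq_mul, one_mul]
          simp [mul_comm]
        have h2 := congrArg ψ h1
        rw [map_mul, map_one] at h2
        show ψ _ = (ψ _)⁻¹
        exact (eq_inv_of_mul_eq_one_right h2)
    let F : IntermediateField k K := Subalgebra.toIntermediateField ψ.range hinv
    have hle : IntermediateField.adjoin k (s : Set K) ≤ F := by
      rw [IntermediateField.adjoin_le_iff]
      intro x hx
      refine ⟨algebraMap (MvPolynomial σ k) (Localization.AtPrime 𝔓)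
        (MvPolynomial.X (⟨x, hx⟩ : σ)), ?_⟩
      show ψ _ = x
      rw [hψ]
      simp [φ]
    rw [hs] at hle
    intro x
    have : x ∈ F := hle (IntermediateField.mem_top)
    exact this

end Groth.Agent.H72.FGField
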