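import Mathlib
import Groth.Prelude.Def_Pi1
import Groth.Prelude.Def_CAlg
import Groth.Agent.H72.CIRegHom
import Groth.Agent.H72.CIQuot
import Groth.Agent.H72.FGField
import Groth.Agent.H26.GorLCI
import Groth.Agent.H26.RegHomBaseChange
import Groth.Agent.H94.RegIdealRLR

/-!
# Base change of local complete intersections along finitely generated field extensions (S8950)
-/

set_option autoImplicit false
set_option linter.style.haveILetI false
set_option linter.unusedSectionVars false
set_option linter.unusedVariables false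
universe u

namespace Groth.Agent.H72.CIFieldBC

open TensorProduct IsLocalRing RingTheory.Sequence

/-- A quotient of a locally CI Noetherian ring `S₀` by the extension of the maximal ideal of a
regular local ring `W` over which `S₀` is flat is locally CI. -/
theorem ci_quotient_of_flat (W S₀ : Type u) [CommRing W] [IsRegularLocalRing W] [CommRing S₀]
    [IsNoetherianRing S₀] [Algebra W S₀] [Module.Flat W S₀]
    (hS₀ : ∀ (p : Ideal S₀) [p.IsPrime], Pi1.IsCompleteIntersection (Localization.AtPrime p))
    (Q : Ideal (S₀ ⧸ (maximalIdeal W).map (algebraMap W S₀))) [Q.IsPrime] :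
    Pi1.IsCompleteIntersection (Localization.AtPrime Q) := by
  obtain ⟨ε⟩ := Groth.Agent.H26.GorLCI.nonempty_atPrime_quotient_equiv S₀
    ((maximalIdeal W).map (algebraMap W S₀)) Q
  let I : Ideal S₀ := (maximalIdeal W).map (algebraMap W S₀)
  have hI : I = (maximalIdeal W).map (algebraMap W S₀) := rfl
  set Q' : Ideal S₀ := Q.comap (Ideal.Quotient.mk ((maximalIdeal W).map (algebraMap W S₀)))
    with hQ'
  haveI : Q'.IsPrime := Ideal.comap_isPrime _ _
  haveI : IsNoetherianRing (Localization.AtPrime Q') :=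
    IsLocalization.isNoetherianRing Q'.primeCompl _ inferInstance
  obtain ⟨fs, hfsreg, hfs⟩ := Groth.Agent.H94.RegIdealRLR.isRegularIdeal_maximalIdeal W
  have hIQ' : I ≤ Q' := by
    intro x hx
    show Ideal.Quotient.mk I x ∈ Q
    rw [Ideal.Quotient.eq_zero_iff_mem.2 hx]
    exact zero_mem _
  haveI : Module.Flat S₀ (Localization.AtPrime Q') := IsLocalization.flat _ Q'.primeCompl
  haveI : Module.Flat W (Localization.AtPrime Q') := Module.Flat.trans W S₀ _
  have hw : IsWeaklyRegular (Localization.AtPrime Q')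
      (fs.map (algebraMap W (Localization.AtPrime Q'))) :=
    IsWeaklyRegular.of_flat hfsreg.toIsWeaklyRegular
  have hmem : ∀ f ∈ fs.map (algebraMap W (Localization.AtPrime Q')),
      f ∈ maximalIdeal (Localization.AtPrime Q') := by
    intro f hf
    rw [List.mem_map] at hf
    obtain ⟨w, hw', rfl⟩ := hf
    rw [IsScalarTower.algebraMap_apply W S₀ (Localization.AtPrime Q'),
      IsLocalization.AtPrime.to_map_mem_maximal_iff _ Q']
    apply hIQ'
    apply Ideal.mem_map_of_mem
    rw [← hfs]
    exact Ideal.subset_span hw'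
  have hIeq : I.map (algebraMap S₀ (Localization.AtPrime Q')) =
      Ideal.ofList (fs.map (algebraMap W (Localization.AtPrime Q'))) := by
    rw [hI, Ideal.map_map, ← IsScalarTower.algebraMap_eq, ← hfs, Ideal.map_ofList]
  have hne : Ideal.ofList (fs.map (algebraMap W (Localization.AtPrime Q'))) ≠ ⊤ := by
    intro htop
    have : Ideal.ofList (fs.map (algebraMap W (Localization.AtPrime Q'))) ≤
        maximalIdeal (Localization.AtPrime Q') := by
      rw [Ideal.ofList, Ideal.span_le]
      intro f hf
      exact hmem f hf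
    rw [htop] at this
    exact (maximalIdeal.isMaximal _).ne_top (top_le_iff.1 this)
  haveI : Nontrivial (Localization.AtPrime Q' ⧸
      Ideal.ofList (fs.map (algebraMap W (Localization.AtPrime Q')))) :=
    Ideal.Quotient.nontrivial_iff.2 hne
  haveI : IsLocalRing (Localization.AtPrime Q' ⧸
      Ideal.ofList (fs.map (algebraMap W (Localization.AtPrime Q')))) :=
    IsLocalRing.of_surjective' (Ideal.Quotient.mk _) Ideal.Quotient.mk_surjective
  have hci := Groth.Agent.H72.CIQuot.isCompleteIntersection_quotient (Localization.AtPrime Q')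
    (hS₀ Q') (fs.map (algebraMap W (Localization.AtPrime Q'))) hmem hw
  exact Groth.Agent.H47.CI.isCompleteIntersection_of_ringEquiv
    ((Ideal.quotEquivOfEq hIeq.symm).trans ε.symm) hci

set_option maxHeartbeats 800000 in
/-- **S8950**: base change of the local complete intersection property along finitely generated
field extensions. -/
theorem main (k K R : Type u) [Field k] [Field K] [Algebra k K]
    (hK : ∃ s : Finset K, IntermediateField.adjoin k (s : Set K) = ⊤) [CommRing R] [Algebra k R]
    [IsNoetherianRing R]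
    (hR : ∀ (p : Ideal R) [p.IsPrime], Pi1.IsCompleteIntersection (Localization.AtPrime p)) :
    IsNoetherianRing (K ⊗[k] R) ∧ ∀ (P : Ideal (K ⊗[k] R)) [P.IsPrime],
      Pi1.IsCompleteIntersection (Localization.AtPrime P) := by
  obtain ⟨W, iW1, iW2, iW3, hess, hgeom, ψ, hψ⟩ :=
    Groth.Agent.H72.FGField.exists_regular_local_presentation k K hK
  haveI : Module.Flat k W := inferInstance
  -- `R → R ⊗ W` is regular
  have hreg : CAlg.IsRegularHom R (R ⊗[k] W) :=
    Groth.Agent.H26.RegHomBaseChange.isRegularHom_baseChange_of_forall k W R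
      (fun p' _ K' _ _ _ _ _ _ _ => hgeom K')
  haveI : Algebra.EssFiniteType R (R ⊗[k] W) := inferInstance
  haveI hN' : IsNoetherianRing (R ⊗[k] W) := Algebra.EssFiniteType.isNoetherianRing R _
  have hS₀' : ∀ (p : Ideal (R ⊗[k] W)) [p.IsPrime],
      Pi1.IsCompleteIntersection (Localization.AtPrime p) := fun p _ =>
    Groth.Agent.H72.CIRegHom.isCompleteIntersection_atPrime_of_isRegularHom R _ hreg hR p
  -- pass to `W ⊗ R`
  let c : R ⊗[k] W ≃+* W ⊗[k] R := (Algebra.TensorProduct.comm k R W).toRingEquiv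
  haveI hN : IsNoetherianRing (W ⊗[k] R) := isNoetherianRing_of_ringEquiv _ c
  have hS₀ : ∀ (p : Ideal (W ⊗[k] R)) [p.IsPrime],
      Pi1.IsCompleteIntersection (Localization.AtPrime p) := fun p _ =>
    Groth.Agent.H72.CIRegHom.forall_ci_of_ringEquiv c hS₀' p
  haveI : Module.Flat k R := inferInstance
  haveI : Module.Flat W (W ⊗[k] R) := inferInstance
  -- the quotient
  have hS₁ : ∀ (Q : Ideal ((W ⊗[k] R) ⧸ (maximalIdeal W).map (algebraMap W (W ⊗[k] R))))
      [Q.IsPrime], Pi1.IsCompleteIntersection (Localization.AtPrime Q) := fun Q _ =>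
    ci_quotient_of_flat W (W ⊗[k] R) hS₀ Q
  -- identification with `K ⊗ R`
  have hker : RingHom.ker ψ = maximalIdeal W := by
    haveI : (RingHom.ker ψ).IsMaximal := RingHom.ker_isMaximal_of_surjective ψ hψ
    exact IsLocalRing.eq_maximalIdeal inferInstance
  let eK : (W ⧸ maximalIdeal W) ≃ₐ[k] K :=
    (Ideal.quotientEquivAlgOfEq k hker.symm).trans (Ideal.quotientKerAlgEquivOfSurjective hψ)
  let e1 : ((W ⊗[k] R) ⧸ (maximalIdeal W).map (algebraMap W (W ⊗[k] R))) ≃+*
      (W ⧸ maximalIdeal W) ⊗[W] (W ⊗[k] R) :=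
    (Algebra.TensorProduct.quotIdealMapEquivQuotTensor (W ⊗[k] R) (maximalIdeal W)).toRingEquiv
  let e2 : (W ⧸ maximalIdeal W) ⊗[W] (W ⊗[k] R) ≃+* (W ⧸ maximalIdeal W) ⊗[k] R :=
    (Algebra.TensorProduct.cancelBaseChange k W W (W ⧸ maximalIdeal W) R).toRingEquiv
  let e3 : (W ⧸ maximalIdeal W) ⊗[k] R ≃+* K ⊗[k] R :=
    (Algebra.TensorProduct.congr eK (AlgEquiv.refl : R ≃ₐ[k] R)).toRingEquiv
  let e : ((W ⊗[k] R) ⧸ (maximalIdeal W).map (algebraMap W (W ⊗[k] R))) ≃+* K ⊗[k] R :=
    (e1.trans e2).trans e3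
  refine ⟨isNoetherianRing_of_ringEquiv _ e, fun P _ => ?_⟩
  exact Groth.Agent.H72.CIRegHom.forall_ci_of_ringEquiv e hS₁ P

end Groth.Agent.H72.CIFieldBC
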