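import Mathlib

/-!
# The Conrad–de Jong Artin–Rees lemma (helper72)

Let `S` be a Noetherian ring, `I` an ideal and `g : ι → S` a finite family.  There are a finite
family `f` of generators of the module of relations of `g` and a constant `c` such that for every
family `g'` congruent to `g` modulo `I ^ (c + 1)` admitting relations `f'` congruent to `f` modulo
`I ^ (c + 1)`, the ideals `J = (g)` and `J' = (g')` have the same initial forms:
`(J ∩ Iⁿ) + Iⁿ⁺¹ = (J' ∩ Iⁿ) + Iⁿ⁺¹` for all `n` (Stacks, More on Algebra, Section 15.4,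
Conrad–de Jong, *Approximation of versal deformations*, §3).
-/

set_option autoImplicit false
universe u

namespace Groth.Agent.H72.CdJ

open Finset

variable {S : Type u} [CommRing S] (I : Ideal S) {ι κ : Type*} [Fintype ι] [Fintype κ]

/-- The hypotheses of the Conrad–de Jong lemma. -/
structure Hyp (g g' : ι → S) (f f' : κ → ι → S) (c : ℕ) : Prop where
  syz' : ∀ j, ∑ i, f' j i * g' i = 0
  gen : ∀ a : ι → S, ∑ i, a i * g i = 0 → ∃ b : κ → S, ∀ i, a i = ∑ j, b j * f j i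
  arg : ∀ (n : ℕ) (a : ι → S), ∑ i, a i * g i ∈ I ^ (n + c) →
    ∃ a' : ι → S, (∀ i, a' i ∈ I ^ n) ∧ ∑ i, a' i * g i = ∑ i, a i * g i
  arf : ∀ (n : ℕ) (a : ι → S), (∀ i, a i ∈ I ^ (n + c)) → ∑ i, a i * g i = 0 →
    ∃ b : κ → S, (∀ j, b j ∈ I ^ n) ∧ ∀ i, a i = ∑ j, b j * f j i
  cg : ∀ i, g i - g' i ∈ I ^ (c + 1)
  cf : ∀ j i, f j i - f' j i ∈ I ^ (c + 1)

variable {I} {g g' : ι → S} {f f' : κ → ι → S} {c : ℕ}

/-- `∑ aᵢ (gᵢ - g'ᵢ)` is small when the `aᵢ` are. -/
theorem sum_mul_sub_mem (h : Hyp I g g' f f' c) (r : ℕ) (a : ι → S) (ha : ∀ i, a i ∈ I ^ r) :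
    ∑ i, a i * g i - ∑ i, a i * g' i ∈ I ^ (r + c + 1) := by
  rw [← Finset.sum_sub_distrib]
  refine Ideal.sum_mem _ fun i _ => ?_
  rw [← mul_sub, add_assoc, pow_add]
  exact Ideal.mul_mem_mul (ha i) (h.cg i)

/-- One step of the induction: raise the level of the coefficients by one. -/
theorem step (h : Hyp I g g' f f' c) (n r : ℕ) (hr : r + 1 ≤ n) (a : ι → S)
    (ha : ∀ i, a i ∈ I ^ r) (hs : ∑ i, a i * g' i ∈ I ^ (n + c)) :
    ∃ a₂ : ι → S, (∀ i, a₂ i ∈ I ^ (r + 1)) ∧ ∑ i, a₂ i * g' i = ∑ i, a i * g' i := by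
  -- `∑ a g ∈ I^(r+1+c)`
  have h1 : ∑ i, a i * g i ∈ I ^ (r + 1 + c) := by
    have h2 := sum_mul_sub_mem h r a ha
    have h3 : ∑ i, a i * g' i ∈ I ^ (r + 1 + c) :=
      Ideal.pow_le_pow_right (by omega) hs
    have h4 : r + c + 1 = r + 1 + c := by omega
    rw [h4] at h2
    have := Ideal.add_mem _ h2 h3
    rwa [sub_add_cancel] at this
  obtain ⟨a₁, ha₁, hsum₁⟩ := h.arg (r + 1) a h1
  -- `a - a₁` is a relation
  have hrel : ∑ i, (a i - a₁ i) * g i = 0 := by
    simp only [sub_mul, Finset.sum_sub_distrib, hsum₁, sub_self]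
  have hlev : ∀ i, a i - a₁ i ∈ I ^ r := fun i =>
    Ideal.sub_mem _ (ha i) (Ideal.pow_le_pow_right (Nat.le_succ r) (ha₁ i))
  -- coefficients `b`
  have hb : ∃ b : κ → S, (∀ i, a i - a₁ i = ∑ j, b j * f j i) ∧
      ∀ j i, b j * (f j i - f' j i) ∈ I ^ (r + 1) := by
    by_cases hrc : c ≤ r
    · obtain ⟨r', rfl⟩ := Nat.exists_eq_add_of_le' hrc
      obtain ⟨b, hb1, hb2⟩ := h.arf r' (fun i => a i - a₁ i) hlev hrel
      refine ⟨b, hb2, fun j i => ?_⟩
      have h5 : r' + c + 1 = r' + (c + 1) := by omega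
      rw [h5, pow_add]
      exact Ideal.mul_mem_mul (hb1 j) (h.cf j i)
    · obtain ⟨b, hb⟩ := h.gen (fun i => a i - a₁ i) hrel
      refine ⟨b, hb, fun j i => ?_⟩
      exact Ideal.mul_mem_left _ _ (Ideal.pow_le_pow_right (by omega) (h.cf j i))
  obtain ⟨b, hb1, hb2⟩ := hb
  refine ⟨fun i => a₁ i + ∑ j, b j * (f j i - f' j i), fun i => ?_, ?_⟩
  · exact Ideal.add_mem _ (ha₁ i) (Ideal.sum_mem _ fun j _ => hb2 j i)
  · -- `a i = a₂ i + ∑ j, b j * f' j i`
    have h6 : ∀ i, a i = (a₁ i + ∑ j, b j * (f j i - f' j i)) + ∑ j, b j * f' j i := by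
      intro i
      have := hb1 i
      simp only [mul_sub, Finset.sum_sub_distrib]
      rw [← this]
      ring
    have h7 : ∑ i, (∑ j, b j * f' j i) * g' i = 0 := by
      simp only [Finset.sum_mul]
      rw [Finset.sum_comm]
      refine Finset.sum_eq_zero fun j _ => ?_
      have := h.syz' j
      calc ∑ i, b j * f' j i * g' i = b j * ∑ i, f' j i * g' i := by
            rw [Finset.mul_sum]; exact Finset.sum_congr rfl fun i _ => by ring
        _ = 0 := by rw [this, mul_zero]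
    symm
    calc ∑ i, a i * g' i
        = ∑ i, ((a₁ i + ∑ j, b j * (f j i - f' j i)) + ∑ j, b j * f' j i) * g' i :=
          Finset.sum_congr rfl fun i _ => by rw [← h6 i]
      _ = ∑ i, (a₁ i + ∑ j, b j * (f j i - f' j i)) * g' i + ∑ i, (∑ j, b j * f' j i) * g' i := by
          rw [← Finset.sum_add_distrib]; exact Finset.sum_congr rfl fun i _ => by ring
      _ = _ := by rw [h7, add_zero]

/-- **Artin–Rees for the perturbed family**: a combination of the `g'` lying in `I ^ (n + c)` can be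
rewritten with coefficients in `I ^ n`. -/
theorem exists_small_coeffs (h : Hyp I g g' f f' c) (n : ℕ) (a : ι → S)
    (hs : ∑ i, a i * g' i ∈ I ^ (n + c)) :
    ∃ a' : ι → S, (∀ i, a' i ∈ I ^ n) ∧ ∑ i, a' i * g' i = ∑ i, a i * g' i := by
  have aux : ∀ (d r : ℕ), r + d = n → ∀ a : ι → S, (∀ i, a i ∈ I ^ r) →
      ∑ i, a i * g' i ∈ I ^ (n + c) →
      ∃ a' : ι → S, (∀ i, a' i ∈ I ^ n) ∧ ∑ i, a' i * g' i = ∑ i, a i * g' i := by
    intro d
    induction d with
    | zero =>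
      intro r hr a ha _
      have : r = n := by omega
      subst this
      exact ⟨a, ha, rfl⟩
    | succ d ih =>
      intro r hr a ha hs
      obtain ⟨a₂, ha₂, hsum₂⟩ := step h n r (by omega) a ha hs
      obtain ⟨a', ha', hsum'⟩ := ih (r + 1) (by omega) a₂ ha₂ (by rw [hsum₂]; exact hs)
      exact ⟨a', ha', hsum'.trans hsum₂⟩
  exact aux n 0 (by omega) a (fun i => by simp) hs

/-- **Equality of initial forms.** -/
theorem mem_sup_iff (h : Hyp I g g' f f' c) (n : ℕ) (x : S) (hx : x ∈ I ^ n) :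
    x ∈ Ideal.span (Set.range g) ⊔ I ^ (n + 1) ↔ x ∈ Ideal.span (Set.range g') ⊔ I ^ (n + 1) := by
  constructor
  · intro hmem
    obtain ⟨y, hy, u, hu, rfl⟩ := Submodule.mem_sup.mp hmem
    obtain ⟨a, rfl⟩ := (Ideal.mem_span_range_iff_exists_fun).mp hy
    have hyn : ∑ i, a i * g i ∈ I ^ n := by
      have := Ideal.sub_mem _ hx (Ideal.pow_le_pow_right (Nat.le_succ n) hu)
      rwa [add_sub_cancel_right] at this
    -- good coefficients
    have hgood : ∃ a' : ι → S, ∑ i, a' i * g i = ∑ i, a i * g i ∧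
        ∑ i, a' i * g i - ∑ i, a' i * g' i ∈ I ^ (n + 1) := by
      by_cases hnc : c ≤ n
      · obtain ⟨n', rfl⟩ := Nat.exists_eq_add_of_le' hnc
        obtain ⟨a', ha', hs'⟩ := h.arg n' a hyn
        exact ⟨a', hs', sum_mul_sub_mem h n' a' ha'⟩
      · refine ⟨a, rfl, ?_⟩
        have := sum_mul_sub_mem h 0 a (fun i => by simp)
        exact Ideal.pow_le_pow_right (by omega) this
    obtain ⟨a', hs', hd⟩ := hgood
    rw [← hs']
    have h8 : ∑ i, a' i * g i + u = ∑ i, a' i * g' i +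
        ((∑ i, a' i * g i - ∑ i, a' i * g' i) + u) := by ring
    rw [h8]
    exact Submodule.add_mem_sup
      ((Ideal.mem_span_range_iff_exists_fun).mpr ⟨a', rfl⟩) (Ideal.add_mem _ hd hu)
  · intro hmem
    obtain ⟨y, hy, u, hu, rfl⟩ := Submodule.mem_sup.mp hmem
    obtain ⟨a, rfl⟩ := (Ideal.mem_span_range_iff_exists_fun).mp hy
    have hyn : ∑ i, a i * g' i ∈ I ^ n := by
      have := Ideal.sub_mem _ hx (Ideal.pow_le_pow_right (Nat.le_succ n) hu)
      rwa [add_sub_cancel_right] at this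
    have hgood : ∃ a' : ι → S, ∑ i, a' i * g' i = ∑ i, a i * g' i ∧
        ∑ i, a' i * g i - ∑ i, a' i * g' i ∈ I ^ (n + 1) := by
      by_cases hnc : c ≤ n
      · obtain ⟨n', rfl⟩ := Nat.exists_eq_add_of_le' hnc
        obtain ⟨a', ha', hs'⟩ := exists_small_coeffs h n' a hyn
        exact ⟨a', hs', sum_mul_sub_mem h n' a' ha'⟩
      · refine ⟨a, rfl, ?_⟩
        have := sum_mul_sub_mem h 0 a (fun i => by simp)
        exact Ideal.pow_le_pow_right (by omega) this
    obtain ⟨a', hs', hd⟩ := hgood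
    rw [← hs']
    have h8 : ∑ i, a' i * g' i + u = ∑ i, a' i * g i +
        (u - (∑ i, a' i * g i - ∑ i, a' i * g' i)) := by ring
    rw [h8]
    exact Submodule.add_mem_sup
      ((Ideal.mem_span_range_iff_exists_fun).mpr ⟨a', rfl⟩) (Ideal.sub_mem _ hu hd)

section Noeth

variable {S : Type u} [CommRing S] (I : Ideal S) {ι : Type} [Fintype ι]

/-- a vector with small entries lies in `I ^ m • ⊤` -/
theorem mem_smul_top_of_forall (m : ℕ) (a : ι → S) (ha : ∀ i, a i ∈ I ^ m) :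
    a ∈ (I ^ m • ⊤ : Submodule S (ι → S)) := by
  classical
  have h1 : a = ∑ i, a i • (Pi.single i (1 : S) : ι → S) := by
    funext i
    simp [Finset.sum_apply, Pi.single_apply]
  rw [h1]
  exact Submodule.sum_mem _ fun i _ => Submodule.smul_mem_smul (ha i) Submodule.mem_top

/-- extraction of small coefficients from `I ^ n • span (range v)` -/
theorem exists_fun_of_mem_smul_span {M : Type*} [AddCommGroup M] [Module S M] {κ : Type*} [Fintype κ]
    (K : Ideal S) (v : κ → M) (x : M) (hx : x ∈ K • Submodule.span S (Set.range v)) :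
    ∃ b : κ → S, (∀ j, b j ∈ K) ∧ ∑ j, b j • v j = x := by
  obtain ⟨a, ha, rfl⟩ := (Submodule.mem_ideal_smul_span_iff_exists_sum K v x).mp hx
  refine ⟨fun j => a j, ha, ?_⟩
  rw [Finsupp.sum_fintype]
  intro i; simp

theorem exists_relations [IsNoetherianRing S] (g : ι → S) :
    ∃ (r : ℕ) (f : Fin r → ι → S) (c : ℕ), (∀ j, ∑ i, f j i * g i = 0) ∧
      ∀ (c' : ℕ), c ≤ c' → ∀ (g' : ι → S) (f' : Fin r → ι → S),
        (∀ j, ∑ i, f' j i * g' i = 0) →
        (∀ i, g i - g' i ∈ I ^ (c' + 1)) → (∀ j i, f j i - f' j i ∈ I ^ (c' + 1)) →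
        Hyp I g g' f f' c' := by
  classical
  let L : (ι → S) →ₗ[S] S := Fintype.linearCombination S g
  have hL : ∀ a : ι → S, L a = ∑ i, a i * g i := fun a => by
    simp [L, Fintype.linearCombination_apply]
  let K : Submodule S (ι → S) := LinearMap.ker L
  have hKfg : K.FG := IsNoetherian.noetherian K
  obtain ⟨r, f, hf⟩ := Submodule.fg_iff_exists_fin_generating_family.mp hKfg
  obtain ⟨k1, hk1⟩ := Ideal.exists_pow_inf_eq_pow_smul I
    (Ideal.span (Set.range g) : Submodule S S)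
  obtain ⟨k2, hk2⟩ := Ideal.exists_pow_inf_eq_pow_smul I K
  have hsyz : ∀ j, ∑ i, f j i * g i = 0 := by
    intro j
    have : f j ∈ K := by rw [← hf]; exact Submodule.subset_span (Set.mem_range_self j)
    rw [← hL]; exact this
  refine ⟨r, f, max k1 k2, hsyz, ?_⟩
  intro c' hc' g' f' hsyz' hcg hcf
  refine ⟨hsyz', ?_, ?_, ?_, hcg, hcf⟩
  · intro a ha
    have haK : a ∈ K := by change L a = 0; rw [hL]; exact ha
    rw [← hf] at haK
    obtain ⟨b, hb⟩ := (Submodule.mem_span_range_iff_exists_fun S).mp haK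
    refine ⟨b, fun i => ?_⟩
    rw [← hb]
    simp [Finset.sum_apply]
  · intro n a ha
    have h1 : ∑ i, a i * g i ∈ (I ^ (n + c') • ⊤ ⊓ (Ideal.span (Set.range g) : Submodule S S)) := by
      refine ⟨?_, (Ideal.mem_span_range_iff_exists_fun).mpr ⟨a, rfl⟩⟩
      rw [smul_eq_mul, Ideal.mul_top]; exact ha
    rw [hk1 (n + c') (by omega)] at h1
    have h2 : ∑ i, a i * g i ∈ I ^ n • (Ideal.span (Set.range g) : Submodule S S) := by
      refine Submodule.smul_mono (Ideal.pow_le_pow_right (by omega)) inf_le_right h1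
    obtain ⟨b, hb1, hb2⟩ := exists_fun_of_mem_smul_span (I ^ n) g _ h2
    exact ⟨b, hb1, by simpa [smul_eq_mul] using hb2⟩
  · intro n a ha hrel
    have haK : a ∈ K := by change L a = 0; rw [hL]; exact hrel
    have h1 : a ∈ (I ^ (n + c') • ⊤ ⊓ K : Submodule S (ι → S)) :=
      ⟨mem_smul_top_of_forall I _ a ha, haK⟩
    rw [hk2 (n + c') (by omega)] at h1
    have h2 : a ∈ I ^ n • K :=
      Submodule.smul_mono (Ideal.pow_le_pow_right (by omega)) inf_le_right h1
    rw [← hf] at h2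
    obtain ⟨b, hb1, hb2⟩ := exists_fun_of_mem_smul_span (I ^ n) f _ h2
    refine ⟨b, hb1, fun i => ?_⟩
    rw [← hb2]
    simp [Finset.sum_apply]

/-- **Conrad–de Jong.** -/
theorem main [IsNoetherianRing S] (g : ι → S) :
    ∃ (r : ℕ) (f : Fin r → ι → S) (c : ℕ), (∀ j, ∑ i, f j i * g i = 0) ∧
      ∀ (c' : ℕ), c ≤ c' → ∀ (g' : ι → S) (f' : Fin r → ι → S),
        (∀ j, ∑ i, f' j i * g' i = 0) →
        (∀ i, g i - g' i ∈ I ^ (c' + 1)) → (∀ j i, f j i - f' j i ∈ I ^ (c' + 1)) →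
        ∀ (n : ℕ) (x : S), x ∈ I ^ n →
          (x ∈ Ideal.span (Set.range g) ⊔ I ^ (n + 1) ↔
            x ∈ Ideal.span (Set.range g') ⊔ I ^ (n + 1)) := by
  obtain ⟨r, f, c, hsyz, h⟩ := exists_relations I g
  exact ⟨r, f, c, hsyz, fun c' hc' g' f' h1 h2 h3 n x hx =>
    mem_sup_iff (h c' hc' g' f' h1 h2 h3) n x hx⟩

end Noeth

end Groth.Agent.H72.CdJ
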