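import Mathlib

set_option autoImplicit false

universe u

namespace Groth.Agent.H72

open Module

variable {K V : Type*} [Field K] [AddCommGroup V] [Module K V]

/-- A vector space is not the union of two proper subspaces. -/
theorem exists_notMem_of_ne_top (P Q : Submodule K V) (hP : P ≠ ⊤) (hQ : Q ≠ ⊤) :
    ∃ x : V, x ∉ P ∧ x ∉ Q := by
  obtain ⟨p, -, hp⟩ := SetLike.exists_of_lt (lt_top_iff_ne_top.mpr hP)
  obtain ⟨q, -, hq⟩ := SetLike.exists_of_lt (lt_top_iff_ne_top.mpr hQ)
  by_cases hpQ : p ∈ Q
  · by_cases hqP : q ∈ P
    · refine ⟨p + q, fun h => hp ?_, fun h => hq ?_⟩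
      · have := P.sub_mem h hqP
        simpa using this
      · have := Q.sub_mem h hpQ
        simpa using this
    · exact ⟨q, hqP, hq⟩
  · exact ⟨p, hp, hpQ⟩

/-- Two subspaces of the same dimension of a finite-dimensional space have a common complement. -/
theorem exists_common_isCompl [FiniteDimensional K V] :
    ∀ (d : ℕ) (P Q : Submodule K V), finrank K V - finrank K P = d →
      finrank K P = finrank K Q → ∃ N : Submodule K V, IsCompl P N ∧ IsCompl Q N := by
  intro d
  induction d with
  | zero =>
    intro P Q hd hPQ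
    have hP : P = ⊤ := by
      apply Submodule.eq_top_of_finrank_eq
      have := Submodule.finrank_le P
      omega
    have hQ : Q = ⊤ := by
      apply Submodule.eq_top_of_finrank_eq
      have := Submodule.finrank_le Q
      omega
    subst hP hQ
    exact ⟨⊥, isCompl_top_bot, isCompl_top_bot⟩
  | succ d ih =>
    intro P Q hd hPQ
    have hP : P ≠ ⊤ := by
      intro h
      rw [h, finrank_top] at hd
      omega
    have hQ : Q ≠ ⊤ := by
      intro h
      rw [hPQ, h, finrank_top] at hd
      omega
    obtain ⟨x, hxP, hxQ⟩ := exists_notMem_of_ne_top P Q hP hQ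
    have h1 := Submodule.finrank_sup_span_singleton hxP
    have h2 := Submodule.finrank_sup_span_singleton hxQ
    obtain ⟨N', hPN', hQN'⟩ := ih (P ⊔ Submodule.span K {x}) (Q ⊔ Submodule.span K {x})
      (by rw [h1]; omega) (by rw [h1, h2, hPQ])
    have hx0 : x ≠ 0 := fun h => hxP (h ▸ P.zero_mem)
    have key : ∀ (R : Submodule K V), x ∉ R →
        finrank K (R ⊔ Submodule.span K {x} : Submodule K V) = finrank K R + 1 →
        IsCompl (R ⊔ Submodule.span K {x}) N' → IsCompl R (Submodule.span K {x} ⊔ N') := by
      intro R hxR hfin hcompl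
      have hsup : R ⊔ (Submodule.span K {x} ⊔ N') = ⊤ := by
        rw [← sup_assoc]
        exact hcompl.sup_eq_top
      refine ⟨?_, codisjoint_iff.mpr hsup⟩
      rw [disjoint_iff]
      have e1 := Submodule.finrank_sup_add_finrank_inf_eq R (Submodule.span K {x} ⊔ N')
      rw [hsup, finrank_top] at e1
      have e2 := Submodule.finrank_add_le_finrank_add_finrank (Submodule.span K {x}) N'
      rw [finrank_span_singleton hx0] at e2
      have e3 := Submodule.finrank_add_eq_of_isCompl hcompl
      rw [hfin] at e3
      have e4 : finrank K (R ⊓ (Submodule.span K {x} ⊔ N') : Submodule K V) = 0 := by omega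
      exact Submodule.finrank_eq_zero.mp e4
    exact ⟨Submodule.span K {x} ⊔ N', key P hxP h1 hPN', key Q hxQ h2 hQN'⟩

theorem exists_common_isCompl' [FiniteDimensional K V] (P Q : Submodule K V)
    (h : finrank K P = finrank K Q) : ∃ N : Submodule K V, IsCompl P N ∧ IsCompl Q N :=
  exists_common_isCompl _ P Q rfl h

end Groth.Agent.H72
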