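import Mathlib

set_option autoImplicit false
set_option linter.style.haveILetI false
set_option linter.unusedSectionVars false
universe u

namespace Groth.Agent.H72.ComplSurj

open AdicCompletion

variable {R' A' : Type*} [CommRing R'] [CommRing A'] (π : R' →+* A') (I' : Ideal A')

theorem pow_comap_le (n : ℕ) : (I'.comap π) ^ n ≤ (I' ^ n).comap π := by
  rw [← Ideal.map_le_iff_le_comap, Ideal.map_pow]
  exact Ideal.pow_right_mono Ideal.map_comap_le n

/-- The level maps. -/
noncomputable def level (n : ℕ) : AdicCompletion (I'.comap π) R' →+* A' ⧸ I' ^ n :=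
  (Ideal.quotientMap (I' ^ n) π (pow_comap_le π I' n)).comp
    (evalₐ (I'.comap π) n : AdicCompletion (I'.comap π) R' →+* R' ⧸ (I'.comap π) ^ n)

theorem level_mk (n : ℕ) (s : AdicCauchySequence (I'.comap π) R') :
    level π I' n (AdicCompletion.mk (I'.comap π) R' s) = Ideal.Quotient.mk _ (π (s n)) := by
  simp only [level, RingHom.coe_comp, RingHom.coe_coe, Function.comp_apply, evalₐ_mk,
    Ideal.quotientMap_mk]

theorem level_compat {m n : ℕ} (hle : m ≤ n) :
    (Ideal.Quotient.factorPow I' hle).comp (level π I' n) = level π I' m := by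
  ext x
  obtain ⟨a, rfl⟩ := AdicCompletion.mk_surjective (I'.comap π) R' x
  rw [RingHom.comp_apply, level_mk, level_mk, Ideal.Quotient.factor_mk, Ideal.Quotient.eq,
    ← map_sub]
  apply pow_comap_le π I' m
  rw [← Ideal.Quotient.eq]
  exact AdicCompletion.Ideal.mk_eq_mk (I'.comap π) hle a

/-- The induced map on completions. -/
noncomputable def complMap : AdicCompletion (I'.comap π) R' →+* AdicCompletion I' A' :=
  AdicCompletion.liftRingHom I' (level π I') (fun hle => level_compat π I' hle)

theorem evalₐ_complMap (n : ℕ) (x : AdicCompletion (I'.comap π) R') :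
    evalₐ I' n (complMap π I' x) = level π I' n x :=
  AdicCompletion.evalₐ_liftRingHom I' (level π I') (fun hle => level_compat π I' hle) n x

theorem exists_mem_pow_comap (hπ : Function.Surjective π) (n : ℕ) (d : A') (hd : d ∈ I' ^ n) :
    ∃ e ∈ (I'.comap π) ^ n, π e = d := by
  have h1 : ((I'.comap π) ^ n).map π = I' ^ n := by
    rw [Ideal.map_pow, Ideal.map_comap_of_surjective π hπ]
  rw [← h1] at hd
  exact (Ideal.mem_map_iff_of_surjective π hπ).mp hd

/-- A surjective ring map induces a surjection on adic completions. -/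
theorem complMap_surjective (hπ : Function.Surjective π) :
    Function.Surjective (complMap π I') := by
  intro y
  obtain ⟨a, rfl⟩ := AdicCompletion.mk_surjective I' A' y
  have hstep : ∀ n, a (n + 1) - a n ∈ I' ^ n := by
    intro n
    have h := a.property (Nat.le_succ n)
    rw [SModEq.sub_mem] at h
    have h2 : a n - a (n + 1) ∈ I' ^ n := by simpa using h
    have := (I' ^ n).neg_mem h2
    rwa [neg_sub] at this
  choose e he1 he2 using fun n => exists_mem_pow_comap π I' hπ n _ (hstep n)
  obtain ⟨r0, hr0⟩ := hπ (a 0)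
  let r : ℕ → R' := fun n => Nat.rec r0 (fun k rk => rk + e k) n
  have hr_succ : ∀ n, r (n + 1) = r n + e n := fun n => rfl
  have hπr : ∀ n, π (r n) = a n := by
    intro n
    induction n with
    | zero => exact hr0
    | succ k ih => rw [hr_succ, map_add, ih, he2]; ring
  let s : AdicCauchySequence (I'.comap π) R' := AdicCauchySequence.mk (I'.comap π) R' r (by
    intro n
    rw [SModEq.sub_mem, hr_succ]
    have : r n - (r n + e n) = - e n := by ring
    rw [this]
    have h3 := ((I'.comap π) ^ n).neg_mem (he1 n)
    simpa using h3)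
  refine ⟨AdicCompletion.mk (I'.comap π) R' s, ?_⟩
  apply AdicCompletion.ext_evalₐ
  intro n
  rw [evalₐ_complMap, level_mk, evalₐ_mk]
  change Ideal.Quotient.mk _ (π (r n)) = _
  rw [hπr]

end Groth.Agent.H72.ComplSurj
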