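import Mathlib

/-!
Helper lemmas: fibre of relative differentials versus the tangent map, for local algebras with
residue field the base field.
-/

namespace Groth.Agent.H72.CotangentDim

open IsLocalRing TensorProduct KaehlerDifferential

universe u
set_option linter.unusedSectionVars false

section
variable (k : Type u) [Field k]
    (A B : Type u) [CommRing A] [CommRing B] [IsLocalRing A] [IsLocalRing B]
    [Algebra k A] [Algebra k B] [Algebra A B] [IsScalarTower k A B]

/-- The residue map to `k`. -/
noncomputable def resK (hB : Function.Bijective (algebraMap k (ResidueField B))) : B →+* k :=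
  ((RingEquiv.ofBijective (algebraMap k (ResidueField B)) hB).symm : ResidueField B →+* k).comp
    (residue B)

variable {k B}

theorem algebraMap_resK (hB : Function.Bijective (algebraMap k (ResidueField B))) (b : B) :
    algebraMap k (ResidueField B) (resK k B hB b) = residue B b := by
  unfold resK
  simp only [RingHom.coe_comp, RingHom.coe_coe, Function.comp_apply]
  exact (RingEquiv.ofBijective (algebraMap k (ResidueField B)) hB).apply_symm_apply _

theorem sub_algebraMap_resK_mem (hB : Function.Bijective (algebraMap k (ResidueField B))) (b : B) :
    b - algebraMap k B (resK k B hB b) ∈ RingHom.ker (algebraMap B (ResidueField B)) := by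
  rw [RingHom.mem_ker, map_sub, sub_eq_zero]
  rw [← IsScalarTower.algebraMap_apply k B (ResidueField B), algebraMap_resK]
  rfl

theorem resK_algebraMap (hB : Function.Bijective (algebraMap k (ResidueField B))) (c : k) :
    resK k B hB (algebraMap k B c) = c := by
  apply hB.1
  rw [algebraMap_resK, IsScalarTower.algebraMap_apply k B (ResidueField B)]
  rfl

theorem resK_eq_zero_of_mem (hB : Function.Bijective (algebraMap k (ResidueField B))) (b : B)
    (hb : b ∈ RingHom.ker (algebraMap B (ResidueField B))) : resK k B hB b = 0 := by
  apply hB.1
  rw [algebraMap_resK, map_zero]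
  exact hb

/-- `B` acts on the cotangent space through its residue in `k`. -/
theorem smul_cotangent_eq (hB : Function.Bijective (algebraMap k (ResidueField B))) (b : B)
    (z : (RingHom.ker (algebraMap B (ResidueField B))).Cotangent) :
    b • z = resK k B hB b • z := by
  have h1 := Ideal.Cotangent.smul_eq_zero_of_mem (sub_algebraMap_resK_mem hB b) z
  rw [sub_smul, sub_eq_zero, algebraMap_smul] at h1
  exact h1

end

section
variable {k : Type u} [Field k]
    {B : Type u} [CommRing B] [IsLocalRing B] [IsNoetherianRing B] [Algebra k B]

set_option backward.isDefEq.respectTransparency false in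
theorem finite_cotangent_B :
    Module.Finite B (RingHom.ker (algebraMap B (ResidueField B))).Cotangent :=
  inferInstance

theorem finite_cotangent (hB : Function.Bijective (algebraMap k (ResidueField B))) :
    Module.Finite k (RingHom.ker (algebraMap B (ResidueField B))).Cotangent := by
  have hF : Module.Finite B (RingHom.ker (algebraMap B (ResidueField B))).Cotangent :=
    finite_cotangent_B
  let _ : Algebra B k := (resK k B hB).toAlgebra
  have hsm : ∀ (b : B) (x : k), b • x = resK k B hB b * x := fun b x => rfl
  have : IsScalarTower B k (RingHom.ker (algebraMap B (ResidueField B))).Cotangent := by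
    refine ⟨fun b x z => ?_⟩
    rw [hsm, mul_smul, smul_cotangent_eq hB b (x • z)]
  exact Module.Finite.of_restrictScalars_finite B k _

end

section
variable {k : Type u} [Field k] {A B : Type u} [CommRing A] [CommRing B] [IsLocalRing A]
  [IsLocalRing B] [Algebra k A] [Algebra k B] [Algebra A B] [IsScalarTower k A B]

/-- The projection `B → J`, `b ↦ b - s (c b)`. -/
noncomputable def projJ (hB : Function.Bijective (algebraMap k (ResidueField B))) (b : B) :
    RingHom.ker (algebraMap B (ResidueField B)) :=
  ⟨b - algebraMap k B (resK k B hB b), sub_algebraMap_resK_mem hB b⟩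

theorem projJ_add (hB : Function.Bijective (algebraMap k (ResidueField B))) (b b' : B) :
    projJ hB (b + b') = projJ hB b + projJ hB b' := by
  apply Subtype.ext
  simp only [projJ, map_add, Submodule.coe_add]
  ring

theorem projJ_mul (hB : Function.Bijective (algebraMap k (ResidueField B))) (b b' : B) :
    projJ hB (b * b') = b • projJ hB b' + algebraMap k B (resK k B hB b') • projJ hB b := by
  apply Subtype.ext
  simp only [projJ, map_mul, Submodule.coe_add, Submodule.coe_smul, smul_eq_mul]
  ring

theorem projJ_of_mem (hB : Function.Bijective (algebraMap k (ResidueField B)))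
    (m : RingHom.ker (algebraMap B (ResidueField B))) : projJ hB (m : B) = m := by
  apply Subtype.ext
  simp only [projJ, resK_eq_zero_of_mem hB _ m.2, map_zero, sub_zero]

/-- The function underlying the derivation attached to a functional on the cotangent space. -/
noncomputable def derivFun (hB : Function.Bijective (algebraMap k (ResidueField B)))
    (lam : (RingHom.ker (algebraMap B (ResidueField B))).Cotangent →ₗ[k] k) (b : B) :
    ResidueField B :=
  algebraMap k (ResidueField B) (lam (Ideal.toCotangent _ (projJ hB b)))

theorem derivFun_add (hB : Function.Bijective (algebraMap k (ResidueField B)))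
    (lam : (RingHom.ker (algebraMap B (ResidueField B))).Cotangent →ₗ[k] k) (b b' : B) :
    derivFun hB lam (b + b') = derivFun hB lam b + derivFun hB lam b' := by
  simp only [derivFun, projJ_add, map_add]

theorem derivFun_mul (hB : Function.Bijective (algebraMap k (ResidueField B)))
    (lam : (RingHom.ker (algebraMap B (ResidueField B))).Cotangent →ₗ[k] k) (b b' : B) :
    derivFun hB lam (b * b') =
      residue B b * derivFun hB lam b' + residue B b' * derivFun hB lam b := by
  unfold derivFun
  have h1 : Ideal.toCotangent _ (projJ hB (b * b')) =
      resK k B hB b • Ideal.toCotangent _ (projJ hB b') +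
        resK k B hB b' • Ideal.toCotangent _ (projJ hB b) := by
    rw [projJ_mul, map_add, LinearMap.map_smul, LinearMap.map_smul, smul_cotangent_eq hB b,
      algebraMap_smul]
  rw [h1, map_add, LinearMap.map_smul, LinearMap.map_smul, smul_eq_mul, smul_eq_mul, map_add,
    map_mul, map_mul, algebraMap_resK, algebraMap_resK]

theorem derivFun_of_mem (hB : Function.Bijective (algebraMap k (ResidueField B)))
    (lam : (RingHom.ker (algebraMap B (ResidueField B))).Cotangent →ₗ[k] k)
    (m : RingHom.ker (algebraMap B (ResidueField B))) :
    derivFun hB lam (m : B) = algebraMap k (ResidueField B) (lam (Ideal.toCotangent _ m)) := by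
  simp only [derivFun, projJ_of_mem]

end

section
variable {k : Type u} [Field k] {A B : Type u} [CommRing A] [CommRing B] [IsLocalRing A]
  [IsLocalRing B] [Algebra k A] [Algebra k B] [Algebra A B] [IsScalarTower k A B]

/-- The `A`-derivation `B → κ(B)` attached to a functional on the cotangent space killing the
image of `A`. -/
noncomputable def derivOf (hB : Function.Bijective (algebraMap k (ResidueField B)))
    (lam : (RingHom.ker (algebraMap B (ResidueField B))).Cotangent →ₗ[k] k)
    (hlam : ∀ a : A, derivFun hB lam (algebraMap A B a) = 0) :
    Derivation A B (ResidueField B) :=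
  Derivation.mk'
    { toFun := derivFun hB lam
      map_add' := derivFun_add hB lam
      map_smul' := fun a b => by
        rw [Algebra.smul_def, derivFun_mul, hlam, mul_zero, add_zero, RingHom.id_apply,
          Algebra.smul_def, IsScalarTower.algebraMap_apply A B (ResidueField B)]
        rfl }
    (fun b b' => by
      change derivFun hB lam (b * b') = b • derivFun hB lam b' + b' • derivFun hB lam b
      rw [derivFun_mul, Algebra.smul_def, Algebra.smul_def]; rfl)

theorem derivOf_apply (hB : Function.Bijective (algebraMap k (ResidueField B)))
    (lam : (RingHom.ker (algebraMap B (ResidueField B))).Cotangent →ₗ[k] k)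
    (hlam : ∀ a : A, derivFun hB lam (algebraMap A B a) = 0) (b : B) :
    derivOf hB lam hlam b = derivFun hB lam b := rfl

theorem mem_range_of_kerCotangentToTensor_eq_zero
    (hB : Function.Bijective (algebraMap k (ResidueField B)))
    (hle : maximalIdeal A ≤ Ideal.comap (IsScalarTower.toAlgHom k A B)
      (RingHom.ker (algebraMap B (ResidueField B))))
    (x : (RingHom.ker (algebraMap B (ResidueField B))).Cotangent)
    (hx : kerCotangentToTensor A B (ResidueField B) x = 0) :
    x ∈ LinearMap.range (Ideal.mapCotangent (maximalIdeal A)
      (RingHom.ker (algebraMap B (ResidueField B))) (IsScalarTower.toAlgHom k A B) hle) := by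
  by_contra hxW
  obtain ⟨lam, hlamx, hW⟩ := Submodule.exists_le_ker_of_notMem hxW
  have hlam : ∀ a : A, derivFun hB lam (algebraMap A B a) = 0 := by
    intro a
    set a' : A := a - algebraMap k A (resK k B hB (algebraMap A B a)) with ha'
    have hval : ((projJ hB (algebraMap A B a) : RingHom.ker (algebraMap B (ResidueField B))) : B) =
        algebraMap A B a' := by
      simp only [projJ, ha', map_sub, ← IsScalarTower.algebraMap_apply k A B]
    have hmem : a' ∈ maximalIdeal A := by
      by_contra hn
      have hu : IsUnit a' := by
        rwa [mem_maximalIdeal, mem_nonunits_iff, not_not] at hn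
      have hu' : IsUnit (algebraMap A B a') := hu.map _
      rw [← hval] at hu'
      have h2 := (projJ hB (algebraMap A B a)).2
      rw [RingHom.mem_ker] at h2
      have : IsUnit (algebraMap B (ResidueField B) (projJ hB (algebraMap A B a) : B)) :=
        hu'.map _
      rw [h2] at this
      exact not_isUnit_zero this
    have h3 : Ideal.toCotangent _ (projJ hB (algebraMap A B a)) =
        Ideal.mapCotangent (maximalIdeal A) (RingHom.ker (algebraMap B (ResidueField B)))
          (IsScalarTower.toAlgHom k A B) hle (Ideal.toCotangent _ ⟨a', hmem⟩) := by
      rw [Ideal.mapCotangent_toCotangent]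
      congr 1
      exact Subtype.ext hval
    unfold derivFun
    rw [h3]
    have : lam (Ideal.mapCotangent (maximalIdeal A) (RingHom.ker (algebraMap B (ResidueField B)))
          (IsScalarTower.toAlgHom k A B) hle (Ideal.toCotangent _ ⟨a', hmem⟩)) = 0 :=
      hW (LinearMap.mem_range_self _ _)
    rw [this, map_zero]
  let D := derivOf hB lam hlam
  let L : ResidueField B ⊗[B] Ω[B⁄A] →ₗ[ResidueField B] ResidueField B :=
    LinearMap.liftBaseChange (ResidueField B) D.liftKaehlerDifferential
  obtain ⟨m, rfl⟩ := Ideal.toCotangent_surjective _ x
  have h4 : L (kerCotangentToTensor A B (ResidueField B) (Ideal.toCotangent _ m)) =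
      algebraMap k (ResidueField B) (lam (Ideal.toCotangent _ m)) := by
    rw [kerCotangentToTensor_toCotangent, LinearMap.liftBaseChange_tmul, one_smul,
      Derivation.liftKaehlerDifferential_comp_D, derivOf_apply, derivFun_of_mem]
  rw [hx, map_zero] at h4
  apply hlamx
  apply hB.1
  rw [map_zero, ← h4]

end

section
variable {k : Type u} [Field k] {A B : Type u} [CommRing A] [CommRing B] [IsLocalRing A]
  [IsLocalRing B] [IsNoetherianRing B] [Algebra k A] [Algebra k B] [Algebra A B]
  [IsScalarTower k A B]

theorem finrank_residue_eq_one (hB : Function.Bijective (algebraMap k (ResidueField B))) :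
    Module.finrank k (ResidueField B) = 1 := by
  have e : k ≃ₗ[k] ResidueField B := LinearEquiv.ofBijective (Algebra.linearMap k _) hB
  rw [← e.finrank_eq, Module.finrank_self]

theorem count_aux (hB : Function.Bijective (algebraMap k (ResidueField B)))
    (hle : maximalIdeal A ≤ Ideal.comap (IsScalarTower.toAlgHom k A B)
      (RingHom.ker (algebraMap B (ResidueField B)))) :
    Module.finrank (ResidueField B) (ResidueField B ⊗[B] Ω[B⁄A]) +
      Module.finrank k (LinearMap.range (Ideal.mapCotangent (maximalIdeal A)
        (RingHom.ker (algebraMap B (ResidueField B))) (IsScalarTower.toAlgHom k A B) hle)) =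
      Module.finrank k (RingHom.ker (algebraMap B (ResidueField B))).Cotangent := by
  have hfin := finite_cotangent (k := k) (B := B) hB
  let dk : (RingHom.ker (algebraMap B (ResidueField B))).Cotangent →ₗ[k]
      ResidueField B ⊗[B] Ω[B⁄A] :=
    (kerCotangentToTensor A B (ResidueField B)).restrictScalars k
  have hdk : ∀ x, dk x = kerCotangentToTensor A B (ResidueField B) x := fun x => rfl
  -- surjectivity
  have hAsurj : Function.Surjective (algebraMap A (ResidueField B)) := by
    intro y
    obtain ⟨c, rfl⟩ := hB.2 y
    refine ⟨algebraMap k A c, ?_⟩
    rw [IsScalarTower.algebraMap_apply A B (ResidueField B),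
      ← IsScalarTower.algebraMap_apply k A B,
      ← IsScalarTower.algebraMap_apply k B (ResidueField B)]
  have hsub : Subsingleton (Ω[ResidueField B⁄A]) :=
    KaehlerDifferential.subsingleton_of_surjective A (ResidueField B) hAsurj
  have hsurj : Function.Surjective dk := by
    intro y
    obtain ⟨x, hx⟩ := (KaehlerDifferential.exact_kerCotangentToTensor_mapBaseChange A B
      (ResidueField B) Ideal.Quotient.mk_surjective y).mp (Subsingleton.elim _ _)
    exact ⟨x, hx⟩
  -- kernel
  have hker : LinearMap.ker dk = LinearMap.range (Ideal.mapCotangent (maximalIdeal A)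
        (RingHom.ker (algebraMap B (ResidueField B))) (IsScalarTower.toAlgHom k A B) hle) := by
    apply le_antisymm
    · intro x hx
      exact mem_range_of_kerCotangentToTensor_eq_zero hB hle x hx
    · rintro _ ⟨y, rfl⟩
      obtain ⟨a, rfl⟩ := Ideal.toCotangent_surjective _ y
      rw [LinearMap.mem_ker, hdk, Ideal.mapCotangent_toCotangent,
        kerCotangentToTensor_toCotangent]
      change (1 : ResidueField B) ⊗ₜ[B] (D A B) (algebraMap A B a) = 0
      rw [Derivation.map_algebraMap, tmul_zero]
  have h1 := LinearMap.finrank_range_add_finrank_ker dk
  rw [LinearMap.range_eq_top.mpr hsurj, finrank_top, hker] at h1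
  have h2 : Module.finrank k (ResidueField B ⊗[B] Ω[B⁄A]) =
      Module.finrank (ResidueField B) (ResidueField B ⊗[B] Ω[B⁄A]) := by
    rw [← Module.finrank_mul_finrank k (ResidueField B) (ResidueField B ⊗[B] Ω[B⁄A]),
      finrank_residue_eq_one hB, one_mul]
  rw [← h2]
  exact h1

end

section
variable {k : Type u} [Field k] {A B : Type u} [CommRing A] [CommRing B] [IsLocalRing A]
  [IsLocalRing B] [IsNoetherianRing B] [Algebra k A] [Algebra k B] [Algebra A B]
  [IsScalarTower k A B]

theorem count_aux' (hB : Function.Bijective (algebraMap k (ResidueField B))) (J : Ideal B)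
    (hJ : RingHom.ker (algebraMap B (ResidueField B)) = J)
    (hle : maximalIdeal A ≤ Ideal.comap (IsScalarTower.toAlgHom k A B) J) :
    Module.finrank (ResidueField B) (ResidueField B ⊗[B] Ω[B⁄A]) +
      Module.finrank k (LinearMap.range (Ideal.mapCotangent (maximalIdeal A) J
        (IsScalarTower.toAlgHom k A B) hle)) =
      Module.finrank k J.Cotangent := by
  subst hJ
  exact count_aux hB hle

end

end Groth.Agent.H72.CotangentDim
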