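import Mathlib
import Groth.Prelude.Def_Found
import Groth.Prelude.Def_EGA4b
import Groth.Agent.H72.DedExc
import Groth.Agent.H72.ExcellentLoc
import Groth.Agent.H26.SkFlat
import Groth.Agent.H26.CMFlat
import Groth.Agent.H26.RegHomField
import Groth.Agent.H26.AdicComplRegular
import Groth.Agent.H72.CMCatenary
import Groth.Agent.H13.J2Crit
import Groth.Agent.H48.GeomRed

/-!
# Excellence of a discrete valuation ring

A discrete valuation ring is excellent iff its generic formal fibre is geometrically reduced.
-/

set_option autoImplicit false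
set_option linter.style.haveILetI false
set_option linter.unusedSectionVars false
universe u

open TensorProduct IsLocalRing

namespace Groth.Agent.H72.DVRExc

section Primes

variable (R : Type u) [CommRing R] [IsLocalRing R] [IsNoetherianRing R]

/-- In the completion of a Noetherian local ring with principal maximal ideal, a prime not
containing the generator is zero. -/
theorem prime_eq_bot (ϖ : R) (hϖ : maximalIdeal R = Ideal.span {ϖ})
    (Q : Ideal (EGA4.Cpl R)) [hQ : Q.IsPrime]
    (hQϖ : algebraMap R (EGA4.Cpl R) ϖ ∉ Q) : Q = ⊥ := by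
  haveI : IsNoetherianRing (EGA4.Cpl R) := Groth.Agent.H20.isNoetherianRing_adicCompletion _
  have hmax : maximalIdeal (EGA4.Cpl R) = Ideal.span {algebraMap R (EGA4.Cpl R) ϖ} := by
    have h1 : maximalIdeal (EGA4.Cpl R) = (maximalIdeal R).map (algebraMap R (EGA4.Cpl R)) :=
      AdicCompletion.maximalIdeal_eq_map
    have h2 : (maximalIdeal R).map (algebraMap R (EGA4.Cpl R)) =
        (Ideal.span {ϖ}).map (algebraMap R (EGA4.Cpl R)) := congrArg _ hϖ
    rw [h1, h2, Ideal.map_span, Set.image_singleton]
  have hle : Q ≤ maximalIdeal (EGA4.Cpl R) • Q := by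
    intro x hx
    have hx' : x ∈ maximalIdeal (EGA4.Cpl R) := IsLocalRing.le_maximalIdeal hQ.ne_top hx
    rw [hmax, Ideal.mem_span_singleton'] at hx'
    obtain ⟨y, rfl⟩ := hx'
    have hy : y ∈ Q := (hQ.mem_or_mem hx).resolve_right hQϖ
    rw [mul_comm, ← smul_eq_mul]
    refine Submodule.smul_mem_smul ?_ hy
    rw [hmax]
    exact Ideal.mem_span_singleton_self _
  exact Submodule.eq_bot_of_le_smul_of_le_jacobson_bot _ Q (IsNoetherian.noetherian Q) hle
    (IsLocalRing.maximalIdeal_le_jacobson ⊥)

end Primes

section Generic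

variable (R : Type u) [CommRing R] [IsDomain R] [IsDiscreteValuationRing R]

/-- The generic formal fibre of a discrete valuation ring is Artinian. -/
theorem isArtinianRing_generic_formalFibre :
    IsArtinianRing ((⊥ : Ideal R).Fiber (EGA4.Cpl R)) := by
  haveI : IsNoetherianRing (EGA4.Cpl R) := Groth.Agent.H20.isNoetherianRing_adicCompletion _
  obtain ⟨ϖ, hirr⟩ := IsDiscreteValuationRing.exists_irreducible R
  have hϖ : maximalIdeal R = Ideal.span {ϖ} := hirr.maximalIdeal_eq
  let M : Submonoid (EGA4.Cpl R) :=
    Algebra.algebraMapSubmonoid (EGA4.Cpl R) (nonZeroDivisors R)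
  let G := EGA4.Cpl R ⊗[R] (⊥ : Ideal R).ResidueField
  haveI hloc : IsLocalization M G :=
    IsLocalization.tensor (⊥ : Ideal R).ResidueField (nonZeroDivisors R)
  haveI : IsNoetherianRing G := IsLocalization.isNoetherianRing M G inferInstance
  have hϖM : algebraMap R (EGA4.Cpl R) ϖ ∈ M :=
    ⟨ϖ, mem_nonZeroDivisors_of_ne_zero hirr.ne_zero, rfl⟩
  have hbot : ∀ (P : Ideal G), P.IsPrime → P = ⊥ := by
    intro P hP
    have hQ : (P.comap (algebraMap (EGA4.Cpl R) G)).IsPrime := Ideal.comap_isPrime _ _
    have hnot : algebraMap R (EGA4.Cpl R) ϖ ∉ P.comap (algebraMap (EGA4.Cpl R) G) := by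
      intro hmem
      have hu : IsUnit (algebraMap (EGA4.Cpl R) G (algebraMap R (EGA4.Cpl R) ϖ)) :=
        IsLocalization.map_units G ⟨_, hϖM⟩
      exact hP.ne_top (Ideal.eq_top_of_isUnit_mem _ hmem hu)
    have h0 := prime_eq_bot R ϖ hϖ (P.comap (algebraMap (EGA4.Cpl R) G)) hnot
    have h1 : (P.comap (algebraMap (EGA4.Cpl R) G)).map (algebraMap (EGA4.Cpl R) G) = P :=
      IsLocalization.map_under M G P
    rw [h0, Ideal.map_bot] at h1
    exact h1.symm
  haveI : Ring.KrullDimLE 0 G := by
    refine Ring.KrullDimLE.mk₀ (fun P hP => ?_)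
    obtain ⟨P', hP', hle⟩ := Ideal.exists_le_maximal P hP.ne_top
    have e1 := hbot P hP
    have e2 := hbot P' hP'.isPrime
    rw [e1, ← e2]
    exact hP'
  haveI : IsArtinianRing G := IsNoetherianRing.isArtinianRing_of_krullDimLE_zero
  exact (Algebra.TensorProduct.comm R (EGA4.Cpl R)
    (⊥ : Ideal R).ResidueField).toRingEquiv.surjective.isArtinianRing

set_option backward.isDefEq.respectTransparency false in
/-- If the generic formal fibre of a discrete valuation ring is geometrically reduced, it is
geometrically regular. -/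
theorem isGeometricallyRegular_generic_formalFibre
    (h : Algebra.IsGeometricallyReduced (⊥ : Ideal R).ResidueField
      (EGA4.formalFibre R (⊥ : Ideal R))) :
    CAlg.IsGeometricallyRegular (⊥ : Ideal R).ResidueField
      ((⊥ : Ideal R).Fiber (EGA4.Cpl R)) := by
  intro k' _ _ hfin
  haveI := hfin
  haveI := h
  haveI : Algebra.IsAlgebraic (⊥ : Ideal R).ResidueField k' := Algebra.IsAlgebraic.of_finite _ _
  haveI hred : IsReduced (k' ⊗[(⊥ : Ideal R).ResidueField] (EGA4.formalFibre R (⊥ : Ideal R))) :=
    inferInstance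
  haveI := isArtinianRing_generic_formalFibre R
  let F := (⊥ : Ideal R).Fiber (EGA4.Cpl R)
  let T := F ⊗[(⊥ : Ideal R).ResidueField] k'
  haveI : Module.Finite F T := Module.Finite.base_change _ _ _
  haveI : IsArtinianRing T := IsArtinianRing.of_finite F T
  let e : T ≃+* k' ⊗[(⊥ : Ideal R).ResidueField] F :=
    (Algebra.TensorProduct.comm (⊥ : Ideal R).ResidueField F k').toRingEquiv
  haveI : IsReduced T := isReduced_of_injective e e.injective
  have hT : IsRegularRing T :=
    Groth.Agent.H26.RegHomField.isRegularRing_of_isArtinianRing_of_isReduced T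
  exact @IsRegularRing.of_ringEquiv _ _ _ _ e hT

/-- If the generic formal fibre of a discrete valuation ring is geometrically reduced, the
completion map is regular. -/
theorem isRegularHom_cpl
    (h : Algebra.IsGeometricallyReduced (⊥ : Ideal R).ResidueField
      (EGA4.formalFibre R (⊥ : Ideal R))) :
    CAlg.IsRegularHom R (EGA4.Cpl R) := by
  haveI : IsNoetherianRing (EGA4.Cpl R) := Groth.Agent.H20.isNoetherianRing_adicCompletion _
  refine ⟨inferInstance, fun q hq =>
    ⟨Groth.Agent.H26.SkFlat.isNoetherianRing_fiber (EGA4.Cpl R) q, ?_⟩⟩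
  by_cases h0 : q = ⊥
  · subst h0
    exact isGeometricallyRegular_generic_formalFibre R h
  · have hmax : q.IsMaximal := Ring.DimensionLEOne.maximalOfPrime h0 hq
    have hq' : q = maximalIdeal R := IsLocalRing.eq_maximalIdeal hmax
    subst hq'
    exact Groth.Agent.H72.DedExc.isGeometricallyRegular_closed_formalFibre R

/-- A field has a regular completion map. -/
theorem isRegularHom_cpl_of_maximalIdeal_eq_bot (S : Type u) [CommRing S] [IsLocalRing S]
    [IsNoetherianRing S] (hS : maximalIdeal S = ⊥) : CAlg.IsRegularHom S (EGA4.Cpl S) := by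
  haveI : IsNoetherianRing (EGA4.Cpl S) := Groth.Agent.H20.isNoetherianRing_adicCompletion _
  refine ⟨inferInstance, fun q hq =>
    ⟨Groth.Agent.H26.SkFlat.isNoetherianRing_fiber (EGA4.Cpl S) q, ?_⟩⟩
  have hq' : q = maximalIdeal S := by
    have := IsLocalRing.le_maximalIdeal hq.ne_top
    rw [hS] at this ⊢
    exact le_bot_iff.mp this
  subst hq'
  exact Groth.Agent.H72.DedExc.isGeometricallyRegular_closed_formalFibre S

/-- If the generic formal fibre of a discrete valuation ring is geometrically reduced, the
ring is a G-ring. -/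
theorem isGRing
    (h : Algebra.IsGeometricallyReduced (⊥ : Ideal R).ResidueField
      (EGA4.formalFibre R (⊥ : Ideal R))) :
    CAlg.IsGRing R := by
  refine ⟨inferInstance, fun p hp => ?_⟩
  haveI : IsNoetherianRing (Localization.AtPrime p) :=
    IsLocalization.isNoetherianRing p.primeCompl _ inferInstance
  by_cases h0 : p = ⊥
  · subst h0
    apply isRegularHom_cpl_of_maximalIdeal_eq_bot
    rw [← Localization.AtPrime.map_eq_maximalIdeal, Ideal.map_bot]
  · have hmax : p.IsMaximal := Ring.DimensionLEOne.maximalOfPrime h0 hp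
    have hp' : p = maximalIdeal R := IsLocalRing.eq_maximalIdeal hmax
    have hunits : p.primeCompl ≤ IsUnit.submonoid R := by
      intro x hx
      have hx' : x ∉ maximalIdeal R := fun hmem => hx (hp' ▸ hmem)
      exact IsLocalRing.notMem_maximalIdeal.mp hx'
    let e : R ≃ₐ[R] Localization.AtPrime p :=
      IsLocalization.atUnits R p.primeCompl hunits
    exact Groth.Agent.H72.ExcellentLoc.isRegularHom_compl_of_ringEquiv e.toRingEquiv
      (isRegularHom_cpl R h)

end Generic

section J2

/-- A discrete valuation ring has finite spectrum. -/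
theorem finite_primeSpectrum (R : Type u) [CommRing R] [IsDomain R]
    [IsDiscreteValuationRing R] : Finite (PrimeSpectrum R) := by
  have hsub : (Set.univ : Set (PrimeSpectrum R)) ⊆
      {⟨⊥, Ideal.isPrime_bot⟩, ⟨maximalIdeal R, inferInstance⟩} := by
    intro P _
    by_cases h0 : P.asIdeal = ⊥
    · left
      exact PrimeSpectrum.ext h0
    · right
      have hmax : P.asIdeal.IsMaximal := Ring.DimensionLEOne.maximalOfPrime h0 P.isPrime
      exact PrimeSpectrum.ext (IsLocalRing.eq_maximalIdeal hmax)
  exact Set.finite_univ_iff.mp ((Set.toFinite _).subset hsub)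

/-- In a domain with finite spectrum, the generic point is open. -/
theorem isOpen_singleton_bot (A : Type u) [CommRing A] [IsDomain A]
    [Finite (PrimeSpectrum A)] :
    IsOpen ({⟨⊥, Ideal.isPrime_bot⟩} : Set (PrimeSpectrum A)) := by
  rw [← isClosed_compl_iff]
  have heq : ({⟨⊥, Ideal.isPrime_bot⟩}ᶜ : Set (PrimeSpectrum A)) =
      ⋃ P ∈ ({⟨⊥, Ideal.isPrime_bot⟩}ᶜ : Set (PrimeSpectrum A)),
        PrimeSpectrum.zeroLocus (P.asIdeal : Set A) := by
    ext Q
    simp only [Set.mem_compl_iff, Set.mem_singleton_iff, Set.mem_iUnion,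
      PrimeSpectrum.mem_zeroLocus, SetLike.coe_subset_coe, exists_prop]
    constructor
    · intro hQ
      exact ⟨Q, hQ, le_rfl⟩
    · rintro ⟨P, hP, hPQ⟩ hQ
      apply hP
      apply PrimeSpectrum.ext
      rw [hQ] at hPQ
      exact le_bot_iff.mp hPQ
  rw [heq]
  exact Set.Finite.isClosed_biUnion (Set.toFinite _)
    (fun P _ => PrimeSpectrum.isClosed_zeroLocus _)

/-- A discrete valuation ring is J-2. -/
theorem isJ2 (R : Type u) [CommRing R] [IsDomain R] [IsDiscreteValuationRing R] :
    EGA4.IsJ2 R := by
  rw [Groth.Agent.H13.J2Crit.isJ2_iff]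
  intro A' _ _ _ hfin
  haveI := hfin
  haveI := finite_primeSpectrum R
  haveI : Finite (PrimeSpectrum A') := Algebra.QuasiFinite.finite_primeSpectrum R A'
  refine ⟨{⟨⊥, Ideal.isPrime_bot⟩}, isOpen_singleton_bot A', Set.singleton_nonempty _, ?_⟩
  intro P hP
  rw [Set.mem_singleton_iff] at hP
  rw [hP]
  exact Groth.Agent.H13.NagataCrit.bot_mem_regLocus

end J2

section Main

variable (R : Type u) [CommRing R] [IsDomain R] [IsDiscreteValuationRing R]

/-- A geometrically regular algebra is geometrically reduced. -/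
theorem isGeometricallyReduced_of_isGeometricallyRegular (k A : Type u) [Field k] [CommRing A]
    [Algebra k A] (h : CAlg.IsGeometricallyRegular k A) : Algebra.IsGeometricallyReduced k A := by
  rw [Algebra.isGeometricallyReduced_field_iff]
  refine Groth.Agent.H48.GeomRed.isReduced_of_finite_subextensions (fun E hE => ?_)
  have hreg : IsRegularRing (E ⊗[k] A) := h E hE
  exact Groth.Agent.H26.RegHomField.isReduced_of_isRegularRing (E ⊗[k] A)

/-- A discrete valuation ring is excellent iff its generic formal fibre is geometrically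
reduced. -/
theorem isExcellent_iff :
    EGA4.IsExcellent R ↔
      Algebra.IsGeometricallyReduced (⊥ : Ideal R).ResidueField
        (EGA4.formalFibre R (⊥ : Ideal R)) := by
  constructor
  · rintro ⟨hN, -, hG, -⟩
    have hreg : CAlg.IsRegularHom R (EGA4.Cpl R) :=
      Groth.Agent.H26.AdicComplFibres.isRegularHom_adicCompletion hG _
    exact isGeometricallyReduced_of_isGeometricallyRegular _ _ (hreg.2 ⊥).2
  · intro h
    exact ⟨inferInstance,
      @Groth.Agent.H72.CMCatenary.isUniversallyCatenary_of_isCohenMacaulayRing R _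
        (Groth.Agent.H26.CMFlat.isCohenMacaulayRing_of_isRegularRing R),
      isGRing R h, isJ2 R⟩

end Main

end Groth.Agent.H72.DVRExc
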