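import Mathlib

/-!
# Finite free covers of finite algebras

Every finite algebra `D` over a commutative ring `R` is a quotient (as an `R`-algebra) of an
`R`-algebra that is finite and free as an `R`-module (an iterated `AdjoinRoot` of monic
polynomials).
-/

set_option autoImplicit false
set_option linter.style.haveILetI false
universe u

namespace Groth.Agent.H72.FinFreeCover

open Polynomial

/-- step: for a list of integral elements there is a finite free algebra whose image contains them. -/
theorem exists_cover_list (R : Type u) [CommRing R] (D : Type u) [CommRing D] [Algebra R D]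
    [Algebra.IsIntegral R D] (l : List D) :
    ∃ (S : Type u) (_ : CommRing S) (_ : Algebra R S) (_ : Module.Finite R S)
      (_ : Module.Free R S) (f : S →ₐ[R] D), ∀ d ∈ l, d ∈ f.range := by
  induction l with
  | nil =>
    exact ⟨R, inferInstance, inferInstance, inferInstance, inferInstance, Algebra.ofId R D,
      fun d hd => by simp at hd⟩
  | cons d l ih =>
    obtain ⟨S₀, _, _, _, _, f₀, hf₀⟩ := ih
    obtain ⟨F, hFm, hF⟩ := Algebra.IsIntegral.isIntegral (R := R) d
    have hm : (F.map (algebraMap R S₀)).Monic := hFm.map _
    haveI : Module.Finite S₀ (AdjoinRoot (F.map (algebraMap R S₀))) := hm.finite_adjoinRoot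
    haveI : Module.Free S₀ (AdjoinRoot (F.map (algebraMap R S₀))) := hm.free_adjoinRoot
    have hroot : (F.map (algebraMap R S₀)).eval₂ (f₀ : S₀ →+* D) d = 0 := by
      rw [Polynomial.eval₂_map]
      have : (f₀ : S₀ →+* D).comp (algebraMap R S₀) = algebraMap R D := f₀.comp_algebraMap
      rw [this]
      exact hF
    refine ⟨AdjoinRoot (F.map (algebraMap R S₀)), inferInstance, inferInstance,
      Module.Finite.trans S₀ _, Module.Free.trans (R := R) (S := S₀), 
      AdjoinRoot.liftAlgHom (F.map (algebraMap R S₀)) f₀ d hroot, ?_⟩
    intro x hx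
    rcases List.mem_cons.mp hx with rfl | hx
    · exact ⟨AdjoinRoot.root _, AdjoinRoot.liftAlgHom_root _ _ _ _⟩
    · obtain ⟨s, hs⟩ := hf₀ x hx
      refine ⟨AdjoinRoot.of _ s, ?_⟩
      rw [← hs]
      simp

/-- **Finite free cover**: a finite `R`-algebra is a quotient of a finite free `R`-algebra. -/
theorem exists_cover (R : Type u) [CommRing R] (D : Type u) [CommRing D] [Algebra R D]
    [Module.Finite R D] :
    ∃ (S : Type u) (_ : CommRing S) (_ : Algebra R S) (_ : Module.Finite R S)
      (_ : Module.Free R S) (f : S →ₐ[R] D), Function.Surjective f := by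
  haveI : Algebra.IsIntegral R D := Algebra.IsIntegral.of_finite R D
  obtain ⟨s, hs⟩ := (Module.finite_def (R := R) (M := D)).mp inferInstance
  obtain ⟨S, i1, i2, i3, i4, f, hf⟩ := exists_cover_list R D s.toList
  refine ⟨S, i1, i2, i3, i4, f, ?_⟩
  rw [← AlgHom.range_eq_top, eq_top_iff]
  intro x _
  have hx : x ∈ Submodule.span R (s : Set D) := by rw [hs]; trivial
  have hle : Submodule.span R (s : Set D) ≤ Subalgebra.toSubmodule f.range := by
    rw [Submodule.span_le]
    intro d hd
    exact hf d (by simpa using hd)
  exact hle hx

end Groth.Agent.H72.FinFreeCover
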