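import Mathlib

set_option autoImplicit false
set_option linter.style.haveILetI false
universe u

namespace Groth.Agent.H72.FinFreeGRing

open TensorProduct IsLocalRing

/-- If `D = S/𝔎` is a domain with fraction field `K`, `n` a prime of `D` with contraction `q`, and
all fibres `κ(p) ⊗_{S_q} C` of an `S_q`-algebra `C` are regular, then `K ⊗_S C` is regular. -/
theorem isRegularRing_tensor_fractionRing (S D : Type u) [CommRing S] [CommRing D] [IsDomain D]
    [Algebra S D] (hsurj : Function.Surjective (algebraMap S D)) (n : Ideal D) [n.IsPrime]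
    (K : Type u) [Field K] [Algebra D K] [IsFractionRing D K] [Algebra S K] [IsScalarTower S D K]
    (C : Type u) [CommRing C] [Algebra (Localization.AtPrime (Ideal.comap (algebraMap S D) n)) C]
    [Algebra S C] [IsScalarTower S (Localization.AtPrime (Ideal.comap (algebraMap S D) n)) C]
    (H : ∀ (p : Ideal (Localization.AtPrime (Ideal.comap (algebraMap S D) n))) [p.IsPrime],
      IsRegularRing (p.ResidueField ⊗[Localization.AtPrime (Ideal.comap (algebraMap S D) n)] C)) :
    IsRegularRing (K ⊗[S] C) := by
  have hunits : ∀ s : (Ideal.comap (algebraMap S D) n).primeCompl,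
      IsUnit (algebraMap S K (s : S)) := by
    intro s
    rw [IsScalarTower.algebraMap_apply S D K]
    have h0 : algebraMap S D (s : S) ≠ 0 := by
      intro h
      apply s.2
      show algebraMap S D (s : S) ∈ n
      rw [h]; exact zero_mem _
    exact (IsFractionRing.to_map_ne_zero_of_mem_nonZeroDivisors
      (mem_nonZeroDivisors_of_ne_zero h0)).isUnit
  letI algK : Algebra (Localization.AtPrime (Ideal.comap (algebraMap S D) n)) K :=
    (IsLocalization.lift (M := (Ideal.comap (algebraMap S D) n).primeCompl)
      (g := algebraMap S K) hunits).toAlgebra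
  haveI towK : IsScalarTower S (Localization.AtPrime (Ideal.comap (algebraMap S D) n)) K :=
    IsScalarTower.of_algebraMap_eq fun s => (IsLocalization.lift_eq hunits s).symm
  let p : Ideal (Localization.AtPrime (Ideal.comap (algebraMap S D) n)) :=
    RingHom.ker (algebraMap (Localization.AtPrime (Ideal.comap (algebraMap S D) n)) K)
  haveI hp : p.IsPrime := RingHom.ker_isPrime _
  have hf₂ : p.primeCompl ≤ (IsUnit.submonoid K).comap
      (Algebra.ofId (Localization.AtPrime (Ideal.comap (algebraMap S D) n)) K) := by
    intro x hx
    show IsUnit (algebraMap _ K x)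
    have : algebraMap _ K x ≠ 0 := fun h => hx h
    exact this.isUnit
  let e₀ : p.ResidueField →ₐ[Localization.AtPrime (Ideal.comap (algebraMap S D) n)] K :=
    Ideal.ResidueField.liftₐ p (Algebra.ofId _ K) le_rfl hf₂
  have he₀ : ∀ x, e₀ (algebraMap _ p.ResidueField x) = algebraMap _ K x := fun x =>
    Ideal.ResidueField.liftₐ_algebraMap p (Algebra.ofId _ K) le_rfl hf₂ x
  have hbij : Function.Bijective e₀ := by
    refine ⟨(e₀ : p.ResidueField →+* K).injective, ?_⟩
    intro k
    obtain ⟨a, b, hb, rfl⟩ := IsFractionRing.div_surjective (A := D) k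
    obtain ⟨s, rfl⟩ := hsurj a
    obtain ⟨t, rfl⟩ := hsurj b
    refine ⟨algebraMap _ p.ResidueField (algebraMap S
        (Localization.AtPrime (Ideal.comap (algebraMap S D) n)) s) /
      algebraMap _ p.ResidueField (algebraMap S
        (Localization.AtPrime (Ideal.comap (algebraMap S D) n)) t), ?_⟩
    rw [map_div₀, he₀, he₀, ← IsScalarTower.algebraMap_apply S
        (Localization.AtPrime (Ideal.comap (algebraMap S D) n)) K,
      ← IsScalarTower.algebraMap_apply S
        (Localization.AtPrime (Ideal.comap (algebraMap S D) n)) K,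
      IsScalarTower.algebraMap_apply S D K,
      IsScalarTower.algebraMap_apply S D K]
  let e : p.ResidueField ≃ₐ[Localization.AtPrime (Ideal.comap (algebraMap S D) n)] K :=
    AlgEquiv.ofBijective e₀ hbij
  have h1 : IsRegularRing (p.ResidueField ⊗[Localization.AtPrime (Ideal.comap (algebraMap S D) n)] C) :=
    H p
  have h2 : IsRegularRing (K ⊗[Localization.AtPrime (Ideal.comap (algebraMap S D) n)] C) :=
    @IsRegularRing.of_ringEquiv _ _ _ _
      (Algebra.TensorProduct.congr e (AlgEquiv.refl (R := Localization.AtPrime
        (Ideal.comap (algebraMap S D) n)) (A₁ := C))).toRingEquiv h1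
  exact @IsRegularRing.of_ringEquiv _ _ _ _
    (IsLocalization.algebraTensorEquiv (Ideal.comap (algebraMap S D) n).primeCompl
      (Localization.AtPrime (Ideal.comap (algebraMap S D) n)) K C).toRingEquiv h2

end Groth.Agent.H72.FinFreeGRing
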