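import Mathlib
import Groth.Prelude.Def_CAlg
import Groth.Agent.H72.DepthFlat
import Groth.Agent.H72.FlatCM

set_option autoImplicit false
set_option linter.unusedSectionVars false
universe u

open TensorProduct Pointwise IsLocalRing

namespace Groth.Agent.H72.DepthFlat

open RingTheory.Sequence Groth.Agent.H15

section

variable {R S : Type u} [CommRing R] [CommRing S] [Algebra R S]
  [IsNoetherianRing R] [IsLocalRing R] [IsNoetherianRing S] [IsLocalRing S]
  [IsLocalHom (algebraMap R S)]

/-- If the closed fibre of a finite `S`-module vanishes, so does the module. -/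
theorem subsingleton_of_subsingleton_fibre (N : Type u) [AddCommGroup N] [Module S N] [Module R N]
    [IsScalarTower R S N] [Module.Finite S N]
    (h : Subsingleton (N ⊗[R] (R ⧸ maximalIdeal R))) : Subsingleton N := by
  have e := quotEquivTensorQuot (S := S) N (maximalIdeal R)
  have h1 : Subsingleton (N ⧸ ((Ideal.map (algebraMap R S) (maximalIdeal R)) •
      (⊤ : Submodule S N))) := e.toEquiv.subsingleton
  rw [Submodule.Quotient.subsingleton_iff] at h1
  by_contra hcon
  rw [not_subsingleton_iff_nontrivial] at hcon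
  have hle : (Ideal.map (algebraMap R S) (maximalIdeal R)) ≤ maximalIdeal S :=
    ((IsLocalRing.local_hom_TFAE (algebraMap R S)).out 0 2).mp ‹IsLocalHom (algebraMap R S)›
  apply Submodule.top_ne_ideal_smul_of_le_jacobson_annihilator (R := S) (M := N)
    (I := (Ideal.map (algebraMap R S) (maximalIdeal R))) _ h1.symm
  exact hle.trans (IsLocalRing.maximalIdeal_le_jacobson _)

/-- Regular sequences in an ideal `I` of `S` on the closed fibre `N ⊗ k` lift to `N ⊗ M`:
`depth_I (N ⊗ M) ≥ depth_I (N ⊗ k)`. -/
theorem le_idealDepth_tensor_of_fibre (I : Ideal S) (hI : I ≠ ⊤)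
    (M : Type u) [AddCommGroup M] [Module R M] [Module.Finite R M] :
    ∀ (n : ℕ) (N : Type u) [AddCommGroup N] [Module S N] [Module R N] [IsScalarTower R S N]
      [Module.Finite S N] [Module.Flat R N],
      (n : ℕ∞) ≤ LocCoh.idealDepth I (N ⊗[R] (R ⧸ maximalIdeal R)) →
      (n : ℕ∞) ≤ LocCoh.idealDepth I (N ⊗[R] M) := by
  intro n
  induction n with
  | zero => intro N _ _ _ _ _ _ _; simp
  | succ n ih =>
    intro N _ _ _ _ _ _ h
    have hfinF : Module.Finite S (N ⊗[R] (R ⧸ maximalIdeal R)) := finite_tensorProduct N _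
    have hfinT : Module.Finite S (N ⊗[R] M) := finite_tensorProduct N M
    by_cases hFtop : I • (⊤ : Submodule S (N ⊗[R] (R ⧸ maximalIdeal R))) = ⊤
    · have hsubF : Subsingleton (N ⊗[R] (R ⧸ maximalIdeal R)) := by
        by_contra hcon
        rw [not_subsingleton_iff_nontrivial] at hcon
        apply Submodule.top_ne_ideal_smul_of_le_jacobson_annihilator (R := S)
          (M := N ⊗[R] (R ⧸ maximalIdeal R)) (I := I) _ hFtop.symm
        exact (IsLocalRing.le_maximalIdeal hI).trans (IsLocalRing.maximalIdeal_le_jacobson _)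
      have hsubN : Subsingleton N := subsingleton_of_subsingleton_fibre (R := R) (S := S) N hsubF
      have : Subsingleton (N ⊗[R] M) := inferInstance
      rw [idealDepth_eq_top_of_smul_top_eq I (N ⊗[R] M) (Subsingleton.elim _ _)]
      exact le_top
    · obtain ⟨y, hyI, hyreg⟩ := DepthFinite.exists_isSMulRegular_of_one_le_idealDepth I
        (N ⊗[R] (R ⧸ maximalIdeal R)) hFtop n h
      have h1 : (n : ℕ∞) ≤ LocCoh.idealDepth I (QuotSMulTop y (N ⊗[R] (R ⧸ maximalIdeal R))) :=
        le_idealDepth_quotSMulTop I _ y hyI hyreg n h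
      rw [idealDepth_congr (quotSMulTopTensorEquivLeft N (R ⧸ maximalIdeal R) y) I] at h1
      have hflat : Module.Flat R (QuotSMulTop y N) := flat_quotSMulTop_of_fibre N y hyreg
      have h2 := ih (QuotSMulTop y N) h1
      rw [← idealDepth_congr (quotSMulTopTensorEquivLeft N M y) I] at h2
      have hyT : IsSMulRegular (N ⊗[R] M) y := isSMulRegular_tensor_of_fibre N y hyreg M
      exact DepthFinite.succ_le_idealDepth_of_quotSMulTop I (N ⊗[R] M) y hyI hyT n h2

/-- Ring form: for a flat local homomorphism `R → S` and a proper ideal `I` of `S`, the `I`-depth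
of `S` is at least the depth of the closed fibre ring with respect to the image of `I`. -/
theorem idealDepth_map_fibre_le [Module.Flat R S] (I : Ideal S) (hI : I ≠ ⊤) :
    LocCoh.idealDepth (I.map (Ideal.Quotient.mk (Ideal.map (algebraMap R S) (maximalIdeal R))))
        (S ⧸ Ideal.map (algebraMap R S) (maximalIdeal R)) ≤ LocCoh.idealDepth I S := by
  set mS := Ideal.map (algebraMap R S) (maximalIdeal R) with hmS
  -- depth over `S ⧸ mS` equals depth over `S`
  have h0 : LocCoh.idealDepth I (S ⧸ mS) =
      LocCoh.idealDepth (I.map (Ideal.Quotient.mk mS)) (S ⧸ mS) :=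
    DepthFinite.idealDepth_eq_idealDepth_map (A := S) (B := S ⧸ mS) I (S ⧸ mS)
  rw [← h0]
  have h2 : (mS • (⊤ : Submodule S S)) = mS := by
    rw [smul_eq_mul, Ideal.mul_top]
  have e2 : (S ⧸ (mS • (⊤ : Submodule S S))) ≃ₗ[S] (S ⧸ mS) := Submodule.quotEquivOfEq _ _ h2
  have e3 := quotEquivTensorQuot (S := S) S (maximalIdeal R)
  have e1 : S ⊗[R] R ≃ₗ[S] S := TensorProduct.AlgebraTensorModule.rid R S S
  rw [← idealDepth_congr e2 I, idealDepth_congr e3 I, ← idealDepth_congr e1 I,
    ← ENat.forall_natCast_le_iff_le]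
  intro n hn
  exact le_idealDepth_tensor_of_fibre I hI R n S hn

end

end Groth.Agent.H72.DepthFlat
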