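import Mathlib
import Groth.Prelude.Def_Wider
import Groth.Agent.H2.InjHull
import Groth.Agent.H2.InjNoeth
import Groth.Agent.H2.MatlisEmbed

/-!
# Splitting off free modules over a self-injective quotient  (helper72)
-/

set_option autoImplicit false
set_option linter.unusedSectionVars false
set_option linter.style.haveILetI false

namespace Groth.Agent.H72.FrobInj

universe u

open IsLocalRing Submodule

/-- Over a Noetherian ring direct sums (as `Finsupp`) of copies of an injective module are
injective. -/
theorem injective_finsupp {A : Type u} [CommRing A] [IsNoetherianRing A] (E : Type u)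
    [AddCommGroup E] [Module A E] (hE : Module.Injective A E) (ι : Type u) :
    Module.Injective A (ι →₀ E) := by
  classical
  have h1 : Module.Injective A (DirectSum ι fun _ : ι => E) :=
    Groth.Agent.H2.injective_directSum (fun _ : ι => E) (fun _ => hE)
  exact (Module.Baer.of_equiv (finsuppLEquivDirectSum A E ι).symm
    (Module.Baer.of_injective h1)).injective

/-- A module killed by `I` which is free over the self-injective Noetherian ring `R/I` is a
direct summand of any module killed by `I` containing it. -/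
theorem exists_retraction {R : Type u} [CommRing R] (I : Ideal R) [IsNoetherianRing (R ⧸ I)]
    (hinj : Module.Injective (R ⧸ I) (R ⧸ I))
    {N P : Type u} [AddCommGroup N] [Module R N] [AddCommGroup P] [Module R P]
    (hN : Module.IsTorsionBySet R N I) (hP : Module.IsTorsionBySet R P I)
    (ι : Type u) (e : N ≃ₗ[R] (ι →₀ R ⧸ I)) (j : N →ₗ[R] P) (hj : Function.Injective j) :
    ∃ r : P →ₗ[R] N, ∀ x, r (j x) = x := by
  letI := hN.module
  letI := hP.module
  have hs : Function.Surjective (algebraMap R (R ⧸ I)) := Ideal.Quotient.mk_surjective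
  let eA : N ≃ₗ[R ⧸ I] (ι →₀ R ⧸ I) := e.extendScalarsOfSurjective hs
  let jA : N →ₗ[R ⧸ I] P := j.extendScalarsOfSurjective hs
  have h1 : Module.Injective (R ⧸ I) (ι →₀ R ⧸ I) := injective_finsupp _ hinj ι
  have h2 : Module.Injective (R ⧸ I) N :=
    (Module.Baer.of_equiv eA.symm (Module.Baer.of_injective h1)).injective
  obtain ⟨r, hr⟩ := Module.Injective.out jA hj LinearMap.id
  exact ⟨r.restrictScalars R, hr⟩

variable {R : Type u} [CommRing R] [IsLocalRing R]

/-- If `u : M → E'` is injective, hits the socle of the `m`-power torsion module `E'`, and `M[I]` is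
free over the self-injective ring `R/I`, then `u` maps `M[I]` onto `E'[I]`. -/
theorem torsionBy_le_map (I : Ideal R) [IsNoetherianRing (R ⧸ I)]
    (hinj : Module.Injective (R ⧸ I) (R ⧸ I))
    {M E' : Type u} [AddCommGroup M] [Module R M] [AddCommGroup E'] [Module R E']
    (hE' : LocCoh.IsPowerTorsion (maximalIdeal R) E')
    (v : M →ₗ[R] E') (hv : Function.Injective v)
    (hsoc : LocCoh.torsionBy (maximalIdeal R) E' ≤ LinearMap.range v)
    (ι : Type u) (e : torsionBySet R M (I : Set R) ≃ₗ[R] (ι →₀ R ⧸ I)) :
    torsionBySet R E' (I : Set R) ≤ LinearMap.range v := by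
  set N := torsionBySet R M (I : Set R) with hN
  set P := torsionBySet R E' (I : Set R) with hP
  -- the restriction of `v`
  let j : N →ₗ[R] P := (v.comp N.subtype).codRestrict P (by
    intro x
    rw [hP, mem_torsionBySet_iff]
    intro a
    have := (mem_torsionBySet_iff (R := R) (M := M) (I : Set R) x.1).mp x.2 a
    rw [LinearMap.comp_apply, ← map_smul]
    show v (a.1 • x.1) = 0
    rw [this, map_zero])
  have hj : Function.Injective j := by
    intro x y hxy
    have : v x.1 = v y.1 := congrArg Subtype.val hxy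
    exact Subtype.ext (hv this)
  obtain ⟨r, hr⟩ := exists_retraction I hinj (torsionBySet_isTorsionBySet (R := R) (M := M) I)
    (torsionBySet_isTorsionBySet (R := R) (M := E') I) ι e j hj
  intro y hy
  set c : P := ⟨y, hy⟩ - j (r ⟨y, hy⟩) with hc
  have hrc : r c = 0 := by rw [hc, map_sub, hr, sub_self]
  suffices hc0 : c = 0 by
    have h1 : (⟨y, hy⟩ : P) = j (r ⟨y, hy⟩) := sub_eq_zero.mp hc0
    have h2 : y = v (r ⟨y, hy⟩).1 := congrArg Subtype.val h1
    exact ⟨_, h2.symm⟩
  by_contra hne
  have hess := Groth.Agent.H2.isEssentialInj_torsionBy_of_isPowerTorsion (maximalIdeal R) E' hE'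
  have hspan : Submodule.span R {(c : E')} ≠ ⊥ := by
    rw [Ne, Submodule.span_singleton_eq_bot]
    intro h
    exact hne (Subtype.ext h)
  have h3 := hess.essential _ hspan
  obtain ⟨z, hz, hz0⟩ := (Submodule.ne_bot_iff _).mp h3
  obtain ⟨hz1, hz2⟩ := Submodule.mem_inf.mp hz
  obtain ⟨a, rfl⟩ := Submodule.mem_span_singleton.mp hz1
  rw [Submodule.range_subtype] at hz2
  obtain ⟨x, hx⟩ := hsoc hz2
  -- `x ∈ N`
  have hxN : x ∈ N := by
    rw [hN, mem_torsionBySet_iff]
    intro i
    apply hv
    rw [map_smul, hx, map_zero, smul_comm]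
    have := (mem_torsionBySet_iff (R := R) (M := E') (I : Set R) c.1).mp c.2 i
    rw [this, smul_zero]
  have h4 : j ⟨x, hxN⟩ = a • c := Subtype.ext hx
  have h5 : (⟨x, hxN⟩ : N) = 0 := by
    rw [← hr ⟨x, hxN⟩, h4, map_smul, hrc, smul_zero]
  apply hz0
  rw [← hx]
  have : x = 0 := congrArg Subtype.val h5
  rw [this, map_zero]

end Groth.Agent.H72.FrobInj
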