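import Mathlib

/-!
# Lech's lemma on Lech-independent families

A finite family `x` of elements of a commutative ring is *Lech independent* if every relation
`∑ aᵢ xᵢ = 0` has all its coefficients in the ideal generated by the `xᵢ`.
-/

set_option autoImplicit false
set_option linter.style.haveILetI false
set_option linter.deprecated false
set_option linter.unusedSectionVars false

open Finset

namespace Groth.Agent.H72.Kunz

variable {R : Type*} [CommRing R] {ι : Type*} [Fintype ι] [DecidableEq ι]

/-- Lech independence of a finite family. -/
def Lech (x : ι → R) : Prop :=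
  ∀ a : ι → R, ∑ i, a i * x i = 0 → ∀ i, a i ∈ Ideal.span (Set.range x)

theorem sum_update (a x : ι → R) (j : ι) (v : R) :
    ∑ i, a i * Function.update x j v i = a j * v + ∑ i ∈ univ.erase j, a i * x i := by
  rw [← Finset.add_sum_erase _ _ (Finset.mem_univ j), Function.update_self]
  congr 1
  refine Finset.sum_congr rfl fun i hi => ?_
  rw [Function.update_of_ne (Finset.ne_of_mem_erase hi)]

theorem mem_span_update_self (x : ι → R) (j : ι) (v : R) :
    v ∈ Ideal.span (Set.range (Function.update x j v)) :=
  Ideal.subset_span ⟨j, Function.update_self ..⟩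

theorem mem_span_update_of_ne (x : ι → R) {i j : ι} (h : i ≠ j) (v : R) :
    x i ∈ Ideal.span (Set.range (Function.update x j v)) :=
  Ideal.subset_span ⟨i, Function.update_of_ne h ..⟩

theorem span_update_le (x : ι → R) (j : ι) {v : R} {I : Ideal R} (hv : v ∈ I)
    (hx : ∀ i, i ≠ j → x i ∈ I) : Ideal.span (Set.range (Function.update x j v)) ≤ I := by
  rw [Ideal.span_le]
  rintro _ ⟨i, rfl⟩
  by_cases h : i = j
  · subst h; rw [Function.update_self]; exact hv
  · rw [Function.update_of_ne h]; exact hx i h

theorem span_update_mul_le (x : ι → R) (j : ι) (y z : R) :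
    Ideal.span (Set.range (Function.update x j (y * z))) ≤
      Ideal.span (Set.range (Function.update x j y)) :=
  span_update_le x j (Ideal.mul_mem_right _ _ (mem_span_update_self x j y))
    fun _ h => mem_span_update_of_ne x h y

theorem span_update_mul_le' (x : ι → R) (j : ι) (y z : R) :
    Ideal.span (Set.range (Function.update x j (y * z))) ≤
      Ideal.span (Set.range (Function.update x j z)) :=
  span_update_le x j (Ideal.mul_mem_left _ _ (mem_span_update_self x j z))
    fun _ h => mem_span_update_of_ne x h z

theorem sum_erase_update (a x : ι → R) (j : ι) (v : R) :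
    ∑ i ∈ univ.erase j, Function.update a j v i * x i = ∑ i ∈ univ.erase j, a i * x i := by
  refine Finset.sum_congr rfl fun i hi => ?_
  rw [Function.update_of_ne (Finset.ne_of_mem_erase hi)]

/-- First half of Lech's lemma. -/
theorem Lech.of_mul {x : ι → R} {j : ι} {y z : R} (h : Lech (Function.update x j (y * z))) :
    Lech (Function.update x j y) := by
  intro a ha
  rw [sum_update] at ha
  have h1 := h (Function.update (fun i => a i * z) j (a j)) (by
    rw [sum_update, Function.update_self, sum_erase_update]
    have : ∑ i ∈ univ.erase j, a i * z * x i = z * ∑ i ∈ univ.erase j, a i * x i := by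
      rw [Finset.mul_sum]; exact Finset.sum_congr rfl fun i _ => by ring
    rw [this]; linear_combination z * ha)
  have hj : a j ∈ Ideal.span (Set.range (Function.update x j (y * z))) := by
    have := h1 j; rwa [Function.update_self] at this
  obtain ⟨b, hb⟩ := Ideal.mem_span_range_iff_exists_fun.mp hj
  rw [sum_update] at hb
  have h2 := h (Function.update (fun i => b i * y + a i) j (b j * y)) (by
    rw [sum_update, Function.update_self, sum_erase_update]
    have : ∑ i ∈ univ.erase j, (b i * y + a i) * x i =
        y * ∑ i ∈ univ.erase j, b i * x i + ∑ i ∈ univ.erase j, a i * x i := by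
      rw [Finset.mul_sum, ← Finset.sum_add_distrib]
      exact Finset.sum_congr rfl fun i _ => by ring
    rw [this]; linear_combination y * hb + ha)
  intro i
  by_cases hi : i = j
  · subst hi; exact span_update_mul_le x i y z hj
  · have := h2 i
    rw [Function.update_of_ne hi] at this
    have h3 : b i * y + a i ∈ Ideal.span (Set.range (Function.update x j y)) :=
      span_update_mul_le x j y z this
    have h4 : b i * y ∈ Ideal.span (Set.range (Function.update x j y)) :=
      Ideal.mul_mem_left _ _ (mem_span_update_self x j y)
    simpa using Ideal.sub_mem _ h3 h4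

theorem Lech.of_mul' {x : ι → R} {j : ι} {y z : R} (h : Lech (Function.update x j (y * z))) :
    Lech (Function.update x j z) := by
  rw [mul_comm] at h; exact h.of_mul


/-- Second half of Lech's lemma: additivity of lengths. -/
theorem Lech.length_mul {x : ι → R} {j : ι} {y z : R} (h : Lech (Function.update x j (y * z))) :
    Module.length R (R ⧸ Ideal.span (Set.range (Function.update x j (y * z)))) =
      Module.length R (R ⧸ Ideal.span (Set.range (Function.update x j z))) +
        Module.length R (R ⧸ Ideal.span (Set.range (Function.update x j y))) := by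
  set I := Ideal.span (Set.range (Function.update x j (y * z))) with hI
  set Iz := Ideal.span (Set.range (Function.update x j z)) with hIz
  set Iy := Ideal.span (Set.range (Function.update x j y)) with hIy
  have hle : Iz ≤ Submodule.comap (LinearMap.mulLeft R y) I := by
    rw [hIz, Ideal.span_le]
    rintro _ ⟨i, rfl⟩
    change y * _ ∈ I
    by_cases hi : i = j
    · subst hi; rw [Function.update_self]; exact mem_span_update_self x i (y * z)
    · rw [Function.update_of_ne hi]
      exact Ideal.mul_mem_left _ _ (mem_span_update_of_ne x hi (y * z))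
  let f : (R ⧸ Iz) →ₗ[R] (R ⧸ I) := Submodule.mapQ Iz I (LinearMap.mulLeft R y) hle
  let g : (R ⧸ I) →ₗ[R] (R ⧸ Iy) := Submodule.mapQ I Iy LinearMap.id
    (by rw [Submodule.comap_id]; exact span_update_mul_le x j y z)
  refine Module.length_eq_add_of_exact f g ?_ ?_ ?_
  · -- injectivity
    rw [← LinearMap.ker_eq_bot, LinearMap.ker_eq_bot']
    intro q hq
    obtain ⟨a, rfl⟩ := Submodule.Quotient.mk_surjective _ q
    have h0 : y * a ∈ I := by
      have : f (Submodule.Quotient.mk a) = Submodule.Quotient.mk (y * a) := rfl
      rw [this, Submodule.Quotient.mk_eq_zero] at hq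
      exact hq
    rw [Submodule.Quotient.mk_eq_zero]
    obtain ⟨b, hb⟩ := Ideal.mem_span_range_iff_exists_fun.mp h0
    rw [sum_update] at hb
    have h1 := h (Function.update (fun i => - (b i * z)) j (a - b j * z)) (by
      rw [sum_update, Function.update_self, sum_erase_update]
      have : ∑ i ∈ univ.erase j, -(b i * z) * x i = - (z * ∑ i ∈ univ.erase j, b i * x i) := by
        rw [Finset.mul_sum, ← Finset.sum_neg_distrib]
        exact Finset.sum_congr rfl fun i _ => by ring
      rw [this]; linear_combination (-z) * hb)
    have h2 := h1 j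
    rw [Function.update_self] at h2
    have h3 : a - b j * z ∈ Iz := span_update_mul_le' x j y z h2
    have h4 : b j * z ∈ Iz := Ideal.mul_mem_left _ _ (mem_span_update_self x j z)
    simpa using Ideal.add_mem _ h3 h4
  · -- surjectivity
    intro q
    obtain ⟨a, rfl⟩ := Submodule.Quotient.mk_surjective _ q
    exact ⟨Submodule.Quotient.mk a, rfl⟩
  · -- exactness
    intro q
    obtain ⟨b, rfl⟩ := Submodule.Quotient.mk_surjective _ q
    constructor
    · intro hq
      have hb : b ∈ Iy := by
        have : g (Submodule.Quotient.mk b) = Submodule.Quotient.mk b := rfl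
        rw [this, Submodule.Quotient.mk_eq_zero] at hq
        exact hq
      obtain ⟨c, hc⟩ := Ideal.mem_span_range_iff_exists_fun.mp hb
      rw [sum_update] at hc
      refine ⟨Submodule.Quotient.mk (c j), ?_⟩
      change (Submodule.Quotient.mk (y * c j) : R ⧸ I) = Submodule.Quotient.mk b
      rw [Submodule.Quotient.eq]
      have : y * c j - b = - ∑ i ∈ univ.erase j, c i * x i := by linear_combination hc
      rw [this]
      refine Ideal.neg_mem_iff _ |>.mpr (Ideal.sum_mem _ fun i hi => ?_)
      exact Ideal.mul_mem_left _ _ (mem_span_update_of_ne x (Finset.ne_of_mem_erase hi) (y * z))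
    · rintro ⟨q', hq'⟩
      obtain ⟨a, rfl⟩ := Submodule.Quotient.mk_surjective _ q'
      rw [← hq']
      change (Submodule.Quotient.mk (y * a) : R ⧸ Iy) = 0
      rw [Submodule.Quotient.mk_eq_zero]
      exact Ideal.mul_mem_right _ _ (mem_span_update_self x j y)


theorem update_pow (x : ι → R) (a : ι → ℕ) (j : ι) (v : ℕ) :
    Function.update (fun i => x i ^ a i) j (x j ^ v) = fun i => x i ^ (Function.update a j v) i := by
  funext i
  by_cases hi : i = j
  · subst hi; simp
  · simp [Function.update_of_ne hi]

theorem sum_update_nat (a : ι → ℕ) (j : ι) (v : ℕ) :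
    ∑ i, Function.update a j v i = v + ∑ i ∈ univ.erase j, a i := by
  rw [← Finset.add_sum_erase _ _ (Finset.mem_univ j), Function.update_self]
  congr 1
  exact Finset.sum_congr rfl fun i hi => by rw [Function.update_of_ne (Finset.ne_of_mem_erase hi)]

theorem prod_update_nat (a : ι → ℕ) (j : ι) (v : ℕ) :
    ∏ i, Function.update a j v i = v * ∏ i ∈ univ.erase j, a i := by
  rw [← Finset.mul_prod_erase _ _ (Finset.mem_univ j), Function.update_self]
  congr 1
  exact Finset.prod_congr rfl fun i hi => by rw [Function.update_of_ne (Finset.ne_of_mem_erase hi)]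

/-- Lech's formula: `ℓ(R/(xᵢ^{aᵢ})) = ∏ aᵢ · ℓ(R/(xᵢ))` for a Lech-independent family of powers. -/
theorem Lech.length_pow (x : ι → R) : ∀ (n : ℕ) (a : ι → ℕ), (∀ i, 1 ≤ a i) → ∑ i, a i = n →
    Lech (fun i => x i ^ a i) →
    Module.length R (R ⧸ Ideal.span (Set.range fun i => x i ^ a i)) =
      ((∏ i, a i : ℕ) : ℕ∞) * Module.length R (R ⧸ Ideal.span (Set.range x)) := by
  intro n
  induction n using Nat.strong_induction_on with
  | _ n ih =>
    intro a ha hn hL
    by_cases hall : ∀ i, a i = 1
    · have h1 : (fun i => x i ^ a i) = x := by funext i; rw [hall i, pow_one]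
      have h2 : ∏ i, a i = 1 := Finset.prod_eq_one fun i _ => hall i
      rw [h1, h2, Nat.cast_one, one_mul]
    · push Not at hall
      obtain ⟨j, hj⟩ := hall
      have hj2 : 2 ≤ a j := by have := ha j; omega
      have hxj : x j ^ a j = x j ^ 1 * x j ^ (a j - 1) := by
        rw [← pow_add]; congr 1; omega
      have hup : (fun i => x i ^ a i) =
          Function.update (fun i => x i ^ a i) j (x j ^ 1 * x j ^ (a j - 1)) := by
        rw [← hxj]; exact (Function.update_eq_self j _).symm
      rw [hup] at hL
      have hLy := hL.of_mul
      have hLz := hL.of_mul'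
      have hlen := hL.length_mul
      rw [← hup] at hlen
      rw [update_pow] at hLy hLz hlen
      rw [update_pow] at hlen
      have hsum : ∑ i, a i = a j + ∑ i ∈ univ.erase j, a i :=
        (Finset.add_sum_erase _ _ (Finset.mem_univ j)).symm
      have hprod : ∏ i, a i = a j * ∏ i ∈ univ.erase j, a i :=
        (Finset.mul_prod_erase _ _ (Finset.mem_univ j)).symm
      have ha1 : ∀ i, 1 ≤ Function.update a j 1 i := by
        intro i; by_cases hi : i = j
        · subst hi; simp
        · rw [Function.update_of_ne hi]; exact ha i
      have ha2 : ∀ i, 1 ≤ Function.update a j (a j - 1) i := by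
        intro i; by_cases hi : i = j
        · subst hi; simp; omega
        · rw [Function.update_of_ne hi]; exact ha i
      have e1 := ih _ (by rw [sum_update_nat]; omega) (Function.update a j 1) ha1 rfl hLy
      have e2 := ih _ (by rw [sum_update_nat]; omega) (Function.update a j (a j - 1)) ha2 rfl hLz
      rw [hlen, e1, e2, prod_update_nat, prod_update_nat, hprod, ← add_mul]
      congr 1
      rw [← Nat.cast_add]
      congr 1
      have : a j = (a j - 1) + 1 := by omega
      conv_rhs => rw [this]
      ring

end Groth.Agent.H72.Kunz
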