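import Mathlib
import Groth.Agent.H72.KunzLech

/-!
# Lech independence and flat ring maps
-/

set_option autoImplicit false
set_option linter.style.haveILetI false
set_option linter.deprecated false
set_option linter.unusedSectionVars false

open Finset IsLocalRing

namespace Groth.Agent.H72.Kunz

variable {ι : Type*} [Fintype ι] [DecidableEq ι]

/-- Lech independence is preserved by flat ring maps (algebra form). -/
theorem Lech.map_of_flat' {A B : Type*} [CommRing A] [CommRing B] [Algebra A B] [Module.Flat A B]
    {x : ι → A} (h : Lech x) : Lech (fun i => algebraMap A B (x i)) := by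
  intro b hb i
  obtain ⟨k, c, y, hy, hc⟩ := Module.Flat.isTrivialRelation_of_sum_smul_eq_zero
    (R := A) (M := B) (f := x) (x := b) (by
      rw [← hb]
      refine Finset.sum_congr rfl fun i _ => ?_
      rw [Algebra.smul_def, mul_comm])
  rw [hy i]
  refine Ideal.sum_mem _ fun j _ => ?_
  have hcij : c i j ∈ Ideal.span (Set.range x) :=
    h (fun i => c i j) (by rw [← hc j]; exact Finset.sum_congr rfl fun i _ => mul_comm _ _) i
  rw [Algebra.smul_def]
  apply Ideal.mul_mem_right
  have hle : Ideal.map (algebraMap A B) (Ideal.span (Set.range x)) ≤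
      Ideal.span (Set.range fun i => algebraMap A B (x i)) := by
    rw [Ideal.map_span, ← Set.range_comp]; exact le_rfl
  exact hle (Ideal.mem_map_of_mem _ hcij)

/-- Lech independence is preserved by flat ring maps. -/
theorem Lech.map_of_flat {A B : Type*} [CommRing A] [CommRing B] (f : A →+* B) (hf : f.Flat)
    {x : ι → A} (h : Lech x) : Lech (fun i => f (x i)) := by
  letI := f.toAlgebra
  haveI : Module.Flat A B := hf
  exact Lech.map_of_flat' (A := A) (B := B) h

/-- A minimal generating family of the maximal ideal of a local ring is Lech independent. -/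
theorem lech_of_card_eq_spanFinrank {A : Type*} [CommRing A] [IsLocalRing A]
    (x : ι → A) (hx : Ideal.span (Set.range x) = maximalIdeal A)
    (hcard : Fintype.card ι = (maximalIdeal A).spanFinrank) : Lech x := by
  intro a ha j
  by_contra hj
  rw [hx, mem_maximalIdeal, mem_nonunits_iff, not_not] at hj
  obtain ⟨u, hu⟩ := hj
  -- x j is in the span of the others
  have hxj : x j ∈ Ideal.span (x '' {i | i ≠ j}) := by
    have h1 : a j * x j = - ∑ i ∈ univ.erase j, a i * x i := by
      rw [← Finset.add_sum_erase _ _ (Finset.mem_univ j)] at ha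
      linear_combination ha
    have h2 : x j = ↑u⁻¹ * (a j * x j) := by
      rw [← mul_assoc, ← hu, Units.inv_mul, one_mul]
    rw [h2, h1]
    refine Ideal.mul_mem_left _ _ (Ideal.neg_mem_iff _ |>.mpr (Ideal.sum_mem _ fun i hi => ?_))
    exact Ideal.mul_mem_left _ _ (Ideal.subset_span ⟨i, Finset.ne_of_mem_erase hi, rfl⟩)
  have hspan : Ideal.span (x '' {i | i ≠ j}) = maximalIdeal A := by
    apply le_antisymm
    · rw [← hx]; exact Ideal.span_mono (Set.image_subset_range _ _)
    · rw [← hx, Ideal.span_le]
      rintro _ ⟨i, rfl⟩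
      by_cases hi : i = j
      · subst hi; exact hxj
      · exact Ideal.subset_span ⟨i, hi, rfl⟩
  have hfin : (x '' {i | i ≠ j}).Finite := Set.toFinite _
  have h3 : (maximalIdeal A).spanFinrank ≤ (x '' {i | i ≠ j}).ncard := by
    have := Submodule.spanFinrank_span_le_ncard_of_finite (R := A) hfin
    rwa [show Submodule.span A (x '' {i | i ≠ j}) = maximalIdeal A from hspan] at this
  have h4 : (x '' {i | i ≠ j}).ncard ≤ ({i | i ≠ j} : Set ι).ncard := Set.ncard_image_le
  have h5 : ({i | i ≠ j} : Set ι).ncard < Fintype.card ι := by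
    have : ({i | i ≠ j} : Set ι) = ({j} : Set ι)ᶜ := by ext i; simp
    rw [this, Set.ncard_compl, Set.ncard_singleton, Nat.card_eq_fintype_card]
    have : 0 < Fintype.card ι := Fintype.card_pos_iff.mpr ⟨j⟩
    omega
  omega

end Groth.Agent.H72.Kunz
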