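import Mathlib
import Groth.Agent.H72.KunzFlat
import Groth.Agent.H72.FlatCM
import Groth.Agent.H72.Miracle
import Groth.Agent.H26.CMFlat
import Groth.Agent.H17.HS.Limit

/-!
# Kunz's theorem, local ingredients
-/

set_option autoImplicit false
set_option linter.style.haveILetI false
set_option linter.deprecated false
set_option linter.unusedSectionVars false
universe u
open IsLocalRing Polynomial
namespace Groth.Agent.H72.Kunz

theorem polyBound (P : ℚ[X]) (t : ℚ) (ht : 1 ≤ t) :
    P.eval t ≤ (∑ i ∈ Finset.range (P.natDegree + 1), |P.coeff i|) * t ^ P.natDegree := by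
  rw [Polynomial.eval_eq_sum_range, Finset.sum_mul]
  refine Finset.sum_le_sum fun i hi => ?_
  have hi' : i ≤ P.natDegree := Nat.lt_succ_iff.mp (Finset.mem_range.mp hi)
  have h0 : (0 : ℚ) ≤ t := le_trans zero_le_one ht
  calc P.coeff i * t ^ i ≤ |P.coeff i| * t ^ i :=
        mul_le_mul_of_nonneg_right (le_abs_self _) (pow_nonneg h0 _)
    _ ≤ |P.coeff i| * t ^ P.natDegree :=
        mul_le_mul_of_nonneg_left (pow_le_pow_right₀ ht hi') (abs_nonneg _)

theorem pow_card_mul_succ_le {R : Type*} [CommRing R] {ι : Type*} [DecidableEq ι] (x : ι → R) (q : ℕ)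
    (t : Finset ι) :
    (Ideal.span (x '' (t : Set ι))) ^ (t.card * q + 1) ≤ Ideal.span ((fun i => x i ^ q) '' (t : Set ι)) := by
  induction t using Finset.induction_on with
  | empty => simp
  | insert a t ha ih =>
    rw [Finset.card_insert_of_notMem ha, Finset.coe_insert, Set.image_insert_eq, Set.image_insert_eq,
      Ideal.span_insert, Ideal.span_insert]
    have : (t.card + 1) * q + 1 = q + (t.card * q + 1) := by ring
    rw [this]
    refine Ideal.sup_pow_add_le_pow_sup_pow.trans (sup_le_sup ?_ ih)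
    rw [Ideal.span_singleton_pow]

theorem length_quotient_maximalIdeal (R : Type*) [CommRing R] [IsLocalRing R] :
    Module.length R (R ⧸ maximalIdeal R) = 1 := by
  haveI : IsSimpleModule R (R ⧸ maximalIdeal R) :=
    isSimpleModule_iff_quot_maximal.mpr ⟨maximalIdeal R, inferInstance, ⟨LinearEquiv.refl _ _⟩⟩
  exact Module.length_eq_one _ _

/-- the length identity from Lech's lemma -/
theorem length_frobenius_pow (R : Type u) [CommRing R] [IsLocalRing R]
    (p : ℕ) [Fact p.Prime] [CharP R p] (hF : (frobenius R p).Flat)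
    {ι : Type*} [Fintype ι] [DecidableEq ι] (x : ι → R)
    (hx : Ideal.span (Set.range x) = maximalIdeal R)
    (hcard : Fintype.card ι = (maximalIdeal R).spanFinrank) (e : ℕ) :
    Module.length R (R ⧸ Ideal.span (Set.range fun i => x i ^ p ^ e)) =
      (((p ^ e) ^ Fintype.card ι : ℕ) : ℕ∞) := by
  have L0 := lech_of_card_eq_spanFinrank x hx hcard
  have Le : ∀ e, Lech (fun i => x i ^ p ^ e) := by
    intro e
    induction e with
    | zero => simpa using L0
    | succ e ih =>
      have := ih.map_of_flat (frobenius R p) hF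
      convert this using 2 with i
      rw [frobenius_def, ← pow_mul, pow_succ]
  have := Lech.length_pow x _ (fun _ => p ^ e) (fun _ => Nat.one_le_pow _ _ (Fact.out : p.Prime).pos)
    rfl (Le e)
  rw [this, hx, length_quotient_maximalIdeal, mul_one, Finset.prod_const, Finset.card_univ]

theorem samuel_ge (R : Type u) [CommRing R] [IsLocalRing R] [IsNoetherianRing R]
    (p : ℕ) [Fact p.Prime] [CharP R p] (hF : (frobenius R p).Flat) (e : ℕ) :
    (p ^ e) ^ (maximalIdeal R).spanFinrank ≤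
      H17.HS.samuel R R ((maximalIdeal R).spanFinrank * p ^ e + 1) := by
  classical
  obtain ⟨s, hs1, hs2⟩ := Submodule.FG.exists_span_finset_card_eq_spanFinrank
    (p := (maximalIdeal R : Submodule R R)) (IsNoetherian.noetherian _)
  let x : {a // a ∈ s} → R := Subtype.val
  have hx : Ideal.span (Set.range x) = maximalIdeal R := by
    rw [Subtype.range_coe]; exact hs2
  have hcard : Fintype.card {a // a ∈ s} = (maximalIdeal R).spanFinrank := by
    rw [Fintype.card_coe]; exact hs1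
  have hlen := length_frobenius_pow R p hF x hx hcard e
  haveI := H17.HS.finite_maximalSpectrum_of_isLocalRing R
  have hsam := H17.HS.length_eq_samuel (A := R) R ((maximalIdeal R).spanFinrank * p ^ e + 1)
  set n := (maximalIdeal R).spanFinrank * p ^ e + 1 with hn
  have hle : (Ring.jacobson R ^ n • ⊤ : Submodule R R) ≤
      Ideal.span (Set.range fun i => x i ^ p ^ e) := by
    rw [H17.HS.jacobson_eq_maximalIdeal_of_isLocalRing, smul_eq_mul, Ideal.mul_top, ← hx]
    have := pow_card_mul_succ_le x (p ^ e) Finset.univ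
    rw [Finset.coe_univ, Set.image_univ, Set.image_univ, Finset.card_univ, hcard] at this
    exact this
  have hsurj : Function.Surjective
      (Submodule.mapQ (Ring.jacobson R ^ n • ⊤ : Submodule R R)
        (Ideal.span (Set.range fun i => x i ^ p ^ e)) LinearMap.id
        (by rw [Submodule.comap_id]; exact hle)) := by
    intro q
    obtain ⟨a, rfl⟩ := Submodule.Quotient.mk_surjective _ q
    exact ⟨Submodule.Quotient.mk a, rfl⟩
  have h1 := Module.length_le_of_surjective _ hsurj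
  rw [hlen, hsam, hcard] at h1
  exact_mod_cast h1

theorem spanFinrank_le_of_frobenius_flat (R : Type u) [CommRing R] [IsLocalRing R] [IsNoetherianRing R]
    (p : ℕ) [Fact p.Prime] [CharP R p] (hF : (frobenius R p).Flat) :
    ((maximalIdeal R).spanFinrank : WithBot ℕ∞) ≤ ringKrullDim R := by
  obtain ⟨d, hd⟩ := FlatCM.exists_ringKrullDim_eq_natCast R
  rw [hd]
  set r := (maximalIdeal R).spanFinrank with hr
  by_contra hlt
  have hdr : d + 1 ≤ r := by
    by_contra h
    apply hlt
    have : r ≤ d := by omega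
    exact_mod_cast this
  haveI := H17.HS.finite_maximalSpectrum_of_isLocalRing R
  obtain ⟨P, n₀, hP⟩ := H17.HS.exists_isSamuelPoly (A := R) R
  have hdeg : P.natDegree = d := H17.HS.natDegree_eq_of_supportDim_eq R P ⟨n₀, hP⟩ d
    (by rw [Module.supportDim_self_eq_ringKrullDim, hd])
  have hp1 : (1 : ℚ) < (p : ℚ) := by exact_mod_cast (Fact.out : p.Prime).one_lt
  set S : ℚ := ∑ i ∈ Finset.range (d + 1), |P.coeff i| with hS
  have hS0 : 0 ≤ S := Finset.sum_nonneg fun _ _ => abs_nonneg _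
  set C : ℚ := S * ((r : ℚ) + 1) ^ d with hC
  obtain ⟨e, he⟩ := pow_unbounded_of_one_lt (max C (n₀ : ℚ)) hp1
  have heC : C < (p : ℚ) ^ e := lt_of_le_of_lt (le_max_left _ _) he
  have hen : (n₀ : ℚ) < (p : ℚ) ^ e := lt_of_le_of_lt (le_max_right _ _) he
  have hq1 : (1 : ℚ) ≤ (p : ℚ) ^ e := one_le_pow₀ hp1.le
  have hn₀ : n₀ ≤ r * p ^ e + 1 := by
    have h1 : (n₀ : ℚ) < ((p ^ e : ℕ) : ℚ) := by exact_mod_cast hen
    have h2 : n₀ < p ^ e := by exact_mod_cast h1
    have h3 : 1 ≤ r := by omega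
    calc n₀ ≤ p ^ e := h2.le
      _ = 1 * p ^ e := (one_mul _).symm
      _ ≤ r * p ^ e := Nat.mul_le_mul_right _ h3
      _ ≤ r * p ^ e + 1 := Nat.le_succ _
  have hsam := samuel_ge R p hF e
  have hPe := hP _ hn₀
  -- q^r ≤ P.eval (r q + 1)
  have h1 : ((p : ℚ) ^ e) ^ r ≤ P.eval (((r * p ^ e + 1 : ℕ) : ℚ)) := by
    rw [← hPe]
    exact_mod_cast hsam
  have ht1 : (1 : ℚ) ≤ ((r * p ^ e + 1 : ℕ) : ℚ) := by
    exact_mod_cast Nat.le_add_left 1 _
  have h2 := polyBound P _ ht1
  rw [hdeg] at h2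
  have ht2 : ((r * p ^ e + 1 : ℕ) : ℚ) ≤ ((r : ℚ) + 1) * (p : ℚ) ^ e := by
    push_cast
    nlinarith
  have h3 : ((r * p ^ e + 1 : ℕ) : ℚ) ^ d ≤ (((r : ℚ) + 1) * (p : ℚ) ^ e) ^ d :=
    pow_le_pow_left₀ (le_trans zero_le_one ht1) ht2 d
  have h4 : ((p : ℚ) ^ e) ^ (d + 1) ≤ ((p : ℚ) ^ e) ^ r := pow_le_pow_right₀ hq1 hdr
  have h5 : ((p : ℚ) ^ e) ^ (d + 1) ≤ C * ((p : ℚ) ^ e) ^ d := by
    calc ((p : ℚ) ^ e) ^ (d + 1) ≤ ((p : ℚ) ^ e) ^ r := h4
      _ ≤ P.eval (((r * p ^ e + 1 : ℕ) : ℚ)) := h1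
      _ ≤ S * ((r * p ^ e + 1 : ℕ) : ℚ) ^ d := h2
      _ ≤ S * (((r : ℚ) + 1) * (p : ℚ) ^ e) ^ d := mul_le_mul_of_nonneg_left h3 hS0
      _ = C * ((p : ℚ) ^ e) ^ d := by rw [hC, mul_pow]; ring
  have hqd : 0 < ((p : ℚ) ^ e) ^ d := pow_pos (lt_of_lt_of_le zero_lt_one hq1) _
  rw [pow_succ] at h5
  rw [mul_comm C] at h5
  have h6 : (p : ℚ) ^ e ≤ C := le_of_mul_le_mul_left h5 hqd
  exact absurd heC (not_lt.mpr h6)

theorem ringKrullDim_quotient_eq_zero_of_le_radical {B : Type u} [CommRing B] [IsLocalRing B]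
    (I : Ideal B) (hI : I ≠ ⊤) (hrad : maximalIdeal B ≤ I.radical) : ringKrullDim (B ⧸ I) = 0 := by
  haveI : Nontrivial (B ⧸ I) := Ideal.Quotient.nontrivial_iff.mpr hI
  rw [← ringKrullDimZero_iff_ringKrullDim_eq_zero]
  refine Ring.KrullDimLE.mk₀ fun J hJ => ?_
  have h1 : I ≤ J.comap (Ideal.Quotient.mk I) := by
    intro a ha
    rw [Ideal.mem_comap, Ideal.Quotient.eq_zero_iff_mem.mpr ha]
    exact J.zero_mem
  haveI : (J.comap (Ideal.Quotient.mk I)).IsPrime := Ideal.comap_isPrime _ J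
  have h2 : maximalIdeal B ≤ J.comap (Ideal.Quotient.mk I) :=
    hrad.trans ((Ideal.IsPrime.radical_le_iff inferInstance).mpr h1)
  have h3 : J.comap (Ideal.Quotient.mk I) = maximalIdeal B :=
    ((maximalIdeal.isMaximal B).eq_of_le (Ideal.IsPrime.ne_top inferInstance) h2).symm
  have h4 : J = (maximalIdeal B).map (Ideal.Quotient.mk I) := by
    rw [← h3, Ideal.map_comap_of_surjective _ Ideal.Quotient.mk_surjective]
  rw [h4]
  exact Ideal.IsMaximal.map_of_surjective_of_ker_le Ideal.Quotient.mk_surjective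
    (by rw [Ideal.mk_ker]; exact le_maximalIdeal hI)

/-- Miracle flatness, ring-hom form with zero-dimensional closed fibre. -/
theorem flat_of_regular_of_cm {A B : Type u} [CommRing A] [CommRing B] [IsRegularLocalRing A]
    [IsLocalRing B] (hCM : LocCoh.IsCohenMacaulayLocalRing B) (g : A →+* B) [IsLocalHom g]
    (hdim : ringKrullDim B = ringKrullDim A)
    (hrad : maximalIdeal B ≤ (Ideal.map g (maximalIdeal A)).radical) : g.Flat := by
  letI := g.toAlgebra
  haveI : IsLocalHom (algebraMap A B) := ‹IsLocalHom g›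
  haveI : IsNoetherianRing B := hCM.toIsNoetherian
  have hne : Ideal.map (algebraMap A B) (maximalIdeal A) ≠ ⊤ :=
    ne_top_of_le_ne_top (maximalIdeal.isMaximal B).ne_top (IsLocalRing.map_maximalIdeal_le _)
  refine Groth.Agent.H72.Miracle.flat_of_isCohenMacaulay A B B hCM.supportDim_eq_depth ?_
  have h1 : ((maximalIdeal A).map (algebraMap A B) • (⊤ : Submodule B B)) =
      (maximalIdeal A).map (algebraMap A B) := by
    rw [smul_eq_mul, Ideal.mul_top]
  rw [h1, Module.supportDim_self_eq_ringKrullDim, Module.supportDim_quotient_eq_ringKrullDim,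
    ringKrullDim_quotient_eq_zero_of_le_radical _ hne hrad, add_zero, hdim]

end Groth.Agent.H72.Kunz
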