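import Mathlib
import Groth.Agent.S0342
import Groth.Agent.H2.GorensteinCM
import Groth.Agent.H26.GorRegSeq
import Groth.Agent.H26.CMFlat
import Groth.Agent.H49.CMRegSeqDim
import Groth.Agent.H72.KunzLocal

/-!
# `R/(x₁^q, …, x_d^q)` is self-injective for a regular local ring `(R, (x₁, …, x_d))`  (helper72)
-/

set_option autoImplicit false
set_option linter.unusedSectionVars false
set_option linter.style.haveILetI false

namespace Groth.Agent.H72.FrobSelfInj

universe u

open IsLocalRing CategoryTheory RingTheory.Sequence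

variable (R : Type u) [CommRing R] [IsRegularLocalRing R]

/-- A regular local ring has a generating list of its maximal ideal of length `dim R`. -/
theorem exists_list_gens :
    ∃ xs : List R, Ideal.ofList xs = maximalIdeal R ∧
      ((xs.length : ℕ) : WithBot ℕ∞) = ringKrullDim R := by
  classical
  have hfg : (maximalIdeal R).FG := IsNoetherian.noetherian _
  have hfin := Submodule.FG.finite_generators hfg
  have hcard := Submodule.FG.generators_ncard hfg
  have hspan := Submodule.span_generators (maximalIdeal R)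
  refine ⟨hfin.toFinset.toList, ?_, ?_⟩
  · refine Eq.trans ?_ hspan
    show Ideal.span _ = Ideal.span _
    congr 1
    ext r
    simp
  · rw [Finset.length_toList, ← Set.ncard_eq_toFinset_card _ hfin, hcard]
    exact IsRegularLocalRing.spanFinrank_maximalIdeal

variable {R}

theorem ofList_map_pow_le (xs : List R) (hxs : Ideal.ofList xs = maximalIdeal R) (q : ℕ)
    (hq : 0 < q) : Ideal.ofList (xs.map (· ^ q)) ≤ maximalIdeal R := by
  rw [Ideal.ofList, Ideal.span_le]
  intro y hy
  obtain ⟨x, hx, rfl⟩ := List.mem_map.mp hy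
  have : x ∈ maximalIdeal R := by
    rw [← hxs]; exact Ideal.subset_span hx
  exact Ideal.pow_mem_of_mem _ this _ hq

theorem le_radical_ofList_map_pow (xs : List R) (hxs : Ideal.ofList xs = maximalIdeal R) (q : ℕ) :
    maximalIdeal R ≤ (Ideal.ofList (xs.map (· ^ q))).radical := by
  rw [← hxs, Ideal.ofList, Ideal.span_le]
  intro x hx
  exact ⟨q, Ideal.subset_span (List.mem_map.mpr ⟨x, hx, rfl⟩)⟩

/-- `R/(x₁^q, …, x_d^q)` is a zero-dimensional Gorenstein local ring. -/
theorem isGorenstein_quotient (xs : List R) (hxs : Ideal.ofList xs = maximalIdeal R)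
    (hlen : ((xs.length : ℕ) : WithBot ℕ∞) = ringKrullDim R) (q : ℕ) (hq : 0 < q) :
    LocCoh.IsGorensteinLocalRing (R ⧸ Ideal.ofList (xs.map (· ^ q))) ∧
      ringKrullDim (R ⧸ Ideal.ofList (xs.map (· ^ q))) = 0 := by
  set ys := xs.map (· ^ q) with hys
  have hle := ofList_map_pow_le xs hxs q hq
  have hne : Ideal.ofList ys ≠ ⊤ := ne_top_of_le_ne_top (maximalIdeal.isMaximal R).ne_top hle
  have hdim0 := Groth.Agent.H72.Kunz.ringKrullDim_quotient_eq_zero_of_le_radical _ hne
    (le_radical_ofList_map_pow xs hxs q)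
  refine ⟨?_, hdim0⟩
  have hmem : ∀ y ∈ ys, y ∈ maximalIdeal R := fun y hy => hle (Ideal.subset_span hy)
  have hCM := Groth.Agent.H26.CMFlat.isCohenMacaulayLocalRing_of_isRegularLocalRing R
  have hreg : IsRegular R ys := by
    rw [Groth.Agent.H49.CMRegSeqDim.isRegular_iff_dim hCM ys hmem, hdim0, zero_add, hys,
      List.length_map, hlen]
  exact Groth.Agent.H26.GorRegSeq.isGorensteinLocalRing_quotient_ofList ys
    (Groth.Agent.S0342.result R) hmem hreg.toIsWeaklyRegular

/-- `R/(x₁^q, …, x_d^q)` is Noetherian and self-injective. -/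
theorem selfInjective_quotient (xs : List R) (hxs : Ideal.ofList xs = maximalIdeal R)
    (hlen : ((xs.length : ℕ) : WithBot ℕ∞) = ringKrullDim R) (q : ℕ) (hq : 0 < q) :
    Module.Injective (R ⧸ Ideal.ofList (xs.map (· ^ q))) (R ⧸ Ideal.ofList (xs.map (· ^ q))) := by
  obtain ⟨hG, hd⟩ := isGorenstein_quotient xs hxs hlen q hq
  have hlt := Groth.Agent.H2.GorensteinCM.hasInjectiveDimensionLT_of_ringKrullDim
    (R ⧸ Ideal.ofList (xs.map (· ^ q))) 0 (by rw [hd]; rfl)
  haveI : Injective (ModuleCat.of (R ⧸ Ideal.ofList (xs.map (· ^ q)))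
      (R ⧸ Ideal.ofList (xs.map (· ^ q)))) :=
    injective_iff_hasInjectiveDimensionLT_one.mpr hlt
  exact Module.injective_module_of_injective_object _ _

end Groth.Agent.H72.FrobSelfInj
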