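import Mathlib

/-!
# Flat base change of torsion submodules  (helper72)

For a flat ring map `A → B`, an `A`-module `M` and a finitely generated ideal `I` of `A`,
`(B ⊗ M)[I B] = B ⊗ M[I]`.  Consequence: if `M[I]` is a direct sum of copies of `A/I` and
`B ⊗ M ≃ N` then `N[I B]` is a direct sum of copies of `B / I B`.
-/

set_option autoImplicit false
set_option linter.unusedSectionVars false
set_option linter.style.haveILetI false

namespace Groth.Agent.H72.FrobTors

open TensorProduct Submodule

variable {A B : Type*} [CommRing A] [CommRing B] [Algebra A B]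

/-- multiply by a finite family of elements -/
def mulGens {n : ℕ} (a : Fin n → A) (M : Type*) [AddCommGroup M] [Module A M] :
    M →ₗ[A] (Fin n → M) :=
  LinearMap.pi (fun i => LinearMap.lsmul A M (a i))

theorem ker_mulGens {n : ℕ} (a : Fin n → A) (M : Type*) [AddCommGroup M] [Module A M] :
    LinearMap.ker (mulGens a M) = torsionBySet A M (Ideal.span (Set.range a) : Ideal A) := by
  ext x
  rw [← torsionBySet_eq_torsionBySet_span, LinearMap.mem_ker, mem_torsionBySet_iff]
  constructor
  · rintro h ⟨_, i, rfl⟩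
    exact congrFun h i
  · intro h
    funext i
    exact h ⟨a i, i, rfl⟩

theorem piRight_lTensor_mulGens {n : ℕ} (a : Fin n → A) (M : Type*) [AddCommGroup M] [Module A M]
    (t : B ⊗[A] M) (i : Fin n) :
    (TensorProduct.piRight A B B (fun _ : Fin n => M)
      (AlgebraTensorModule.lTensor B B (mulGens a M) t)) i = algebraMap A B (a i) • t := by
  induction t using TensorProduct.induction_on with
  | zero => simp
  | add x y hx hy => simp only [map_add, Pi.add_apply, hx, hy, smul_add]
  | tmul b m =>
    simp only [AlgebraTensorModule.lTensor_tmul, piRight_apply, piRightHom_tmul]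
    show b ⊗ₜ[A] (a i • m) = _
    rw [TensorProduct.tmul_smul, algebraMap_smul]

/-- **Flat base change of torsion**: `(B ⊗ M)[I B]` is the image of `B ⊗ M[I]`. -/
theorem range_lTensor_torsionBySet [Module.Flat A B] (M : Type*) [AddCommGroup M] [Module A M]
    (I : Ideal A) (hI : I.FG) :
    LinearMap.range (AlgebraTensorModule.lTensor B B (torsionBySet A M (I : Set A)).subtype) =
      torsionBySet B (B ⊗[A] M) (I.map (algebraMap A B) : Ideal B) := by
  obtain ⟨n, a, rfl⟩ := Submodule.fg_iff_exists_fin_generating_family.mp hI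
  have hker := ker_mulGens a M
  rw [show (Submodule.span A (Set.range a) : Ideal A) = Ideal.span (Set.range a) from rfl,
    ← hker, ← Module.Flat.ker_lTensor_eq B B (mulGens a M), Ideal.map_span,
    ← torsionBySet_eq_torsionBySet_span]
  ext t
  rw [LinearMap.mem_ker, mem_torsionBySet_iff]
  constructor
  · rintro h ⟨_, _, ⟨i, rfl⟩, rfl⟩
    have := piRight_lTensor_mulGens (B := B) a M t i
    rw [h, map_zero] at this
    exact this.symm
  · intro h
    apply (TensorProduct.piRight A B B (fun _ : Fin n => M)).injective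
    rw [map_zero]
    funext i
    rw [piRight_lTensor_mulGens]
    exact h ⟨_, _, ⟨i, rfl⟩, rfl⟩

/-- `B ⊗ M[I] ≃ (B ⊗ M)[I B]` for flat `B`. -/
noncomputable def tensorTorsionEquiv [Module.Flat A B] (M : Type*) [AddCommGroup M] [Module A M]
    (I : Ideal A) (hI : I.FG) :
    (B ⊗[A] (torsionBySet A M (I : Set A))) ≃ₗ[B]
      torsionBySet B (B ⊗[A] M) (I.map (algebraMap A B) : Ideal B) :=
  (LinearEquiv.ofInjective
      (AlgebraTensorModule.lTensor B B (torsionBySet A M (I : Set A)).subtype)
      (Module.Flat.lTensor_preserves_injective_linearMap (M := B)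
        (torsionBySet A M (I : Set A)).subtype (Submodule.injective_subtype _))).trans
    (LinearEquiv.ofEq _ _ (range_lTensor_torsionBySet M I hI))

/-- a linear equivalence induces an equivalence of torsion submodules -/
noncomputable def torsionCongr {R : Type*} [CommRing R] {M N : Type*} [AddCommGroup M] [Module R M]
    [AddCommGroup N] [Module R N] (e : M ≃ₗ[R] N) (s : Set R) :
    torsionBySet R M s ≃ₗ[R] torsionBySet R N s :=
  LinearEquiv.ofLinearMap
    ((e.toLinearMap.comp (torsionBySet R M s).subtype).codRestrict _ (by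
      intro x
      rw [mem_torsionBySet_iff]
      intro a
      have := (mem_torsionBySet_iff (R := R) (M := M) s x.1).mp x.2 a
      rw [LinearMap.comp_apply, ← map_smul]
      show e (a.1 • x.1) = 0
      rw [this, map_zero]))
    ((e.symm.toLinearMap.comp (torsionBySet R N s).subtype).codRestrict _ (by
      intro x
      rw [mem_torsionBySet_iff]
      intro a
      have := (mem_torsionBySet_iff (R := R) (M := N) s x.1).mp x.2 a
      rw [LinearMap.comp_apply, ← map_smul]
      show e.symm (a.1 • x.1) = 0
      rw [this, map_zero]))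
    (by ext x; simp)
    (by ext x; simp)

/-- **One Frobenius-type step**: if `M[I]` is a sum of copies of `A/I` and `B ⊗ M ≃ N` with `B`
flat, then `N[I B]` is a sum of copies of `B / I B`. -/
theorem nonempty_torsion_equiv_finsupp [Module.Flat A B]
    (M : Type*) [AddCommGroup M] [Module A M] (N : Type*) [AddCommGroup N] [Module B N]
    (θ : (B ⊗[A] M) ≃ₗ[B] N) (I : Ideal A) (hI : I.FG) (ι : Type*)
    (e : torsionBySet A M (I : Set A) ≃ₗ[A] (ι →₀ A ⧸ I)) :
    Nonempty (torsionBySet B N (I.map (algebraMap A B) : Ideal B) ≃ₗ[B]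
      (ι →₀ B ⧸ I.map (algebraMap A B))) := by
  classical
  have e1 : torsionBySet B N (I.map (algebraMap A B) : Ideal B) ≃ₗ[B]
      torsionBySet B (B ⊗[A] M) (I.map (algebraMap A B) : Ideal B) := torsionCongr θ.symm _
  have e2 : torsionBySet B (B ⊗[A] M) (I.map (algebraMap A B) : Ideal B) ≃ₗ[B]
      (B ⊗[A] (torsionBySet A M (I : Set A))) := (tensorTorsionEquiv M I hI).symm
  have e3 : (B ⊗[A] (torsionBySet A M (I : Set A))) ≃ₗ[B] (B ⊗[A] (ι →₀ A ⧸ I)) :=
    AlgebraTensorModule.congr (LinearEquiv.refl B B) e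
  have e4 : (B ⊗[A] (ι →₀ A ⧸ I)) ≃ₗ[B] (ι →₀ B ⊗[A] (A ⧸ I)) :=
    TensorProduct.finsuppRight A B B (A ⧸ I) ι
  have e5 : (ι →₀ B ⊗[A] (A ⧸ I)) ≃ₗ[B] (ι →₀ B ⧸ I.map (algebraMap A B)) :=
    Finsupp.mapRange.linearEquiv (Ideal.qoutMapEquivTensorQout B (I := I)).symm
  exact ⟨e1.trans (e2.trans (e3.trans (e4.trans e5)))⟩

end Groth.Agent.H72.FrobTors
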