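import Mathlib
import Groth.Agent.H72.KunzLocal

/-!
# Kunz's theorem: a Noetherian ring of characteristic `p` is regular iff its Frobenius is flat
-/

set_option autoImplicit false
set_option linter.style.haveILetI false
set_option linter.deprecated false
universe u
open IsLocalRing
namespace Groth.Agent.H72.Kunz

variable (p : ℕ) [Fact p.Prime] (R : Type u) [CommRing R] [CharP R p]

theorem comap_frobenius (J : Ideal R) [hJ : J.IsPrime] : J.comap (frobenius R p) = J := by
  ext a
  rw [Ideal.mem_comap, frobenius_def]
  exact ⟨fun h => hJ.mem_of_pow_mem _ h, fun h => Ideal.pow_mem_of_mem _ h _ (Fact.out : p.Prime).pos⟩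

theorem charP_localization (J : Ideal R) [J.IsPrime] : CharP (Localization.AtPrime J) p := by
  rw [CharP.charP_iff_prime_eq_zero (Fact.out : p.Prime)]
  have : ((p : R) : R) = 0 := CharP.cast_eq_zero R p
  rw [← map_natCast (algebraMap R (Localization.AtPrime J)), this, map_zero]

theorem frobenius_flat_of_isRegularRing [IsRegularRing R] : (frobenius R p).Flat := by
  apply RingHom.Flat.ofLocalizationPrime
  intro J hJ
  have hQJ : J.comap (frobenius R p) = J := comap_frobenius p R J
  haveI : (J.comap (frobenius R p)).IsPrime := Ideal.comap_isPrime _ _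
  refine flat_of_regular_of_cm
    (A := Localization.AtPrime (J.comap (frobenius R p))) (B := Localization.AtPrime J)
    (Groth.Agent.H26.CMFlat.isCohenMacaulayLocalRing_of_isRegularLocalRing _)
    (Localization.localRingHom (J.comap (frobenius R p)) J (frobenius R p) rfl) ?_ ?_
  · rw [IsLocalization.AtPrime.ringKrullDim_eq_height J,
      IsLocalization.AtPrime.ringKrullDim_eq_height (J.comap (frobenius R p)), hQJ]
  · rw [← Localization.AtPrime.map_eq_maximalIdeal, Ideal.map_le_iff_le_comap]
    intro j hj
    rw [Ideal.mem_comap]
    refine ⟨p, ?_⟩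
    have h1 : (algebraMap R (Localization.AtPrime J) j) ^ p =
        Localization.localRingHom (J.comap (frobenius R p)) J (frobenius R p) rfl
          (algebraMap R (Localization.AtPrime (J.comap (frobenius R p))) j) := by
      rw [Localization.localRingHom_to_map, frobenius_def, map_pow]
    rw [h1]
    apply Ideal.mem_map_of_mem
    rw [← Localization.AtPrime.map_eq_maximalIdeal]
    apply Ideal.mem_map_of_mem
    rw [hQJ]; exact hj

theorem isRegularRing_of_frobenius_flat [IsNoetherianRing R] (hF : (frobenius R p).Flat) :
    IsRegularRing R := by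
  rw [isRegularRing_iff]
  intro J hJ
  apply IsRegularLocalRing.of_spanFinrank_maximalIdeal_le
  haveI : CharP (Localization.AtPrime J) p := charP_localization p R J
  apply spanFinrank_le_of_frobenius_flat _ p
  have hQJ : J = J.comap (frobenius R p) := (comap_frobenius p R J).symm
  have := RingHom.Flat.localRingHom hF J J hQJ
  convert this using 1
  apply IsLocalization.ringHom_ext J.primeCompl
  ext a
  simp [Localization.localRingHom_to_map, frobenius_def]

theorem kunz [IsNoetherianRing R] : IsRegularRing R ↔ (frobenius R p).Flat :=
  ⟨fun _ => frobenius_flat_of_isRegularRing p R, isRegularRing_of_frobenius_flat p R⟩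

end Groth.Agent.H72.Kunz
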