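import Mathlib
import Groth.Prelude.Def_Wider
import Groth.Agent.H9.InjHullLocal
import Groth.Agent.H26.HullQuot
import Groth.Agent.H26.ZariskiComplRegular
import Groth.Agent.H72.FrobTors
import Groth.Agent.H72.FrobSelfInj
import Groth.Agent.H72.FrobInjA
import Groth.Agent.H72.KunzMain

/-!
# Frobenius-stable `m`-power torsion modules over a regular local ring are sums of `E`  (helper72)
-/

set_option autoImplicit false
set_option linter.unusedSectionVars false
set_option linter.style.haveILetI false

namespace Groth.Agent.H72.FrobInj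

universe u

open IsLocalRing Submodule CategoryTheory TensorProduct

variable (p : ℕ) [Fact p.Prime] {R : Type u} [CommRing R] [IsRegularLocalRing R] [CharP R p]

/-- the Frobenius powers `(x₁^{p^e}, …, x_d^{p^e})` -/
def Ie (xs : List R) (e : ℕ) : Ideal R := Ideal.ofList (xs.map (· ^ p ^ e))

theorem Ie_zero (xs : List R) : Ie p xs 0 = Ideal.ofList xs := by
  simp [Ie]

theorem Ie_succ (xs : List R) (e : ℕ) : Ie p xs (e + 1) = (Ie p xs e).map (frobenius R p) := by
  unfold Ie Ideal.ofList
  rw [Ideal.map_span]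
  congr 1
  ext r
  simp only [List.mem_map, Set.mem_setOf_eq, Set.mem_image]
  constructor
  · rintro ⟨x, hx, rfl⟩
    exact ⟨x ^ p ^ e, ⟨x, hx, rfl⟩, by rw [frobenius_def, ← pow_mul, pow_succ]⟩
  · rintro ⟨_, ⟨x, hx, rfl⟩, rfl⟩
    exact ⟨x, hx, by rw [frobenius_def, ← pow_mul, pow_succ]⟩

theorem Ie_le_pow (xs : List R) (e : ℕ) : Ie p xs e ≤ (Ideal.ofList xs : Ideal R) ^ (p ^ e) := by
  unfold Ie
  rw [Ideal.ofList, Ideal.span_le]
  intro y hy
  obtain ⟨x, hx, rfl⟩ := List.mem_map.mp hy
  exact Ideal.pow_mem_pow (Ideal.subset_span (show x ∈ {r | r ∈ xs} from hx)) _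

/-- ring-hom form of `FrobTors.nonempty_torsion_equiv_finsupp` -/
theorem nonempty_torsion_equiv_finsupp' {A B : Type u} [CommRing A] [CommRing B] (f : A →+* B)
    (hf : f.Flat) (M : Type u) [AddCommGroup M] [Module A M] (N : Type u) [AddCommGroup N]
    [Module B N]
    (Θ : (ModuleCat.extendScalars f).obj (ModuleCat.of A M) ≅ ModuleCat.of B N)
    (I : Ideal A) (hI : I.FG) (ι : Type u)
    (e : torsionBySet A M (I : Set A) ≃ₗ[A] (ι →₀ A ⧸ I)) :
    Nonempty (torsionBySet B N (I.map f : Ideal B) ≃ₗ[B] (ι →₀ B ⧸ I.map f)) := by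
  letI := f.toAlgebra
  haveI : Module.Flat A B := hf
  exact Groth.Agent.H72.FrobTors.nonempty_torsion_equiv_finsupp M N Θ.toLinearEquiv I hI ι e

/-- The structure of the Frobenius-power torsion of a Frobenius-stable module. -/
theorem torsion_structure (xs : List R) (M : Type u) [AddCommGroup M] [Module R M]
    (h : Nonempty ((ModuleCat.extendScalars (frobenius R p)).obj (ModuleCat.of R M) ≅
      ModuleCat.of R M)) (ι : Type u)
    (e0 : torsionBySet R M (Ideal.ofList xs : Set R) ≃ₗ[R] (ι →₀ R ⧸ Ideal.ofList xs)) (e : ℕ) :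
    ∀ J : Ideal R, J = Ie p xs e → Nonempty (torsionBySet R M (J : Set R) ≃ₗ[R] (ι →₀ R ⧸ J)) := by
  induction e with
  | zero =>
    intro J hJ
    obtain rfl : J = Ideal.ofList xs := hJ.trans (Ie_zero p xs)
    exact ⟨e0⟩
  | succ e ih =>
    intro J hJ
    obtain rfl : J = (Ie p xs e).map (frobenius R p) := hJ.trans (Ie_succ p xs e)
    obtain ⟨e1⟩ := ih _ rfl
    obtain ⟨Θ⟩ := h
    haveI := Groth.Agent.H26.ZariskiCompl.isRegularRing_of_isRegularLocalRing R
    have hflat : (frobenius R p).Flat := Groth.Agent.H72.Kunz.frobenius_flat_of_isRegularRing p R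
    exact nonempty_torsion_equiv_finsupp' (frobenius R p) hflat M M Θ (Ie p xs e)
      (IsNoetherian.noetherian _) ι e1

theorem isPowerTorsion_finsupp (I : Ideal R) (E : Type u) [AddCommGroup E] [Module R E]
    (hE : LocCoh.IsPowerTorsion I E) (ι : Type u) : LocCoh.IsPowerTorsion I (ι →₀ E) := by
  intro y
  induction y using Finsupp.induction_linear with
  | zero => exact ⟨0, fun a _ => smul_zero a⟩
  | add x y hx hy =>
    obtain ⟨n, hn⟩ := hx
    obtain ⟨k, hk⟩ := hy
    refine ⟨max n k, fun a ha => ?_⟩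
    rw [smul_add, hn a (Ideal.pow_le_pow_right (le_max_left n k) ha),
      hk a (Ideal.pow_le_pow_right (le_max_right n k) ha), add_zero]
  | single i t =>
    obtain ⟨n, hn⟩ := hE t
    refine ⟨n, fun a ha => ?_⟩
    rw [Finsupp.smul_single, hn a ha, Finsupp.single_zero]

/-- **Frobenius-stable `m`-power torsion modules over a regular local ring of characteristic `p`
are direct sums of copies of the injective hull of the residue field.** -/
theorem exists_equiv_finsupp_hull (E : Type u) [AddCommGroup E] [Module R E]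
    (f : ResidueField R →ₗ[R] E) (hf : InjHull.IsInjectiveHull f)
    (M : Type u) [AddCommGroup M] [Module R M]
    (hM : LocCoh.IsPowerTorsion (maximalIdeal R) M)
    (h : Nonempty ((ModuleCat.extendScalars (frobenius R p)).obj (ModuleCat.of R M) ≅
      ModuleCat.of R M)) :
    ∃ ι : Type u, Nonempty (M ≃ₗ[R] (ι →₀ E)) := by
  classical
  obtain ⟨xs, hxs, hlen⟩ := Groth.Agent.H72.FrobSelfInj.exists_list_gens R
  -- the socle and a basis of it
  set V := torsionBySet R M (maximalIdeal R : Set R) with hV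
  letI : Field (R ⧸ maximalIdeal R) := Ideal.Quotient.field (maximalIdeal R)
  let b := Module.Free.chooseBasis (R ⧸ maximalIdeal R) V
  let ι := Module.Free.ChooseBasisIndex (R ⧸ maximalIdeal R) V
  let e0 : V ≃ₗ[R] (ι →₀ R ⧸ maximalIdeal R) := b.repr.restrictScalars R
  refine ⟨ι, ?_⟩
  have hE'inj : Module.Injective R (ι →₀ E) := injective_finsupp E hf.isInjective ι
  let f' : (R ⧸ maximalIdeal R) →ₗ[R] E := f
  have hf' : Function.Injective f' := hf.injective
  let v₀ : V →ₗ[R] (ι →₀ E) := (Finsupp.mapRange.linearMap f').comp e0.toLinearMap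
  have hv₀ : Function.Injective v₀ := by
    have : Function.Injective (Finsupp.mapRange.linearMap (α := ι) f') :=
      Finsupp.mapRange_injective _ (map_zero _) hf'
    exact this.comp e0.injective
  obtain ⟨v, hv⟩ := Module.Injective.out V.subtype (Submodule.injective_subtype V) v₀
  have hess := Groth.Agent.H2.isEssentialInj_torsionBy_of_isPowerTorsion (maximalIdeal R) M hM
  have hvinj : Function.Injective v := by
    refine Groth.Agent.H2.injective_of_comp_injective_of_isEssentialInj V.subtype hess v ?_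
    have : (v ∘ₗ V.subtype) = v₀ := LinearMap.ext hv
    rw [this]
    exact hv₀
  have hEtors : LocCoh.IsPowerTorsion (maximalIdeal R) E :=
    Groth.Agent.H9.isPowerTorsion_of_isEssentialInj f hf.toIsEssentialInj
  have hE'tors := isPowerTorsion_finsupp (maximalIdeal R) E hEtors ι
  -- the socle of `E'` is in the range
  have hsoc : LocCoh.torsionBy (maximalIdeal R) (ι →₀ E) ≤ LinearMap.range v := by
    intro y hy
    have hyi : ∀ i, y i ∈ LinearMap.range f := by
      intro i
      apply Groth.Agent.H26.socle_le_range_of_isInjectiveHull f hf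
      rw [mem_torsionBySet_iff]
      intro a
      have := (mem_torsionBySet_iff (R := R) (M := ι →₀ E) _ y).mp hy a
      rw [← Finsupp.smul_apply, this, Finsupp.zero_apply]
    have hy2 : y ∈ LinearMap.range v₀ := by
      rw [← Finsupp.sum_single y]
      refine Submodule.sum_mem _ fun i _ => ?_
      obtain ⟨k, hk⟩ := hyi i
      refine ⟨e0.symm (Finsupp.single i k), ?_⟩
      show Finsupp.mapRange.linearMap f' (e0 (e0.symm (Finsupp.single i k))) = _
      rw [LinearEquiv.apply_symm_apply, Finsupp.mapRange.linearMap_apply,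
        Finsupp.mapRange_single]
      exact congrArg _ hk
    obtain ⟨x, hx⟩ := hy2
    exact ⟨x.1, (hv x).trans hx⟩
  -- structure of the Frobenius-power torsion
  have e0' : torsionBySet R M (Ideal.ofList xs : Set R) ≃ₗ[R] (ι →₀ R ⧸ Ideal.ofList xs) := by
    rw [hxs]; exact e0
  have hsurj : Function.Surjective v := by
    intro y
    obtain ⟨n, hn⟩ := hE'tors y
    have hnp : n ≤ p ^ n := (Nat.lt_pow_self (Fact.out : p.Prime).one_lt).le
    obtain ⟨e1⟩ := torsion_structure p xs M h ι e0' n _ rfl
    have hI : Ie p xs n = Ideal.ofList (xs.map (· ^ p ^ n)) := rfl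
    have hinj := Groth.Agent.H72.FrobSelfInj.selfInjective_quotient xs hxs hlen (p ^ n)
      (pow_pos (Fact.out : p.Prime).pos n)
    rw [← hI] at hinj
    have hle := torsionBy_le_map (Ie p xs n) hinj hE'tors v hvinj hsoc ι e1
    apply hle
    rw [mem_torsionBySet_iff]
    rintro ⟨a, ha⟩
    apply hn
    have h1 := Ie_le_pow p xs n ha
    rw [hxs] at h1
    exact Ideal.pow_le_pow_right hnp h1
  exact ⟨LinearEquiv.ofBijective v ⟨hvinj, hsurj⟩⟩

end Groth.Agent.H72.FrobInj
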