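import Mathlib
import Groth.Prelude.Def_Found
import Groth.Prelude.Def_EGA4b
import Groth.Agent.H72.QFFormal5
import Groth.Agent.H26.ComplQuot
import Groth.Agent.H26.ComplFlatMap

/-!
# Transport of formal fibres along ring isomorphisms and quotients
-/

set_option autoImplicit false
set_option linter.style.haveILetI false
set_option linter.unusedSectionVars false
universe u

open TensorProduct IsLocalRing

namespace Groth.Agent.H72.GRingGeneric

open Groth.Agent.H72.QFFormal

set_option backward.isDefEq.respectTransparency false in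
/-- Descent of regularity of `k' ⊗_A -` along a faithfully flat map `B → C` of `A`-algebras. -/
theorem isRegularRing_tensor_of_faithfullyFlat (A B C : Type u) [CommRing A] [CommRing B]
    [CommRing C] [Algebra A B] [Algebra B C] [Algebra A C] [IsScalarTower A B C]
    [Module.FaithfullyFlat B C] (k' : Type u) [Field k'] [Algebra A k']
    (h : IsRegularRing (k' ⊗[A] C)) : IsRegularRing (k' ⊗[A] B) := by
  haveI h2 : IsRegularRing ((B ⊗[A] k') ⊗[B] C) :=
    @IsRegularRing.of_ringEquiv _ _ _ _
      (Groth.Agent.H26.RegHomDescent.tensorTensorEquiv A B C k').symm h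
  have h3 : IsRegularRing (B ⊗[A] k') :=
    Groth.Agent.H26.RegHomDescent.isRegularRing_of_faithfullyFlat (B ⊗[A] k')
      ((B ⊗[A] k') ⊗[B] C)
  exact @IsRegularRing.of_ringEquiv _ _ _ _ (Algebra.TensorProduct.comm A B k').toRingEquiv h3

/-- The kernel of the structure map to a field extension of a residue field. -/
theorem ker_algebraMap_of_residueField {A : Type u} [CommRing A] (Q : Ideal A) [Q.IsPrime]
    (k' : Type u) [Field k'] [Algebra Q.ResidueField k'] [Algebra A k']
    [IsScalarTower A Q.ResidueField k'] : RingHom.ker (algebraMap A k') = Q := by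
  ext x
  rw [RingHom.mem_ker, IsScalarTower.algebraMap_apply A Q.ResidueField k',
    map_eq_zero_iff _ (algebraMap Q.ResidueField k').injective,
    Ideal.algebraMap_residueField_eq_zero]

set_option backward.isDefEq.respectTransparency false in
/-- Geometric regularity of a formal fibre is invariant under ring isomorphisms. -/
theorem isGeometricallyRegular_formalFibre_of_ringEquiv {X Y : Type u} [CommRing X] [CommRing Y]
    [IsLocalRing X] [IsLocalRing Y] [IsNoetherianRing X] [IsNoetherianRing Y] (e : X ≃+* Y)
    (J' : Ideal X) [J'.IsPrime] (J : Ideal Y) [J.IsPrime] (hJ : J' = J.comap e)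
    (h : CAlg.IsGeometricallyRegular J'.ResidueField (EGA4.formalFibre X J')) :
    CAlg.IsGeometricallyRegular J.ResidueField (EGA4.formalFibre Y J) := by
  intro k' _ _ hfin
  haveI := hfin
  letI algYX : Algebra Y X := e.symm.toRingHom.toAlgebra
  have hbij : Function.Bijective (algebraMap Y X) := e.symm.bijective
  haveI hloc : IsLocalHom (algebraMap Y X) := by
    change IsLocalHom e.symm.toRingHom
    have : IsLocalHom e.symm := isLocalHom_equiv _
    exact isLocalHom_toRingHom e.symm
  haveI hflat : Module.Flat Y X := RingHom.Flat.of_bijective hbij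
  letI := Groth.Agent.H26.ComplFlatMap.complAlgebra Y X
  haveI := Groth.Agent.H26.ComplFlatMap.isScalarTower Y X
  haveI := Groth.Agent.H26.ComplFlatMap.faithfullyFlat_complHom Y X
  haveI : IsScalarTower Y X (EGA4.Cpl X) := IsScalarTower.of_algebraMap_eq (fun _ => rfl)
  letI algY : Algebra Y k' :=
    ((algebraMap J.ResidueField k').comp (algebraMap Y J.ResidueField)).toAlgebra
  haveI tY : IsScalarTower Y J.ResidueField k' := IsScalarTower.of_algebraMap_eq (fun _ => rfl)
  letI algX : Algebra X k' := ((algebraMap Y k').comp e.toRingHom).toAlgebra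
  haveI tYX : IsScalarTower Y X k' := IsScalarTower.of_algebraMap_eq (fun y => by
    change algebraMap Y k' y = algebraMap Y k' (e (e.symm y))
    rw [RingEquiv.apply_symm_apply])
  have hkerY : RingHom.ker (algebraMap Y k') = J := ker_algebraMap_of_residueField J k'
  have hkerX : RingHom.ker (algebraMap X k') = J' := by
    rw [hJ, ← hkerY]
    rfl
  obtain ⟨algQ, tXQ⟩ := exists_residueField_algebra_of_ker J' k' hkerX
  -- finiteness
  haveI : Algebra.QuasiFinite Y k' := Algebra.QuasiFinite.trans Y J.ResidueField k'
  haveI tYQ : IsScalarTower Y J'.ResidueField k' := IsScalarTower.of_algebraMap_eq (fun y => by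
    rw [IsScalarTower.algebraMap_apply Y X k', IsScalarTower.algebraMap_apply X J'.ResidueField k',
      ← IsScalarTower.algebraMap_apply Y X J'.ResidueField])
  haveI : Algebra.QuasiFinite J'.ResidueField k' :=
    Algebra.QuasiFinite.of_restrictScalars Y J'.ResidueField k'
  have hfinX : Module.Finite J'.ResidueField k' := Module.Finite.of_quasiFinite
  have h0 : IsRegularRing (k' ⊗[J'.ResidueField] (J'.Fiber (EGA4.Cpl X))) := h k' hfinX
  have h1 : IsRegularRing (k' ⊗[X] EGA4.Cpl X) :=
    @IsRegularRing.of_ringEquiv _ _ _ _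
      (Groth.Agent.H26.RegHomDescent.tensorFiberEquiv X (EGA4.Cpl X) k' J').symm h0
  haveI hlocYX : IsLocalization (⊥ : Submonoid Y) X := by
    haveI : IsLocalization (⊥ : Submonoid Y) Y := IsLocalization.self bot_le
    exact IsLocalization.isLocalization_of_algEquiv (⊥ : Submonoid Y)
      (AlgEquiv.ofBijective (Algebra.ofId Y X) hbij)
  have h2 : IsRegularRing (k' ⊗[Y] EGA4.Cpl X) :=
    @IsRegularRing.of_ringEquiv _ _ _ _
      (IsLocalization.algebraTensorEquiv (⊥ : Submonoid Y) X k' (EGA4.Cpl X)).toRingEquiv h1
  have h3 : IsRegularRing (k' ⊗[Y] EGA4.Cpl Y) :=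
    isRegularRing_tensor_of_faithfullyFlat Y (EGA4.Cpl Y) (EGA4.Cpl X) k' h2
  exact @IsRegularRing.of_ringEquiv _ _ _ _
    (Groth.Agent.H26.RegHomDescent.tensorFiberEquiv Y (EGA4.Cpl Y) k' J) h3

end Groth.Agent.H72.GRingGeneric
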