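import Mathlib
import Groth.Prelude.Def_Found
import Groth.Prelude.Def_EGA4b
import Groth.Agent.H72.GRingGeneric
import Groth.Agent.H47.CMSlice.Loc

/-!
# G-rings via generic formal fibres of the local rings of the quotients by primes
-/

set_option autoImplicit false
set_option linter.style.haveILetI false
set_option linter.unusedSectionVars false
universe u

open TensorProduct IsLocalRing

namespace Groth.Agent.H72.GRingGeneric

open Groth.Agent.H72.QFFormal

section Quot

variable (A : Type u) [CommRing A] [IsLocalRing A] [IsNoetherianRing A]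
  (Q : Ideal A) [Q.IsPrime]

set_option backward.isDefEq.respectTransparency false in
/-- If the generic formal fibre of `A ⧸ Q` is geometrically regular, so is the formal fibre of
`A` at `Q`. -/
theorem isGeometricallyRegular_formalFibre_of_quotient
    (hgen : CAlg.IsGeometricallyRegular (⊥ : Ideal (A ⧸ Q)).ResidueField
      (EGA4.formalFibre (A ⧸ Q) (⊥ : Ideal (A ⧸ Q)))) :
    CAlg.IsGeometricallyRegular Q.ResidueField (EGA4.formalFibre A Q) := by
  intro k' _ _ hfin
  haveI := hfin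
  obtain ⟨τ₀⟩ := Groth.Agent.H26.ComplQuot.nonempty_algEquiv_tensor A Q
  letI algA : Algebra A k' :=
    ((algebraMap Q.ResidueField k').comp (algebraMap A Q.ResidueField)).toAlgebra
  haveI tA : IsScalarTower A Q.ResidueField k' := IsScalarTower.of_algebraMap_eq (fun _ => rfl)
  have hkerA : RingHom.ker (algebraMap A k') = Q := ker_algebraMap_of_residueField Q k'
  have hzero : ∀ a ∈ Q, algebraMap A k' a = 0 := fun a ha => by
    rw [← RingHom.mem_ker, hkerA]; exact ha
  letI algY : Algebra (A ⧸ Q) k' := (Ideal.Quotient.lift Q (algebraMap A k') hzero).toAlgebra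
  haveI tAY : IsScalarTower A (A ⧸ Q) k' := IsScalarTower.of_algebraMap_eq (fun _ => rfl)
  have hkerY : RingHom.ker (algebraMap (A ⧸ Q) k') = ⊥ := by
    rw [eq_bot_iff]
    intro y hy
    obtain ⟨a, rfl⟩ := Ideal.Quotient.mk_surjective y
    rw [RingHom.mem_ker] at hy
    have ha : algebraMap A k' a = 0 := hy
    have haQ : a ∈ Q := by rw [← hkerA, RingHom.mem_ker]; exact ha
    rw [Ideal.mem_bot]
    exact Ideal.Quotient.eq_zero_iff_mem.mpr haQ
  obtain ⟨algκ, tYκ⟩ := exists_residueField_algebra_of_ker (⊥ : Ideal (A ⧸ Q)) k' hkerY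
  haveI : Algebra.QuasiFinite A k' := Algebra.QuasiFinite.trans A Q.ResidueField k'
  haveI tAκ : IsScalarTower A (⊥ : Ideal (A ⧸ Q)).ResidueField k' :=
    IsScalarTower.of_algebraMap_eq (fun a => by
      rw [IsScalarTower.algebraMap_apply A (A ⧸ Q) k',
        IsScalarTower.algebraMap_apply (A ⧸ Q) (⊥ : Ideal (A ⧸ Q)).ResidueField k',
        ← IsScalarTower.algebraMap_apply A (A ⧸ Q) (⊥ : Ideal (A ⧸ Q)).ResidueField])
  haveI : Algebra.QuasiFinite (⊥ : Ideal (A ⧸ Q)).ResidueField k' :=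
    Algebra.QuasiFinite.of_restrictScalars A (⊥ : Ideal (A ⧸ Q)).ResidueField k'
  have hfinY : Module.Finite (⊥ : Ideal (A ⧸ Q)).ResidueField k' := Module.Finite.of_quasiFinite
  have h0 : IsRegularRing (k' ⊗[(⊥ : Ideal (A ⧸ Q)).ResidueField]
      ((⊥ : Ideal (A ⧸ Q)).Fiber (EGA4.Cpl (A ⧸ Q)))) := hgen k' hfinY
  have h1 : IsRegularRing (k' ⊗[A ⧸ Q] EGA4.Cpl (A ⧸ Q)) :=
    @IsRegularRing.of_ringEquiv _ _ _ _
      (Groth.Agent.H26.RegHomDescent.tensorFiberEquiv (A ⧸ Q) (EGA4.Cpl (A ⧸ Q)) k'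
        (⊥ : Ideal (A ⧸ Q))).symm h0
  have h2 : IsRegularRing (k' ⊗[A ⧸ Q] ((A ⧸ Q) ⊗[A] EGA4.Cpl A)) :=
    @IsRegularRing.of_ringEquiv _ _ _ _
      (Algebra.TensorProduct.congr (AlgEquiv.refl : k' ≃ₐ[A ⧸ Q] k') τ₀).toRingEquiv h1
  have h3 : IsRegularRing (k' ⊗[A] EGA4.Cpl A) :=
    @IsRegularRing.of_ringEquiv _ _ _ _
      (Algebra.TensorProduct.cancelBaseChange A (A ⧸ Q) (A ⧸ Q) k' (EGA4.Cpl A)).toRingEquiv h2
  exact @IsRegularRing.of_ringEquiv _ _ _ _
    (Groth.Agent.H26.RegHomDescent.tensorFiberEquiv A (EGA4.Cpl A) k' Q) h3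

end Quot

end Groth.Agent.H72.GRingGeneric
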