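import Mathlib
import Groth.Prelude.Def_GrMap

/-!
# Comparing associated graded rings through a common source (helper72)

Two filtered ring maps `ρR : P → R`, `ρA : P → A` (for adic filtrations) which are surjective on
associated graded rings and whose graded maps have the same kernel induce an isomorphism of graded
rings `G(R) ≃ G(A)` compatible with the maps from `G(P)`.
-/

set_option autoImplicit false
universe u

namespace Groth.Agent.H72.GrKer

open Polynomial

section one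

variable {P R : Type u} [CommRing P] [CommRing R] {φ : P →+* R} {I : Ideal P} {J : Ideal R}

theorem map_mkG_eq_zero_iff (hIJ : I.map φ ≤ J) (f : (FiltBl.IdealFiltration.adic I).rees) :
    AssocGr.map (AssocGr.IsFiltHom.adic hIJ) (AssocGr.mkG _ f) = 0 ↔
      ∀ n : ℕ, φ ((f : P[X]).coeff n) ∈ J ^ (n + 1) := by
  rw [AssocGr.map_mkG, AssocGr.mkG_eq_zero_iff, AssocGr.mem_succIdeal_iff]
  refine forall_congr' fun n => ?_
  rw [AssocGr.coe_reesMap, Polynomial.coeff_map]
  rfl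

theorem map_surjective (hIJ : I.map φ ≤ J)
    (key2 : ∀ (n : ℕ) (x : R), x ∈ J ^ n → ∃ a, a ∈ I ^ n ∧ x - φ a ∈ J ^ (n + 1)) :
    Function.Surjective (AssocGr.map (AssocGr.IsFiltHom.adic hIJ)) := by
  classical
  intro g'
  obtain ⟨f', rfl⟩ := AssocGr.mkG_surjective _ g'
  have hch : ∀ n : ℕ, ∃ a, a ∈ I ^ n ∧
      (f' : Polynomial R).coeff n - φ a ∈ J ^ (n + 1) := fun n => key2 n _ (f'.2 n)
  choose a ha1 ha2 using hch
  let fpoly : Polynomial P :=
    ∑ n ∈ (f' : Polynomial R).support, Polynomial.monomial n (a n)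
  have hcoeff : ∀ n, fpoly.coeff n =
      if n ∈ (f' : Polynomial R).support then a n else 0 := by
    intro n
    simp only [fpoly, Polynomial.finsetSum_coeff, Polynomial.coeff_monomial]
    rw [Finset.sum_ite_eq']
  have hmem : fpoly ∈ (FiltBl.IdealFiltration.adic I).rees := by
    intro n
    rw [hcoeff]
    split_ifs
    · exact ha1 n
    · exact Ideal.zero_mem _
  refine ⟨AssocGr.mkG _ ⟨fpoly, hmem⟩, ?_⟩
  rw [AssocGr.map_mkG, ← sub_eq_zero, ← map_sub, AssocGr.mkG_eq_zero_iff,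
    AssocGr.mem_succIdeal_iff]
  intro n
  rw [Subalgebra.coe_sub, Polynomial.coeff_sub, AssocGr.coe_reesMap, Polynomial.coeff_map]
  change φ (fpoly.coeff n) - _ ∈ J ^ (n + 1)
  rw [hcoeff]
  split_ifs with hn
  · rw [← neg_sub]
    exact neg_mem (ha2 n)
  · rw [Polynomial.notMem_support_iff.mp hn, map_zero, sub_zero]
    exact Ideal.zero_mem _

/-- degreewise surjectivity -/
theorem exists_preimage_gr (hIJ : I.map φ ≤ J)
    (key2 : ∀ (n : ℕ) (x : R), x ∈ J ^ n → ∃ a, a ∈ I ^ n ∧ x - φ a ∈ J ^ (n + 1))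
    (n : ℕ) (x : AssocGr.GrRing (FiltBl.IdealFiltration.adic J))
    (hx : x ∈ AssocGr.gr (FiltBl.IdealFiltration.adic J) n) :
    ∃ z ∈ AssocGr.gr (FiltBl.IdealFiltration.adic I) n,
      AssocGr.map (AssocGr.IsFiltHom.adic hIJ) z = x := by
  obtain ⟨y, hy⟩ := AssocGr.inDeg_surjective (FiltBl.IdealFiltration.adic J) n ⟨x, hx⟩
  obtain ⟨a, ha1, ha2⟩ := key2 n (y : R) y.2
  refine ⟨(AssocGr.inDeg (FiltBl.IdealFiltration.adic I) n ⟨a, ha1⟩ : AssocGr.GrRing _),
    Submodule.coe_mem _, ?_⟩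
  rw [AssocGr.map_inDeg]
  have hx' : x = (AssocGr.inDeg (FiltBl.IdealFiltration.adic J) n y : AssocGr.GrRing _) := by
    rw [hy]
  rw [hx']
  have hφa : φ a ∈ (FiltBl.IdealFiltration.adic J).F n :=
    (AssocGr.IsFiltHom.adic hIJ).apply_mem (show a ∈ (FiltBl.IdealFiltration.adic I).F n from ha1)
  have hsub : AssocGr.inDeg (FiltBl.IdealFiltration.adic J) n y -
      AssocGr.inDeg (FiltBl.IdealFiltration.adic J) n ⟨φ a, hφa⟩ = 0 := by
    rw [← map_sub, AssocGr.inDeg_eq_zero_iff]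
    exact ha2
  rw [sub_eq_zero] at hsub
  rw [hsub]

end one

section two

variable {P R A : Type u} [CommRing P] [CommRing R] [CommRing A]
  {ρR : P →+* R} {ρA : P →+* A} {IP : Ideal P} {IR : Ideal R} {IA : Ideal A}

theorem exists_grEquiv (hR : IP.map ρR ≤ IR) (hA : IP.map ρA ≤ IA)
    (surjR : ∀ (n : ℕ) (x : R), x ∈ IR ^ n → ∃ a, a ∈ IP ^ n ∧ x - ρR a ∈ IR ^ (n + 1))
    (surjA : ∀ (n : ℕ) (x : A), x ∈ IA ^ n → ∃ a, a ∈ IP ^ n ∧ x - ρA a ∈ IA ^ (n + 1))
    (hker : ∀ (n : ℕ) (a : P), a ∈ IP ^ n → (ρR a ∈ IR ^ (n + 1) ↔ ρA a ∈ IA ^ (n + 1))) :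
    ∃ e : AssocGr.GrRing (FiltBl.IdealFiltration.adic IR) ≃+*
        AssocGr.GrRing (FiltBl.IdealFiltration.adic IA),
      (∀ z, e (AssocGr.map (AssocGr.IsFiltHom.adic hR) z) =
        AssocGr.map (AssocGr.IsFiltHom.adic hA) z) ∧
      ∀ (n : ℕ) (x : AssocGr.GrRing (FiltBl.IdealFiltration.adic IR)),
        x ∈ AssocGr.gr (FiltBl.IdealFiltration.adic IR) n →
          e x ∈ AssocGr.gr (FiltBl.IdealFiltration.adic IA) n := by
  let mR := AssocGr.map (AssocGr.IsFiltHom.adic hR)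
  let mA := AssocGr.map (AssocGr.IsFiltHom.adic hA)
  have hsR : Function.Surjective mR := map_surjective hR surjR
  have hsA : Function.Surjective mA := map_surjective hA surjA
  have hkereq : RingHom.ker mR = RingHom.ker mA := by
    ext z
    obtain ⟨f, rfl⟩ := AssocGr.mkG_surjective _ z
    rw [RingHom.mem_ker, RingHom.mem_ker]
    change AssocGr.map (AssocGr.IsFiltHom.adic hR) _ = 0 ↔
      AssocGr.map (AssocGr.IsFiltHom.adic hA) _ = 0
    rw [map_mkG_eq_zero_iff hR, map_mkG_eq_zero_iff hA]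
    exact forall_congr' fun n => hker n _ (f.2 n)
  let e : AssocGr.GrRing (FiltBl.IdealFiltration.adic IR) ≃+*
      AssocGr.GrRing (FiltBl.IdealFiltration.adic IA) :=
    (RingHom.quotientKerEquivOfSurjective hsR).symm.trans
      ((Ideal.quotEquivOfEq hkereq).trans (RingHom.quotientKerEquivOfSurjective hsA))
  have he : ∀ z, e (mR z) = mA z := by
    intro z
    have h1 : (RingHom.quotientKerEquivOfSurjective hsR).symm (mR z) =
        Ideal.Quotient.mk _ z := by
      rw [RingEquiv.symm_apply_eq]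
      rfl
    change (RingHom.quotientKerEquivOfSurjective hsA)
      ((Ideal.quotEquivOfEq hkereq) ((RingHom.quotientKerEquivOfSurjective hsR).symm (mR z))) = _
    rw [h1, Ideal.quotEquivOfEq_mk]
    rfl
  refine ⟨e, he, fun n x hx => ?_⟩
  obtain ⟨z, hz, rfl⟩ := exists_preimage_gr hR surjR n x hx
  change e (mR z) ∈ _
  rw [he]
  exact AssocGr.map_mem_gr _ hz

end two

end Groth.Agent.H72.GrKer
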