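import Groth.Agent.H72.ProjOfInt
import Groth.Agent.S6610

/-!
# The long exact sequence of the classical left derived functors `F.leftDerived n`
(dual of `H33.RDLes`)
-/

set_option autoImplicit false
universe v v' u u'

open CategoryTheory CategoryTheory.Limits

namespace Groth.Agent.H72.LDLes

open Groth.Agent.H72.ProjOfInt

variable {A : Type u} [Category.{v} A] [Abelian A] [EnoughProjectives A]

set_option backward.isDefEq.respectTransparency false in
/-- Horseshoe lemma: compatible (`ℕ`-indexed) projective resolutions of a short exact sequence,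
forming a degreewise short exact sequence of complexes. -/
theorem exists_resolutions (S : ShortComplex A) (hS : S.ShortExact) :
    ∃ (P₁ : ProjectiveResolution S.X₁) (P₂ : ProjectiveResolution S.X₂)
      (P₃ : ProjectiveResolution S.X₃)
      (a : P₁.complex ⟶ P₂.complex) (b : P₂.complex ⟶ P₃.complex) (w : a ≫ b = 0),
      a.f 0 ≫ P₂.π.f 0 = P₁.π.f 0 ≫ S.f ∧ b.f 0 ≫ P₃.π.f 0 = P₂.π.f 0 ≫ S.g ∧
      (ShortComplex.mk a b w).ShortExact := by
  have hS' : (S.map (HomologicalComplex.single A (ComplexShape.up ℤ) 0)).ShortExact :=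
    hS.map_of_exact _
  have i1 : CochainComplex.IsStrictlyLE (S.map (HomologicalComplex.single A (ComplexShape.up ℤ) 0)).X₁ 0 := by
    change ((CochainComplex.singleFunctor A 0).obj S.X₁).IsStrictlyLE 0
    infer_instance
  have i2 : CochainComplex.IsStrictlyLE (S.map (HomologicalComplex.single A (ComplexShape.up ℤ) 0)).X₂ 0 := by
    change ((CochainComplex.singleFunctor A 0).obj S.X₂).IsStrictlyLE 0
    infer_instance
  have i3 : CochainComplex.IsStrictlyLE (S.map (HomologicalComplex.single A (ComplexShape.up ℤ) 0)).X₃ 0 := by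
    change ((CochainComplex.singleFunctor A 0).obj S.X₃).IsStrictlyLE 0
    infer_instance
  obtain ⟨T, φ, hT, hT1, hT2, hT3, hproj, hq1, hq2, hq3⟩ :=
    Groth.Agent.S6610.result _ hS' 0
  let α₁ : T.X₁ ⟶ (CochainComplex.singleFunctor A 0).obj S.X₁ := φ.τ₁
  let α₂ : T.X₂ ⟶ (CochainComplex.singleFunctor A 0).obj S.X₂ := φ.τ₂
  let α₃ : T.X₃ ⟶ (CochainComplex.singleFunctor A 0).obj S.X₃ := φ.τ₃
  have q1 : QuasiIso α₁ := hq1
  have q2 : QuasiIso α₂ := hq2
  have q3 : QuasiIso α₃ := hq3
  refine ⟨resolution T.X₁ α₁ (fun n => (hproj n).1), resolution T.X₂ α₂ (fun n => (hproj n).2.1),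
    resolution T.X₃ α₃ (fun n => (hproj n).2.2), resMap T.f, resMap T.g, ?_, ?_, ?_, ?_⟩
  · dsimp only [resMap]
    rw [← Functor.map_comp, T.zero, Functor.map_zero]
  · change T.f.f 0 ≫ (πNat T.X₂ α₂).f 0 = (πNat T.X₁ α₁).f 0 ≫ S.f
    rw [πNat_f_zero, πNat_f_zero]
    dsimp only [aug]
    have h1 : T.f.f 0 ≫ α₂.f 0 =
        α₁.f 0 ≫ ((HomologicalComplex.single A (ComplexShape.up ℤ) 0).map S.f).f 0 := by
      have := congrArg (fun t => t.f 0) φ.comm₁₂
      exact this.symm
    rw [reassoc_of% h1, HomologicalComplex.single_map_f_self]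
    simp
  · change T.g.f 0 ≫ (πNat T.X₃ α₃).f 0 = (πNat T.X₂ α₂).f 0 ≫ S.g
    rw [πNat_f_zero, πNat_f_zero]
    dsimp only [aug]
    have h1 : T.g.f 0 ≫ α₃.f 0 =
        α₂.f 0 ≫ ((HomologicalComplex.single A (ComplexShape.up ℤ) 0).map S.g).f 0 := by
      have := congrArg (fun t => t.f 0) φ.comm₂₃
      exact this.symm
    rw [reassoc_of% h1, HomologicalComplex.single_map_f_self]
    simp
  · rw [HomologicalComplex.shortExact_iff_degreewise_shortExact] at hT ⊢
    intro n
    exact hT (-(n : ℤ))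

variable {B : Type u'} [Category.{v'} B] [Abelian B] (F : A ⥤ B) [F.Additive]

/-- The classical left derived functors are additive. -/
instance leftDerived_additive (n : ℕ) : (F.leftDerived n).Additive where
  map_add {X Y f g} := by
    let P := projectiveResolution X
    let Q := projectiveResolution Y
    have hφ := ProjectiveResolution.lift_commutes f P Q
    have hψ := ProjectiveResolution.lift_commutes g P Q
    have hs : (ProjectiveResolution.lift f P Q + ProjectiveResolution.lift g P Q) ≫ Q.π =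
        P.π ≫ (ChainComplex.single₀ A).map (f + g) := by
      rw [Preadditive.add_comp, hφ, hψ, Functor.map_add, Preadditive.comp_add]
    rw [F.leftDerived_map_eq n (f + g) _ hs, F.leftDerived_map_eq n f _ hφ,
      F.leftDerived_map_eq n g _ hψ]
    simp only [Functor.map_add, Preadditive.add_comp, Preadditive.comp_add]

lemma epi_homologyMap_zero {K L : ChainComplex B ℕ} (φ : K ⟶ L) [Epi (φ.f 0)] :
    Epi (HomologicalComplex.homologyMap φ 0) := by
  have h1 : Epi (HomologicalComplex.opcyclesMap φ 0) := by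
    have : Epi (K.pOpcycles 0 ≫ HomologicalComplex.opcyclesMap φ 0) := by
      rw [HomologicalComplex.p_opcyclesMap]
      infer_instance
    exact epi_of_epi (K.pOpcycles 0) _
  have hK := ChainComplex.isIso_homologyι₀ K
  have hL := ChainComplex.isIso_homologyι₀ L
  have h2 : HomologicalComplex.homologyMap φ 0 =
      K.homologyι 0 ≫ HomologicalComplex.opcyclesMap φ 0 ≫ inv (L.homologyι 0) := by
    rw [← HomologicalComplex.homologyι_naturality_assoc, IsIso.hom_inv_id, Category.comp_id]
  rw [h2]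
  infer_instance

set_option backward.isDefEq.respectTransparency false in
/-- The long exact sequence of left derived functors attached to a short exact sequence. -/
theorem exists_les (S : ShortComplex A) (hS : S.ShortExact) :
    Epi ((F.leftDerived 0).map S.g) ∧
    (∀ n : ℕ, (ShortComplex.mk ((F.leftDerived n).map S.f) ((F.leftDerived n).map S.g)
      (by rw [← Functor.map_comp, S.zero, Functor.map_zero])).Exact) ∧
    ∃ δ : ∀ n : ℕ, (F.leftDerived (n + 1)).obj S.X₃ ⟶ (F.leftDerived n).obj S.X₁,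
      ∀ n : ℕ, ∃ (w₁ : (F.leftDerived (n + 1)).map S.g ≫ δ n = 0)
        (w₂ : δ n ≫ (F.leftDerived n).map S.f = 0),
        (ShortComplex.mk _ _ w₁).Exact ∧ (ShortComplex.mk _ _ w₂).Exact := by
  obtain ⟨P₁, P₂, P₃, a, b, w, c1, c2, hab⟩ := exists_resolutions S hS
  let Φ := F.mapHomologicalComplex (ComplexShape.down ℕ)
  have hΦ : (ShortComplex.mk (Φ.map a) (Φ.map b)
      (by rw [← Φ.map_comp, w, Φ.map_zero])).ShortExact := by
    rw [HomologicalComplex.shortExact_iff_degreewise_shortExact] at hab ⊢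
    intro n
    have hn := hab n
    have : Projective ((ShortComplex.mk a b w).map
        (HomologicalComplex.eval A (ComplexShape.down ℕ) n)).X₃ := P₃.projective n
    exact (hn.splittingOfProjective.map F).shortExact
  have N₁ : ∀ n : ℕ, (F.leftDerived n).map S.f ≫ (P₂.isoLeftDerivedObj F n).hom =
      (P₁.isoLeftDerivedObj F n).hom ≫ HomologicalComplex.homologyMap (Φ.map a) n := fun n =>
    ProjectiveResolution.isoLeftDerivedObj_hom_naturality S.f P₁ P₂ a c1 F n
  have N₂ : ∀ n : ℕ, (F.leftDerived n).map S.g ≫ (P₃.isoLeftDerivedObj F n).hom =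
      (P₂.isoLeftDerivedObj F n).hom ≫ HomologicalComplex.homologyMap (Φ.map b) n := fun n =>
    ProjectiveResolution.isoLeftDerivedObj_hom_naturality S.g P₂ P₃ b c2 F n
  refine ⟨?_, ?_, ?_⟩
  · have hm : Epi ((Φ.map b).f 0) := by
      have := (hΦ.epi_g)
      have h' : Epi ((HomologicalComplex.eval B (ComplexShape.down ℕ) 0).map (Φ.map b)) :=
        inferInstance
      exact h'
    have h0 := epi_homologyMap_zero (Φ.map b)
    have h1 : Epi ((F.leftDerived 0).map S.g ≫ (P₃.isoLeftDerivedObj F 0).hom) := by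
      rw [N₂ 0]
      infer_instance
    have h2 : (F.leftDerived 0).map S.g =
        ((F.leftDerived 0).map S.g ≫ (P₃.isoLeftDerivedObj F 0).hom) ≫
          (P₃.isoLeftDerivedObj F 0).inv := by
      rw [Category.assoc, Iso.hom_inv_id, Category.comp_id]
    rw [h2]
    infer_instance
  · intro n
    refine (ShortComplex.exact_iff_of_iso (ShortComplex.isoMk (P₁.isoLeftDerivedObj F n)
      (P₂.isoLeftDerivedObj F n) (P₃.isoLeftDerivedObj F n) (N₁ n).symm (N₂ n).symm)).2
      (hΦ.homology_exact₂ n)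
  · refine ⟨fun n => (P₃.isoLeftDerivedObj F (n + 1)).hom ≫ hΦ.δ (n + 1) n rfl ≫
      (P₁.isoLeftDerivedObj F n).inv, fun n => ?_⟩
    have e3 := hΦ.homology_exact₃ (n + 1) n rfl
    have e1 := hΦ.homology_exact₁ (n + 1) n rfl
    have w₁ : (F.leftDerived (n + 1)).map S.g ≫ (P₃.isoLeftDerivedObj F (n + 1)).hom ≫
        hΦ.δ (n + 1) n rfl ≫ (P₁.isoLeftDerivedObj F n).inv = 0 := by
      rw [reassoc_of% (N₂ (n + 1))]
      have : HomologicalComplex.homologyMap (Φ.map b) (n + 1) ≫ hΦ.δ (n + 1) n rfl = 0 :=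
        hΦ.comp_δ (n + 1) n rfl
      rw [reassoc_of% this, zero_comp, comp_zero]
    have w₂ : ((P₃.isoLeftDerivedObj F (n + 1)).hom ≫ hΦ.δ (n + 1) n rfl ≫
        (P₁.isoLeftDerivedObj F n).inv) ≫ (F.leftDerived n).map S.f = 0 := by
      have h : (P₁.isoLeftDerivedObj F n).inv ≫ (F.leftDerived n).map S.f =
          HomologicalComplex.homologyMap (Φ.map a) n ≫
            (P₂.isoLeftDerivedObj F n).inv := by
        rw [Iso.inv_comp_eq, ← reassoc_of% (N₁ n), Iso.hom_inv_id, Category.comp_id]
      have : hΦ.δ (n + 1) n rfl ≫ HomologicalComplex.homologyMap (Φ.map a) n = 0 :=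
        hΦ.δ_comp (n + 1) n rfl
      simp only [Category.assoc]
      rw [h, reassoc_of% this, zero_comp, comp_zero]
    refine ⟨w₁, w₂, ?_, ?_⟩
    · refine (ShortComplex.exact_iff_of_iso (ShortComplex.isoMk (P₂.isoLeftDerivedObj F (n + 1))
        (P₃.isoLeftDerivedObj F (n + 1)) (P₁.isoLeftDerivedObj F n) (N₂ (n + 1)).symm ?_)).2 e3
      dsimp
      simp only [Category.assoc, Iso.inv_hom_id, Category.comp_id]
    · refine (ShortComplex.exact_iff_of_iso (ShortComplex.isoMk (P₃.isoLeftDerivedObj F (n + 1))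
        (P₁.isoLeftDerivedObj F n) (P₂.isoLeftDerivedObj F n) ?_
        (N₁ n).symm)).2 e1
      dsimp
      simp only [Category.assoc, Iso.inv_hom_id, Category.comp_id]

end Groth.Agent.H72.LDLes
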