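import Mathlib

/-!
Relative lengths of lattices in a vector space over the fraction field of a one-dimensional
Noetherian domain.
-/

namespace Groth.Agent.H72.LatticeLength

universe u

variable {A : Type u} [CommRing A] {V : Type u} [AddCommGroup V] [Module A V]

/-- The relative length `length (P / (N ∩ P))`. -/
noncomputable def rl (P N : Submodule A V) : ℕ∞ := Module.length A (↥P ⧸ N.submoduleOf P)

theorem rl_add {N P Q : Submodule A V} (hNP : N ≤ P) (hPQ : P ≤ Q) :
    rl Q N = rl P N + rl Q P := by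
  let f : (↥P ⧸ N.submoduleOf P) →ₗ[A] (↥Q ⧸ N.submoduleOf Q) :=
    Submodule.mapQ _ _ (Submodule.inclusion hPQ) (fun x hx => hx)
  let g : (↥Q ⧸ N.submoduleOf Q) →ₗ[A] (↥Q ⧸ P.submoduleOf Q) :=
    Submodule.mapQ _ _ LinearMap.id (fun x hx => hNP hx)
  have hf : Function.Injective f := by
    rw [injective_iff_map_eq_zero]
    intro x hx
    obtain ⟨x, rfl⟩ := Submodule.mkQ_surjective _ x
    rw [Submodule.mkQ_apply] at hx ⊢
    rw [Submodule.mapQ_apply, Submodule.Quotient.mk_eq_zero] at hx
    rw [Submodule.Quotient.mk_eq_zero]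
    exact hx
  have hg : Function.Surjective g := by
    intro y
    obtain ⟨y, rfl⟩ := Submodule.mkQ_surjective _ y
    exact ⟨Submodule.Quotient.mk y, rfl⟩
  have hfg : Function.Exact f g := by
    intro y
    obtain ⟨y, rfl⟩ := Submodule.mkQ_surjective _ y
    rw [Submodule.mkQ_apply, Submodule.mapQ_apply, Submodule.Quotient.mk_eq_zero]
    constructor
    · intro hy
      have hyP : (y : V) ∈ P := hy
      exact ⟨Submodule.Quotient.mk ⟨(y : V), hyP⟩, rfl⟩
    · rintro ⟨x, hx⟩
      obtain ⟨x, rfl⟩ := Submodule.mkQ_surjective _ x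
      rw [Submodule.mkQ_apply, Submodule.mapQ_apply, Submodule.Quotient.eq] at hx
      have h1 : ((Submodule.inclusion hPQ x - y : ↥Q) : V) ∈ N := hx
      have h2 : (y : V) = (x : V) - ((Submodule.inclusion hPQ x - y : ↥Q) : V) := by
        simp
      change (y : V) ∈ P
      rw [h2]
      exact P.sub_mem x.2 (hNP h1)
  exact Module.length_eq_add_of_exact f g hf hg hfg

section Finite

variable [IsDomain A] (K : Type u) [Field K] [Algebra A K] [IsFractionRing A K]
  [Module K V] [IsScalarTower A K V]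

include K in
/-- Clearing denominators: a lattice absorbs a nonzero multiple of any vector. -/
theorem exists_smul_mem {N : Submodule A V} (hN : Submodule.span K (N : Set V) = ⊤) (v : V) :
    ∃ s : A, s ≠ 0 ∧ s • v ∈ N := by
  have hv : v ∈ Submodule.span K (N : Set V) := by rw [hN]; trivial
  induction hv using Submodule.span_induction with
  | mem x hx => exact ⟨1, one_ne_zero, by simpa using hx⟩
  | zero => exact ⟨1, one_ne_zero, by simp⟩
  | add x y _ _ hx hy =>
    obtain ⟨s, hs, hsx⟩ := hx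
    obtain ⟨t, ht, hty⟩ := hy
    refine ⟨s * t, mul_ne_zero hs ht, ?_⟩
    rw [smul_add]
    refine N.add_mem ?_ ?_
    · rw [mul_comm, mul_smul]; exact N.smul_mem t hsx
    · rw [mul_smul]; exact N.smul_mem s hty
  | smul k x _ hx =>
    obtain ⟨s, hs, hsx⟩ := hx
    obtain ⟨⟨a, d⟩, hd⟩ := IsLocalization.surj (nonZeroDivisors A) k
    refine ⟨d * s, mul_ne_zero (nonZeroDivisors.ne_zero d.2) hs, ?_⟩
    have h1 : ((d : A) * s) • (k • x) = a • (s • x) := by
      rw [← algebraMap_smul K ((d : A) * s), ← algebraMap_smul K a, ← algebraMap_smul K s,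
        smul_smul, smul_smul, map_mul]
      congr 1
      simp only at hd
      rw [← hd]
      ring
    rw [h1]
    exact N.smul_mem a hsx

include K in
theorem exists_smul_le {N P : Submodule A V} (hN : Submodule.span K (N : Set V) = ⊤)
    (hP : P.FG) : ∃ a : A, a ≠ 0 ∧ ∀ x ∈ P, a • x ∈ N := by
  classical
  obtain ⟨S, rfl⟩ := hP
  induction S using Finset.induction_on with
  | empty =>
    refine ⟨1, one_ne_zero, fun x hx => ?_⟩
    simp only [Finset.coe_empty, Submodule.span_empty, Submodule.mem_bot] at hx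
    rw [hx, smul_zero]; exact N.zero_mem
  | insert g S _ ih =>
    obtain ⟨a, ha, haS⟩ := ih
    obtain ⟨s, hs, hsg⟩ := exists_smul_mem K hN g
    refine ⟨s * a, mul_ne_zero hs ha, fun x hx => ?_⟩
    rw [Finset.coe_insert, Submodule.mem_span_insert] at hx
    obtain ⟨c, y, hy, rfl⟩ := hx
    rw [smul_add]
    refine N.add_mem ?_ ?_
    · rw [smul_smul, mul_comm (s * a) c, mul_comm s a, ← mul_assoc, mul_smul]
      exact N.smul_mem _ hsg
    · rw [mul_smul]
      exact N.smul_mem s (haS y hy)

include K in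
theorem rl_lt_top [IsNoetherianRing A] [Ring.KrullDimLE 1 A] {N P : Submodule A V}
    (hN : Submodule.span K (N : Set V) = ⊤) (hP : P.FG) : rl P N < ⊤ := by
  obtain ⟨a, ha, haP⟩ := exists_smul_le K hN hP
  rw [lt_top_iff_ne_top, rl, Module.length_ne_top_iff]
  have hfinP : Module.Finite A ↥P := Module.Finite.iff_fg.mpr hP
  have htors : Module.IsTorsionBy A (↥P ⧸ N.submoduleOf P) a := by
    intro x
    obtain ⟨x, rfl⟩ := Submodule.mkQ_surjective _ x
    rw [Submodule.mkQ_apply, ← Submodule.Quotient.mk_smul, Submodule.Quotient.mk_eq_zero]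
    exact haP x x.2
  rw [isFiniteLength_iff_isNoetherian_isArtinian]
  refine ⟨inferInstance, ?_⟩
  have hart : IsArtinianRing (A ⧸ Ideal.span {a}) := by
    have h1 := isFiniteLength_quotient_span_singleton A (mem_nonZeroDivisors_of_ne_zero ha)
    rw [isFiniteLength_iff_isNoetherian_isArtinian] at h1
    have h2 : IsArtinian A (A ⧸ Ideal.span {a}) := h1.2
    exact isArtinian_of_tower A h2
  let _ := htors.module
  have hst : IsScalarTower A (A ⧸ Ideal.span {a}) (↥P ⧸ N.submoduleOf P) :=
    Module.IsTorsionBySet.isScalarTower _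
  have hfin : Module.Finite (A ⧸ Ideal.span {a}) (↥P ⧸ N.submoduleOf P) :=
    Module.Finite.of_restrictScalars_finite A _ _
  have : IsArtinian (A ⧸ Ideal.span {a}) (↥P ⧸ N.submoduleOf P) := inferInstance
  exact isArtinian_of_surjective_algebraMap (R := A ⧸ Ideal.span {a})
    Ideal.Quotient.mk_surjective

include K in
theorem span_inf_eq_top {M M' : Submodule A V} (hM : Submodule.span K (M : Set V) = ⊤)
    (hM' : Submodule.span K (M' : Set V) = ⊤) :
    Submodule.span K ((M ⊓ M' : Submodule A V) : Set V) = ⊤ := by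
  rw [eq_top_iff]
  intro v _
  obtain ⟨s, hs, hsv⟩ := exists_smul_mem K hM v
  obtain ⟨t, ht, htv⟩ := exists_smul_mem K hM' v
  have hmem : (s * t) • v ∈ M ⊓ M' := by
    refine ⟨?_, ?_⟩
    · rw [mul_comm, mul_smul]; exact M.smul_mem t hsv
    · rw [mul_smul]; exact M'.smul_mem s htv
  have hne : algebraMap A K (s * t) ≠ 0 := by
    rw [Ne, map_eq_zero_iff _ (IsFractionRing.injective A K)]
    exact mul_ne_zero hs ht
  have hv : v = (algebraMap A K (s * t))⁻¹ • ((s * t) • v) := by
    rw [← algebraMap_smul K (s * t) v, smul_smul, inv_mul_cancel₀ hne, one_smul]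
  rw [hv]
  exact Submodule.smul_mem _ _ (Submodule.subset_span hmem)

omit [IsDomain A] in
theorem fg_of_le_of_fg [IsNoetherianRing A] {M N : Submodule A V} (hM : M.FG) (h : N ≤ M) :
    N.FG := by
  have : Module.Finite A ↥M := Module.Finite.iff_fg.mpr hM
  have : IsNoetherian A ↥N := isNoetherian_of_le h
  rw [← Module.Finite.iff_fg]
  infer_instance

include K in
/-- The distance `length (M/(M ∩ M')) - length (M'/(M ∩ M'))` computed through any common
sublattice. -/
theorem dist_eq [IsNoetherianRing A] [Ring.KrullDimLE 1 A] {M M' N₀ : Submodule A V}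
    (hM : Submodule.span K (M : Set V) = ⊤) (hM' : Submodule.span K (M' : Set V) = ⊤)
    (hMfg : M.FG) (hM'fg : M'.FG)
    (hN₀ : Submodule.span K (N₀ : Set V) = ⊤) (h1 : N₀ ≤ M) (h2 : N₀ ≤ M') :
    ((rl M (M ⊓ M')).toNat : ℤ) - ((rl M' (M ⊓ M')).toNat : ℤ) =
      ((rl M N₀).toNat : ℤ) - ((rl M' N₀).toNat : ℤ) := by
  have hle : N₀ ≤ M ⊓ M' := le_inf h1 h2
  have hI := span_inf_eq_top K hM hM'
  have hIfg : (M ⊓ M').FG := fg_of_le_of_fg hMfg inf_le_left
  have e1 := rl_add hle (inf_le_left : M ⊓ M' ≤ M)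
  have e2 := rl_add hle (inf_le_right : M ⊓ M' ≤ M')
  have f0 := rl_lt_top K hN₀ hIfg
  have f1 := rl_lt_top K hI hMfg
  have f2 := rl_lt_top K hI hM'fg
  rw [e1, e2, ENat.toNat_add f0.ne f1.ne, ENat.toNat_add f0.ne f2.ne]
  push_cast
  ring

end Finite

end Groth.Agent.H72.LatticeLength
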