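import Mathlib
import Groth.Agent.H72.ProjDim
import Groth.Agent.H72.LeftDerivedVanish

/-!
Left derived functors at the cokernel of a monomorphism between projectives.
-/

namespace Groth.Agent.H72

open CategoryTheory Limits

universe v u v' u'

variable {C : Type u} [Category.{v} C] [Abelian C]
  {D : Type u'} [Category.{v'} D] [Abelian D]

/-- The two-term resolution of `S.X₃` given by a short exact sequence of projectives. -/
noncomputable def resolutionOfSES {S : ShortComplex C} (hS : S.ShortExact) [Projective S.X₁]
    [Projective S.X₂] : ProjectiveResolution S.X₃ :=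
  spliceAux hS ((ChainComplex.single₀ C).obj S.X₁)
    (fun n => by
      cases n with
      | zero => exact inferInstanceAs (Projective S.X₁)
      | succ n => exact (isZero_zero C).projective)
    (HomologicalComplex.singleObjXSelf (ComplexShape.down ℕ) 0 S.X₁).hom
    (by
      have : ((ChainComplex.single₀ C).obj S.X₁).d 1 0 = 0 := rfl
      rw [this, zero_comp])
    (by
      refine (ShortComplex.exact_iff_mono _ ?_).2 ?_
      · rfl
      · dsimp
        infer_instance)
    (by infer_instance)
    (fun n => ShortComplex.exact_of_isZero_X₂ _ (isZero_zero C))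

theorem resolutionOfSES_X_succ_succ {S : ShortComplex C} (hS : S.ShortExact) [Projective S.X₁]
    [Projective S.X₂] (i : ℕ) : IsZero ((resolutionOfSES hS).complex.X (i + 2)) := by
  change IsZero (((ChainComplex.single₀ C).obj S.X₁).X (i + 1))
  apply HomologicalComplex.isZero_single_obj_X
  simp

variable [HasProjectiveResolutions C]

/-- Higher left derived functors vanish on the cokernel of a mono of projectives which
stays mono after applying the functor. -/
theorem isZero_leftDerived_of_shortExact_projective (F : C ⥤ D) [F.Additive]
    {S : ShortComplex C} (hS : S.ShortExact) [Projective S.X₁] [Projective S.X₂]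
    (hmono : Mono (F.map S.f)) (i : ℕ) (hi : 1 ≤ i) :
    IsZero ((F.leftDerived i).obj S.X₃) := by
  obtain ⟨j, rfl⟩ : ∃ j, i = j + 1 := ⟨i - 1, by omega⟩
  cases j with
  | succ j =>
    exact isZero_leftDerived_of_resolution F (resolutionOfSES hS) (j + 2)
      (resolutionOfSES_X_succ_succ hS j)
  | zero =>
    refine IsZero.of_iso ?_ ((resolutionOfSES hS).isoLeftDerivedObj F 1)
    erw [← HomologicalComplex.exactAt_iff_isZero_homology]
    rw [HomologicalComplex.exactAt_iff' _ 2 1 0 (by simp) (by simp)]
    refine (ShortComplex.exact_iff_mono _ ?_).2 ?_
    · apply (F.map_isZero (resolutionOfSES_X_succ_succ hS 0)).eq_of_src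
    · have h2 : Mono (F.map
          ((HomologicalComplex.singleObjXSelf (ComplexShape.down ℕ) 0 S.X₁).hom ≫ S.f)) := by
        rw [F.map_comp]
        infer_instance
      exact h2

end Groth.Agent.H72
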