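import Mathlib

set_option autoImplicit false
universe v u
open CategoryTheory CategoryTheory.Limits

namespace Groth.Agent.H72.MLDiv

variable {V : Type u} [Category.{v} V] [Abelian V] {B : V}

theorem smul_id_comp {X Y : V} (k : ℕ) (f : X ⟶ Y) : (k • 𝟙 X) ≫ f = k • f := by
  rw [Preadditive.nsmul_comp, Category.id_comp]

theorem comp_smul_id {X Y : V} (k : ℕ) (f : X ⟶ Y) : f ≫ (k • 𝟙 Y) = k • f := by
  rw [Preadditive.comp_nsmul, Category.comp_id]

theorem smul_id_cokernel_eq_zero_of_dvd (B' : Subobject B) (M k : ℕ)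
    (hM : M • 𝟙 (cokernel B'.arrow) = 0) (hk : M ∣ k) : k • 𝟙 (cokernel B'.arrow) = 0 := by
  obtain ⟨t, rfl⟩ := hk
  rw [mul_comm, mul_smul, hM, smul_zero]

/-- a divisible subobject lies in any subobject whose cokernel is killed by a positive integer. -/
theorem le_of_divisible (B' D : Subobject B) (M : ℕ) (hM : M • 𝟙 (cokernel B'.arrow) = 0)
    (hD : Epi (M • 𝟙 (D : V))) : D ≤ B' := by
  have h0 : D.arrow ≫ cokernel.π B'.arrow = 0 := by
    rw [← cancel_epi (M • 𝟙 (D : V)), comp_zero, smul_id_comp, ← comp_smul_id, Category.assoc, hM,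
      comp_zero, comp_zero]
  exact Subobject.le_of_comm (Abelian.monoLift B'.arrow D.arrow h0)
    (Abelian.monoLift_comp B'.arrow D.arrow h0)

theorem image_smul_le (B' : Subobject B) (M k : ℕ) (hM : M • 𝟙 (cokernel B'.arrow) = 0)
    (hk : M ∣ k) : imageSubobject (k • 𝟙 B) ≤ B' := by
  have h0 : (k • 𝟙 B) ≫ cokernel.π B'.arrow = 0 := by
    rw [smul_id_comp, ← comp_smul_id, smul_id_cokernel_eq_zero_of_dvd B' M k hM hk, comp_zero]
  exact imageSubobject_le _ (Abelian.monoLift B'.arrow _ h0) (Abelian.monoLift_comp B'.arrow _ h0)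

theorem le_image_smul (B' : Subobject B) (k : ℕ) (hk : Epi (k • 𝟙 (B' : V))) :
    B' ≤ imageSubobject (k • 𝟙 B) := by
  have hcomm : (k • 𝟙 (B' : V)) ≫ B'.arrow = B'.arrow ≫ (k • 𝟙 B) := by
    rw [smul_id_comp, comp_smul_id]
  have hker : kernel.ι (k • 𝟙 (B' : V)) ≫ (B'.arrow ≫ factorThruImageSubobject (k • 𝟙 B)) = 0 := by
    rw [← cancel_mono (imageSubobject (k • 𝟙 B)).arrow, zero_comp, Category.assoc, Category.assoc,
      imageSubobject_arrow_comp, ← hcomm, ← Category.assoc, kernel.condition, zero_comp]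
  refine Subobject.le_of_comm (Abelian.epiDesc (k • 𝟙 (B' : V)) _ hker) ?_
  rw [← cancel_epi (k • 𝟙 (B' : V)), ← Category.assoc, Abelian.comp_epiDesc, Category.assoc,
    imageSubobject_arrow_comp, hcomm]

theorem image_smul_eq (B' : Subobject B) (M k : ℕ) (hM : M • 𝟙 (cokernel B'.arrow) = 0)
    (hk : M ∣ k) (hkepi : Epi (k • 𝟙 (B' : V))) : imageSubobject (k • 𝟙 B) = B' :=
  le_antisymm (image_smul_le B' M k hM hk) (le_image_smul B' k hkepi)

/-- if the image of `(k*m) • 1` equals the image of `m • 1`, then `k` is epi on the image of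
`m • 1`. -/
theorem epi_smul_image (m k : ℕ)
    (h : imageSubobject ((k * m) • 𝟙 B) = imageSubobject (m • 𝟙 B)) :
    Epi (k • 𝟙 ((imageSubobject (m • 𝟙 B) : Subobject B) : V)) := by
  have h1 : factorThruImageSubobject (m • 𝟙 B) ≫
      (k • 𝟙 ((imageSubobject (m • 𝟙 B) : Subobject B) : V)) =
      factorThruImageSubobject ((k * m) • 𝟙 B) ≫ (Subobject.isoOfEq _ _ h).hom := by
    rw [← cancel_mono (imageSubobject (m • 𝟙 B)).arrow, Category.assoc, Category.assoc,
      Subobject.isoOfEq_hom, Subobject.ofLE_arrow, imageSubobject_arrow_comp, smul_id_comp,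
      Preadditive.comp_nsmul, imageSubobject_arrow_comp, mul_smul]
  have h2 : Epi (factorThruImageSubobject (m • 𝟙 B) ≫
      (k • 𝟙 ((imageSubobject (m • 𝟙 B) : Subobject B) : V))) := by
    rw [h1]
    infer_instance
  exact epi_of_epi (factorThruImageSubobject (m • 𝟙 B)) _

theorem smul_cokernel_image (m : ℕ) :
    m • 𝟙 (cokernel (imageSubobject (m • 𝟙 B)).arrow) = 0 := by
  have h : (m • 𝟙 B) ≫ cokernel.π (imageSubobject (m • 𝟙 B)).arrow = 0 := by
    rw [show (m • 𝟙 B) ≫ cokernel.π (imageSubobject (m • 𝟙 B)).arrow =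
      factorThruImageSubobject (m • 𝟙 B) ≫ ((imageSubobject (m • 𝟙 B)).arrow ≫
        cokernel.π (imageSubobject (m • 𝟙 B)).arrow) from by
          rw [← Category.assoc, imageSubobject_arrow_comp], cokernel.condition, comp_zero]
  rw [← cancel_epi (cokernel.π (imageSubobject (m • 𝟙 B)).arrow), comp_zero, comp_smul_id,
    ← smul_id_comp m (cokernel.π (imageSubobject (m • 𝟙 B)).arrow), h]

end Groth.Agent.H72.MLDiv
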