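import Mathlib

/-!
Helper lemmas on homogeneous forms in three variables and rational points of the plane.
-/

namespace Groth.Agent.H72

open MvPolynomial

universe u

variable {k : Type u} [Field k]

/-- The space of homogeneous forms of degree `d` in three variables has dimension `C(d+2, 2)`. -/
theorem finrank_homogeneousSubmodule_fin3 (d : ℕ) :
    Module.finrank k (homogeneousSubmodule (Fin 3) k d) = (d + 2).choose 2 := by
  classical
  rw [homogeneousSubmodule_eq_finsupp_supported]
  have hset : {e : Fin 3 →₀ ℕ | e.degree = d} =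
      ((Finset.univ : Finset (Fin 3)).finsuppAntidiag d : Set (Fin 3 →₀ ℕ)) := by
    ext e
    simp [Finsupp.degree_eq_sum]
  rw [hset]
  rw [LinearEquiv.finrank_eq (AddMonoidAlgebra.supportedEquivFinsupp _)]
  rw [Module.finrank_finsupp_self]
  rw [Fintype.card_of_subtype ((Finset.univ : Finset (Fin 3)).finsuppAntidiag d)
    (fun x => by simp), Finset.card_finsuppAntidiag_nat_eq_choose]
  simp only [Finset.card_univ, Fintype.card_fin]
  have : 3 + d - 1 = d + 2 := by omega
  rw [this, ← Nat.choose_symm_add]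

/-- The linear form attached to a linear functional on `k^3`. -/
noncomputable def linForm (f : (Fin 3 → k) →ₗ[k] k) : MvPolynomial (Fin 3) k :=
  ∑ i, C (f (Pi.single i 1)) * X i

theorem linForm_isHomogeneous (f : (Fin 3 → k) →ₗ[k] k) : (linForm f).IsHomogeneous 1 :=
  IsHomogeneous.sum _ _ _ fun i _ => isHomogeneous_C_mul_X _ i

theorem aeval_linForm (f : (Fin 3 → k) →ₗ[k] k) (v : Fin 3 → k) :
    aeval v (linForm f) = f v := by
  classical
  simp only [linForm, map_sum, map_mul, aeval_C, aeval_X, Algebra.algebraMap_self,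
    RingHom.id_apply]
  rw [LinearMap.pi_apply_eq_sum_univ f v]
  refine Finset.sum_congr rfl fun i _ => ?_
  rw [smul_eq_mul, mul_comm]
  congr 2
  ext j
  simp [Pi.single_apply, eq_comm]

end Groth.Agent.H72

namespace Groth.Agent.H72

open MvPolynomial

universe u

variable {k : Type u} [Field k]

/-- The space of forms of degree `d` vanishing on a finite set of vectors. -/
noncomputable def vanishingForms (d : ℕ) (Λ : Finset (Fin 3 → k)) :
    Submodule k (MvPolynomial (Fin 3) k) :=
  homogeneousSubmodule (Fin 3) k d ⊓ ⨅ v ∈ Λ, LinearMap.ker (aeval v).toLinearMap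

theorem mem_vanishingForms {d : ℕ} {Λ : Finset (Fin 3 → k)} {F : MvPolynomial (Fin 3) k} :
    F ∈ vanishingForms d Λ ↔ F.IsHomogeneous d ∧ ∀ v ∈ Λ, aeval v F = 0 := by
  simp [vanishingForms, Submodule.mem_iInf]

/-- A functional vanishing at `w` but not at `v`, for linearly independent `v`, `w`. -/
theorem exists_functional_sep {v w : Fin 3 → k} (hw0 : w ≠ 0)
    (h : LinearIndependent k ![v, w]) :
    ∃ f : (Fin 3 → k) →ₗ[k] k, f w = 0 ∧ f v ≠ 0 := by
  have h' : LinearIndependent k ![w, v] := LinearIndependent.pair_symm_iff.mp h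
  rw [LinearIndependent.pair_iff' hw0] at h'
  have hv : v ∉ Submodule.span k {w} := by
    intro hmem
    obtain ⟨a, ha⟩ := Submodule.mem_span_singleton.mp hmem
    exact h' a ha
  obtain ⟨f, hfv, hle⟩ := Submodule.exists_le_ker_of_notMem hv
  exact ⟨f, hle (Submodule.mem_span_singleton_self w), hfv⟩

/-- Product of linear forms over a finset. -/
theorem prod_linForm_isHomogeneous {ι : Type*} (s : Finset ι)
    (f : ι → ((Fin 3 → k) →ₗ[k] k)) :
    (∏ i ∈ s, linForm (f i)).IsHomogeneous s.card := by
  have := IsHomogeneous.prod s (fun i => linForm (f i)) (fun _ => 1)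
    (fun i _ => linForm_isHomogeneous (f i))
  simpa using this

theorem aeval_prod_linForm {ι : Type*} (s : Finset ι)
    (f : ι → ((Fin 3 → k) →ₗ[k] k)) (v : Fin 3 → k) :
    aeval v (∏ i ∈ s, linForm (f i)) = ∏ i ∈ s, f i v := by
  simp [map_prod, aeval_linForm]

/-- If each point of `Λ` is separated from the others by a form of degree `d`, the points of `Λ`
impose independent conditions on forms of degree `d`. -/
theorem finrank_vanishingForms_of_sep (d : ℕ) (Λ : Finset (Fin 3 → k))
    (hsep : ∀ v ∈ Λ, ∃ F : MvPolynomial (Fin 3) k, F.IsHomogeneous d ∧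
      (∀ w ∈ Λ, w ≠ v → aeval w F = 0) ∧ aeval v F ≠ 0) :
    Module.finrank k (vanishingForms d Λ) + Λ.card = (d + 2).choose 2 := by
  classical
  set H := homogeneousSubmodule (Fin 3) k d with hH
  have : Module.Finite k H := Module.Finite.iff_fg.mpr (homogeneousSubmodule_fg (Fin 3) k d)
  -- evaluation map
  let ev : H →ₗ[k] (Λ → k) :=
    LinearMap.pi fun v => (aeval (v : Fin 3 → k)).toLinearMap ∘ₗ H.subtype
  have hev : ∀ (F : H) (v : Λ), ev F v = aeval (v : Fin 3 → k) (F : MvPolynomial (Fin 3) k) :=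
    fun F v => rfl
  -- surjectivity
  have hsurj : Function.Surjective ev := by
    choose! G hGhom hGzero hGne using hsep
    intro g
    refine ⟨∑ v : Λ, (g v / aeval (v : Fin 3 → k) (G v)) • (⟨G v, hGhom v v.2⟩ : H), ?_⟩
    ext w
    rw [map_sum, Finset.sum_apply, Finset.sum_eq_single w]
    · rw [map_smul, Pi.smul_apply, hev, smul_eq_mul]
      exact div_mul_cancel₀ _ (hGne w w.2)
    · intro v _ hvw
      rw [map_smul, Pi.smul_apply, hev]
      have : aeval (w : Fin 3 → k) (G v) = 0 :=
        hGzero v v.2 w w.2 (fun h => hvw (Subtype.ext h.symm))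
      simp [this]
    · intro h; exact absurd (Finset.mem_univ w) h
  -- kernel
  have hker : LinearMap.ker ev = Submodule.comap H.subtype (vanishingForms d Λ) := by
    ext F
    simp only [LinearMap.mem_ker, Submodule.mem_comap, Submodule.subtype_apply,
      mem_vanishingForms]
    constructor
    · intro h
      refine ⟨F.2, fun v hv => ?_⟩
      have := congrFun h ⟨v, hv⟩
      simpa [hev] using this
    · intro h
      ext v
      simpa [hev] using h.2 v v.2
  have hle : vanishingForms d Λ ≤ H := inf_le_left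
  have e : LinearMap.ker ev ≃ₗ[k] vanishingForms d Λ :=
    (LinearEquiv.ofEq _ _ hker).trans (Submodule.comapSubtypeEquivOfLe hle)
  have h1 := LinearMap.finrank_range_add_finrank_ker ev
  rw [LinearMap.range_eq_top.mpr hsurj, finrank_top, e.finrank_eq,
    finrank_homogeneousSubmodule_fin3] at h1
  rw [Module.finrank_fintype_fun_eq_card, Fintype.card_coe] at h1
  omega

end Groth.Agent.H72

namespace Groth.Agent.H72

open MvPolynomial Matrix

universe u

variable {k : Type u} [Field k]

/-- The functional `x ↦ a ⬝ᵥ x`. -/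
noncomputable def dotL (a : Fin 3 → k) : (Fin 3 → k) →ₗ[k] k where
  toFun x := a ⬝ᵥ x
  map_add' := dotProduct_add a
  map_smul' c x := by simp [dotProduct_smul]

@[simp] theorem dotL_apply (a x : Fin 3 → k) : dotL a x = a ⬝ᵥ x := rfl

theorem dotL_ne_zero {a : Fin 3 → k} (ha : a ≠ 0) : dotL a ≠ 0 := by
  classical
  intro h
  apply ha
  ext i
  have := congrArg (fun f : (Fin 3 → k) →ₗ[k] k => f (Pi.single i 1)) h
  simpa using this

/-- If every form of degree `n - 1` vanishing on a non-collinear set `Λ` of `n ≥ 3` nonzero vectors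
also vanishes at `p`, then `p` is proportional to a member of `Λ`. -/
theorem exists_smul_eq_of_vanishing (n : ℕ) (hn : 3 ≤ n) (Λ : Finset (Fin 3 → k))
    (hcard : Λ.card = n) (h0 : ∀ v ∈ Λ, v ≠ 0)
    (hline : ¬ ∃ ℓ : (Fin 3 → k) →ₗ[k] k, ℓ ≠ 0 ∧ ∀ v ∈ Λ, ℓ v = 0)
    (p : Fin 3 → k)
    (hp : ∀ F ∈ vanishingForms (n - 1) Λ, aeval p F = 0) :
    ∃ v ∈ Λ, ∃ c : k, p = c • v := by
  classical
  by_contra hcon
  simp only [not_exists, not_and] at hcon
  have hind : ∀ v ∈ Λ, LinearIndependent k ![p, v] := by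
    intro v hv
    rw [LinearIndependent.pair_symm_iff, LinearIndependent.pair_iff' (h0 v hv)]
    intro a ha
    exact hcon v hv a ha.symm
  have hne : Λ.Nonempty := by
    rw [← Finset.card_pos]; omega
  obtain ⟨v1, hv1⟩ := hne
  have hc : p ⨯₃ v1 ≠ 0 := crossProduct_ne_zero_iff_linearIndependent.mpr (hind v1 hv1)
  have hex : ∃ v2 ∈ Λ, (p ⨯₃ v1) ⬝ᵥ v2 ≠ 0 := by
    by_contra hno
    simp only [not_exists, not_and, not_not] at hno
    exact hline ⟨dotL (p ⨯₃ v1), dotL_ne_zero hc, fun v hv => hno v hv⟩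
  obtain ⟨v2, hv2, hv2ne⟩ := hex
  have hv21 : v2 ≠ v1 := by
    rintro rfl
    exact hv2ne (by rw [dotProduct_comm]; exact dot_cross_self p v2)
  set g := dotL (v1 ⨯₃ v2) with hg
  have hg1 : g v1 = 0 := by
    rw [hg, dotL_apply, dotProduct_comm]; exact dot_self_cross v1 v2
  have hg2 : g v2 = 0 := by
    rw [hg, dotL_apply, dotProduct_comm]; exact dot_cross_self v1 v2
  have hgp : g p ≠ 0 := by
    rw [hg, dotL_apply, dotProduct_comm, triple_product_permutation, triple_product_permutation,
      dotProduct_comm]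
    exact hv2ne
  set s := (Λ.erase v1).erase v2 with hs
  have hsmem : ∀ w, w ∈ s ↔ w ≠ v2 ∧ w ≠ v1 ∧ w ∈ Λ := by
    intro w; simp [hs, Finset.mem_erase]
  have hexf : ∀ w ∈ s, ∃ f : (Fin 3 → k) →ₗ[k] k, f w = 0 ∧ f p ≠ 0 := by
    intro w hw
    have hwΛ : w ∈ Λ := ((hsmem w).mp hw).2.2
    exact exists_functional_sep (h0 w hwΛ) (hind w hwΛ)
  choose! f hfw hfp using hexf
  have hscard : s.card = n - 2 := by
    rw [hs, Finset.card_erase_of_mem (Finset.mem_erase.mpr ⟨hv21, hv2⟩),
      Finset.card_erase_of_mem hv1, hcard]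
    omega
  set F := linForm g * ∏ w ∈ s, linForm (f w) with hF
  have hFhom : F.IsHomogeneous (n - 1) := by
    have := (linForm_isHomogeneous g).mul (prod_linForm_isHomogeneous s f)
    rw [hscard] at this
    have h2 : 1 + (n - 2) = n - 1 := by omega
    rwa [h2] at this
  have hFmem : F ∈ vanishingForms (n - 1) Λ := by
    rw [mem_vanishingForms]
    refine ⟨hFhom, fun v hv => ?_⟩
    rw [hF, map_mul, aeval_linForm, aeval_prod_linForm]
    by_cases h1 : v = v1
    · rw [h1, hg1, zero_mul]
    by_cases h2 : v = v2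
    · rw [h2, hg2, zero_mul]
    have hvs : v ∈ s := (hsmem v).mpr ⟨h2, h1, hv⟩
    rw [Finset.prod_eq_zero (f := fun i => f i v) hvs (hfw v hvs), mul_zero]
  have := hp F hFmem
  rw [hF, map_mul, aeval_linForm, aeval_prod_linForm] at this
  rcases mul_eq_zero.mp this with h | h
  · exact hgp h
  · exact (Finset.prod_ne_zero_iff.mpr fun w hw => hfp w hw) h

end Groth.Agent.H72
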