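import Mathlib
import Groth.Prelude.Def_CAlg
import Groth.Agent.H34.HomLoc
import Groth.Agent.H34.Depth
import Groth.Agent.H15.Depth
import Groth.Agent.H72.DepthExt

set_option autoImplicit false
universe u

open RingTheory.Sequence Groth.Agent.H15 Pointwise

namespace Groth.Agent.H72.ReflexiveDepth

open Groth.Agent.H72.DepthExt

variable {A : Type u} [CommRing A] [IsNoetherianRing A] (I : Ideal A)

/-- An ideal of positive depth on two finite modules contains a common regular element. -/
theorem exists_common_regular (M N : Type u) [AddCommGroup M] [Module A M] [Module.Finite A M]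
    [AddCommGroup N] [Module A N] [Module.Finite A N]
    (hM : 1 ≤ LocCoh.idealDepth I M) (hN : 1 ≤ LocCoh.idealDepth I N) :
    ∃ x ∈ I, IsSMulRegular M x ∧ IsSMulRegular N x := by
  by_contra hcon
  push Not at hcon
  have hfin : (associatedPrimes A M ∪ associatedPrimes A N).Finite :=
    (associatedPrimes.finite A M).union (associatedPrimes.finite A N)
  have hsub : (I : Set A) ⊆ ⋃ P ∈ (associatedPrimes A M ∪ associatedPrimes A N), (P : Set A) := by
    intro x hx
    by_cases hxM : IsSMulRegular M x
    · have hxN := hcon x hx hxM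
      have : x ∈ ⋃ p ∈ associatedPrimes A N, (p : Set A) := by
        rw [biUnion_associatedPrimes_eq_compl_regular A N]
        exact hxN
      simp only [Set.mem_iUnion] at this ⊢
      obtain ⟨P, hP, hxP⟩ := this
      exact ⟨P, Or.inr hP, hxP⟩
    · have : x ∈ ⋃ p ∈ associatedPrimes A M, (p : Set A) := by
        rw [biUnion_associatedPrimes_eq_compl_regular A M]
        exact hxM
      simp only [Set.mem_iUnion] at this ⊢
      obtain ⟨P, hP, hxP⟩ := this
      exact ⟨P, Or.inl hP, hxP⟩
  have hzero : ∃ P ∈ (associatedPrimes A M ∪ associatedPrimes A N), True := by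
    have := hsub I.zero_mem
    simp only [Set.mem_iUnion] at this
    obtain ⟨P, hP, -⟩ := this
    exact ⟨P, hP, trivial⟩
  obtain ⟨P₀, hP₀, -⟩ := hzero
  obtain ⟨P, hP, hIP⟩ := (Ideal.subset_union_prime_finite hfin P₀ P₀ (by
    intro Q hQ _ _
    rcases hQ with hQ | hQ
    · exact IsAssociatedPrime.isPrime hQ
    · exact IsAssociatedPrime.isPrime hQ)).mp hsub
  rcases hP with hP | hP
  · obtain ⟨hprime, m, hm⟩ := isAssociatedPrime_iff.mp (AssociatedPrimes.mem_iff.mp hP)
    have hm0 : m = 0 := eq_zero_of_forall_smul_eq_zero I M hM m (by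
      intro a ha
      have := hIP ha
      rw [hm] at this
      simpa [Submodule.mem_colon_singleton] using this)
    apply hprime.ne_top
    rw [hm, hm0, eq_top_iff]
    intro r _
    simp [Submodule.mem_colon_singleton]
  · obtain ⟨hprime, m, hm⟩ := isAssociatedPrime_iff.mp (AssociatedPrimes.mem_iff.mp hP)
    have hm0 : m = 0 := eq_zero_of_forall_smul_eq_zero I N hN m (by
      intro a ha
      have := hIP ha
      rw [hm] at this
      simpa [Submodule.mem_colon_singleton] using this)
    apply hprime.ne_top
    rw [hm, hm0, eq_top_iff]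
    intro r _
    simp [Submodule.mem_colon_singleton]

/-- Key lemma: with `depth_I A ≥ 1`, `depth_I G ≥ 2` and `G → G**` injective, an element of the
double dual that `I` multiplies into `G` already lies in `G`. -/
theorem mem_range_eval_of_depth (G : Type u) [AddCommGroup G] [Module A G] [Module.Finite A G]
    (hA : 1 ≤ LocCoh.idealDepth I A) (hG : 2 ≤ LocCoh.idealDepth I G)
    (hinj : Function.Injective (Module.Dual.eval A G))
    (y : Module.Dual A (Module.Dual A G))
    (hy : ∀ a ∈ I, a • y ∈ LinearMap.range (Module.Dual.eval A G)) :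
    y ∈ LinearMap.range (Module.Dual.eval A G) := by
  obtain ⟨x, hxI, hxA, hxG⟩ := exists_common_regular I A G hA (le_trans (by norm_num) hG)
  have h1 : ((1 : ℕ) : ℕ∞) ≤ LocCoh.idealDepth I (QuotSMulTop x G) :=
    le_idealDepth_quotSMulTop I G x hxI hxG 1 (by simpa using hG)
  obtain ⟨g, hg⟩ := hy x hxI
  have hg0 : (Submodule.Quotient.mk g : QuotSMulTop x G) = 0 := by
    apply eq_zero_of_forall_smul_eq_zero I (QuotSMulTop x G) (by simpa using h1)
    intro a ha
    obtain ⟨ga, hga⟩ := hy a ha
    have h2 : x • ga = a • g := by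
      apply hinj
      rw [map_smul, map_smul, hga, hg, smul_comm]
    rw [← Submodule.Quotient.mk_smul, Submodule.Quotient.mk_eq_zero, ← h2]
    exact Submodule.smul_mem_pointwise_smul ga x ⊤ Submodule.mem_top
  rw [Submodule.Quotient.mk_eq_zero, Groth.Agent.H34.mem_smul_top_iff] at hg0
  obtain ⟨g', hg'⟩ := hg0
  refine ⟨g', ?_⟩
  have hreg : IsSMulRegular (Module.Dual A (Module.Dual A G)) x :=
    Groth.Agent.H34.isSMulRegular_linearMap (Module.Dual A G) A x hxA
  apply hreg
  change x • Module.Dual.eval A G g' = x • y
  rw [← map_smul, hg', hg]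

open Groth.Agent.H34 in
/-- Reflexivity from depth two along `V(I)` and reflexivity off `V(I)`; no domain hypothesis. -/
theorem isReflexive_of_idealDepth (hA : 1 ≤ LocCoh.idealDepth I A)
    (G : Type u) [AddCommGroup G] [Module A G] [Module.Finite A G]
    (hU : ∀ p : PrimeSpectrum A, ¬ I ≤ p.asIdeal →
      Module.IsReflexive (Localization.AtPrime p.asIdeal) (LocalizedModule p.asIdeal.primeCompl G))
    (hG : 2 ≤ LocCoh.idealDepth I G) : Module.IsReflexive A G := by
  have : Module.FinitePresentation A G := Module.finitePresentation_of_finite A G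
  have : IsNoetherian A A := inferInstance
  have : IsNoetherian A (Module.Dual A G) := isNoetherian_linearMap A A G
  have : IsNoetherian A (Module.Dual A (Module.Dual A G)) := isNoetherian_linearMap A A _
  have : Module.FinitePresentation A (Module.Dual A G) := Module.finitePresentation_of_finite A _
  -- injectivity
  have hinj : Function.Injective (Module.Dual.eval A G) := by
    rw [← LinearMap.ker_eq_bot]
    by_contra hker
    have hnt : Nontrivial (LinearMap.ker (Module.Dual.eval A G)) :=
      (Submodule.nontrivial_iff_ne_bot).mpr hker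
    obtain ⟨P, hP⟩ := associatedPrimes.nonempty A (LinearMap.ker (Module.Dual.eval A G))
    rw [AssociatedPrimes.mem_iff, isAssociatedPrime_iff] at hP
    obtain ⟨hPp, k, hPk⟩ := hP
    have hmem : ∀ b : A, b ∈ P ↔ b • k.1 = 0 := by
      intro b
      rw [hPk, Submodule.mem_colon_singleton, Submodule.mem_bot]
      constructor
      · intro h; have := congrArg Subtype.val h; simpa using this
      · intro h; exact Subtype.ext (by simpa using h)
    have hk0 : k.1 ≠ 0 := by
      intro h
      apply hPp.ne_top
      rw [Ideal.eq_top_iff_one, hmem, h, smul_zero]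
    by_cases hIP : I ≤ P
    · apply hk0
      apply eq_zero_of_forall_smul_eq_zero I G (le_trans (by norm_num) hG)
      intro a ha
      exact (hmem a).mp (hIP ha)
    · have hrefl := hU ⟨P, hPp⟩ hIP
      let f := LocalizedModule.mkLinearMap P.primeCompl G
      have hdd := dualLoc_dualLoc_eval P.primeCompl (Localization.AtPrime P) f k.1
      have hk : Module.Dual.eval A G k.1 = 0 := k.2
      rw [hk, map_zero] at hdd
      have h0 : f k.1 = 0 := by
        apply (Module.bijective_dual_eval (Localization.AtPrime P)
          (LocalizedModule P.primeCompl G)).1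
        rw [← hdd, map_zero]
      rw [IsLocalizedModule.eq_zero_iff P.primeCompl f] at h0
      obtain ⟨t, ht⟩ := h0
      exact t.2 ((hmem t).mpr ht)
  constructor
  refine ⟨hinj, ?_⟩
  by_contra hsurj
  rw [← LinearMap.range_eq_top] at hsurj
  have hnt : Nontrivial (Module.Dual A (Module.Dual A G) ⧸ LinearMap.range (Module.Dual.eval A G)) :=
    Submodule.Quotient.nontrivial_iff.mpr hsurj
  obtain ⟨P, hP⟩ := associatedPrimes.nonempty A
    (Module.Dual A (Module.Dual A G) ⧸ LinearMap.range (Module.Dual.eval A G))
  rw [AssociatedPrimes.mem_iff, isAssociatedPrime_iff] at hP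
  obtain ⟨hPp, c, hPc⟩ := hP
  obtain ⟨y, rfl⟩ := Submodule.Quotient.mk_surjective _ c
  have hmem : ∀ b : A, b ∈ P ↔ b • y ∈ LinearMap.range (Module.Dual.eval A G) := by
    intro b
    rw [hPc, Submodule.mem_colon_singleton, Submodule.mem_bot, ← Submodule.Quotient.mk_smul,
      Submodule.Quotient.mk_eq_zero]
  by_cases hIP : I ≤ P
  · have hy := mem_range_eval_of_depth I G hA hG hinj y (fun a ha => (hmem a).mp (hIP ha))
    apply hPp.ne_top
    rw [Ideal.eq_top_iff_one, hmem, one_smul]
    exact hy
  · have hrefl := hU ⟨P, hPp⟩ hIP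
    -- localize at P
    let f := LocalizedModule.mkLinearMap P.primeCompl G
    let dd := dualLoc P.primeCompl (Localization.AtPrime P)
      (dualLoc P.primeCompl (Localization.AtPrime P) f)
    have hdd : ∀ m, dd (Module.Dual.eval A G m) =
        Module.Dual.eval (Localization.AtPrime P) (LocalizedModule P.primeCompl G) (f m) :=
      fun m => dualLoc_dualLoc_eval P.primeCompl (Localization.AtPrime P) f m
    have hyr : dd y ∈ LinearMap.range (Module.Dual.eval (Localization.AtPrime P)
          (LocalizedModule P.primeCompl G)) := by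
      rw [LinearMap.range_eq_top.mpr (Module.bijective_dual_eval _ _).2]
      exact Submodule.mem_top
    obtain ⟨m', hm'⟩ := hyr
    obtain ⟨⟨m, s⟩, rfl⟩ := IsLocalizedModule.mk'_surjective P.primeCompl f m'
    have hcancel : (s : A) • IsLocalizedModule.mk' f m s = f m := by
      rw [← Submonoid.smul_def]
      exact IsLocalizedModule.mk'_cancel' f m s
    have h1 : dd ((s : A) • y - Module.Dual.eval A G m) = 0 := by
      rw [map_sub, hdd, map_smul, ← hm', Function.uncurry_apply_pair,
        ← algebraMap_smul (Localization.AtPrime P) (s : A), ← map_smul, algebraMap_smul, hcancel,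
        sub_self]
    rw [IsLocalizedModule.eq_zero_iff P.primeCompl dd] at h1
    obtain ⟨t, ht⟩ := h1
    have h2 : ((t : A) * (s : A)) • y ∈ LinearMap.range (Module.Dual.eval A G) := by
      refine ⟨(t : A) • m, ?_⟩
      rw [smul_sub, sub_eq_zero] at ht
      rw [map_smul, mul_smul]
      exact ht.symm
    have h3 := (hmem _).mpr h2
    rcases hPp.mem_or_mem h3 with h4 | h4
    · exact t.2 h4
    · exact s.2 h4

end Groth.Agent.H72.ReflexiveDepth
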