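import Mathlib
import Groth.Agent.H72.LDLes
import Groth.Agent.H72.LDLinear

/-!
# `Tor_p(A/J, M) ≅ Hom(A/J, M)` for `J` generated by a regular sequence of length `p`
-/

set_option autoImplicit false
universe u

open CategoryTheory CategoryTheory.Limits MonoidalCategory

namespace Groth.Agent.H72.TorRegular

variable {A : Type u} [CommRing A]

/-- The short complex `A/J --x--> A/J --> A/(J + (x))`. -/
noncomputable abbrev ses (J : Ideal A) (x : A) : ShortComplex (ModuleCat.{u} A) :=
  ShortComplex.mk (X₁ := ModuleCat.of A (A ⧸ J)) (X₂ := ModuleCat.of A (A ⧸ J))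
    (X₃ := ModuleCat.of A (A ⧸ (J ⊔ Ideal.span {x})))
    (x • 𝟙 _)
    (ModuleCat.ofHom (Submodule.mapQ J (J ⊔ Ideal.span {x}) LinearMap.id le_sup_left))
    (by
      ext
      simp only [ModuleCat.hom_comp, ModuleCat.hom_smul, ModuleCat.hom_id, LinearMap.coe_comp,
        Function.comp_apply, LinearMap.smul_apply, LinearMap.id_coe, id_eq, ModuleCat.hom_ofHom,
        ModuleCat.hom_zero, LinearMap.zero_apply, Submodule.mkQ_apply]
      rw [← Submodule.Quotient.mk_smul, Submodule.mapQ_apply, Submodule.Quotient.mk_eq_zero]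
      refine Ideal.mem_sup_right ?_
      simp only [LinearMap.id_coe, id_eq, smul_eq_mul, mul_one]
      exact Ideal.mem_span_singleton_self x)

lemma ses_f_apply (J : Ideal A) (x : A) (y : A ⧸ J) : (ses J x).f.hom y = x • y := rfl

lemma ses_g_apply (J : Ideal A) (x : A) (a : A) :
    (ses J x).g.hom (Submodule.Quotient.mk a) = Submodule.Quotient.mk a := rfl

lemma exact_aux (J : Ideal A) (x : A) :
    Function.Exact (fun y : A ⧸ J => x • y)
      (Submodule.mapQ J (J ⊔ Ideal.span {x}) LinearMap.id le_sup_left) := by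
  intro y
  constructor
  · intro hy
    obtain ⟨a, rfl⟩ := Submodule.Quotient.mk_surjective _ y
    rw [Submodule.mapQ_apply, Submodule.Quotient.mk_eq_zero] at hy
    obtain ⟨j, hj, z, hz, hjz⟩ := Submodule.mem_sup.1 hy
    obtain ⟨b, rfl⟩ := Ideal.mem_span_singleton'.1 hz
    refine ⟨Submodule.Quotient.mk b, ?_⟩
    change x • Submodule.Quotient.mk b = Submodule.Quotient.mk a
    rw [← Submodule.Quotient.mk_smul, Submodule.Quotient.eq]
    have : x • b - a = -j := by
      simp only [LinearMap.id_coe, id_eq] at hjz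
      rw [smul_eq_mul, ← hjz]; ring
    rw [this]
    exact neg_mem hj
  · rintro ⟨z, rfl⟩
    obtain ⟨b, rfl⟩ := Submodule.Quotient.mk_surjective _ z
    change (Submodule.mapQ J (J ⊔ Ideal.span {x}) LinearMap.id le_sup_left)
      (x • Submodule.Quotient.mk b) = 0
    rw [← Submodule.Quotient.mk_smul, Submodule.mapQ_apply, Submodule.Quotient.mk_eq_zero]
    refine Ideal.mem_sup_right ?_
    simp only [LinearMap.id_coe, id_eq, smul_eq_mul]
    exact Ideal.mul_mem_right _ _ (Ideal.mem_span_singleton_self x)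

theorem ses_shortExact (J : Ideal A) (x : A) (hx : IsSMulRegular (A ⧸ J) x) :
    (ses J x).ShortExact := by
  have hmono : Mono (ses J x).f := by
    rw [ModuleCat.mono_iff_injective]
    exact hx
  have hepi : Epi (ses J x).g := by
    rw [ModuleCat.epi_iff_surjective]
    intro y
    obtain ⟨a, rfl⟩ := Submodule.Quotient.mk_surjective _ y
    exact ⟨Submodule.Quotient.mk a, rfl⟩
  refine ShortComplex.ShortExact.mk' ?_ hmono hepi
  rw [ShortComplex.ShortExact.moduleCat_exact_iff_function_exact]
  exact exact_aux J x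

variable (M : Type u) [AddCommGroup M] [Module A M]

/-- The functor `- ⊗ M`. -/
noncomputable abbrev F : ModuleCat.{u} A ⥤ ModuleCat.{u} A :=
  (tensoringRight (ModuleCat.{u} A)).obj (ModuleCat.of A M)

/-- `Tor_j(A/J, M) = 0` for `j > i` and `Tor_i(A/J, M) ≅ K`. -/
def P (J : Ideal A) (i : ℕ) (K : Submodule A M) : Prop :=
  (∀ j, i < j → IsZero (((F M).leftDerived j).obj (ModuleCat.of A (A ⧸ J)))) ∧
  Nonempty (↑(((F M).leftDerived i).obj (ModuleCat.of A (A ⧸ J))) ≃ₗ[A] K)

theorem P_step (J : Ideal A) (i : ℕ) (K : Submodule A M) (x : A)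
    (hx : IsSMulRegular (A ⧸ J) x) (h : P M J i K) :
    P M (J ⊔ Ideal.span {x}) (i + 1) (K ⊓ Submodule.torsionBy A M x) := by
  obtain ⟨hz, ⟨e⟩⟩ := h
  obtain ⟨-, hmid, δ, hδ⟩ := LDLes.exists_les (F M) (ses J x) (ses_shortExact J x hx)
  constructor
  · intro j hj
    obtain ⟨j', rfl⟩ : ∃ j', j = j' + 1 := ⟨j - 1, by omega⟩
    obtain ⟨w₁, w₂, e1, e2⟩ := hδ j'
    exact e1.isZero_of_both_zeros ((hz (j' + 1) (by omega)).eq_of_src _ _)
      ((hz j' (by omega)).eq_of_tgt _ _)
  · obtain ⟨w₁, w₂, e1, e2⟩ := hδ i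
    have hmono : Mono (δ i) := e1.mono_g ((hz (i + 1) (by omega)).eq_of_src _ _)
    have hinj : Function.Injective (δ i).hom := (ModuleCat.mono_iff_injective _).1 hmono
    have hlin : ((F M).leftDerived i).map (ses J x).f = x • 𝟙 _ :=
      LDLinear.leftDerived_map_smul_id (F M) i _ x
    have hex : Function.Exact (δ i).hom (((F M).leftDerived i).map (ses J x).f).hom :=
      (ShortComplex.ShortExact.moduleCat_exact_iff_function_exact _).1 e2
    let φ : ↑(((F M).leftDerived (i + 1)).obj (ModuleCat.of A (A ⧸ (J ⊔ Ideal.span {x})))) →ₗ[A] M :=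
      K.subtype ∘ₗ e.toLinearMap ∘ₗ (δ i).hom
    have hφinj : Function.Injective φ := by
      intro a b hab
      apply hinj
      apply e.injective
      exact Subtype.ext hab
    have hrange : LinearMap.range φ = K ⊓ Submodule.torsionBy A M x := by
      ext m
      constructor
      · rintro ⟨t, rfl⟩
        have key : ∀ u, (((F M).leftDerived i).map (ses J x).f).hom u = x • u := by
          intro u
          rw [hlin]
          rfl
        have h1 : x • (δ i).hom t = 0 := by
          rw [← key]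
          exact (hex _).2 ⟨t, rfl⟩
        have hφt : φ t = ((e ((δ i).hom t) : K) : M) := rfl
        generalize (δ i).hom t = u at h1 hφt
        rw [hφt]
        refine ⟨(e u).2, ?_⟩
        rw [SetLike.mem_coe, Submodule.mem_torsionBy_iff, ← Submodule.coe_smul, ← map_smul, h1,
          map_zero]
        rfl
      · rintro ⟨hmK, hmx⟩
        rw [SetLike.mem_coe, Submodule.mem_torsionBy_iff] at hmx
        have h1 : x • e.symm ⟨m, hmK⟩ = 0 := by
          rw [← map_smul]
          have : x • (⟨m, hmK⟩ : K) = 0 := Subtype.ext hmx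
          rw [this, map_zero]
        have h0 : (((F M).leftDerived i).map (ses J x).f).hom (e.symm ⟨m, hmK⟩) = 0 := by
          rw [hlin]
          exact h1
        obtain ⟨t, ht⟩ := (hex _).1 h0
        refine ⟨t, ?_⟩
        change ((e ((δ i).hom t) : K) : M) = m
        rw [ht, LinearEquiv.apply_symm_apply]
    exact ⟨(LinearEquiv.ofInjective φ hφinj).trans (LinearEquiv.ofEq _ _ hrange)⟩

theorem P_bot : P M (⊥ : Ideal A) 0 ⊤ := by
  have hproj : Projective (ModuleCat.of A (A ⧸ (⊥ : Ideal A))) := by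
    have : Module.Projective A (A ⧸ (⊥ : Ideal A)) :=
      Module.Projective.of_equiv (Submodule.quotEquivOfEqBot (⊥ : Ideal A) rfl).symm
    exact (IsProjective.iff_projective (R := A) (P := A ⧸ (⊥ : Ideal A))).1 this
  have hF : PreservesFiniteColimits (F M) :=
    preservesFiniteColimits_of_natIso
      (BraidedCategory.tensorLeftIsoTensorRight (ModuleCat.of A M))
  constructor
  · intro j hj
    obtain ⟨j', rfl⟩ : ∃ j', j = j' + 1 := ⟨j - 1, by omega⟩
    exact Functor.isZero_leftDerived_obj_projective_succ (F M) j' _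
  · let e1 : ↑(((F M).leftDerived 0).obj (ModuleCat.of A (A ⧸ (⊥ : Ideal A)))) ≃ₗ[A]
        TensorProduct A (A ⧸ (⊥ : Ideal A)) M :=
      ((F M).leftDerivedZeroIsoSelf.app (ModuleCat.of A (A ⧸ (⊥ : Ideal A)))).toLinearEquiv
    let e2 : TensorProduct A (A ⧸ (⊥ : Ideal A)) M ≃ₗ[A] M :=
      (TensorProduct.congr (Submodule.quotEquivOfEqBot (⊥ : Ideal A) rfl)
        (LinearEquiv.refl A M)).trans (TensorProduct.lid A M)
    exact ⟨(e1.trans e2).trans Submodule.topEquiv.symm⟩

/-- the elements of `M` killed by all members of the list. -/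
def Kl (xs : List A) : Submodule A M := Submodule.torsionBySet A M {a | a ∈ xs}

lemma mem_Kl (xs : List A) (m : M) : m ∈ Kl M xs ↔ ∀ a ∈ xs, a • m = 0 := by
  unfold Kl
  rw [Submodule.mem_torsionBySet_iff]
  constructor
  · intro h a ha
    exact h ⟨a, ha⟩
  · rintro h ⟨a, ha⟩
    exact h a ha

lemma Kl_nil : Kl M ([] : List A) = ⊤ := by
  ext m
  simp [mem_Kl]

lemma Kl_append_singleton (xs : List A) (x : A) :
    Kl M (xs ++ [x]) = Kl M xs ⊓ Submodule.torsionBy A M x := by
  ext m
  rw [Submodule.mem_inf, mem_Kl, mem_Kl, Submodule.mem_torsionBy_iff]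
  constructor
  · intro h
    exact ⟨fun a ha => h a (by simp [ha]), h x (by simp)⟩
  · rintro ⟨h1, h2⟩ a ha
    rcases List.mem_append.1 ha with ha | ha
    · exact h1 a ha
    · rw [List.mem_singleton] at ha
      rw [ha]
      exact h2

theorem P_ofList (xs : List A) (hreg : RingTheory.Sequence.IsWeaklyRegular A xs) :
    P M (Ideal.ofList xs) xs.length (Kl M xs) := by
  induction xs using List.reverseRecOn with
  | nil =>
    rw [Ideal.ofList_nil, Kl_nil]
    exact P_bot M
  | append_singleton xs x ih =>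
    rw [RingTheory.Sequence.isWeaklyRegular_append_iff] at hreg
    obtain ⟨h1, h2⟩ := hreg
    have hx : IsSMulRegular (A ⧸ (Ideal.ofList xs • ⊤ : Submodule A A)) x := by
      rw [RingTheory.Sequence.isWeaklyRegular_cons_iff] at h2
      exact h2.1
    have heq : (Ideal.ofList xs • ⊤ : Submodule A A) = Ideal.ofList xs := by
      rw [smul_eq_mul, Ideal.mul_top]
    have hx' : IsSMulRegular (A ⧸ Ideal.ofList xs) x :=
      ((Submodule.quotEquivOfEq _ _ heq).isSMulRegular_congr x).1 hx
    have := P_step M (Ideal.ofList xs) xs.length (Kl M xs) x hx' (ih h1)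
    rw [Ideal.ofList_append, Ideal.ofList_singleton, List.length_append, List.length_singleton,
      Kl_append_singleton]
    exact this

/-- `Hom(A/J, M)` is the submodule of `M` killed by the generators of `J`. -/
theorem nonempty_hom_equiv (xs : List A) :
    Nonempty (((A ⧸ Ideal.ofList xs) →ₗ[A] M) ≃ₗ[A] Kl M xs) := by
  let ψ : ((A ⧸ Ideal.ofList xs) →ₗ[A] M) →ₗ[A] M :=
    LinearMap.applyₗ (Submodule.Quotient.mk (1 : A) : A ⧸ Ideal.ofList xs)
  have hψ : ∀ f, ψ f = f (Submodule.Quotient.mk 1) := fun f => rfl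
  have hinj : Function.Injective ψ := by
    intro f g hfg
    apply LinearMap.ext
    intro y
    obtain ⟨a, rfl⟩ := Submodule.Quotient.mk_surjective _ y
    have ha : (Submodule.Quotient.mk a : A ⧸ Ideal.ofList xs) =
        a • (Submodule.Quotient.mk (1 : A) : A ⧸ Ideal.ofList xs) := by
      rw [← Submodule.Quotient.mk_smul, smul_eq_mul, mul_one]
    rw [ha, map_smul, map_smul, ← hψ, ← hψ, hfg]
  have hrange : LinearMap.range ψ = Kl M xs := by
    ext m
    rw [mem_Kl]
    constructor
    · rintro ⟨f, rfl⟩ a ha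
      rw [hψ, ← map_smul, ← Submodule.Quotient.mk_smul, smul_eq_mul, mul_one]
      have : (Submodule.Quotient.mk a : A ⧸ Ideal.ofList xs) = 0 := by
        rw [Submodule.Quotient.mk_eq_zero]
        exact Ideal.subset_span ha
      rw [this, map_zero]
    · intro h
      have hle : (Ideal.ofList xs : Submodule A A) ≤
          LinearMap.ker (LinearMap.toSpanSingleton A M m) := by
        change Ideal.span {r | r ∈ xs} ≤ _
        rw [Ideal.span, Submodule.span_le]
        intro a ha
        rw [SetLike.mem_coe, LinearMap.mem_ker, LinearMap.toSpanSingleton_apply]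
        exact h a ha
      refine ⟨Submodule.liftQ _ (LinearMap.toSpanSingleton A M m) hle, ?_⟩
      rw [hψ, Submodule.liftQ_apply, LinearMap.toSpanSingleton_apply, one_smul]
  exact ⟨(LinearEquiv.ofInjective ψ hinj).trans (LinearEquiv.ofEq _ _ hrange)⟩

end Groth.Agent.H72.TorRegular
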