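import Mathlib
import Groth.Prelude.Def_GrMap
import Groth.Agent.H82.GrEtale
import Groth.Agent.H57.CLoc

/-!
# Lemmas for the algebraization of versal formal objects (helper72)
-/

set_option autoImplicit false
set_option linter.unusedSectionVars false
set_option linter.style.haveILetI false
universe u

namespace Groth.Agent.H72.VersAlg

open IsLocalRing

/-- A surjective ring endomorphism of a Noetherian ring is injective. -/
theorem injective_of_surjective_ringEnd {S : Type*} [CommRing S] [IsNoetherianRing S]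
    (f : S →+* S) (hf : Function.Surjective f) : Function.Injective f := by
  let K : ℕ →o Ideal S :=
    { toFun := fun n => RingHom.ker (f ^ n)
      monotone' := by
        intro a b hab x hx
        obtain ⟨d, rfl⟩ := Nat.exists_eq_add_of_le hab
        rw [RingHom.mem_ker] at hx ⊢
        rw [add_comm, pow_add, RingHom.mul_def, RingHom.comp_apply, hx, map_zero] }
  obtain ⟨n, hn⟩ := monotone_stabilizes_iff_noetherian.mpr (inferInstance : IsNoetherian S S) K
  have hsn : Function.Surjective (f ^ n) := by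
    rw [RingHom.coe_pow]
    exact hf.iterate n
  rw [injective_iff_map_eq_zero]
  intro x hx
  obtain ⟨y, rfl⟩ := hsn x
  have h1 : y ∈ K (n + 1) := by
    change y ∈ RingHom.ker (f ^ (n + 1))
    rw [RingHom.mem_ker, pow_succ', RingHom.mul_def, RingHom.comp_apply, hx]
  rw [← hn (n + 1) (Nat.le_succ n)] at h1
  exact h1

section quot

variable {A : Type u} [CommRing A] (m : Ideal A) [m.IsMaximal]

theorem isLocalRing_quot_pow (n : ℕ) : IsLocalRing (A ⧸ m ^ (n + 1)) := by
  have hne : m ^ (n + 1) ≠ ⊤ := fun h =>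
    (Ideal.IsMaximal.ne_top ‹m.IsMaximal›) (top_le_iff.mp (h ▸ Ideal.pow_le_self (Nat.succ_ne_zero n)))
  haveI : Nontrivial (A ⧸ m ^ (n + 1)) := Ideal.Quotient.nontrivial_iff.mpr hne
  have hnil : ∀ μ ∈ m, IsNilpotent (Ideal.Quotient.mk (m ^ (n + 1)) μ) := by
    intro μ hμ
    refine ⟨n + 1, ?_⟩
    rw [← map_pow, Ideal.Quotient.eq_zero_iff_mem]
    exact Ideal.pow_mem_pow hμ _
  refine IsLocalRing.of_isUnit_or_isUnit_one_sub_self fun a => ?_
  obtain ⟨x, rfl⟩ := Ideal.Quotient.mk_surjective a
  by_cases hx : x ∈ m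
  · exact Or.inr (hnil x hx).isUnit_one_sub
  · left
    obtain ⟨y, μ, hμ, hsum⟩ := (Ideal.IsMaximal.exists_inv ‹m.IsMaximal› hx)
    -- y * x + μ = 1
    have h1 : Ideal.Quotient.mk (m ^ (n + 1)) y * Ideal.Quotient.mk (m ^ (n + 1)) x =
        1 - Ideal.Quotient.mk (m ^ (n + 1)) μ := by
      rw [← map_mul, ← map_one (Ideal.Quotient.mk (m ^ (n + 1))), ← map_sub]
      congr 1
      rw [← hsum]; ring
    have h2 : IsUnit (Ideal.Quotient.mk (m ^ (n + 1)) y * Ideal.Quotient.mk (m ^ (n + 1)) x) := by
      rw [h1]; exact (hnil μ hμ).isUnit_one_sub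
    exact isUnit_of_mul_isUnit_right h2

theorem maximalIdeal_quot_pow (n : ℕ) :
    haveI := isLocalRing_quot_pow m n
    maximalIdeal (A ⧸ m ^ (n + 1)) = m.map (Ideal.Quotient.mk (m ^ (n + 1))) := by
  haveI := isLocalRing_quot_pow m n
  have hmax : (m.map (Ideal.Quotient.mk (m ^ (n + 1)))).IsMaximal :=
    Ideal.IsMaximal.map_of_surjective_of_ker_le Ideal.Quotient.mk_surjective
      (by rw [Ideal.mk_ker]; exact Ideal.pow_le_self (Nat.succ_ne_zero n))
  exact (IsLocalRing.eq_maximalIdeal hmax).symm

theorem isArtinianRing_quot_pow [IsNoetherianRing A] (n : ℕ) :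
    IsArtinianRing (A ⧸ m ^ (n + 1)) := by
  haveI := isLocalRing_quot_pow m n
  rw [isArtinianRing_iff_isNilpotent_maximalIdeal, maximalIdeal_quot_pow]
  refine ⟨n + 1, ?_⟩
  rw [← Ideal.map_pow, Ideal.zero_eq_bot, Ideal.map_quotient_self]

variable {k : Type u} [Field k] [Algebra k A]

theorem residue_surjective_quot_pow
    (hm : Function.Surjective (fun c : k => Ideal.Quotient.mk m (algebraMap k A c))) (n : ℕ) :
    haveI := isLocalRing_quot_pow m n
    Function.Surjective (fun c : k => IsLocalRing.residue (A ⧸ m ^ (n + 1))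
      (algebraMap k (A ⧸ m ^ (n + 1)) c)) := by
  haveI := isLocalRing_quot_pow m n
  intro q
  obtain ⟨a, rfl⟩ := IsLocalRing.residue_surjective q
  obtain ⟨x, rfl⟩ := Ideal.Quotient.mk_surjective a
  obtain ⟨c, hc⟩ := hm (Ideal.Quotient.mk m x)
  refine ⟨c, ?_⟩
  change IsLocalRing.residue _ (Ideal.Quotient.mk _ (algebraMap k A c)) = _
  rw [← sub_eq_zero, ← map_sub, ← map_sub, IsLocalRing.residue_eq_zero_iff, maximalIdeal_quot_pow]
  refine Ideal.mem_map_of_mem _ ?_
  exact Ideal.Quotient.eq.mp hc

end quot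

section gr

variable {R : Type u} [CommRing R]

theorem isNoetherianRing_grRing [IsNoetherianRing R] (I : Ideal R) :
    IsNoetherianRing (AssocGr.GrRing (FiltBl.IdealFiltration.adic I)) := by
  haveI : IsNoetherianRing ↥(FiltBl.IdealFiltration.adic I).rees := by
    rw [Rees.adic_rees_eq]; infer_instance
  change IsNoetherianRing (↥(FiltBl.IdealFiltration.adic I).rees ⧸
    AssocGr.succIdeal (FiltBl.IdealFiltration.adic I))
  infer_instance

/-- A filtered ring map from a Hausdorff ring which is injective on associated graded rings is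
injective. -/
theorem injective_of_gr_injective {B : Type u} [CommRing B] (φ : R →+* B) (I : Ideal R)
    (J : Ideal B) (hIJ : I.map φ ≤ J) [IsHausdorff I R]
    (h : Function.Injective (AssocGr.map (AssocGr.IsFiltHom.adic hIJ))) :
    Function.Injective φ := by
  rw [injective_iff_map_eq_zero]
  intro r hr
  by_contra hne
  -- some `n` with `r ∈ I^n`, `r ∉ I^(n+1)`
  have hex : ∃ n, r ∈ I ^ n ∧ r ∉ I ^ (n + 1) := by
    by_contra hcon
    push Not at hcon
    have hall : ∀ n, r ∈ I ^ n := by
      intro n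
      induction n with
      | zero => simp
      | succ n ih => exact hcon n ih
    apply hne
    refine IsHausdorff.haus (inferInstance : IsHausdorff I R) r fun n => ?_
    rw [SModEq.zero, smul_eq_mul, Ideal.mul_top]
    exact hall n
  obtain ⟨n, hn1, hn2⟩ := hex
  have h1 : (AssocGr.inDeg (FiltBl.IdealFiltration.adic I) n ⟨r, hn1⟩ :
      AssocGr.GrRing (FiltBl.IdealFiltration.adic I)) ≠ 0 := by
    intro h0
    rw [Submodule.coe_eq_zero, AssocGr.inDeg_eq_zero_iff] at h0
    exact hn2 h0
  apply h1
  apply h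
  rw [map_zero, AssocGr.map_inDeg, Submodule.coe_eq_zero, AssocGr.inDeg_eq_zero_iff]
  change φ r ∈ _
  rw [hr]
  exact Ideal.zero_mem _

/-- The completion map induces a bijection on associated graded rings (finitely generated
ideal). -/
theorem gr_completion_bijective (I : Ideal R) (hI : I.FG) :
    Function.Bijective (AssocGr.map (AssocGr.IsFiltHom.adic
      (le_refl (I.map (algebraMap R (AdicCompletion I R)))))) := by
  refine Groth.Agent.H82.GrEtale.gr_bijective_of_keys
    (le_refl (I.map (algebraMap R (AdicCompletion I R)))) ?_ ?_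
  · intro n a ha
    rw [← Ideal.map_pow] at ha
    exact (Groth.Agent.H57.CLoc.algebraMap_mem_map_pow_iff I hI n a).mp ha
  · intro n x hx
    obtain ⟨a, ha⟩ := Groth.Agent.H57.CLoc.exists_sub_algebraMap_mem I hI (n + 1) x
    rw [Ideal.map_pow] at ha
    refine ⟨a, ?_, ha⟩
    have h1 : algebraMap R (AdicCompletion I R) a ∈
        (I.map (algebraMap R (AdicCompletion I R))) ^ n := by
      have := Ideal.sub_mem _ hx (Ideal.pow_le_pow_right (Nat.le_succ n) ha)
      rwa [sub_sub_cancel] at this
    rw [← Ideal.map_pow] at h1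
    exact (Groth.Agent.H57.CLoc.algebraMap_mem_map_pow_iff I hI n a).mp h1

end gr

end Groth.Agent.H72.VersAlg
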