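import Mathlib

/-!
# Elementary lemmas on adic filtrations (helper72)

* `key2_of_gen`: a filtered ring map `φ : (A, I) → (B, J)` which is surjective modulo `J` and such
  that `J = I B + J²` is surjective on each graded piece (approximation form).
* `isMaximal_of_resK`: an ideal of a `k`-algebra with residue ring `k` is maximal.
-/

set_option autoImplicit false
universe u

namespace Groth.Agent.H72.VersApx

section gen

variable {A B : Type*} [CommRing A] [CommRing B] (φ : A →+* B) (I : Ideal A) (J : Ideal B)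

theorem pow_le_map_pow_sup (hIJ : I.map φ ≤ J) (hJ : J ≤ I.map φ ⊔ J ^ 2) (n : ℕ) :
    J ^ n ≤ (I ^ n).map φ ⊔ J ^ (n + 1) := by
  induction n with
  | zero =>
    rw [pow_zero, pow_zero, Ideal.one_eq_top, Ideal.one_eq_top, Ideal.map_top]
    exact le_sup_left
  | succ n ih =>
    have hmapn : (I ^ n).map φ ≤ J ^ n := by
      rw [Ideal.map_pow]; exact Ideal.pow_right_mono hIJ n
    calc J ^ (n + 1) = J * J ^ n := pow_succ' J n
      _ ≤ (I.map φ ⊔ J ^ 2) * ((I ^ n).map φ ⊔ J ^ (n + 1)) := Ideal.mul_mono hJ ih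
      _ = (I.map φ * (I ^ n).map φ ⊔ I.map φ * J ^ (n + 1)) ⊔
            (J ^ 2 * (I ^ n).map φ ⊔ J ^ 2 * J ^ (n + 1)) := by
          rw [Ideal.sup_mul, Ideal.mul_sup, Ideal.mul_sup]
      _ ≤ (I ^ (n + 1)).map φ ⊔ J ^ (n + 1 + 1) := by
          refine sup_le (sup_le ?_ ?_) (sup_le ?_ ?_)
          · rw [← Ideal.map_mul, ← pow_succ']
            exact le_sup_left
          · refine le_trans ?_ le_sup_right
            calc I.map φ * J ^ (n + 1) ≤ J * J ^ (n + 1) := Ideal.mul_mono_left hIJ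
              _ = J ^ (n + 1 + 1) := (pow_succ' J (n + 1)).symm
          · refine le_trans ?_ le_sup_right
            calc J ^ 2 * (I ^ n).map φ ≤ J ^ 2 * J ^ n := Ideal.mul_mono_right hmapn
              _ = J ^ (n + 1 + 1) := by rw [← pow_add]; congr 1; omega
          · refine le_trans ?_ le_sup_right
            calc J ^ 2 * J ^ (n + 1) = J ^ (n + 1 + 1 + 1) := by rw [← pow_add]; congr 1; omega
              _ ≤ J ^ (n + 1 + 1) := Ideal.pow_le_pow_right (Nat.le_succ _)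

theorem exists_sub_mem_of_mem_map (hIJ : I.map φ ≤ J) (hres : ∀ b : B, ∃ a : A, b - φ a ∈ J)
    (n : ℕ) (y : B) (hy : y ∈ (I ^ n).map φ) : ∃ a, a ∈ I ^ n ∧ y - φ a ∈ J ^ (n + 1) := by
  have hmapn : (I ^ n).map φ ≤ J ^ n := by
    rw [Ideal.map_pow]; exact Ideal.pow_right_mono hIJ n
  refine Submodule.span_induction (p := fun y _ => ∃ a, a ∈ I ^ n ∧ y - φ a ∈ J ^ (n + 1))
    ?_ ?_ ?_ ?_ hy
  · rintro _ ⟨a, ha, rfl⟩
    exact ⟨a, ha, by rw [sub_self]; exact Ideal.zero_mem _⟩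
  · exact ⟨0, Ideal.zero_mem _, by rw [map_zero, sub_self]; exact Ideal.zero_mem _⟩
  · rintro y₁ y₂ _ _ ⟨a₁, ha₁, h₁⟩ ⟨a₂, ha₂, h₂⟩
    refine ⟨a₁ + a₂, Ideal.add_mem _ ha₁ ha₂, ?_⟩
    have : y₁ + y₂ - φ (a₁ + a₂) = (y₁ - φ a₁) + (y₂ - φ a₂) := by rw [map_add]; ring
    rw [this]; exact Ideal.add_mem _ h₁ h₂
  · rintro r y _ ⟨a, ha, h⟩
    obtain ⟨r', hr'⟩ := hres r
    refine ⟨r' * a, Ideal.mul_mem_left _ _ ha, ?_⟩
    have : r • y - φ (r' * a) = r * (y - φ a) + (r - φ r') * φ a := by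
      rw [map_mul, smul_eq_mul]; ring
    rw [this]
    refine Ideal.add_mem _ (Ideal.mul_mem_left _ _ h) ?_
    rw [pow_succ']
    exact Ideal.mul_mem_mul hr' (hmapn (Ideal.mem_map_of_mem _ ha))

/-- Degreewise surjectivity on associated graded rings, approximation form. -/
theorem key2_of_gen (hIJ : I.map φ ≤ J) (hJ : J ≤ I.map φ ⊔ J ^ 2)
    (hres : ∀ b : B, ∃ a : A, b - φ a ∈ J) (n : ℕ) (y : B) (hy : y ∈ J ^ n) :
    ∃ a, a ∈ I ^ n ∧ y - φ a ∈ J ^ (n + 1) := by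
  obtain ⟨y₁, hy₁, y₂, hy₂, rfl⟩ := Submodule.mem_sup.mp (pow_le_map_pow_sup φ I J hIJ hJ n hy)
  obtain ⟨a, ha, h⟩ := exists_sub_mem_of_mem_map φ I J hIJ hres n y₁ hy₁
  refine ⟨a, ha, ?_⟩
  have : y₁ + y₂ - φ a = (y₁ - φ a) + y₂ := by ring
  rw [this]; exact Ideal.add_mem _ h hy₂

end gen

section resK

variable {k T : Type*} [Field k] [CommRing T] [Algebra k T]

theorem isMaximal_of_resK (M : Ideal T) (hne : M ≠ ⊤)
    (h : ∀ x : T, ∃ c : k, x - algebraMap k T c ∈ M) : M.IsMaximal := by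
  rw [Ideal.isMaximal_iff]
  refine ⟨fun h1 => hne ((Ideal.eq_top_iff_one M).mpr h1), fun J x hMJ hxM hxJ => ?_⟩
  obtain ⟨c, hc⟩ := h x
  have hc0 : c ≠ 0 := by
    rintro rfl
    rw [map_zero, sub_zero] at hc
    exact hxM hc
  have hcJ : algebraMap k T c ∈ J := by
    have := Ideal.sub_mem _ hxJ (hMJ hc)
    rwa [sub_sub_cancel] at this
  have : (1 : T) = algebraMap k T c⁻¹ * algebraMap k T c := by
    rw [← map_mul, inv_mul_cancel₀ hc0, map_one]
  rw [this]
  exact Ideal.mul_mem_left _ _ hcJ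

/-- In a `k`-algebra with a proper ideal `M` of residue ring `k`, a scalar lying in `M` is `0`. -/
theorem eq_zero_of_algebraMap_mem (M : Ideal T) (hne : M ≠ ⊤) (c : k)
    (hc : algebraMap k T c ∈ M) : c = 0 := by
  by_contra hc0
  apply hne
  rw [Ideal.eq_top_iff_one]
  have : (1 : T) = algebraMap k T c⁻¹ * algebraMap k T c := by
    rw [← map_mul, inv_mul_cancel₀ hc0, map_one]
  rw [this]
  exact Ideal.mul_mem_left _ _ hc

end resK

end Groth.Agent.H72.VersApx
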