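import Mathlib
import Groth.Agent.H57.CTensA
import Groth.Agent.H57.CLoc
import Groth.Agent.H82.AdicGrR
import Groth.Agent.H72.GrKer
import Groth.Agent.H72.VersApxLem

/-!
# Presentation of a complete local algebra as a quotient of a completion (helper72)

`P` is a `k`-algebra with a finitely generated ideal `mP` of residue ring `k`, `R` is a local
`k`-algebra with residue field `k`, complete for `mP R = 𝔪_R`, and `ρ : P → R` a ring map over `k`.
Then `ρ` extends to a surjection `π : P^ → R` with `π⁻¹(𝔪_Rⁿ) = ker π + 𝔪^ⁿ`.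
-/

set_option autoImplicit false
set_option linter.unusedSectionVars false
set_option linter.style.haveILetI false
universe u

namespace Groth.Agent.H72.VersApx

open IsLocalRing

section pres

variable {k : Type u} [Field k] {P : Type u} [CommRing P] [Algebra k P] (mP : Ideal P)
  {R : Type u} [CommRing R] [Algebra k R] [IsLocalRing R] (ρ : P →+* R)
  [IsAdicComplete (mP.map ρ) R]

/-- the extension of `ρ` to the completion -/
noncomputable abbrev piHat : AdicCompletion mP P →+* R := Groth.Agent.H57.CTens.ext mP ρ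

/-- the maximal ideal of the completion -/
noncomputable abbrev mHat : Ideal (AdicCompletion mP P) :=
  mP.map (algebraMap P (AdicCompletion mP P))

theorem piHat_algebraMap (p : P) : piHat mP ρ (algebraMap P (AdicCompletion mP P) p) = ρ p :=
  Groth.Agent.H57.CTens.ext_algebraMap mP ρ p

theorem mHat_pow (n : ℕ) :
    mHat mP ^ n = (mP ^ n).map (algebraMap P (AdicCompletion mP P)) := by
  rw [mHat, Ideal.map_pow]

variable (hfg : mP.FG) (hPne : mP ≠ ⊤) (hPres : ∀ p : P, ∃ c : k, p - algebraMap k P c ∈ mP)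
  (hρ : mP.map ρ = maximalIdeal R) (hρk : ∀ c : k, ρ (algebraMap k P c) = algebraMap k R c)
  (hRres : ∀ r : R, ∃ c : k, r - algebraMap k R c ∈ maximalIdeal R)

include hfg in
theorem exists_sub_mem_mHat_pow (n : ℕ) (y : AdicCompletion mP P) :
    ∃ p : P, y - algebraMap P (AdicCompletion mP P) p ∈ mHat mP ^ n := by
  rw [mHat_pow]
  exact Groth.Agent.H57.CLoc.exists_sub_algebraMap_mem mP hfg n y

include hfg in
theorem algebraMap_mem_mHat_pow_iff (n : ℕ) (p : P) :
    algebraMap P (AdicCompletion mP P) p ∈ mHat mP ^ n ↔ p ∈ mP ^ n := by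
  rw [mHat_pow]
  exact Groth.Agent.H57.CLoc.algebraMap_mem_map_pow_iff mP hfg n p

include hfg hPres in
theorem hatRes (y : AdicCompletion mP P) :
    ∃ c : k, y - algebraMap P (AdicCompletion mP P) (algebraMap k P c) ∈ mHat mP := by
  obtain ⟨p, hp⟩ := exists_sub_mem_mHat_pow mP hfg 1 y
  rw [pow_one] at hp
  obtain ⟨c, hc⟩ := hPres p
  refine ⟨c, ?_⟩
  have : y - algebraMap P (AdicCompletion mP P) (algebraMap k P c) =
      (y - algebraMap P (AdicCompletion mP P) p) +
        algebraMap P (AdicCompletion mP P) (p - algebraMap k P c) := by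
    rw [map_sub]; ring
  rw [this]
  exact Ideal.add_mem _ hp (Ideal.mem_map_of_mem _ hc)

include hfg hPne in
theorem mHat_ne_top : mHat mP ≠ ⊤ := by
  intro h
  have h1 : (1 : AdicCompletion mP P) ∈ mHat mP ^ 1 := by rw [pow_one, h]; trivial
  rw [← map_one (algebraMap P (AdicCompletion mP P)), algebraMap_mem_mHat_pow_iff mP hfg,
    pow_one] at h1
  exact hPne ((Ideal.eq_top_iff_one mP).mpr h1)

theorem map_piHat_mHat : (mHat mP).map (piHat mP ρ) = mP.map ρ := by
  rw [mHat, Ideal.map_map]
  congr 1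
  ext p
  exact piHat_algebraMap mP ρ p

include hρ hρk hRres in
theorem surjR (n : ℕ) (y : R) (hy : y ∈ maximalIdeal R ^ n) :
    ∃ a, a ∈ mP ^ n ∧ y - ρ a ∈ maximalIdeal R ^ (n + 1) := by
  refine key2_of_gen ρ mP (maximalIdeal R) hρ.le ?_ ?_ n y hy
  · rw [hρ]; exact le_sup_left
  · intro r
    obtain ⟨c, hc⟩ := hRres r
    exact ⟨algebraMap k P c, by rw [hρk]; exact hc⟩

include hfg hρ hρk hRres in
theorem piHat_surjective : Function.Surjective (piHat mP ρ) := by
  have hIJ : (mHat mP).map (piHat mP ρ) ≤ maximalIdeal R := by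
    rw [map_piHat_mHat, hρ]
  haveI : IsAdicComplete (mHat mP) (AdicCompletion mP P) :=
    AdicCompletion.isAdicComplete_self mP hfg
  haveI : IsAdicComplete (maximalIdeal R) R := by rw [← hρ]; infer_instance
  have hsurj : Function.Surjective (AssocGr.map (AssocGr.IsFiltHom.adic hIJ)) := by
    refine Groth.Agent.H72.GrKer.map_surjective hIJ fun n y hy => ?_
    obtain ⟨a, ha, h⟩ := surjR mP ρ hρ hρk hRres n y hy
    refine ⟨algebraMap P (AdicCompletion mP P) a, ?_, ?_⟩
    · rw [mHat_pow]; exact Ideal.mem_map_of_mem _ ha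
    · rw [piHat_algebraMap]; exact h
  exact (Groth.Agent.H82.AdicGrR.main (piHat mP ρ) (mHat mP) (maximalIdeal R) hIJ hsurj).1

include hfg hρ hρk hRres in
theorem piHat_mem_pow_iff (n : ℕ) (y : AdicCompletion mP P) :
    piHat mP ρ y ∈ maximalIdeal R ^ n ↔ y ∈ RingHom.ker (piHat mP ρ) ⊔ mHat mP ^ n := by
  have hs := piHat_surjective mP ρ hfg hρ hρk hRres
  have hmap : (mHat mP ^ n).map (piHat mP ρ) = maximalIdeal R ^ n := by
    rw [Ideal.map_pow, map_piHat_mHat, hρ]
  constructor
  · intro h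
    rw [← hmap] at h
    obtain ⟨y', hy', hyy'⟩ := (Ideal.mem_map_iff_of_surjective _ hs).mp h
    have : y = (y - y') + y' := by ring
    rw [this]
    refine Submodule.add_mem_sup ?_ hy'
    rw [RingHom.mem_ker, map_sub, hyy', sub_self]
  · intro h
    obtain ⟨y₁, hy₁, y₂, hy₂, rfl⟩ := Submodule.mem_sup.mp h
    rw [map_add, RingHom.mem_ker.mp hy₁, zero_add, ← hmap]
    exact Ideal.mem_map_of_mem _ hy₂

include hfg hPres hρ hρk in
theorem ker_piHat_le : RingHom.ker (piHat mP ρ) ≤ mHat mP := by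
  intro y hy
  obtain ⟨c, hc⟩ := hatRes mP hfg hPres y
  have h1 : piHat mP ρ (y - algebraMap P (AdicCompletion mP P) (algebraMap k P c)) ∈
      maximalIdeal R := by
    rw [← hρ, ← map_piHat_mHat]
    exact Ideal.mem_map_of_mem _ hc
  rw [map_sub, RingHom.mem_ker.mp hy, zero_sub, piHat_algebraMap, hρk, neg_mem_iff] at h1
  have hc0 : c = 0 :=
    eq_zero_of_algebraMap_mem (maximalIdeal R) (Ideal.IsMaximal.ne_top inferInstance) c h1
  rw [hc0, map_zero, map_zero, sub_zero] at hc
  exact hc

end pres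

end Groth.Agent.H72.VersApx
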