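import Mathlib
import Groth.Agent.H82.GrEtale
import Groth.Agent.H72.VersApxPres

/-!
# Étale neighbourhoods mapping to a completion (helper72)

`P'` is a formally étale `P`-algebra with a `P`-algebra map `ψ : P' → P^` to the `mP`-adic
completion (`mP` finitely generated with residue ring `k`).  The ideal `m' = ψ⁻¹(𝔪^)` has residue
ring `k`, `ψ⁻¹(𝔪^ⁿ) = m'ⁿ`, and ideals of `P'` are compared with their extensions to `P^`.
-/

set_option autoImplicit false
set_option linter.unusedSectionVars false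
set_option linter.style.haveILetI false
universe u

namespace Groth.Agent.H72.VersApx

section et

variable {k : Type u} [Field k] {P : Type u} [CommRing P] [Algebra k P] (mP : Ideal P)
  {P' : Type u} [CommRing P'] [Algebra P P'] (ψ : P' →ₐ[P] AdicCompletion mP P)

/-- the maximal ideal of the étale neighbourhood -/
noncomputable abbrev mPr : Ideal P' := (mHat mP).comap ψ.toRingHom

theorem mem_mPr (x : P') : x ∈ mPr mP ψ ↔ ψ x ∈ mHat mP := Iff.rfl

theorem psi_mem_pow (n : ℕ) (x : P') (hx : x ∈ mPr mP ψ ^ n) : ψ x ∈ mHat mP ^ n := by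
  have h1 : (mPr mP ψ ^ n).map ψ.toRingHom ≤ mHat mP ^ n := by
    rw [Ideal.map_pow]
    exact Ideal.pow_right_mono Ideal.map_comap_le n
  exact h1 (Ideal.mem_map_of_mem _ hx)

variable (hfg : mP.FG) (hPne : mP ≠ ⊤) (hPres : ∀ p : P, ∃ c : k, p - algebraMap k P c ∈ mP)

include hfg hPres in
theorem mPr_res (x : P') :
    ∃ c : k, x - algebraMap P P' (algebraMap k P c) ∈ mPr mP ψ := by
  obtain ⟨c, hc⟩ := hatRes mP hfg hPres (ψ x)
  refine ⟨c, ?_⟩
  rw [mem_mPr, map_sub, AlgHom.commutes]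
  exact hc

include hfg hPne in
theorem mPr_ne_top : mPr mP ψ ≠ ⊤ := by
  intro h
  have h1 : (1 : P') ∈ mPr mP ψ := by rw [h]; trivial
  rw [mem_mPr, map_one] at h1
  exact mHat_ne_top mP hfg hPne ((Ideal.eq_top_iff_one _).mpr h1)

include hfg in
theorem comap_mPr : (mPr mP ψ).comap (algebraMap P P') = mP := by
  ext p
  rw [Ideal.mem_comap, mem_mPr, AlgHom.commutes]
  have := algebraMap_mem_mHat_pow_iff mP hfg 1 p
  rwa [pow_one, pow_one] at this

include hfg hPres in
theorem surj_quot : Function.Surjective (algebraMap P (P' ⧸ mPr mP ψ)) := by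
  intro y
  obtain ⟨x, rfl⟩ := Ideal.Quotient.mk_surjective y
  obtain ⟨c, hc⟩ := mPr_res mP ψ hfg hPres x
  refine ⟨algebraMap k P c, ?_⟩
  rw [IsScalarTower.algebraMap_apply P P' (P' ⧸ mPr mP ψ), Ideal.Quotient.algebraMap_eq]
  exact ((Ideal.Quotient.mk_eq_mk_iff_sub_mem _ _).mpr hc).symm

include hfg in
theorem exists_sub_psi_mem (n : ℕ) (y : AdicCompletion mP P) :
    ∃ x : P', y - ψ x ∈ mHat mP ^ n := by
  obtain ⟨p, hp⟩ := exists_sub_mem_mHat_pow mP hfg n y
  exact ⟨algebraMap P P' p, by rw [AlgHom.commutes]; exact hp⟩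

variable [Algebra.FormallyEtale P P']

include hfg hPres in
theorem mem_pow_of_psi_mem (n : ℕ) (x : P') (hx : ψ x ∈ mHat mP ^ n) : x ∈ mPr mP ψ ^ n := by
  rcases Nat.eq_zero_or_pos n with rfl | hn
  · simp
  obtain ⟨a, ha⟩ := Groth.Agent.H82.GrEtale.surj P P' (mPr mP ψ)
    (surj_quot mP ψ hfg hPres) n hn x
  have h1 : ψ (x - algebraMap P P' a) ∈ mHat mP ^ n := psi_mem_pow mP ψ n _ ha
  rw [map_sub, AlgHom.commutes] at h1
  have h2 : algebraMap P (AdicCompletion mP P) a ∈ mHat mP ^ n := by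
    have := Ideal.sub_mem _ hx h1
    rwa [sub_sub_cancel] at this
  rw [algebraMap_mem_mHat_pow_iff mP hfg] at h2
  have h3 : algebraMap P P' a ∈ mPr mP ψ ^ n := by
    have h4 : (mP ^ n).map (algebraMap P P') ≤ mPr mP ψ ^ n := by
      rw [Ideal.map_pow]
      refine Ideal.pow_right_mono ?_ n
      rw [Ideal.map_le_iff_le_comap, comap_mPr mP ψ hfg]
    exact h4 (Ideal.mem_map_of_mem _ h2)
  have : x = (x - algebraMap P P' a) + algebraMap P P' a := by ring
  rw [this]
  exact Ideal.add_mem _ ha h3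

include hfg hPres in
theorem surjA_pre (n : ℕ) (x : P') (hx : x ∈ mPr mP ψ ^ n) :
    ∃ a, a ∈ mP ^ n ∧ x - algebraMap P P' a ∈ mPr mP ψ ^ (n + 1) := by
  obtain ⟨a, ha, h⟩ := Groth.Agent.H82.GrEtale.key2 P P' (mPr mP ψ)
    (surj_quot mP ψ hfg hPres) n x hx
  rw [comap_mPr mP ψ hfg] at ha
  exact ⟨a, ha, h⟩

include hfg hPres in
/-- **Transfer**: membership in `J' + m'ⁿ` is detected after extension to the completion. -/
theorem psi_mem_sup_iff {ι : Type*} [Fintype ι] (g' : ι → P') (n : ℕ) (x : P') :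
    ψ x ∈ Ideal.span (Set.range fun i => ψ (g' i)) ⊔ mHat mP ^ n ↔
      x ∈ Ideal.span (Set.range g') ⊔ mPr mP ψ ^ n := by
  constructor
  · intro h
    obtain ⟨y, hy, w, hw, hyw⟩ := Submodule.mem_sup.mp h
    obtain ⟨s, rfl⟩ := (Ideal.mem_span_range_iff_exists_fun).mp hy
    choose σ hσ using fun i => exists_sub_psi_mem mP ψ hfg n (s i)
    have h1 : ψ (x - ∑ i, σ i * g' i) ∈ mHat mP ^ n := by
      have h2 : ψ (x - ∑ i, σ i * g' i) = ∑ i, (s i - ψ (σ i)) * ψ (g' i) + w := by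
        rw [map_sub, ← hyw, map_sum]
        simp only [map_mul, sub_mul, Finset.sum_sub_distrib]
        ring
      rw [h2]
      exact Ideal.add_mem _ (Ideal.sum_mem _ fun i _ => Ideal.mul_mem_right _ _ (hσ i)) hw
    have h3 := mem_pow_of_psi_mem mP ψ hfg hPres n _ h1
    have : x = ∑ i, σ i * g' i + (x - ∑ i, σ i * g' i) := by ring
    rw [this]
    exact Submodule.add_mem_sup ((Ideal.mem_span_range_iff_exists_fun).mpr ⟨σ, rfl⟩) h3
  · intro h
    obtain ⟨y, hy, w, hw, rfl⟩ := Submodule.mem_sup.mp h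
    obtain ⟨s, rfl⟩ := (Ideal.mem_span_range_iff_exists_fun).mp hy
    rw [map_add, map_sum]
    refine Submodule.add_mem_sup ?_ (psi_mem_pow mP ψ n w hw)
    simp only [map_mul]
    exact (Ideal.mem_span_range_iff_exists_fun).mpr ⟨fun i => ψ (s i), rfl⟩

end et

end Groth.Agent.H72.VersApx
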