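import Mathlib
import Groth.Agent.H72.VersApxEt

/-!
# The approximating algebra `A = P'/(g')` (helper72)

Setting: `π : P^ → R` the presentation of `VersApxPres`, `ψ : P' → P^` an étale neighbourhood as in
`VersApxEt`, `g` generators of `ker π` and `g'` a family of `P'` with `ψ g' ≡ g` modulo
`𝔪^^(N+1)`.  For `A = P'/(g')` and `m = m' A` we construct the surjection
`A → R/𝔪_R^(N+1)` with kernel `m^(N+1)` and, under the conclusion of the Conrad–de Jong lemma,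
the isomorphism of associated graded rings.
-/

set_option autoImplicit false
set_option linter.unusedSectionVars false
set_option linter.style.haveILetI false
universe u

namespace Groth.Agent.H72.VersApx

open IsLocalRing

section core

variable {k : Type u} [Field k] {P : Type u} [CommRing P] [Algebra k P] (mP : Ideal P)
  {R : Type u} [CommRing R] [Algebra k R] [IsLocalRing R] (ρ : P →+* R)
  [IsAdicComplete (mP.map ρ) R]
  {P' : Type u} [CommRing P'] [Algebra P P'] [Algebra.FormallyEtale P P']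
  (ψ : P' →ₐ[P] AdicCompletion mP P)
  {ι : Type} [Fintype ι] (g : ι → AdicCompletion mP P) (g' : ι → P') (N : ℕ)

/-- the ideal `(g')` of `P'` -/
abbrev Jp : Ideal P' := Ideal.span (Set.range g')

/-- the maximal ideal of `A = P'/(g')` -/
noncomputable abbrev mA : Ideal (P' ⧸ Jp g') := (mPr mP ψ).map (Ideal.Quotient.mk (Jp g'))

theorem mk_mem_mA_pow_iff (n : ℕ) (x : P') :
    Ideal.Quotient.mk (Jp g') x ∈ mA mP ψ g' ^ n ↔ x ∈ Jp g' ⊔ mPr mP ψ ^ n := by
  rw [mA, ← Ideal.map_pow, Ideal.mem_quotient_iff_mem_sup, sup_comm]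

variable (hfg : mP.FG) (hPne : mP ≠ ⊤) (hPres : ∀ p : P, ∃ c : k, p - algebraMap k P c ∈ mP)
  (hρ : mP.map ρ = maximalIdeal R) (hρk : ∀ c : k, ρ (algebraMap k P c) = algebraMap k R c)
  (hRres : ∀ r : R, ∃ c : k, r - algebraMap k R c ∈ maximalIdeal R)
  (hg : Ideal.span (Set.range g) = RingHom.ker (piHat mP ρ))
  (hgN : ∀ i, g i - ψ (g' i) ∈ mHat mP ^ (N + 1))

include hfg hPres hρ hρk hg hgN in
theorem psi_g'_mem (i : ι) : ψ (g' i) ∈ mHat mP := by
  have h1 : g i ∈ mHat mP :=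
    ker_piHat_le mP ρ hfg hPres hρ hρk (hg ▸ Ideal.subset_span (Set.mem_range_self i))
  have h2 : g i - ψ (g' i) ∈ mHat mP := Ideal.pow_le_self (Nat.succ_ne_zero N) (hgN i)
  have := Ideal.sub_mem _ h1 h2
  rwa [sub_sub_cancel] at this

include hfg hPres hρ hρk hg hgN in
theorem Jp_le : Jp g' ≤ mPr mP ψ := by
  rw [Jp, Ideal.span_le]
  rintro _ ⟨i, rfl⟩
  exact psi_g'_mem mP ρ ψ g g' N hfg hPres hρ hρk hg hgN i

include hfg hPne hPres hρ hρk hg hgN in
theorem mA_ne_top : mA mP ψ g' ≠ ⊤ := by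
  intro h
  have h1 : Ideal.Quotient.mk (Jp g') (1 : P') ∈ mA mP ψ g' ^ 1 := by
    rw [pow_one, h]; trivial
  rw [mk_mem_mA_pow_iff, pow_one,
    sup_eq_right.mpr (Jp_le mP ρ ψ g g' N hfg hPres hρ hρk hg hgN)] at h1
  exact mPr_ne_top mP ψ hfg hPne ((Ideal.eq_top_iff_one _).mpr h1)

include hgN in
theorem sup_eq_sup (n : ℕ) (hn : n ≤ N + 1) :
    Ideal.span (Set.range g) ⊔ mHat mP ^ n =
      Ideal.span (Set.range fun i => ψ (g' i)) ⊔ mHat mP ^ n := by
  have hle : mHat mP ^ (N + 1) ≤ mHat mP ^ n := Ideal.pow_le_pow_right hn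
  apply le_antisymm
  · refine sup_le ?_ le_sup_right
    rw [Ideal.span_le]
    rintro _ ⟨i, rfl⟩
    have : g i = ψ (g' i) + (g i - ψ (g' i)) := by ring
    rw [this]
    exact Submodule.add_mem_sup (Ideal.subset_span ⟨i, rfl⟩) (hle (hgN i))
  · refine sup_le ?_ le_sup_right
    rw [Ideal.span_le]
    rintro _ ⟨i, rfl⟩
    have : ψ (g' i) = g i - (g i - ψ (g' i)) := by ring
    change ψ (g' i) ∈ _
    rw [this]
    exact Ideal.sub_mem _ (Ideal.mem_sup_left (Ideal.subset_span ⟨i, rfl⟩))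
      (Ideal.mem_sup_right (hle (hgN i)))

include hfg hPres hρ hρk hRres hg hgN in
/-- the key equivalence for the truncations -/
theorem pi_psi_mem_iff (n : ℕ) (hn : n ≤ N + 1) (x : P') :
    piHat mP ρ (ψ x) ∈ maximalIdeal R ^ n ↔
      Ideal.Quotient.mk (Jp g') x ∈ mA mP ψ g' ^ n := by
  rw [piHat_mem_pow_iff mP ρ hfg hρ hρk hRres, ← hg, sup_eq_sup mP ψ g g' N hgN n hn,
    psi_mem_sup_iff mP ψ hfg hPres g' n x, mk_mem_mA_pow_iff]

/-- the ring map `P' → R/𝔪_R^(N+1)` -/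
noncomputable def alpha0 : P' →+* R ⧸ maximalIdeal R ^ (N + 1) :=
  (Ideal.Quotient.mk _).comp ((piHat mP ρ).comp ψ.toRingHom)

include hfg hPres hρ hρk hRres hg hgN in
theorem alpha0_eq_zero_iff (x : P') :
    alpha0 mP ρ ψ N x = 0 ↔ Ideal.Quotient.mk (Jp g') x ∈ mA mP ψ g' ^ (N + 1) := by
  rw [← pi_psi_mem_iff mP ρ ψ g g' N hfg hPres hρ hρk hRres hg hgN (N + 1) le_rfl x]
  exact Ideal.Quotient.eq_zero_iff_mem

include hfg hPres hρ hρk hRres hg hgN in
theorem alpha0_eq_zero_of_mem (x : P') (hx : x ∈ Jp g') : alpha0 mP ρ ψ N x = 0 := by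
  rw [alpha0_eq_zero_iff mP ρ ψ g g' N hfg hPres hρ hρk hRres hg hgN,
    Ideal.Quotient.eq_zero_iff_mem.mpr hx]
  exact Ideal.zero_mem _

/-- the ring map `A → R/𝔪_R^(N+1)` -/
noncomputable def alphaR : (P' ⧸ Jp g') →+* R ⧸ maximalIdeal R ^ (N + 1) :=
  Ideal.Quotient.lift (Jp g') (alpha0 mP ρ ψ N)
    (alpha0_eq_zero_of_mem mP ρ ψ g g' N hfg hPres hρ hρk hRres hg hgN)

theorem alphaR_mk (x : P') :
    alphaR mP ρ ψ g g' N hfg hPres hρ hρk hRres hg hgN (Ideal.Quotient.mk _ x) =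
      Ideal.Quotient.mk _ (piHat mP ρ (ψ x)) := rfl

theorem alphaR_surjective :
    Function.Surjective (alphaR mP ρ ψ g g' N hfg hPres hρ hρk hRres hg hgN) := by
  intro y
  obtain ⟨r, rfl⟩ := Ideal.Quotient.mk_surjective y
  obtain ⟨z, rfl⟩ := piHat_surjective mP ρ hfg hρ hρk hRres r
  obtain ⟨x, hx⟩ := exists_sub_psi_mem mP ψ hfg (N + 1) z
  refine ⟨Ideal.Quotient.mk _ x, ?_⟩
  rw [alphaR_mk, Ideal.Quotient.eq, ← map_sub]
  have h1 : piHat mP ρ (z - ψ x) ∈ maximalIdeal R ^ (N + 1) := by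
    rw [piHat_mem_pow_iff mP ρ hfg hρ hρk hRres]
    exact Ideal.mem_sup_right hx
  rw [← neg_sub, map_neg]
  exact Ideal.neg_mem_iff _ |>.mpr h1

theorem ker_alphaR :
    RingHom.ker (alphaR mP ρ ψ g g' N hfg hPres hρ hρk hRres hg hgN) =
      mA mP ψ g' ^ (N + 1) := by
  ext a
  obtain ⟨x, rfl⟩ := Ideal.Quotient.mk_surjective a
  rw [RingHom.mem_ker, alphaR_mk,
    ← alpha0_eq_zero_iff mP ρ ψ g g' N hfg hPres hρ hρk hRres hg hgN]
  rfl

end core

end Groth.Agent.H72.VersApx
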