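import Mathlib
import Groth.Agent.H72.VersApxCore

/-!
# The graded isomorphism `G(R) ≃ G(A)` (helper72)
-/

set_option autoImplicit false
set_option linter.unusedSectionVars false
set_option linter.style.haveILetI false
universe u

namespace Groth.Agent.H72.VersApx

open IsLocalRing

section gr

variable {k : Type u} [Field k] {P : Type u} [CommRing P] [Algebra k P] (mP : Ideal P)
  {R : Type u} [CommRing R] [Algebra k R] [IsLocalRing R] (ρ : P →+* R)
  [IsAdicComplete (mP.map ρ) R]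
  {P' : Type u} [CommRing P'] [Algebra P P'] [Algebra.FormallyEtale P P']
  (ψ : P' →ₐ[P] AdicCompletion mP P)
  {ι : Type} [Fintype ι] (g : ι → AdicCompletion mP P) (g' : ι → P') (N : ℕ)

/-- the map `P → A` -/
abbrev rhoA : P →+* P' ⧸ Jp g' := (Ideal.Quotient.mk (Jp g')).comp (algebraMap P P')

variable (hfg : mP.FG) (hPne : mP ≠ ⊤) (hPres : ∀ p : P, ∃ c : k, p - algebraMap k P c ∈ mP)
  (hρ : mP.map ρ = maximalIdeal R) (hρk : ∀ c : k, ρ (algebraMap k P c) = algebraMap k R c)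
  (hRres : ∀ r : R, ∃ c : k, r - algebraMap k R c ∈ maximalIdeal R)
  (hg : Ideal.span (Set.range g) = RingHom.ker (piHat mP ρ))
  (hC : ∀ (n : ℕ) (x : AdicCompletion mP P), x ∈ mHat mP ^ n →
      (x ∈ Ideal.span (Set.range g) ⊔ mHat mP ^ (n + 1) ↔
        x ∈ Ideal.span (Set.range fun i => ψ (g' i)) ⊔ mHat mP ^ (n + 1)))

include hfg in
theorem map_rhoA_le : mP.map (rhoA g') ≤ mA mP ψ g' := by
  rw [Ideal.map_le_iff_le_comap]
  intro a ha
  rw [Ideal.mem_comap]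
  refine Ideal.mem_map_of_mem _ ?_
  have : a ∈ (mPr mP ψ).comap (algebraMap P P') := by rw [comap_mPr mP ψ hfg]; exact ha
  exact this

include hfg hPres in
theorem surjA (n : ℕ) (y : P' ⧸ Jp g') (hy : y ∈ mA mP ψ g' ^ n) :
    ∃ a, a ∈ mP ^ n ∧ y - rhoA g' a ∈ mA mP ψ g' ^ (n + 1) := by
  rw [mA, ← Ideal.map_pow] at hy
  obtain ⟨x, hx, rfl⟩ := (Ideal.mem_map_iff_of_surjective _ Ideal.Quotient.mk_surjective).mp hy
  obtain ⟨a, ha, h⟩ := surjA_pre mP ψ hfg hPres n x hx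
  refine ⟨a, ha, ?_⟩
  rw [mA, ← Ideal.map_pow]
  have : Ideal.Quotient.mk (Jp g') x - rhoA g' a =
      Ideal.Quotient.mk (Jp g') (x - algebraMap P P' a) := by
    rw [map_sub]; rfl
  rw [this]
  exact Ideal.mem_map_of_mem _ h

include hfg hPres hρ hρk hRres hg hC in
theorem hker (n : ℕ) (a : P) (ha : a ∈ mP ^ n) :
    ρ a ∈ maximalIdeal R ^ (n + 1) ↔ rhoA g' a ∈ mA mP ψ g' ^ (n + 1) := by
  have h1 : algebraMap P (AdicCompletion mP P) a ∈ mHat mP ^ n := by
    rw [mHat_pow]; exact Ideal.mem_map_of_mem _ ha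
  rw [← piHat_algebraMap mP ρ a, piHat_mem_pow_iff mP ρ hfg hρ hρk hRres, ← hg,
    hC n _ h1, ← AlgHom.commutes ψ a, psi_mem_sup_iff mP ψ hfg hPres g' (n + 1),
    ← mk_mem_mA_pow_iff]
  rfl

include hfg hPres hρ hρk hRres hg hC in
theorem exists_grEquiv_core :
    ∃ e : AssocGr.GrRing (FiltBl.IdealFiltration.adic (maximalIdeal R)) ≃+*
        AssocGr.GrRing (FiltBl.IdealFiltration.adic (mA mP ψ g')),
      (∀ z, e (AssocGr.map (AssocGr.IsFiltHom.adic (hρ.le : mP.map ρ ≤ maximalIdeal R)) z) =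
        AssocGr.map (AssocGr.IsFiltHom.adic (map_rhoA_le mP ψ g' hfg)) z) ∧
      ∀ (n : ℕ) (x : AssocGr.GrRing (FiltBl.IdealFiltration.adic (maximalIdeal R))),
        x ∈ AssocGr.gr (FiltBl.IdealFiltration.adic (maximalIdeal R)) n →
          e x ∈ AssocGr.gr (FiltBl.IdealFiltration.adic (mA mP ψ g')) n :=
  Groth.Agent.H72.GrKer.exists_grEquiv hρ.le (map_rhoA_le mP ψ g' hfg)
    (surjR mP ρ hρ hρk hRres) (surjA mP ψ g' hfg hPres)
    (hker mP ρ ψ g g' hfg hPres hρ hρk hRres hg hC)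

end gr

end Groth.Agent.H72.VersApx
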