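import Mathlib
import Groth.Agent.H78.ArtinApx.CommAlgColim
import Groth.Agent.H78.ArtinApx.FieldGRing
import Groth.Agent.H72.NormalFF

/-!
# Polynomial rings at the origin and descent of functor elements (helper72)
-/

set_option autoImplicit false
set_option linter.unusedSectionVars false
set_option linter.style.haveILetI false
set_option linter.deprecated false
universe u

namespace Groth.Agent.H72.VersApx

open MvPolynomial CategoryTheory CategoryTheory.Limits

section poly

variable (k : Type u) [Field k] (σ : Type) [Finite σ]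

theorem poly_res (p : MvPolynomial σ k) :
    ∃ c : k, p - algebraMap k (MvPolynomial σ k) c ∈ idealOfVars σ k := by
  classical
  refine ⟨constantCoeff p, ?_⟩
  rw [← pow_one (idealOfVars σ k), mem_pow_idealOfVars_iff']
  intro x hx
  have hx0 : x = 0 := by
    have : Finsupp.degree x = 0 := by omega
    exact (Finsupp.degree_eq_zero_iff x).mp this
  subst hx0
  rw [coeff_sub, MvPolynomial.algebraMap_eq, coeff_C, if_pos rfl, ← constantCoeff_eq, sub_self]

theorem poly_ne_top : idealOfVars σ k ≠ ⊤ := by
  intro h
  have h1 : (1 : MvPolynomial σ k) ∈ idealOfVars σ k ^ 1 := by rw [pow_one, h]; trivial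
  rw [mem_pow_idealOfVars_iff'] at h1
  have := h1 0 (by simp)
  simp at this

theorem map_aeval_idealOfVars {R : Type u} [CommRing R] [Algebra k R] (x : σ → R) :
    (idealOfVars σ k).map (aeval x : MvPolynomial σ k →ₐ[k] R).toRingHom =
      Ideal.span (Set.range x) := by
  rw [idealOfVars, Ideal.map_span]
  congr 1
  ext y
  constructor
  · rintro ⟨_, ⟨i, rfl⟩, rfl⟩
    exact ⟨i, by simp⟩
  · rintro ⟨i, rfl⟩
    exact ⟨X i, ⟨i, rfl⟩, by simp⟩

theorem isGRing_localization_poly (m : Ideal (MvPolynomial σ k)) [m.IsPrime] :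
    CAlg.IsGRing (Localization.AtPrime m) := by
  haveI : Algebra.EssFiniteType (MvPolynomial σ k) (Localization.AtPrime m) :=
    Algebra.EssFiniteType.of_isLocalization _ m.primeCompl
  haveI : Algebra.EssFiniteType k (Localization.AtPrime m) :=
    Algebra.EssFiniteType.comp k (MvPolynomial σ k) _
  exact Groth.Agent.H72.NormalFF.isGRing_of_essFiniteType k
    (Groth.Agent.H78.ArtinApx.isGRing_field k) _

end poly

section descent

variable (k : Type u) [Field k] (F : CommAlgCat.{u} k ⥤ Type u)
  (hF : ∀ (J : Type u) [SmallCategory J] [IsFiltered J], PreservesColimitsOfShape J F)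
  (R : Type u) [CommRing R] [Algebra k R]

include hF in
/-- An element of `F(R)` comes from a finitely presented `k`-algebra. -/
theorem exists_fp_descent (ξ : F.obj (CommAlgCat.of k R)) :
    ∃ (B : Type u) (_ : CommRing B) (_ : Algebra k B) (_ : Algebra.FinitePresentation k B)
      (v : B →ₐ[k] R) (z : F.obj (CommAlgCat.of k B)), F.map (CommAlgCat.ofHom v) z = ξ := by
  obtain ⟨J, _, _, D, cc, hc, hfp, ⟨e⟩⟩ :=
    Groth.Agent.H78.ArtinApx.exists_filteredColimit_fp_commAlgCat k R
  haveI := hF J
  have hcol : IsColimit (F.mapCocone cc) := isColimitOfPreserves F hc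
  obtain ⟨j, z, hz⟩ := Types.jointly_surjective_of_isColimit hcol (F.map e.inv ξ)
  let v : D.obj j ⟶ CommAlgCat.of k R := cc.ι.app j ≫ e.hom
  have hξ : ξ = F.map v z := by
    have h1 : F.map e.hom (F.map e.inv ξ) = ξ := by
      rw [← FunctorToTypes.map_comp_apply, e.inv_hom_id, FunctorToTypes.map_id_apply]
    rw [← h1, ← hz]
    change _ = F.map (cc.ι.app j ≫ e.hom) z
    rw [FunctorToTypes.map_comp_apply]
    rfl
  exact ⟨D.obj j, inferInstance, inferInstance, hfp j, v.hom, z, hξ.symm⟩

end descent

end Groth.Agent.H72.VersApx
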