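import Mathlib
import Groth.Agent.H78.ArtinApx.EtSolMax
import Groth.Agent.S0595

/-!
# Étale-local solutions of polynomial systems indexed by arbitrary finite types (helper72)
-/

set_option autoImplicit false
universe u

namespace Groth.Agent.H72.VersApx

open MvPolynomial

theorem popescuHyp : Groth.Agent.H78.ArtinApx.PopescuHyp.{u} :=
  fun R _ _ Λ _ _ _ h B _ _ _ f => Groth.Agent.S0595.result R Λ h B f

/-- `H78.ArtinApx.exists_etale_solution_maximal` for systems indexed by finite types, with
Popescu's theorem discharged. -/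
theorem exists_etale_solution_fintype {A : Type u} [CommRing A] [IsNoetherianRing A]
    (m : Ideal A) [m.IsMaximal] (hG : CAlg.IsGRing (Localization.AtPrime m))
    {σ τ : Type} [Fintype σ] [Fintype τ]
    (F : τ → MvPolynomial σ A) (a : σ → AdicCompletion m A)
    (ha : ∀ j, MvPolynomial.aeval a (F j) = 0) (N : ℕ) :
    ∃ (A' : Type u) (_ : CommRing A') (_ : Algebra A A'), Algebra.Etale A A' ∧
      ∃ (ψ : A' →ₐ[A] AdicCompletion m A) (b : σ → A'),
        (∀ j, MvPolynomial.aeval b (F j) = 0) ∧
        ∀ i, a i - ψ (b i) ∈ (m ^ N).map (algebraMap A (AdicCompletion m A)) := by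
  classical
  let eσ := Fintype.equivFin σ
  let eτ := Fintype.equivFin τ
  let F' : Fin (Fintype.card τ) → MvPolynomial (Fin (Fintype.card σ)) A :=
    fun j => rename eσ (F (eτ.symm j))
  let a' : Fin (Fintype.card σ) → AdicCompletion m A := fun i => a (eσ.symm i)
  have ha' : ∀ j, aeval a' (F' j) = 0 := by
    intro j
    simp only [F', aeval_rename]
    have : a' ∘ eσ = a := by funext i; simp [a']
    rw [this]
    exact ha _
  obtain ⟨A', _, _, hEt, ψ, b, hb0, hb⟩ :=
    Groth.Agent.H78.ArtinApx.exists_etale_solution_maximal popescuHyp m hG F' a' ha' N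
  refine ⟨A', inferInstance, inferInstance, hEt, ψ, fun i => b (eσ i), fun j => ?_, fun i => ?_⟩
  · have := hb0 (eτ j)
    simp only [F', aeval_rename, Equiv.symm_apply_apply] at this
    exact this
  · have := hb (eσ i)
    simpa [a'] using this

end Groth.Agent.H72.VersApx
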