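import Mathlib
import Groth.Agent.H72.CdJ
import Groth.Agent.H72.VersApxSys
import Groth.Agent.H72.VersApxGr
import Groth.Agent.H72.VersApxPoly
import Groth.Agent.H20.ComplNoeth2
import Groth.Agent.H47.CohenPres

/-!
# Approximation of formal objects by finite type algebras, with graded isomorphism (helper72)

`main`: the statement of S17371 (without the hypothesis that `k` is algebraically closed).
-/

set_option autoImplicit false
set_option linter.unusedSectionVars false
set_option linter.style.haveILetI false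
set_option linter.deprecated false
universe u

namespace Groth.Agent.H72.VersApx

open MvPolynomial IsLocalRing CategoryTheory

section sys

/-- The variables of the polynomial system. -/
abbrev Var (s t u r : ℕ) : Type := Fin s ⊕ (Fin t ⊕ ((Fin u × Fin t) ⊕ (Fin r × Fin t)))

variable {k : Type u} [Field k] {P : Type u} [CommRing P] [Algebra k P] {s t u r : ℕ}

/-- The polynomial system: `h_l(Y) = ∑ A_{li} G_i` and `∑ F_{ji} G_i = 0`. -/
noncomputable def sysEq (h : Fin u → MvPolynomial (Fin s) k) :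
    Fin u ⊕ Fin r → MvPolynomial (Var s t u r) P :=
  Sum.elim
    (fun l => rename Sum.inl (MvPolynomial.map (algebraMap k P) (h l)) -
      ∑ i, X (Sum.inr (Sum.inr (Sum.inl (l, i)))) * X (Sum.inr (Sum.inl i)))
    (fun j => ∑ i, X (Sum.inr (Sum.inr (Sum.inr (j, i)))) * X (Sum.inr (Sum.inl i)))

variable {T : Type u} [CommRing T] [Algebra P T]

/-- A point of the system. -/
def sysPt (y : Fin s → T) (g : Fin t → T) (A : Fin u → Fin t → T) (f : Fin r → Fin t → T) :
    Var s t u r → T :=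
  Sum.elim y (Sum.elim g (Sum.elim (fun p => A p.1 p.2) (fun p => f p.1 p.2)))

theorem aeval_sysEq_inl (h : Fin u → MvPolynomial (Fin s) k) (a : Var s t u r → T) (l : Fin u) :
    aeval a (sysEq (P := P) (t := t) (r := r) h (Sum.inl l)) =
      aeval (fun i => a (Sum.inl i)) (MvPolynomial.map (algebraMap k P) (h l)) -
        ∑ i, a (Sum.inr (Sum.inr (Sum.inl (l, i)))) * a (Sum.inr (Sum.inl i)) := by
  simp only [sysEq, Sum.elim_inl, map_sub, aeval_rename, map_sum, map_mul, aeval_X]
  rfl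

theorem aeval_sysEq_inr (h : Fin u → MvPolynomial (Fin s) k) (a : Var s t u r → T) (j : Fin r) :
    aeval a (sysEq (P := P) (t := t) (r := r) h (Sum.inr j)) =
      ∑ i, a (Sum.inr (Sum.inr (Sum.inr (j, i)))) * a (Sum.inr (Sum.inl i)) := by
  simp only [sysEq, Sum.elim_inr, map_sum, map_mul, aeval_X]

end sys

end Groth.Agent.H72.VersApx

namespace Groth.Agent.H72.VersApx

open MvPolynomial IsLocalRing CategoryTheory

section aux

variable {k : Type u} [Field k] (F : CommAlgCat.{u} k ⥤ Type u)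
  {P : Type u} [CommRing P] [Algebra k P] [Algebra.FiniteType k P] [IsNoetherianRing P]
  (mP : Ideal P) [mP.IsMaximal] (hG : CAlg.IsGRing (Localization.AtPrime mP))
  {R : Type u} [CommRing R] [Algebra k R] [IsLocalRing R] (ρ : P →+* R)
  [IsAdicComplete (mP.map ρ) R]
  (hPne : mP ≠ ⊤) (hPres : ∀ p : P, ∃ c : k, p - algebraMap k P c ∈ mP)
  (hρ : mP.map ρ = maximalIdeal R) (hρk : ∀ c : k, ρ (algebraMap k P c) = algebraMap k R c)
  (hRres : ∀ r : R, ∃ c : k, r - algebraMap k R c ∈ maximalIdeal R)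
  {B : Type u} [CommRing B] [Algebra k B] [Algebra.FinitePresentation k B] (v : B →ₐ[k] R)
  (z : F.obj (CommAlgCat.of k B)) (N : ℕ)

include hG hPne hPres hρ hρk hRres in
theorem main_aux :
    ∃ (A : Type u) (_ : CommRing A) (_ : Algebra k A) (_ : Algebra.FiniteType k A)
      (m : Ideal A) (_ : m.IsMaximal)
      (_ : Function.Surjective (fun c : k => Ideal.Quotient.mk m (algebraMap k A c)))
      (η : F.obj (CommAlgCat.of k A))
      (φ : (R ⧸ maximalIdeal R ^ (N + 1)) ≃ₐ[k] (A ⧸ m ^ (N + 1))),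
      F.map (CommAlgCat.ofHom (φ.toAlgHom.comp
          (Ideal.Quotient.mkₐ k (maximalIdeal R ^ (N + 1))))) (F.map (CommAlgCat.ofHom v) z) =
        F.map (CommAlgCat.ofHom (Ideal.Quotient.mkₐ k (m ^ (N + 1)))) η ∧
      ∃ e : AssocGr.GrRing (FiltBl.IdealFiltration.adic (maximalIdeal R)) ≃+*
          AssocGr.GrRing (FiltBl.IdealFiltration.adic m),
        (∀ (n : ℕ) (x : AssocGr.GrRing (FiltBl.IdealFiltration.adic (maximalIdeal R))),
            x ∈ AssocGr.gr (FiltBl.IdealFiltration.adic (maximalIdeal R)) n →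
              e x ∈ AssocGr.gr (FiltBl.IdealFiltration.adic m) n) ∧
        (∀ c : k, e (algebraMap R _ (algebraMap k R c)) = algebraMap A _ (algebraMap k A c)) := by
  classical
  have hfg : mP.FG := IsNoetherian.noetherian mP
  haveI : IsNoetherianRing (AdicCompletion mP P) :=
    Groth.Agent.H20.isNoetherianRing_adicCompletion mP
  -- presentation of `B`
  obtain ⟨s, fB, hfBsurj, S, hS⟩ := Algebra.FinitePresentation.out (R := k) (A := B)
  let h : Fin S.card → MvPolynomial (Fin s) k :=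
    fun l => (S.equivFin.symm l : MvPolynomial (Fin s) k)
  have hh : ∀ l, fB (h l) = 0 := by
    intro l
    have : h l ∈ RingHom.ker fB.toRingHom := by
      rw [← hS]; exact Ideal.subset_span (S.equivFin.symm l).2
    exact this
  have hker_le : ∀ {C : Type u} [CommRing C] [Algebra k C] (w : MvPolynomial (Fin s) k →ₐ[k] C),
      (∀ l, w (h l) = 0) → RingHom.ker fB.toRingHom ≤ RingHom.ker w.toRingHom := by
    intro C _ _ w hw
    rw [← hS, Ideal.span_le]
    intro q hq
    have : q = h (S.equivFin ⟨q, hq⟩) := by simp [h]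
    rw [this]
    exact hw _
  -- generators of `ker π`
  have hπsurj := piHat_surjective mP ρ hfg hρ hρk hRres
  obtain ⟨t, g, hg⟩ := Submodule.fg_iff_exists_fin_generating_family.mp
    (IsNoetherian.noetherian (RingHom.ker (piHat mP ρ)))
  have hg' : Ideal.span (Set.range g) = RingHom.ker (piHat mP ρ) := hg
  obtain ⟨r, f, c, hsyz, hCdJ⟩ := Groth.Agent.H72.CdJ.main (mHat mP) g
  -- lifts of the images of the generators of `B`
  let b : Fin s → R := fun i => v (fB (X i))
  choose bh hbh using fun i => hπsurj (b i)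
  have haevalb : (aeval b : MvPolynomial (Fin s) k →ₐ[k] R) = v.comp fB := by
    apply MvPolynomial.algHom_ext
    intro i
    simp [b]
  have hπk : (piHat mP ρ).comp ((algebraMap P (AdicCompletion mP P)).comp (algebraMap k P)) =
      algebraMap k R := by
    ext c
    simp only [RingHom.comp_apply]
    rw [piHat_algebraMap, hρk]
  have hπbh : (piHat mP ρ) ∘ bh = b := funext hbh
  have hkerh : ∀ l, aeval bh (MvPolynomial.map (algebraMap k P) (h l)) ∈
      Ideal.span (Set.range g) := by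
    intro l
    rw [hg', RingHom.mem_ker, aeval_def, eval₂_map, eval₂_comp_left, hπk, hπbh, ← aeval_def,
      haevalb, AlgHom.comp_apply, hh, map_zero]
  choose Amat hAmat using fun l => (Ideal.mem_span_range_iff_exists_fun).mp (hkerh l)
  let c' := max c N
  let a0 : Var s t S.card r → AdicCompletion mP P := sysPt bh g Amat f
  have ha0 : ∀ e, aeval a0 (sysEq (P := P) (t := t) (r := r) h e) = 0 := by
    rintro (l | j)
    · rw [aeval_sysEq_inl, sub_eq_zero]
      exact (hAmat l).symm
    · rw [aeval_sysEq_inr]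
      exact hsyz j
  obtain ⟨P', _, _, hEt, ψ, bsol, hb0, hb⟩ :=
    exists_etale_solution_fintype mP hG (sysEq (P := P) (t := t) (r := r) h) a0 ha0 (c' + 1)
  haveI : Algebra.FormallyEtale P P' := hEt.formallyEtale
  haveI : Algebra.FinitePresentation P P' := hEt.finitePresentation
  let y' : Fin s → P' := fun i => bsol (Sum.inl i)
  let g' : Fin t → P' := fun i => bsol (Sum.inr (Sum.inl i))
  let A' : Fin S.card → Fin t → P' := fun l i => bsol (Sum.inr (Sum.inr (Sum.inl (l, i))))
  let f' : Fin r → Fin t → P' := fun j i => bsol (Sum.inr (Sum.inr (Sum.inr (j, i))))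
  have hy'eq : ∀ l, aeval y' (MvPolynomial.map (algebraMap k P) (h l)) = ∑ i, A' l i * g' i := by
    intro l
    have := hb0 (Sum.inl l)
    rw [aeval_sysEq_inl, sub_eq_zero] at this
    exact this
  have hf'eq : ∀ j, ∑ i, f' j i * g' i = 0 := by
    intro j
    have := hb0 (Sum.inr j)
    rw [aeval_sysEq_inr] at this
    exact this
  have hbY : ∀ i, bh i - ψ (y' i) ∈ mHat mP ^ (c' + 1) := fun i => by
    rw [mHat_pow]; exact hb (Sum.inl i)
  have hbG : ∀ i, g i - ψ (g' i) ∈ mHat mP ^ (c' + 1) := fun i => by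
    rw [mHat_pow]; exact hb (Sum.inr (Sum.inl i))
  have hbF : ∀ j i, f j i - ψ (f' j i) ∈ mHat mP ^ (c' + 1) := fun j i => by
    rw [mHat_pow]; exact hb (Sum.inr (Sum.inr (Sum.inr (j, i))))
  have hsyz' : ∀ j, ∑ i, ψ (f' j i) * ψ (g' i) = 0 := by
    intro j
    have := congrArg ψ (hf'eq j)
    simpa [map_sum, map_mul] using this
  have hC := hCdJ c' (le_max_left c N) (fun i => ψ (g' i)) (fun j i => ψ (f' j i)) hsyz' hbG hbF
  have hgN : ∀ i, g i - ψ (g' i) ∈ mHat mP ^ (N + 1) := fun i =>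
    Ideal.pow_le_pow_right (Nat.succ_le_succ (le_max_right c N)) (hbG i)
  have hyN : ∀ i, bh i - ψ (y' i) ∈ mHat mP ^ (N + 1) := fun i =>
    Ideal.pow_le_pow_right (Nat.succ_le_succ (le_max_right c N)) (hbY i)
  -- the algebra `A`
  letI algkP' : Algebra k P' := ((algebraMap P P').comp (algebraMap k P)).toAlgebra
  haveI : IsScalarTower k P P' := IsScalarTower.of_algebraMap_eq fun _ => rfl
  haveI : Algebra.FiniteType k P' :=
    Algebra.FiniteType.trans (inferInstance : Algebra.FiniteType k P)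
      (inferInstance : Algebra.FiniteType P P')
  have hmne : mA mP ψ g' ≠ ⊤ := mA_ne_top mP ρ ψ g g' N hfg hPne hPres hρ hρk hg' hgN
  have hmres : ∀ a : P' ⧸ Jp g', ∃ c : k, a - algebraMap k (P' ⧸ Jp g') c ∈ mA mP ψ g' := by
    intro a
    obtain ⟨x, rfl⟩ := Ideal.Quotient.mk_surjective a
    obtain ⟨c, hc⟩ := mPr_res mP ψ hfg hPres x
    exact ⟨c, Ideal.mem_map_of_mem (Ideal.Quotient.mk (Jp g')) hc⟩
  have hmmax : (mA mP ψ g').IsMaximal := isMaximal_of_resK _ hmne hmres
  have hmsurj : Function.Surjective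
      (fun c : k => Ideal.Quotient.mk (mA mP ψ g') (algebraMap k (P' ⧸ Jp g') c)) := by
    intro q
    obtain ⟨a, rfl⟩ := Ideal.Quotient.mk_surjective q
    obtain ⟨c, hc⟩ := hmres a
    exact ⟨c, ((Ideal.Quotient.mk_eq_mk_iff_sub_mem _ _).mpr hc).symm⟩
  haveI : Algebra.FiniteType k (P' ⧸ Jp g') :=
    Algebra.FiniteType.of_surjective (Ideal.Quotient.mkₐ k (Jp g'))
      (Ideal.Quotient.mkₐ_surjective k _)
  -- the map `B → A`
  let ybar : Fin s → P' ⧸ Jp g' := fun i => Ideal.Quotient.mk (Jp g') (y' i)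
  have hybar : ∀ l, (aeval ybar : MvPolynomial (Fin s) k →ₐ[k] P' ⧸ Jp g') (h l) = 0 := by
    intro l
    have h1 : (aeval ybar : MvPolynomial (Fin s) k →ₐ[k] P' ⧸ Jp g') =
        (Ideal.Quotient.mkₐ k (Jp g')).comp (aeval y') := by
      rw [MvPolynomial.comp_aeval]
      rfl
    rw [h1, AlgHom.comp_apply, ← MvPolynomial.aeval_map_algebraMap P y' (h l), hy'eq l]
    refine Ideal.Quotient.eq_zero_iff_mem.mpr ?_
    exact Ideal.sum_mem _ fun i _ => Ideal.mul_mem_left _ _ (Ideal.subset_span ⟨i, rfl⟩)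
  let σA : B →ₐ[k] P' ⧸ Jp g' :=
    AlgHom.liftOfSurjective fB hfBsurj (aeval ybar) (hker_le (aeval ybar) hybar)
  have hσA : ∀ q, σA (fB q) = aeval ybar q := fun q =>
    AlgHom.liftOfSurjective_apply fB hfBsurj _ (hker_le (aeval ybar) hybar) q
  -- the truncation isomorphism
  let αR := alphaR mP ρ ψ g g' N hfg hPres hρ hρk hRres hg' hgN
  let αalg : (P' ⧸ Jp g') →ₐ[k] R ⧸ maximalIdeal R ^ (N + 1) :=
    { αR with
      commutes' := fun c => by
        change αR (Ideal.Quotient.mk (Jp g') (algebraMap P P' (algebraMap k P c))) = _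
        rw [alphaR_mk, AlgHom.commutes, piHat_algebraMap, hρk]
        rfl }
  have hαalg : ∀ a, αalg a = αR a := fun a => rfl
  have hαsurj : Function.Surjective αalg :=
    alphaR_surjective mP ρ ψ g g' N hfg hPres hρ hρk hRres hg' hgN
  have hkereq : mA mP ψ g' ^ (N + 1) = RingHom.ker αalg := by
    rw [← ker_alphaR mP ρ ψ g g' N hfg hPres hρ hρk hRres hg' hgN]
    rfl
  let χ : ((P' ⧸ Jp g') ⧸ mA mP ψ g' ^ (N + 1)) ≃ₐ[k] (R ⧸ maximalIdeal R ^ (N + 1)) :=
    (Ideal.quotientEquivAlgOfEq k hkereq).trans (Ideal.quotientKerAlgEquivOfSurjective hαsurj)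
  have hχ : ∀ a, χ (Ideal.Quotient.mk _ a) = αalg a := fun a => rfl
  refine ⟨P' ⧸ Jp g', inferInstance, inferInstance, inferInstance, mA mP ψ g', hmmax, hmsurj,
    F.map (CommAlgCat.ofHom σA) z, χ.symm, ?_, ?_⟩
  · rw [← FunctorToTypes.map_comp_apply, ← FunctorToTypes.map_comp_apply]
    have key : CommAlgCat.ofHom v ≫ CommAlgCat.ofHom (χ.symm.toAlgHom.comp
        (Ideal.Quotient.mkₐ k (maximalIdeal R ^ (N + 1)))) =
        CommAlgCat.ofHom σA ≫ CommAlgCat.ofHom (Ideal.Quotient.mkₐ k (mA mP ψ g' ^ (N + 1))) := by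
      apply CommAlgCat.hom_ext
      apply AlgHom.ext
      intro x
      obtain ⟨q, rfl⟩ := hfBsurj x
      change χ.symm (Ideal.Quotient.mk _ (v (fB q))) = Ideal.Quotient.mk _ (σA (fB q))
      rw [AlgEquiv.symm_apply_eq, hχ, hσA]
      have h2 : ((Ideal.Quotient.mkₐ k (maximalIdeal R ^ (N + 1))).comp (v.comp fB) :
          MvPolynomial (Fin s) k →ₐ[k] R ⧸ maximalIdeal R ^ (N + 1)) =
          αalg.comp (aeval ybar) := by
        apply MvPolynomial.algHom_ext
        intro i
        simp only [AlgHom.comp_apply, aeval_X]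
        change Ideal.Quotient.mk _ (b i) = αR (Ideal.Quotient.mk _ (y' i))
        rw [alphaR_mk, ← hbh i, Ideal.Quotient.eq, ← map_sub,
          piHat_mem_pow_iff mP ρ hfg hρ hρk hRres]
        exact Ideal.mem_sup_right (hyN i)
      exact DFunLike.congr_fun h2 q
    rw [key]
  · obtain ⟨e, he, hegr⟩ :=
      exists_grEquiv_core mP ρ ψ g g' hfg hPres hρ hρk hRres hg' hC
    refine ⟨e, hegr, fun c => ?_⟩
    rw [← hρk c, ← AssocGr.map_algebraMap (AssocGr.IsFiltHom.adic hρ.le) (algebraMap k P c), he,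
      AssocGr.map_algebraMap]
    rfl

end aux

end Groth.Agent.H72.VersApx

namespace Groth.Agent.H72.VersApx

open MvPolynomial IsLocalRing CategoryTheory CategoryTheory.Limits

theorem main (k : Type u) [Field k]
    (F : CommAlgCat.{u} k ⥤ Type u)
    (hF : ∀ (J : Type u) [SmallCategory J] [IsFiltered J], PreservesColimitsOfShape J F)
    (R : Type u) [CommRing R] [Algebra k R] [IsLocalRing R] [IsNoetherianRing R]
    [IsAdicComplete (IsLocalRing.maximalIdeal R) R]
    (hres : Function.Surjective (fun c : k => IsLocalRing.residue R (algebraMap k R c)))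
    (ξ : F.obj (CommAlgCat.of k R)) (N : ℕ) :
    ∃ (A : Type u) (_ : CommRing A) (_ : Algebra k A) (_ : Algebra.FiniteType k A)
      (m : Ideal A) (_ : m.IsMaximal)
      (_ : Function.Surjective (fun c : k => Ideal.Quotient.mk m (algebraMap k A c)))
      (η : F.obj (CommAlgCat.of k A))
      (φ : (R ⧸ IsLocalRing.maximalIdeal R ^ (N + 1)) ≃ₐ[k] (A ⧸ m ^ (N + 1))),
      F.map (CommAlgCat.ofHom (φ.toAlgHom.comp
          (Ideal.Quotient.mkₐ k (IsLocalRing.maximalIdeal R ^ (N + 1))))) ξ =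
        F.map (CommAlgCat.ofHom (Ideal.Quotient.mkₐ k (m ^ (N + 1)))) η ∧
      ∃ e : AssocGr.GrRing (FiltBl.IdealFiltration.adic (IsLocalRing.maximalIdeal R)) ≃+*
          AssocGr.GrRing (FiltBl.IdealFiltration.adic m),
        (∀ (n : ℕ) (x : AssocGr.GrRing (FiltBl.IdealFiltration.adic (IsLocalRing.maximalIdeal R))),
            x ∈ AssocGr.gr (FiltBl.IdealFiltration.adic (IsLocalRing.maximalIdeal R)) n →
              e x ∈ AssocGr.gr (FiltBl.IdealFiltration.adic m) n) ∧
        (∀ c : k, e (algebraMap R _ (algebraMap k R c)) = algebraMap A _ (algebraMap k A c)) := by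
  obtain ⟨B, _, _, hBfp, v, z, hz⟩ := exists_fp_descent k F hF R ξ
  obtain ⟨n, x, hx⟩ := Groth.Agent.H47.CohenPres.exists_fin_gens R
  have hPne : idealOfVars (Fin n) k ≠ ⊤ := poly_ne_top k (Fin n)
  have hPres : ∀ p : MvPolynomial (Fin n) k,
      ∃ c : k, p - algebraMap k (MvPolynomial (Fin n) k) c ∈ idealOfVars (Fin n) k :=
    poly_res k (Fin n)
  have hρ : (idealOfVars (Fin n) k).map (aeval x : MvPolynomial (Fin n) k →ₐ[k] R).toRingHom =
      maximalIdeal R := by
    rw [hx]; exact map_aeval_idealOfVars k (Fin n) x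
  have hρk : ∀ c : k, (aeval x : MvPolynomial (Fin n) k →ₐ[k] R).toRingHom
      (algebraMap k (MvPolynomial (Fin n) k) c) = algebraMap k R c :=
    fun c => (aeval x : MvPolynomial (Fin n) k →ₐ[k] R).commutes c
  have hRres : ∀ r : R, ∃ c : k, r - algebraMap k R c ∈ maximalIdeal R := by
    intro r
    obtain ⟨c, hc⟩ := hres (residue R r)
    refine ⟨c, ?_⟩
    rw [← Ideal.Quotient.eq]
    exact hc.symm
  haveI : IsAdicComplete ((idealOfVars (Fin n) k).map
      (aeval x : MvPolynomial (Fin n) k →ₐ[k] R).toRingHom) R := by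
    rw [hρ]; infer_instance
  haveI : (idealOfVars (Fin n) k).IsMaximal := isMaximal_of_resK _ hPne hPres
  have hG : CAlg.IsGRing (Localization.AtPrime (idealOfVars (Fin n) k)) :=
    isGRing_localization_poly k (Fin n) _
  rw [← hz]
  exact main_aux F (idealOfVars (Fin n) k) hG
    (aeval x : MvPolynomial (Fin n) k →ₐ[k] R).toRingHom hPne hPres hρ hρk hRres v z N

end Groth.Agent.H72.VersApx
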