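import Mathlib
import Groth.Agent.H72.VersAlgLem
import Groth.Agent.H72.VersApxPres
import Groth.Agent.H72.VersApxMain
import Groth.Agent.H57.RPow1

/-!
# Algebraization of versal formal objects (helper72)

`main`: the statement of S17372 (without the hypothesis that `k` is algebraically closed), deduced
from `VersApx.main` (S17371) with `N = 1`: versality lifts the isomorphism modulo squares to a
compatible family `R → A/mⁿ`, the induced map `R → A^` is surjective because it is so on cotangent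
spaces, and injective because the associated graded rings are abstractly isomorphic Noetherian
rings.
-/

set_option autoImplicit false
set_option linter.unusedSectionVars false
set_option linter.style.haveILetI false
set_option linter.deprecated false
universe u

namespace Groth.Agent.H72.VersAlg

open IsLocalRing CategoryTheory CategoryTheory.Limits Groth.Agent.H72.VersApx

section family

variable {k : Type u} [Field k] (F : CommAlgCat.{u} k ⥤ Type u)
  {R : Type u} [CommRing R] [Algebra k R]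
  (ξ : F.obj (CommAlgCat.of k R))
  {A : Type u} [CommRing A] [Algebra k A] [IsNoetherianRing A] (m : Ideal A) [m.IsMaximal]
  (η : F.obj (CommAlgCat.of k A))

/-- The versality hypothesis of S17372. -/
def Versal : Prop :=
  ∀ (B B₀ : Type u) [CommRing B] [Algebra k B] [IsLocalRing B] [IsArtinianRing B]
    [CommRing B₀] [Algebra k B₀] [IsLocalRing B₀] [IsArtinianRing B₀],
    Function.Surjective (fun c : k => IsLocalRing.residue B (algebraMap k B c)) →
    ∀ (π : B →ₐ[k] B₀), Function.Surjective π →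
      ∀ (g₀ : R →ₐ[k] B₀) (y : F.obj (CommAlgCat.of k B)),
        F.map (CommAlgCat.ofHom π) y = F.map (CommAlgCat.ofHom g₀) ξ →
          ∃ g : R →ₐ[k] B, π.comp g = g₀ ∧ F.map (CommAlgCat.ofHom g) ξ = y

/-- the level sets of the recursion -/
abbrev Lev (j : ℕ) : Type u :=
  {θ : R →ₐ[k] A ⧸ m ^ (j + 2) // F.map (CommAlgCat.ofHom θ) ξ =
    F.map (CommAlgCat.ofHom (Ideal.Quotient.mkₐ k (m ^ (j + 2)))) η}

variable (hvers : Versal F ξ)
  (hmsurj : Function.Surjective (fun c : k => Ideal.Quotient.mk m (algebraMap k A c)))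

include hvers hmsurj in
theorem step (j : ℕ) (s : Lev F ξ m η j) :
    ∃ s' : Lev F ξ m η (j + 1),
      (Ideal.Quotient.factorₐ k (Ideal.pow_le_pow_right (Nat.le_succ (j + 2)))).comp s'.1 = s.1 := by
  haveI : IsLocalRing (A ⧸ m ^ (j + 2)) := isLocalRing_quot_pow m (j + 1)
  haveI : IsLocalRing (A ⧸ m ^ (j + 1 + 2)) := isLocalRing_quot_pow m (j + 2)
  haveI : IsArtinianRing (A ⧸ m ^ (j + 2)) := isArtinianRing_quot_pow m (j + 1)
  haveI : IsArtinianRing (A ⧸ m ^ (j + 1 + 2)) := isArtinianRing_quot_pow m (j + 2)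
  have hres : Function.Surjective (fun c : k => IsLocalRing.residue (A ⧸ m ^ (j + 1 + 2))
      (algebraMap k (A ⧸ m ^ (j + 1 + 2)) c)) := residue_surjective_quot_pow m hmsurj (j + 2)
  let π : (A ⧸ m ^ (j + 1 + 2)) →ₐ[k] A ⧸ m ^ (j + 2) :=
    Ideal.Quotient.factorₐ k (Ideal.pow_le_pow_right (Nat.le_succ (j + 2)))
  have hπ : Function.Surjective π :=
    Ideal.Quotient.factor_surjective (Ideal.pow_le_pow_right (Nat.le_succ (j + 2)))
  let y : F.obj (CommAlgCat.of k (A ⧸ m ^ (j + 1 + 2))) :=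
    F.map (CommAlgCat.ofHom (Ideal.Quotient.mkₐ k (m ^ (j + 1 + 2)))) η
  have hy : F.map (CommAlgCat.ofHom π) y = F.map (CommAlgCat.ofHom s.1) ξ := by
    rw [s.2]
    change F.map _ (F.map _ η) = _
    rw [← FunctorToTypes.map_comp_apply]
    rfl
  obtain ⟨g, hg1, hg2⟩ := hvers _ _ hres π hπ s.1 y hy
  exact ⟨⟨g, hg2⟩, hg1⟩

/-- the sequence of lifts -/
noncomputable def seq (θ₂ : Lev F ξ m η 0) : (j : ℕ) → Lev F ξ m η j
  | 0 => θ₂
  | j + 1 => Classical.choose (step F ξ m η hvers hmsurj j (seq θ₂ j))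

theorem seq_succ (θ₂ : Lev F ξ m η 0) (j : ℕ) :
    (Ideal.Quotient.factorₐ k (Ideal.pow_le_pow_right (Nat.le_succ (j + 2)))).comp
      (seq F ξ m η hvers hmsurj θ₂ (j + 1)).1 = (seq F ξ m η hvers hmsurj θ₂ j).1 :=
  Classical.choose_spec (step F ξ m η hvers hmsurj j (seq F ξ m η hvers hmsurj θ₂ j))

theorem seq_mk (θ₂ : Lev F ξ m η 0) (d j : ℕ) (x : R) (a : A)
    (h : (seq F ξ m η hvers hmsurj θ₂ (j + d)).1 x = Ideal.Quotient.mk _ a) :
    (seq F ξ m η hvers hmsurj θ₂ j).1 x = Ideal.Quotient.mk _ a := by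
  induction d with
  | zero => exact h
  | succ d ih =>
    apply ih
    have := DFunLike.congr_fun (seq_succ F ξ m η hvers hmsurj θ₂ (j + d)) x
    rw [← this, AlgHom.comp_apply]
    have h' : (seq F ξ m η hvers hmsurj θ₂ (j + d + 1)).1 x = Ideal.Quotient.mk _ a := h
    rw [h']
    rfl

/-- the compatible family at all levels -/
noncomputable def fam (θ₂ : Lev F ξ m η 0) (n : ℕ) : R →ₐ[k] A ⧸ m ^ n :=
  (Ideal.Quotient.factorₐ k (Ideal.pow_le_pow_right (Nat.le_add_right n 2))).comp
    (seq F ξ m η hvers hmsurj θ₂ n).1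

theorem fam_eq_mk (θ₂ : Lev F ξ m η 0) (n : ℕ) (x : R) (a : A)
    (h : (seq F ξ m η hvers hmsurj θ₂ n).1 x = Ideal.Quotient.mk _ a) :
    fam F ξ m η hvers hmsurj θ₂ n x = Ideal.Quotient.mk _ a := by
  rw [fam, AlgHom.comp_apply, h]
  rfl

theorem fam_compat (θ₂ : Lev F ξ m η 0) {a b : ℕ} (hle : a ≤ b) :
    (Ideal.Quotient.factorₐ k (Ideal.pow_le_pow_right hle)).comp (fam F ξ m η hvers hmsurj θ₂ b) =
      fam F ξ m η hvers hmsurj θ₂ a := by
  obtain ⟨d, rfl⟩ := Nat.exists_eq_add_of_le hle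
  apply AlgHom.ext
  intro x
  obtain ⟨a0, ha0⟩ := Ideal.Quotient.mk_surjective ((seq F ξ m η hvers hmsurj θ₂ (a + d)).1 x)
  rw [AlgHom.comp_apply, fam_eq_mk F ξ m η hvers hmsurj θ₂ (a + d) x a0 ha0.symm,
    fam_eq_mk F ξ m η hvers hmsurj θ₂ a x a0 (seq_mk F ξ m η hvers hmsurj θ₂ d a x a0 ha0.symm)]
  rfl

theorem fam_two (θ₂ : Lev F ξ m η 0) : fam F ξ m η hvers hmsurj θ₂ 2 = θ₂.1 := by
  apply AlgHom.ext
  intro x
  obtain ⟨a0, ha0⟩ := Ideal.Quotient.mk_surjective ((seq F ξ m η hvers hmsurj θ₂ 2).1 x)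
  rw [fam_eq_mk F ξ m η hvers hmsurj θ₂ 2 x a0 ha0.symm]
  have := seq_mk F ξ m η hvers hmsurj θ₂ 2 0 x a0 (by simpa using ha0.symm)
  exact this.symm

theorem fam_map (θ₂ : Lev F ξ m η 0) (n : ℕ) :
    F.map (CommAlgCat.ofHom (fam F ξ m η hvers hmsurj θ₂ n)) ξ =
      F.map (CommAlgCat.ofHom (Ideal.Quotient.mkₐ k (m ^ n))) η := by
  have h1 : CommAlgCat.ofHom (fam F ξ m η hvers hmsurj θ₂ n) =
      CommAlgCat.ofHom (seq F ξ m η hvers hmsurj θ₂ n).1 ≫ CommAlgCat.ofHom
        (Ideal.Quotient.factorₐ k (Ideal.pow_le_pow_right (Nat.le_add_right n 2))) := rfl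
  rw [h1, FunctorToTypes.map_comp_apply, (seq F ξ m η hvers hmsurj θ₂ n).2,
    ← FunctorToTypes.map_comp_apply]
  rfl

end family


section equiv

variable {k : Type u} [Field k]
  {R : Type u} [CommRing R] [Algebra k R] [IsLocalRing R] [IsNoetherianRing R]
  [IsAdicComplete (maximalIdeal R) R]
  {A : Type u} [CommRing A] [Algebra k A] [IsNoetherianRing A] (m : Ideal A) [m.IsMaximal]
  (hmsurj : Function.Surjective (fun c : k => Ideal.Quotient.mk m (algebraMap k A c)))
  (fa : (n : ℕ) → R →ₐ[k] A ⧸ m ^ n)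
  (hfa : ∀ {a b : ℕ} (hle : a ≤ b),
    (Ideal.Quotient.factorₐ k (Ideal.pow_le_pow_right hle)).comp (fa b) = fa a)
  (hsurj2 : Function.Surjective (fa 2))

include hmsurj in
theorem hmres (a : A) : ∃ c : k, a - algebraMap k A c ∈ m := by
  obtain ⟨c, hc⟩ := hmsurj (Ideal.Quotient.mk m a)
  exact ⟨c, Ideal.Quotient.eq.mp hc.symm⟩

theorem nontrivial_quot_pow (n : ℕ) : Nontrivial (A ⧸ m ^ (n + 1)) := by
  refine Ideal.Quotient.nontrivial_iff.mpr fun h => ?_
  exact (Ideal.IsMaximal.ne_top ‹m.IsMaximal›)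
    (top_le_iff.mp (h ▸ Ideal.pow_le_self (Nat.succ_ne_zero n)))

include hmsurj in
theorem fa_one_eq_zero (r : R) (hr : r ∈ maximalIdeal R) : fa 1 r = 0 := by
  haveI := nontrivial_quot_pow m 0
  obtain ⟨a0, ha0⟩ := Ideal.Quotient.mk_surjective (fa 1 r)
  obtain ⟨c, hc⟩ := hmres m hmsurj a0
  have h1 : fa 1 r = fa 1 (algebraMap k R c) := by
    rw [AlgHom.commutes, ← ha0]
    change _ = Ideal.Quotient.mk _ (algebraMap k A c)
    rw [Ideal.Quotient.eq, pow_one]
    exact hc
  have h2 : fa 1 (r - algebraMap k R c) = 0 := by rw [map_sub, h1, sub_self]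
  have hc0 : c = 0 := by
    by_contra hne
    have h3 : r - algebraMap k R c ∉ maximalIdeal R := by
      intro h4
      apply hne
      refine eq_zero_of_algebraMap_mem (maximalIdeal R) (Ideal.IsMaximal.ne_top inferInstance) c ?_
      have := Ideal.sub_mem _ hr h4
      rwa [sub_sub_cancel] at this
    have h5 : IsUnit (r - algebraMap k R c) := IsLocalRing.notMem_maximalIdeal.mp h3
    have h6 := h5.map (fa 1)
    rw [h2] at h6
    exact not_isUnit_zero h6
  rw [hc0, map_zero, sub_zero] at h2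
  exact h2

theorem mem_maximalIdeal_of_fa_two (r : R) (μ : A) (hμ : μ ∈ m)
    (h : fa 2 r = Ideal.Quotient.mk _ μ) : r ∈ maximalIdeal R := by
  haveI := nontrivial_quot_pow m 1
  by_contra hr
  have h1 : IsUnit r := IsLocalRing.notMem_maximalIdeal.mp hr
  have h2 := h1.map (fa 2)
  rw [h] at h2
  have h3 : IsNilpotent (Ideal.Quotient.mk (m ^ 2) μ) := by
    refine ⟨2, ?_⟩
    rw [← map_pow, Ideal.Quotient.eq_zero_iff_mem]
    exact Ideal.pow_mem_pow hμ 2
  exact (h3.not_isUnit) h2

/-- the map to the completion -/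
noncomputable abbrev alphaHat : R →ₐ[k] AdicCompletion m A := AdicCompletion.liftAlgHom m fa hfa

theorem eval_alphaHat (n : ℕ) (x : R) :
    AdicCompletion.evalₐ m n (alphaHat m fa hfa x) = fa n x :=
  AdicCompletion.evalₐ_liftAlgHom m fa hfa n x

theorem mem_mHat_pow_iff (n : ℕ) (y : AdicCompletion m A) :
    y ∈ mHat m ^ n ↔ AdicCompletion.evalₐ m n y = 0 := by
  rw [mHat_pow, ← Groth.Agent.H57.RPow.ker_evalₐ m (IsNoetherian.noetherian m) n, RingHom.mem_ker]
  rfl

include hmsurj in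
theorem map_alphaHat_le :
    (maximalIdeal R).map (alphaHat m fa hfa).toRingHom ≤ mHat m := by
  rw [Ideal.map_le_iff_le_comap]
  intro r hr
  rw [Ideal.mem_comap]
  have : (alphaHat m fa hfa).toRingHom r ∈ mHat m ^ 1 := by
    rw [mem_mHat_pow_iff]
    change AdicCompletion.evalₐ m 1 (alphaHat m fa hfa r) = 0
    rw [eval_alphaHat, fa_one_eq_zero m hmsurj fa r hr]
  rwa [pow_one] at this

theorem alphaHat_algebraMap (c : k) :
    alphaHat m fa hfa (algebraMap k R c) =
      algebraMap A (AdicCompletion m A) (algebraMap k A c) := by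
  rw [AlgHom.commutes]
  rfl

include hmsurj hsurj2 in
theorem gr_alphaHat_surjective :
    Function.Surjective (AssocGr.map (AssocGr.IsFiltHom.adic (map_alphaHat_le m hmsurj fa hfa))) := by
  have hfg : m.FG := IsNoetherian.noetherian m
  have hIJ := map_alphaHat_le m hmsurj fa hfa
  have hres' : ∀ b : AdicCompletion m A, ∃ a : R,
      b - (alphaHat m fa hfa).toRingHom a ∈ mHat m := by
    intro b
    obtain ⟨c, hc⟩ := hatRes m hfg (hmres m hmsurj) b
    refine ⟨algebraMap k R c, ?_⟩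
    change b - alphaHat m fa hfa (algebraMap k R c) ∈ _
    rw [alphaHat_algebraMap]
    exact hc
  have hJ : mHat m ≤ (maximalIdeal R).map (alphaHat m fa hfa).toRingHom ⊔ mHat m ^ 2 := by
    rw [mHat, Ideal.map_le_iff_le_comap]
    intro μ hμ
    rw [Ideal.mem_comap]
    obtain ⟨r, hr⟩ := hsurj2 (Ideal.Quotient.mk _ μ)
    have hrm : r ∈ maximalIdeal R := mem_maximalIdeal_of_fa_two m fa r μ hμ hr
    have h1 : alphaHat m fa hfa r - algebraMap A (AdicCompletion m A) μ ∈ mHat m ^ 2 := by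
      rw [mem_mHat_pow_iff, map_sub, eval_alphaHat, hr,
        Groth.Agent.H57.CLoc.evalₐ_algebraMap, sub_self]
    have h2 : algebraMap A (AdicCompletion m A) μ = alphaHat m fa hfa r -
        (alphaHat m fa hfa r - algebraMap A (AdicCompletion m A) μ) := by ring
    rw [h2]
    exact Ideal.sub_mem _ (Ideal.mem_sup_left (Ideal.mem_map_of_mem _ hrm))
      (Ideal.mem_sup_right h1)
  exact Groth.Agent.H72.GrKer.map_surjective hIJ
      (key2_of_gen (alphaHat m fa hfa).toRingHom (maximalIdeal R) (mHat m) hIJ hJ hres')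

include hmsurj hsurj2 in
theorem alphaHat_surjective : Function.Surjective (alphaHat m fa hfa) := by
  have hfg : m.FG := IsNoetherian.noetherian m
  haveI : IsAdicComplete (mHat m) (AdicCompletion m A) := AdicCompletion.isAdicComplete_self m hfg
  exact (Groth.Agent.H82.AdicGrR.main (alphaHat m fa hfa).toRingHom (maximalIdeal R) (mHat m)
    (map_alphaHat_le m hmsurj fa hfa) (gr_alphaHat_surjective m hmsurj fa hfa hsurj2)).1

variable (e : AssocGr.GrRing (FiltBl.IdealFiltration.adic (maximalIdeal R)) ≃+*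
      AssocGr.GrRing (FiltBl.IdealFiltration.adic m))

include hmsurj hsurj2 e in
theorem alphaHat_injective : Function.Injective (alphaHat m fa hfa) := by
  have hfg : m.FG := IsNoetherian.noetherian m
  have hIJ := map_alphaHat_le m hmsurj fa hfa
  have hGα := gr_alphaHat_surjective m hmsurj fa hfa hsurj2
  let Gι := RingEquiv.ofBijective _ (gr_completion_bijective m hfg)
  let E : AssocGr.GrRing (FiltBl.IdealFiltration.adic (maximalIdeal R)) →+*
      AssocGr.GrRing (FiltBl.IdealFiltration.adic (maximalIdeal R)) :=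
    e.symm.toRingHom.comp (Gι.symm.toRingHom.comp (AssocGr.map (AssocGr.IsFiltHom.adic hIJ)))
  have hEsurj : Function.Surjective E :=
    e.symm.surjective.comp (Gι.symm.surjective.comp hGα)
  haveI := isNoetherianRing_grRing (maximalIdeal R)
  have hEinj := injective_of_surjective_ringEnd E hEsurj
  have hGαinj : Function.Injective (AssocGr.map (AssocGr.IsFiltHom.adic hIJ)) := by
    intro x y hxy
    apply hEinj
    change e.symm (Gι.symm (AssocGr.map _ x)) = e.symm (Gι.symm (AssocGr.map _ y))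
    rw [hxy]
  exact injective_of_gr_injective (alphaHat m fa hfa).toRingHom (maximalIdeal R) (mHat m) hIJ
    hGαinj

include hmsurj hsurj2 e hfa in
/-- **Algebraization from a compatible family.** -/
theorem exists_equiv_of_family :
    ∃ α : R ≃+* AdicCompletion m A,
      (∀ c : k, α (algebraMap k R c) = algebraMap A (AdicCompletion m A) (algebraMap k A c)) ∧
      ∀ (n : ℕ) (x : R), AdicCompletion.evalₐ m n (α x) = fa n x :=
  ⟨RingEquiv.ofBijective (alphaHat m fa hfa).toRingHom
      ⟨alphaHat_injective m hmsurj fa hfa hsurj2 e, alphaHat_surjective m hmsurj fa hfa hsurj2⟩,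
    fun c => alphaHat_algebraMap m fa hfa c, fun n x => eval_alphaHat m fa hfa n x⟩

end equiv


theorem main (k : Type u) [Field k]
    (F : CommAlgCat.{u} k ⥤ Type u)
    (hF : ∀ (J : Type u) [SmallCategory J] [IsFiltered J], PreservesColimitsOfShape J F)
    (R : Type u) [CommRing R] [Algebra k R] [IsLocalRing R] [IsNoetherianRing R]
    [IsAdicComplete (IsLocalRing.maximalIdeal R) R]
    (hres : Function.Surjective (fun c : k => IsLocalRing.residue R (algebraMap k R c)))
    (ξ : F.obj (CommAlgCat.of k R))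
    (hvers : Versal F ξ) :
    ∃ (A : Type u) (_ : CommRing A) (_ : Algebra k A) (_ : Algebra.FiniteType k A)
      (m : Ideal A) (_ : m.IsMaximal)
      (_ : Function.Surjective (fun c : k => Ideal.Quotient.mk m (algebraMap k A c)))
      (η : F.obj (CommAlgCat.of k A))
      (α : R ≃+* AdicCompletion m A),
      (∀ c : k, α (algebraMap k R c) = algebraMap A (AdicCompletion m A) (algebraMap k A c)) ∧
      ∀ (n : ℕ) (ψ : R →ₐ[k] A ⧸ m ^ (n + 1)),
        ψ.toRingHom = (AdicCompletion.evalₐ m (n + 1) :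
            AdicCompletion m A →ₐ[A] A ⧸ m ^ (n + 1)).toRingHom.comp α.toRingHom →
          F.map (CommAlgCat.ofHom ψ) ξ =
            F.map (CommAlgCat.ofHom (Ideal.Quotient.mkₐ k (m ^ (n + 1)))) η := by
  obtain ⟨A, _, _, hAft, m, hmmax, hmsurj, η, φ, hφ, e, -, -⟩ :=
    Groth.Agent.H72.VersApx.main k F hF R hres ξ 1
  haveI : IsNoetherianRing A := Algebra.FiniteType.isNoetherianRing k A
  haveI := hmmax
  let s₀ : Lev F ξ m η 0 :=
    ⟨φ.toAlgHom.comp (Ideal.Quotient.mkₐ k (IsLocalRing.maximalIdeal R ^ (1 + 1))), hφ⟩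
  have hsurj2 : Function.Surjective (fam F ξ m η hvers hmsurj s₀ 2) := by
    rw [fam_two]
    exact φ.surjective.comp (Ideal.Quotient.mkₐ_surjective k _)
  obtain ⟨α, hα1, hα2⟩ := exists_equiv_of_family m hmsurj (fam F ξ m η hvers hmsurj s₀)
    (fun hle => fam_compat F ξ m η hvers hmsurj s₀ hle) hsurj2 e
  refine ⟨A, inferInstance, inferInstance, hAft, m, hmmax, hmsurj, η, α, hα1, fun n ψ hψ => ?_⟩
  have h1 : ψ = fam F ξ m η hvers hmsurj s₀ (n + 1) := by
    apply AlgHom.ext
    intro x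
    have := RingHom.congr_fun hψ x
    rw [← hα2 (n + 1) x]
    exact this
  rw [h1]
  exact fam_map F ξ m η hvers hmsurj s₀ (n + 1)

end Groth.Agent.H72.VersAlg
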